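import Mathlib

set_option autoImplicit false

namespace Cfsg.Agent.Helper67

variable {G : Type*} [Group G]

/-- A finite group is not the union of the conjugates of a proper subgroup. -/
theorem eq_top_of_forall_exists_conj_mem [Finite G] (M : Subgroup G)
    (h : ∀ x : G, ∃ g : G, g * x * g⁻¹ ∈ M) : M = ⊤ := by
  let φ : (G ⧸ M) × M → G := fun qm => qm.1.out * (qm.2 : G) * (qm.1.out)⁻¹
  have hsurj : Function.Surjective φ := by
    intro x
    obtain ⟨g, hg⟩ := h x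
    obtain ⟨m₀, hm₀⟩ := QuotientGroup.mk_out_eq_mul M g⁻¹
    refine ⟨((g⁻¹ : G), ⟨(m₀ : G)⁻¹ * (g * x * g⁻¹) * m₀, M.mul_mem (M.mul_mem (M.inv_mem m₀.2) hg) m₀.2⟩), ?_⟩
    show (QuotientGroup.mk g⁻¹ : G ⧸ M).out * ((m₀ : G)⁻¹ * (g * x * g⁻¹) * m₀) *
      ((QuotientGroup.mk g⁻¹ : G ⧸ M).out)⁻¹ = x
    rw [hm₀]; group
  have hinj : Function.Injective φ :=
    (Finite.injective_iff_surjective_of_equiv
      (Subgroup.groupEquivQuotientProdSubgroup (s := M)).symm).2 hsurj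
  have hsub : Subsingleton (G ⧸ M) := by
    constructor
    intro q q'
    have : φ (q, 1) = φ (q', 1) := by simp [φ]
    exact (Prod.ext_iff.1 (hinj this)).1
  have hidx : M.index = 1 := by
    rw [Subgroup.index_eq_card]
    exact Nat.card_unique
  exact Subgroup.index_eq_one.1 hidx

/-- Decomposition of an element of finite order into commuting `p`-regular and `p`-parts,
both powers of the element. -/
theorem exists_pprime_ppart (p : ℕ) [Fact p.Prime] {x : G} (hx : IsOfFinOrder x) :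
    ∃ y z : G, y ∈ Subgroup.zpowers x ∧ z ∈ Subgroup.zpowers x ∧ x = y * z ∧
      (orderOf y).Coprime p ∧ ∃ k : ℕ, z ^ (p ^ k) = 1 := by
  have hp : p.Prime := Fact.out
  obtain ⟨k, m, hm, hkm⟩ := Nat.exists_eq_pow_mul_and_not_dvd (orderOf_pos_iff.2 hx).ne' p
    hp.one_lt.ne'
  have hcop : Nat.Coprime (p ^ k) m :=
    Nat.Coprime.pow_left k ((Nat.Prime.coprime_iff_not_dvd hp).2 hm)
  have hb := Nat.gcd_eq_gcd_ab (p ^ k) m
  rw [hcop.gcd_eq_one] at hb
  refine ⟨x ^ ((p ^ k : ℕ) * Nat.gcdA (p ^ k) m), x ^ ((m : ℤ) * Nat.gcdB (p ^ k) m),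
    Subgroup.zpow_mem_zpowers _ _, Subgroup.zpow_mem_zpowers _ _, ?_, ?_, k, ?_⟩
  · rw [← zpow_add, ← hb]; simp
  · have h1 : (x ^ ((p ^ k : ℕ) * Nat.gcdA (p ^ k) m)) ^ m = 1 := by
      rw [← zpow_natCast, ← zpow_mul]
      have : ((p ^ k : ℕ) : ℤ) * Nat.gcdA (p ^ k) m * (m : ℤ) =
          ((p ^ k * m : ℕ) : ℤ) * Nat.gcdA (p ^ k) m := by push_cast; ring
      rw [this, zpow_mul, zpow_natCast, ← hkm, pow_orderOf_eq_one, one_zpow]
    have h2 : orderOf (x ^ ((p ^ k : ℕ) * Nat.gcdA (p ^ k) m)) ∣ m := orderOf_dvd_of_pow_eq_one h1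
    exact Nat.Coprime.coprime_dvd_left h2 ((Nat.Prime.coprime_iff_not_dvd hp).2 hm).symm
  · rw [← zpow_natCast, ← zpow_mul]
    have : (m : ℤ) * Nat.gcdB (p ^ k) m * ((p ^ k : ℕ) : ℤ) =
        ((p ^ k * m : ℕ) : ℤ) * Nat.gcdB (p ^ k) m := by push_cast; ring
    rw [this, zpow_mul, zpow_natCast, ← hkm, pow_orderOf_eq_one, one_zpow]

end Cfsg.Agent.Helper67
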