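import Mathlib
import Cfsg.Agent.Helper16.TIBase
import Cfsg.Agent.S0146

/-!
helper67 (for helper16, WANTED #5230 (X-A)): inner product of two functions induced from a
subgroup `H`, supported on a TI-like set `A` (controlled by the normalizer of `H`).
-/

set_option autoImplicit false

namespace Cfsg.Agent.Helper67.TIXA

open Cfsg ComplexConjugate

universe u

theorem classInner_indFun_indFun_of_TI {G : Type u} [Group G] [Fintype G] (H : Subgroup G)
    [Fintype H] [Fintype (Subgroup.normalizer (H : Set G))] (A : Set G)
    (hTI : ∀ g : G, ∀ a ∈ A, g⁻¹ * a * g ∈ A → g ∈ Subgroup.normalizer (H : Set G))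
    (α β : H → ℂ) (hα : ∀ c : H, (c : G) ∉ A → α c = 0) (hβ : ∀ c : H, (c : G) ∉ A → β c = 0) :
    Cfsg.classInner (Cfsg.indFun H α) (Cfsg.indFun H β) =
      (Nat.card H : ℂ)⁻¹ * ∑ n : Subgroup.normalizer (H : Set G),
        Cfsg.classInner α (Cfsg.Agent.Helper16.nconj H (n : G) β) := by
  classical
  rw [Cfsg.Agent.S0146.result H α (indFun H β) (Cfsg.Agent.Helper15.isClassFunction_indFun H β)]
  have key : ∀ c : H, α c * conj (indFun H β (c : G)) =
      (Nat.card H : ℂ)⁻¹ * ∑ n : Subgroup.normalizer (H : Set G),
        α c * conj (Cfsg.Agent.Helper16.nconj H (n : G) β c) := by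
    intro c
    by_cases hcA : (c : G) ∈ A
    · have h0 : ∀ x : G, x ∉ Subgroup.normalizer (H : Set G) →
          extendByZero H β (x⁻¹ * (c : G) * x) = 0 := by
        intro x hx
        by_cases hm : x⁻¹ * (c : G) * x ∈ H
        · have h1 := Cfsg.Agent.Helper16.extendByZero_apply_mem H β ⟨_, hm⟩
          have h2 : β ⟨_, hm⟩ = 0 := by
            apply hβ
            intro hA
            exact hx (hTI x c hcA hA)
          rw [h2] at h1
          exact h1
        · exact Cfsg.Agent.Helper16.extendByZero_apply_not_mem H β hm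
      have hsum : ∑ x : G, extendByZero H β (x⁻¹ * (c : G) * x) =
          ∑ n : Subgroup.normalizer (H : Set G), Cfsg.Agent.Helper16.nconj H (n : G) β c := by
        have h1 : ∑ x : G, extendByZero H β (x⁻¹ * (c : G) * x) =
            ∑ x ∈ Finset.univ.filter (fun x : G => x ∈ Subgroup.normalizer (H : Set G)),
              extendByZero H β (x⁻¹ * (c : G) * x) := by
          symm
          apply Finset.sum_subset (Finset.filter_subset _ _)
          intro x _ hx
          apply h0
          intro hx'
          exact hx (Finset.mem_filter.mpr ⟨Finset.mem_univ _, hx'⟩)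
        rw [h1]
        exact Finset.sum_subtype _ (fun x => by simp) _
      show α c * conj ((Nat.card H : ℂ)⁻¹ * ∑ x : G, extendByZero H β (x⁻¹ * (c : G) * x)) = _
      rw [hsum, map_mul, map_inv₀, Complex.conj_natCast, map_sum, Finset.mul_sum, Finset.mul_sum,
        Finset.mul_sum]
      apply Finset.sum_congr rfl
      intro n _
      ring
    · rw [hα c hcA]
      simp
  unfold classInner
  simp only [key]
  rw [← Finset.mul_sum, Finset.sum_comm]
  rw [Finset.mul_sum, Finset.mul_sum]

end Cfsg.Agent.Helper67.TIXA
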