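import Mathlib

set_option autoImplicit false

namespace Cfsg.Agent.Helper67

/-- In a finite cyclic group, a subgroup is determined by its order. -/
theorem eq_of_card_eq_of_isCyclic {C : Type*} [Group C] [Finite C] [IsCyclic C] (A B : Subgroup C)
    (h : Nat.card A = Nat.card B) : A = B := by
  classical
  have : Fintype C := Fintype.ofFinite C
  have key : ∀ X : Subgroup C, ∀ x, x ∈ X ↔ x ^ Nat.card X = 1 := by
    intro X
    obtain ⟨S, hSdef⟩ : ∃ S : Finset C, S = Finset.univ.filter (fun a => a ^ Nat.card X = 1) :=
      ⟨_, rfl⟩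
    obtain ⟨T, hTdef⟩ : ∃ T : Finset C, T = Finset.univ.filter (fun a => a ∈ X) := ⟨_, rfl⟩
    have hTS : T ⊆ S := by
      intro x hx
      rw [hTdef, Finset.mem_filter] at hx
      rw [hSdef, Finset.mem_filter]
      refine ⟨Finset.mem_univ _, ?_⟩
      have := pow_card_eq_one' (G := X) (x := ⟨x, hx.2⟩)
      exact congrArg Subtype.val this
    have hS : S.card ≤ Nat.card X := by
      rw [hSdef]
      exact IsCyclic.card_pow_eq_one_le Nat.card_pos
    have hT : T.card = Nat.card X := by
      rw [hTdef, Nat.card_eq_fintype_card, Fintype.card_subtype]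
    have hTS' : T = S := Finset.eq_of_subset_of_card_le hTS (by omega)
    intro x
    constructor
    · intro hx
      have : x ∈ S := hTS' ▸ (by rw [hTdef, Finset.mem_filter]; exact ⟨Finset.mem_univ _, hx⟩)
      rw [hSdef, Finset.mem_filter] at this
      exact this.2
    · intro hx
      have : x ∈ T := hTS' ▸ (by rw [hSdef, Finset.mem_filter]; exact ⟨Finset.mem_univ _, hx⟩)
      rw [hTdef, Finset.mem_filter] at this
      exact this.2
  ext x
  rw [key A, key B, h]

/-- Two subgroups of the same order inside a finite cyclic subgroup are equal. -/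
theorem eq_of_card_eq_of_le_cyclic {G : Type*} [Group G] [Finite G] (P : Subgroup G) [IsCyclic P]
    (A B : Subgroup G) (hA : A ≤ P) (hB : B ≤ P) (h : Nat.card A = Nat.card B) : A = B := by
  have h1 : A.subgroupOf P = B.subgroupOf P := by
    apply eq_of_card_eq_of_isCyclic
    rw [Nat.card_congr (Subgroup.subgroupOfEquivOfLe hA).toEquiv,
      Nat.card_congr (Subgroup.subgroupOfEquivOfLe hB).toEquiv, h]
  rw [Subgroup.subgroupOf_inj, inf_of_le_left hA, inf_of_le_left hB] at h1
  exact h1

end Cfsg.Agent.Helper67
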