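import Mathlib
import Cfsg.Agent.Helper1.MinDeg.Defs
import Cfsg.Agent.Helper14.AutGen

/-!
Piece (R1) for helper1 (S2140): a proper subgroup of `SL_n(F)` containing all transvections with
some fixed centre `x ≠ 0` stabilises a proper nonzero subspace, namely
`W = {y | Qc y ≤ H}`.
-/

set_option autoImplicit false
set_option linter.unusedSectionVars false

namespace Cfsg.Agent.Helper67.MinDeg

open Matrix Cfsg.Agent.Helper14.AutPSL Cfsg.Agent.Helper1.MinDeg

variable {F : Type*} [Field F] {n : ℕ}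

theorem Qc_mulVec_le {H : Subgroup (SpecialLinearGroup (Fin n) F)}
    {g : SpecialLinearGroup (Fin n) F} (hg : g ∈ H) {w : Fin n → F} (hw : Qc w ≤ H) :
    Qc (g.1 *ᵥ w) ≤ H := by
  intro u hu
  have h1 := conj_mem_Qc hu g⁻¹
  have h2 : (g⁻¹).1 *ᵥ (g.1 *ᵥ w) = w := by
    rw [mulVec_mulVec]
    have : (g⁻¹).1 * g.1 = (g⁻¹ * g).1 := rfl
    rw [this, inv_mul_cancel]
    exact one_mulVec w
  rw [h2] at h1
  have h3 := hw h1
  have : u = g * (g⁻¹ * u * g⁻¹⁻¹) * g⁻¹ := by group
  rw [this]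
  exact H.mul_mem (H.mul_mem hg h3) (H.inv_mem hg)

theorem Qc_zero_le (H : Subgroup (SpecialLinearGroup (Fin n) F)) : Qc (0 : Fin n → F) ≤ H := by
  rintro g ⟨φ, h, rfl⟩
  have : tv (0 : Fin n → F) φ h = 1 := tv_zero_left φ
  rw [this]
  exact H.one_mem

theorem Qc_smul_le {H : Subgroup (SpecialLinearGroup (Fin n) F)} (c : F) {y : Fin n → F}
    (hy : Qc y ≤ H) : Qc (c • y) ≤ H := by
  by_cases hc : c = 0
  · subst hc
    rw [zero_smul]
    exact Qc_zero_le H
  · rw [Qc_smul hc]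
    exact hy

theorem Qc_add_le {H : Subgroup (SpecialLinearGroup (Fin n) F)} {u v : Fin n → F}
    (hu : Qc u ≤ H) (hv : Qc v ≤ H) : Qc (u + v) ≤ H := by
  by_cases hdep : ∃ c : F, v = c • u
  · obtain ⟨c, rfl⟩ := hdep
    have : u + c • u = (1 + c) • u := by rw [add_smul, one_smul]
    rw [this]
    exact Qc_smul_le _ hu
  · push Not at hdep
    obtain ⟨l, h1, h2⟩ := exists_dot_pair hdep
    have ht : tv u l h2 ∈ H := hu (tv_mem_Qc u l h2)
    have h3 := Qc_mulVec_le ht hv
    rw [tv_mulVec, h1, one_smul, add_comm] at h3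
    exact h3

/-- the subspace of all centres `y` with `Qc y ≤ H` -/
def centreSub (H : Subgroup (SpecialLinearGroup (Fin n) F)) : Submodule F (Fin n → F) where
  carrier := {y | Qc y ≤ H}
  zero_mem' := Qc_zero_le H
  add_mem' := fun hu hv => Qc_add_le hu hv
  smul_mem' := fun c _ hy => Qc_smul_le c hy

theorem mem_centreSub {H : Subgroup (SpecialLinearGroup (Fin n) F)} {y : Fin n → F} :
    y ∈ centreSub H ↔ Qc y ≤ H := Iff.rfl

/-- (R1) a proper subgroup containing some `Qc x` stabilises a proper nonzero subspace. -/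
theorem exists_invariant_subspace (hn : 2 ≤ n) (H : Subgroup (SpecialLinearGroup (Fin n) F))
    (hH : H ≠ ⊤) {x : Fin n → F} (hx : x ≠ 0) (hU : Qc x ≤ H) :
    ∃ W : Submodule F (Fin n → F), W ≠ ⊥ ∧ W ≠ ⊤ ∧ ∀ g ∈ H, ∀ w ∈ W, g.1 *ᵥ w ∈ W := by
  refine ⟨centreSub H, ?_, ?_, ?_⟩
  · intro h
    have hxW : x ∈ centreSub H := hU
    rw [h, Submodule.mem_bot] at hxW
    exact hx hxW
  · intro h
    apply hH
    have hall : ∀ y : Fin n → F, Qc y ≤ H := by
      intro y
      have : y ∈ centreSub H := by rw [h]; exact Submodule.mem_top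
      exact this
    have : Nontrivial (Fin n) := Fin.nontrivial_iff_two_le.mpr hn
    rw [eq_top_iff]
    intro M _
    refine Cfsg.Agent.Helper5.transvection_induction (fun M => M ∈ H) ?_ ?_ M
    · intro i j hij a
      show Matrix.SpecialLinearGroup.transvection hij a ∈ H
      rw [transvection_eq_tv]
      exact hall _ (tv_mem_Qc _ _ _)
    · intro A B hA hB
      exact H.mul_mem hA hB
  · intro g hg w hw
    exact Qc_mulVec_le hg hw

end Cfsg.Agent.Helper67.MinDeg
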