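import Mathlib
import Cfsg.Agent.Helper96.StC.Defs

/-!
Piece (N1) for helper96 (S2092): the reflection presentation of the hyperoctahedral group
`W(C_m)`: a group generated by elements `s p q` satisfying the obvious relations of the
reflections of type `C_m` maps injectively to the permutation group of `Fin m ⊕ Fin m`.
-/

set_option autoImplicit false
set_option linter.unusedSectionVars false

namespace Cfsg.Agent.Helper67.HyperN1

open Cfsg.Agent.Helper96.StC

universe u v

variable {ι : Type v} [DecidableEq ι]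

/-- the underlying index -/
def ix (p : ι ⊕ ι) : ι := Sum.elim id id p

omit [DecidableEq ι] in
theorem ix_bar (p : ι ⊕ ι) : ix (bar p) = ix p := by cases p <;> rfl

omit [DecidableEq ι] in
theorem eq_or_eq_bar_of_ix_eq {p q : ι ⊕ ι} (h : ix p = ix q) : p = q ∨ p = bar q := by
  cases p <;> cases q <;> simp only [ix, Sum.elim_inl, Sum.elim_inr, id] at h <;> subst h <;> simp

omit [DecidableEq ι] in
theorem ne_bar_symm {p q : ι ⊕ ι} (h : p ≠ bar q) : q ≠ bar p := fun e => h (by rw [e, bar_bar])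

/-! ### values of `reflPerm` -/

theorem refl_left {p q : ι ⊕ ι} : reflPerm p q p = q := by
  unfold reflPerm
  split_ifs with h
  · exact Equiv.swap_apply_left p q
  · rw [Equiv.Perm.mul_apply, Equiv.swap_apply_of_ne_of_ne (bar_ne p).symm
      (fun e => h (by rw [e, bar_bar])), Equiv.swap_apply_left]

theorem refl_right {p q : ι ⊕ ι} : reflPerm p q q = p := by
  unfold reflPerm
  split_ifs with h
  · exact Equiv.swap_apply_right p q
  · rw [Equiv.Perm.mul_apply, Equiv.swap_apply_of_ne_of_ne (fun e => h (by rw [e]))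
      (bar_ne q).symm, Equiv.swap_apply_right]

theorem refl_bar_left {p q : ι ⊕ ι} : reflPerm p q (bar p) = bar q := by
  unfold reflPerm
  split_ifs with h
  · rw [h, bar_bar, Equiv.swap_apply_right]
  · rw [Equiv.Perm.mul_apply, Equiv.swap_apply_left, Equiv.swap_apply_of_ne_of_ne
      (fun e => h (by rw [← e, bar_bar])) (bar_ne q)]

theorem refl_bar_right {p q : ι ⊕ ι} : reflPerm p q (bar q) = bar p := by
  unfold reflPerm
  split_ifs with h
  · rw [h, bar_bar, Equiv.swap_apply_left]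
  · rw [Equiv.Perm.mul_apply, Equiv.swap_apply_right, Equiv.swap_apply_of_ne_of_ne
      (bar_ne p) (fun e => h (by rw [e]))]

theorem refl_other {p q k : ι ⊕ ι} (h1 : k ≠ p) (h2 : k ≠ q) (h3 : k ≠ bar p) (h4 : k ≠ bar q) :
    reflPerm p q k = k := by
  unfold reflPerm
  split_ifs with h
  · exact Equiv.swap_apply_of_ne_of_ne h1 h2
  · rw [Equiv.Perm.mul_apply, Equiv.swap_apply_of_ne_of_ne h3 h4,
      Equiv.swap_apply_of_ne_of_ne h1 h2]

theorem ix_refl {p q k : ι ⊕ ι} :
    ix (reflPerm p q k) = ix k ∨ ix (reflPerm p q k) = ix p ∨ ix (reflPerm p q k) = ix q := by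
  by_cases h1 : k = p
  · subst h1; rw [refl_left]; exact Or.inr (Or.inr rfl)
  by_cases h2 : k = q
  · subst h2; rw [refl_right]; exact Or.inr (Or.inl rfl)
  by_cases h3 : k = bar p
  · subst h3; rw [refl_bar_left, ix_bar]; exact Or.inr (Or.inr rfl)
  by_cases h4 : k = bar q
  · subst h4; rw [refl_bar_right, ix_bar]; exact Or.inr (Or.inl rfl)
  · rw [refl_other h1 h2 h3 h4]; exact Or.inl rfl


/-! ### the relations -/

section main

variable {Q : Type u} [Group Q] (s : ι ⊕ ι → ι ⊕ ι → Q)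

/-- the generators with both indices in `A` -/
def gens (A : Finset ι) : Set Q := {g | ∃ p q, p ≠ q ∧ ix p ∈ A ∧ ix q ∈ A ∧ g = s p q}

/-- the subgroup generated by the generators with both indices in `A` -/
def QA (A : Finset ι) : Subgroup Q := Subgroup.closure (gens s A)

/-- the relations of the reflections of type `C` -/
structure Rels (ρ : Q →* Equiv.Perm (ι ⊕ ι)) : Prop where
  hρ : ∀ p q, p ≠ q → ρ (s p q) = reflPerm p q
  hswap : ∀ p q, p ≠ q → s q p = s p q
  hbar : ∀ p q, p ≠ q → s (bar q) (bar p) = s p q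
  hsq : ∀ p q, p ≠ q → s p q * s p q = 1
  hconj : ∀ p q k l, p ≠ q → k ≠ l →
    s p q * s k l * (s p q)⁻¹ = s (reflPerm p q k) (reflPerm p q l)

variable {s} {ρ : Q →* Equiv.Perm (ι ⊕ ι)}

theorem Rels.inv (h : Rels s ρ) {p q : ι ⊕ ι} (hpq : p ≠ q) : (s p q)⁻¹ = s p q :=
  inv_eq_of_mul_eq_one_left (h.hsq p q hpq)

theorem Rels.conj' (h : Rels s ρ) {p q k l : ι ⊕ ι} (hpq : p ≠ q) (hkl : k ≠ l) :
    s p q * s k l = s (reflPerm p q k) (reflPerm p q l) * s p q := by
  rw [← h.hconj p q k l hpq hkl, inv_mul_cancel_right]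

theorem Rels.conj'' (h : Rels s ρ) {p q k l : ι ⊕ ι} (hpq : p ≠ q) (hkl : k ≠ l) :
    s p q * s k l * s p q = s (reflPerm p q k) (reflPerm p q l) := by
  have := h.hconj p q k l hpq hkl
  rwa [h.inv hpq] at this

theorem gens_mem_QA {A : Finset ι} {p q : ι ⊕ ι} (hpq : p ≠ q) (hp : ix p ∈ A) (hq : ix q ∈ A) :
    s p q ∈ QA s A :=
  Subgroup.subset_closure ⟨p, q, hpq, hp, hq, rfl⟩

/-- elements of `QA A'` fix the indices outside `A'` -/
theorem Rels.fix (h : Rels s ρ) {A : Finset ι} {z : ι ⊕ ι} (hz : ix z ∉ A) {x : Q}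
    (hx : x ∈ QA s A) : ρ x z = z := by
  induction hx using Subgroup.closure_induction with
  | mem g hg =>
    obtain ⟨p, q, hpq, hp, hq, rfl⟩ := hg
    rw [h.hρ p q hpq]
    apply refl_other
    · rintro rfl; exact hz hp
    · rintro rfl; exact hz hq
    · rintro rfl; rw [ix_bar] at hz; exact hz hp
    · rintro rfl; rw [ix_bar] at hz; exact hz hq
  | one => rw [map_one]; rfl
  | mul x y _ _ hx hy => rw [map_mul, Equiv.Perm.mul_apply, hy, hx]
  | inv x _ hx =>
    rw [map_inv, Equiv.Perm.inv_eq_iff_eq]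
    exact hx.symm


/-! ### the three product identities -/

/-- (ad) -/
theorem Rels.prod_ad (h : Rels s ρ) {z l l₀ : ι ⊕ ι} (hl : l ≠ z) (hl₀ : l₀ ≠ z) :
    s z l₀ * s z l = s z l * s l (reflPerm z l l₀) := by
  have h1 := h.conj'' (Ne.symm hl) (Ne.symm hl₀)
  rw [refl_left] at h1
  rw [← h1, ← mul_assoc, ← mul_assoc, h.hsq z l (Ne.symm hl), one_mul]

/-- (b) -/
theorem Rels.prod_b (h : Rels s ρ) {z l₀ : ι ⊕ ι} (hl₀ : l₀ ≠ z) (hl₀' : l₀ ≠ bar z) :
    s z l₀ * s z (bar z) = s z (bar l₀) * s l₀ (bar l₀) := by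
  have h1 := h.conj' (Ne.symm hl₀) (bar_ne z).symm
  rw [refl_left, refl_bar_left] at h1
  have h2 := h.conj' (bar_ne l₀).symm (Ne.symm hl₀)
  rw [refl_left, refl_other (Ne.symm hl₀) (ne_bar_symm hl₀') (ne_bar_symm hl₀')
    (by rw [bar_bar]; exact Ne.symm hl₀)] at h2
  rw [h1, h2]

/-- (c) -/
theorem Rels.prod_c (h : Rels s ρ) {z l₀ : ι ⊕ ι} (hl₀ : l₀ ≠ z) (hl₀' : l₀ ≠ bar z) :
    s z l₀ * s z (bar l₀) = s z (bar z) * s l₀ (bar l₀) := by
  have hb1 : bar l₀ ≠ z := fun e => hl₀' (by rw [← e, bar_bar])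
  have hb2 : bar l₀ ≠ bar z := fun e => hl₀ (bar_injective e)
  have h1 := h.prod_b hb1 hb2
  rw [bar_bar, h.hswap l₀ (bar l₀) (bar_ne l₀).symm] at h1
  -- `h1 : B * C = A * Dd`
  have h2 := h.conj' (bar_ne l₀).symm (bar_ne z).symm
  rw [refl_other (Ne.symm hl₀) (ne_bar_symm hl₀') (ne_bar_symm hl₀')
      (by rw [bar_bar]; exact Ne.symm hl₀),
    refl_other (Ne.symm hl₀') (Ne.symm hb2) (Ne.symm hb2) (by rw [bar_bar]; exact Ne.symm hl₀')]
    at h2
  -- `h2 : Dd * C = C * Dd`
  have hA := h.hsq z l₀ (Ne.symm hl₀)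
  have hC := h.hsq z (bar z) (bar_ne z).symm
  calc s z l₀ * s z (bar l₀)
      = s z l₀ * (s z (bar l₀) * s z (bar z)) * s z (bar z) := by
        rw [mul_assoc, mul_assoc, hC, mul_one]
    _ = s z l₀ * (s z l₀ * s l₀ (bar l₀)) * s z (bar z) := by rw [h1]
    _ = s l₀ (bar l₀) * s z (bar z) := by rw [← mul_assoc, hA, one_mul]
    _ = s z (bar z) * s l₀ (bar l₀) := h2


/-! ### the coset decomposition -/

/-- a generator involving the index of `z` is some `s z l₀` -/
theorem Rels.gen_eq (h : Rels s ρ) {z p q : ι ⊕ ι} (hpq : p ≠ q)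
    (ha : ix p = ix z ∨ ix q = ix z) :
    ∃ l₀, l₀ ≠ z ∧ (ix l₀ = ix p ∨ ix l₀ = ix q) ∧ s p q = s z l₀ := by
  have key : ∀ p q : ι ⊕ ι, p ≠ q → ix p = ix z →
      ∃ l₀, l₀ ≠ z ∧ ix l₀ = ix q ∧ s p q = s z l₀ := by
    intro p q hpq hp
    rcases eq_or_eq_bar_of_ix_eq hp with rfl | rfl
    · exact ⟨q, Ne.symm hpq, rfl, rfl⟩
    · have hqz : bar q ≠ z := fun e => hpq (by rw [← e, bar_bar])
      refine ⟨bar q, hqz, ix_bar q, ?_⟩
      have h1 := h.hbar (bar q) z hqz
      rw [bar_bar] at h1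
      rw [h1, h.hswap z (bar q) (Ne.symm hqz)]
  rcases ha with ha | ha
  · obtain ⟨l₀, h1, h2, h3⟩ := key p q hpq ha
    exact ⟨l₀, h1, Or.inr h2, h3⟩
  · obtain ⟨l₀, h1, h2, h3⟩ := key q p (Ne.symm hpq) ha
    exact ⟨l₀, h1, Or.inl h2, by rw [h.hswap q p (Ne.symm hpq), h3]⟩

/-- the coset representatives -/
def tr (s : ι ⊕ ι → ι ⊕ ι → Q) (z l : ι ⊕ ι) : Q := if l = z then 1 else s z l

theorem tr_self (z : ι ⊕ ι) : tr s z z = 1 := if_pos rfl

theorem tr_ne {z l : ι ⊕ ι} (hl : l ≠ z) : tr s z l = s z l := if_neg hl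

/-- the set `⋃ l, tr l * QA A'` is closed under left multiplication by the generators -/
theorem Rels.step (h : Rels s ρ) {A : Finset ι} {z : ι ⊕ ι} (hz : ix z ∉ A)
    {g : Q} (hg : g ∈ gens s (insert (ix z) A)) {l : ι ⊕ ι} (hl : ix l ∈ insert (ix z) A)
    {y : Q} (hy : y ∈ QA s A) :
    ∃ l', ix l' ∈ insert (ix z) A ∧ ∃ y' ∈ QA s A, g * (tr s z l * y) = tr s z l' * y' := by
  obtain ⟨p, q, hpq, hp, hq, rfl⟩ := hg
  have hzz : ix z ∈ insert (ix z) A := Finset.mem_insert_self _ _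
  -- indices different from `z`, `bar z` lie over `A`
  have hmemA : ∀ k : ι ⊕ ι, ix k ∈ insert (ix z) A → k ≠ z → k ≠ bar z → ix k ∈ A := by
    intro k hk h1 h2
    rcases Finset.mem_insert.mp hk with e | e
    · rcases eq_or_eq_bar_of_ix_eq e with e' | e'
      · exact absurd e' h1
      · exact absurd e' h2
    · exact e
  by_cases hcase : ix p = ix z ∨ ix q = ix z
  · -- the generator involves the new index
    obtain ⟨l₀, hl₀z, hl₀ix, hgl₀⟩ := h.gen_eq hpq hcase
    have hl₀mem : ix l₀ ∈ insert (ix z) A := by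
      rcases hl₀ix with e | e <;> rw [e] <;> assumption
    rw [hgl₀]
    by_cases hlz : l = z
    · subst hlz
      exact ⟨l₀, hl₀mem, y, hy, by rw [tr_self, one_mul, tr_ne hl₀z]⟩
    rw [tr_ne hlz]
    by_cases hll₀ : l = l₀
    · subst hll₀
      refine ⟨z, hzz, y, hy, ?_⟩
      rw [tr_self, one_mul, ← mul_assoc, h.hsq z l (Ne.symm hlz), one_mul]
    by_cases hlzb : l = bar z
    · -- case (b)
      subst hlzb
      have hl₀zb : l₀ ≠ bar z := fun e => hll₀ e.symm
      have hb : bar l₀ ≠ z := fun e => hl₀zb (by rw [← e, bar_bar])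
      refine ⟨bar l₀, by rw [ix_bar]; exact hl₀mem, s l₀ (bar l₀) * y, ?_, ?_⟩
      · have hA := hmemA l₀ hl₀mem hl₀z hl₀zb
        exact (QA s A).mul_mem
          (gens_mem_QA (bar_ne l₀).symm hA (by rw [ix_bar]; exact hA)) hy
      · rw [tr_ne hb, ← mul_assoc, h.prod_b hl₀z hl₀zb, mul_assoc]
    by_cases hl₀lb : l₀ = bar l
    · -- case (c)
      subst hl₀lb
      have hlA := hmemA l hl hlz hlzb
      have hblzb : bar l ≠ bar z := fun e => hlz (bar_injective e)
      refine ⟨bar z, by rw [ix_bar]; exact hzz, s (bar l) (bar (bar l)) * y, ?_, ?_⟩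
      · exact (QA s A).mul_mem
          (gens_mem_QA (bar_ne (bar l)).symm (by rw [ix_bar]; exact hlA)
            (by rw [ix_bar, ix_bar]; exact hlA)) hy
      · have h1 := h.prod_c hl₀z hblzb
        rw [bar_bar] at h1 ⊢
        rw [tr_ne (bar_ne z), ← mul_assoc, h1, mul_assoc]
    · -- case (ad)
      have hlA := hmemA l hl hlz hlzb
      have hν1 : reflPerm z l l₀ ≠ z := by
        intro e
        have : reflPerm z l l₀ = reflPerm z l l := by rw [e, refl_right]
        exact hll₀ ((reflPerm z l).injective this).symm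
      have hν2 : reflPerm z l l₀ ≠ bar z := by
        intro e
        have : reflPerm z l l₀ = reflPerm z l (bar l) := by rw [e, refl_bar_right]
        exact hl₀lb ((reflPerm z l).injective this)
      have hν3 : l ≠ reflPerm z l l₀ := by
        intro e
        have : reflPerm z l l₀ = reflPerm z l z := by rw [← e, refl_left]
        exact hl₀z ((reflPerm z l).injective this)
      have hνmem : ix (reflPerm z l l₀) ∈ insert (ix z) A := by
        rcases ix_refl (p := z) (q := l) (k := l₀) with e | e | e <;> rw [e] <;> assumption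
      refine ⟨l, hl, s l (reflPerm z l l₀) * y, ?_, ?_⟩
      · exact (QA s A).mul_mem
          (gens_mem_QA hν3 hlA (hmemA _ hνmem hν1 hν2)) hy
      · rw [tr_ne hlz, ← mul_assoc, h.prod_ad hlz hl₀z, mul_assoc]
  · -- the generator lies in `QA A`
    push Not at hcase
    obtain ⟨hpz, hqz⟩ := hcase
    have hpA : ix p ∈ A := (Finset.mem_insert.mp hp).resolve_left hpz
    have hqA : ix q ∈ A := (Finset.mem_insert.mp hq).resolve_left hqz
    have hgA : s p q ∈ QA s A := gens_mem_QA hpq hpA hqA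
    by_cases hlz : l = z
    · subst hlz
      refine ⟨l, hzz, s p q * y, (QA s A).mul_mem hgA hy, ?_⟩
      rw [tr_self, one_mul, one_mul]
    · have hσz : reflPerm p q z = z := by
        apply refl_other
        · rintro rfl; exact hpz rfl
        · rintro rfl; exact hqz rfl
        · rintro rfl; exact hpz (ix_bar _).symm
        · rintro rfl; exact hqz (ix_bar _).symm
      have hσl : reflPerm p q l ≠ z := by
        intro e
        rw [← hσz] at e
        exact hlz ((reflPerm p q).injective e)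
      have hσmem : ix (reflPerm p q l) ∈ insert (ix z) A := by
        rcases ix_refl (p := p) (q := q) (k := l) with e | e | e <;> rw [e] <;> assumption
      refine ⟨reflPerm p q l, hσmem, s p q * y, (QA s A).mul_mem hgA hy, ?_⟩
      rw [tr_ne hlz, tr_ne hσl, ← mul_assoc, h.conj' hpq (Ne.symm hlz), hσz, mul_assoc]


theorem Rels.decomp (h : Rels s ρ) {A : Finset ι} {z : ι ⊕ ι} (hz : ix z ∉ A)
    {x : Q} (hx : x ∈ QA s (insert (ix z) A)) :
    ∃ l, ix l ∈ insert (ix z) A ∧ ∃ y ∈ QA s A, x = tr s z l * y := by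
  induction hx using Subgroup.closure_induction_left with
  | one =>
    exact ⟨z, Finset.mem_insert_self _ _, 1, (QA s A).one_mem, by rw [tr_self, one_mul]⟩
  | mul_left g hg x _ ih =>
    obtain ⟨l, hl, y, hy, rfl⟩ := ih
    exact h.step hz hg hl hy
  | inv_mul_cancel g hg x _ ih =>
    obtain ⟨l, hl, y, hy, rfl⟩ := ih
    have hg' : g⁻¹ = g := by
      obtain ⟨p, q, hpq, -, -, rfl⟩ := hg
      exact h.inv hpq
    rw [hg']
    exact h.step hz hg hl hy

/-- `ρ` is injective on every `QA A` -/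
theorem Rels.inj_on (h : Rels s ρ) (A : Finset ι) : ∀ x ∈ QA s A, ρ x = 1 → x = 1 := by
  induction A using Finset.induction_on with
  | empty =>
    intro x hx _
    have hempty : gens s (∅ : Finset ι) = ∅ := by
      ext g
      simp only [gens, Set.mem_ofPred_eq, Set.mem_empty_iff_false, iff_false]
      rintro ⟨p, q, -, hp, -⟩
      exact absurd hp (Finset.notMem_empty _)
    unfold QA at hx
    rw [hempty, Subgroup.closure_empty, Subgroup.mem_bot] at hx
    exact hx
  | insert a A ha ih =>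
    intro x hx hρx
    have hz : ix (Sum.inl a : ι ⊕ ι) ∉ A := ha
    have hx' : x ∈ QA s (insert (ix (Sum.inl a : ι ⊕ ι)) A) := hx
    obtain ⟨l, -, y, hy, rfl⟩ := h.decomp hz hx'
    have hfix := h.fix hz hy
    have h1 : ρ (tr s (Sum.inl a) l * y) (Sum.inl a) = Sum.inl a := by rw [hρx]; rfl
    rw [map_mul, Equiv.Perm.mul_apply, hfix] at h1
    by_cases hl : l = Sum.inl a
    · subst hl
      rw [tr_self, one_mul] at hρx ⊢
      exact ih y hy hρx
    · exfalso
      rw [tr_ne hl, h.hρ _ _ (Ne.symm hl), refl_left] at h1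
      exact hl h1

end main

/-- (N1) the reflection presentation of the hyperoctahedral group -/
theorem hyper_injective {m : ℕ} {Q : Type u} [Group Q] (s : Fin m ⊕ Fin m → Fin m ⊕ Fin m → Q)
    (ρ : Q →* Equiv.Perm (Fin m ⊕ Fin m))
    (hρ : ∀ p q, p ≠ q → ρ (s p q) = reflPerm p q)
    (hswap : ∀ p q, p ≠ q → s q p = s p q)
    (hbar : ∀ p q, p ≠ q → s (bar q) (bar p) = s p q)
    (hsq : ∀ p q, p ≠ q → s p q * s p q = 1)
    (hconj : ∀ p q k l, p ≠ q → k ≠ l →
      s p q * s k l * (s p q)⁻¹ = s (reflPerm p q k) (reflPerm p q l))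
    (hgen : Subgroup.closure {g | ∃ p q, p ≠ q ∧ g = s p q} = ⊤) :
    Function.Injective ρ := by
  have h : Rels s ρ := ⟨hρ, hswap, hbar, hsq, hconj⟩
  rw [injective_iff_map_eq_one]
  intro x hx
  apply h.inj_on Finset.univ x _ hx
  have : gens s (Finset.univ : Finset (Fin m)) = {g | ∃ p q, p ≠ q ∧ g = s p q} := by
    ext g
    simp only [gens, Set.mem_ofPred_eq, Finset.mem_univ, true_and]
  unfold QA
  rw [this, hgen]
  exact Subgroup.mem_top x

end Cfsg.Agent.Helper67.HyperN1
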