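/-
helper67 (for helper42, WANTED #4228 (SCH)): simple endomorphisms: the characteristic polynomial is
irreducible, and the space of equivariant maps between two simple endomorphisms.
-/
import Mathlib
import Cfsg.Agent.Helper42.StDefs

set_option autoImplicit false

namespace Cfsg.Agent.Helper67.StVal

open Finset Polynomial Cfsg.Agent.Helper42.StVal

section general

variable {F N : Type*} [Field F] [AddCommGroup N] [Module F N]

/-- `p ↦ p(ψ) s` -/
noncomputable def evalAt (ψ : Module.End F N) (s : N) : F[X] →ₗ[F] N :=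
  (LinearMap.applyₗ s : Module.End F N →ₗ[F] N).comp (Polynomial.aeval ψ).toLinearMap

theorem evalAt_apply (ψ : Module.End F N) (s : N) (p : F[X]) : evalAt ψ s p = (aeval ψ p) s := rfl

theorem aeval_comm (ψ : Module.End F N) (p : F[X]) (x : N) : (aeval ψ p) (ψ x) = ψ ((aeval ψ p) x) := by
  have h1 : aeval ψ p * ψ = ψ * aeval ψ p := by
    have := (Commute.all p (X : F[X])).map (aeval ψ)
    rw [aeval_X] at this
    exact this.eq
  exact congrArg (fun f : Module.End F N => f x) h1

theorem evalAt_X_mul (ψ : Module.End F N) (s : N) (p : F[X]) : evalAt ψ s (X * p) = ψ (evalAt ψ s p) := by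
  rw [evalAt_apply, evalAt_apply, map_mul, aeval_X]
  rfl

theorem ker_aeval_mem_invt (ψ : Module.End F N) (p : F[X]) :
    LinearMap.ker (aeval ψ p) ∈ ψ.invtSubmodule := by
  rw [Module.End.mem_invtSubmodule]
  intro x hx
  rw [Submodule.mem_comap, LinearMap.mem_ker, aeval_comm, LinearMap.mem_ker.mp hx, map_zero]

theorem range_evalAt_mem_invt (ψ : Module.End F N) (s : N) :
    LinearMap.range (evalAt ψ s) ∈ ψ.invtSubmodule := by
  rw [Module.End.mem_invtSubmodule]
  rintro _ ⟨p, rfl⟩
  rw [Submodule.mem_comap]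
  exact ⟨X * p, evalAt_X_mul ψ s p⟩

variable {ψ : Module.End F N}

theorem aeval_eq_zero_of_apply (hψ : IsSimpleEnd ψ) {s : N} (hs : s ≠ 0) {p : F[X]}
    (h : (aeval ψ p) s = 0) : aeval ψ p = 0 := by
  rcases hψ.2 _ (ker_aeval_mem_invt ψ p) with h1 | h1
  · exfalso
    have : s ∈ LinearMap.ker (aeval ψ p) := LinearMap.mem_ker.mpr h
    rw [h1, Submodule.mem_bot] at this
    exact hs this
  · exact LinearMap.ker_eq_top.mp h1

theorem evalAt_surjective (hψ : IsSimpleEnd ψ) {s : N} (hs : s ≠ 0) :
    Function.Surjective (evalAt ψ s) := by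
  rw [← LinearMap.range_eq_top]
  rcases hψ.2 _ (range_evalAt_mem_invt ψ s) with h1 | h1
  · exfalso
    have : s ∈ LinearMap.range (evalAt ψ s) := ⟨1, by rw [evalAt_apply, map_one]; rfl⟩
    rw [h1, Submodule.mem_bot] at this
    exact hs this
  · exact h1

variable [FiniteDimensional F N]

theorem minpoly_irreducible (hψ : IsSimpleEnd ψ) : Irreducible (minpoly F ψ) := by
  have hint : IsIntegral F ψ := Algebra.IsIntegral.isIntegral ψ
  have := hψ.1
  obtain ⟨s, hs⟩ := exists_ne (0 : N)
  rw [irreducible_iff]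
  refine ⟨minpoly.not_isUnit F ψ, fun a b hab => ?_⟩
  have hab0 : aeval ψ a * aeval ψ b = 0 := by
    rw [← map_mul, ← hab, minpoly.aeval]
  have hne : minpoly F ψ ≠ 0 := minpoly.ne_zero hint
  have ha0 : a ≠ 0 := fun h => hne (by rw [hab, h, zero_mul])
  have hb0 : b ≠ 0 := fun h => hne (by rw [hab, h, mul_zero])
  rcases hψ.2 _ (ker_aeval_mem_invt ψ a) with h1 | h1
  · -- `a(ψ)` injective, so `b(ψ) = 0`
    left
    have hb : aeval ψ b = 0 := by
      apply LinearMap.ext
      intro x
      have h2 : (aeval ψ a) ((aeval ψ b) x) = 0 := by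
        have := congrArg (fun f : Module.End F N => f x) hab0
        exact this
      have h3 : (aeval ψ b) x ∈ LinearMap.ker (aeval ψ a) := LinearMap.mem_ker.mpr h2
      rw [h1, Submodule.mem_bot] at h3
      exact h3
    have hdvd : minpoly F ψ ∣ b := minpoly.dvd F ψ hb
    -- `a * b ∣ b`, so `a` is a unit
    rw [hab] at hdvd
    obtain ⟨c, hc⟩ := hdvd
    have h4 : b * 1 = b * (a * c) := by
      rw [mul_one]
      calc b = a * b * c := hc
        _ = b * (a * c) := by ring
    have h5 : 1 = a * c := mul_left_cancel₀ hb0 h4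
    exact IsUnit.of_mul_eq_one c h5.symm
  · right
    have ha : aeval ψ a = 0 := LinearMap.ker_eq_top.mp h1
    have hdvd : minpoly F ψ ∣ a := minpoly.dvd F ψ ha
    rw [hab] at hdvd
    obtain ⟨c, hc⟩ := hdvd
    have h4 : a * 1 = a * (b * c) := by
      rw [mul_one]
      calc a = a * b * c := hc
        _ = a * (b * c) := by ring
    have h5 : 1 = b * c := mul_left_cancel₀ ha0 h4
    exact IsUnit.of_mul_eq_one c h5.symm

theorem finrank_le_natDegree_minpoly (hψ : IsSimpleEnd ψ) :
    Module.finrank F N ≤ (minpoly F ψ).natDegree := by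
  have hint : IsIntegral F ψ := Algebra.IsIntegral.isIntegral ψ
  have hmon : (minpoly F ψ).Monic := minpoly.monic hint
  have := hψ.1
  obtain ⟨s, hs⟩ := exists_ne (0 : N)
  let g : degreeLT F (minpoly F ψ).natDegree →ₗ[F] N :=
    (evalAt ψ s).comp (degreeLT F (minpoly F ψ).natDegree).subtype
  have hg : Function.Surjective g := by
    intro y
    obtain ⟨p, rfl⟩ := evalAt_surjective hψ hs y
    have hmem : p %ₘ minpoly F ψ ∈ degreeLT F (minpoly F ψ).natDegree := by
      rw [mem_degreeLT]
      have := degree_modByMonic_lt p hmon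
      rwa [degree_eq_natDegree hmon.ne_zero] at this
    refine ⟨⟨p %ₘ minpoly F ψ, hmem⟩, ?_⟩
    show evalAt ψ s (p %ₘ minpoly F ψ) = evalAt ψ s p
    rw [evalAt_apply, evalAt_apply]
    conv_rhs => rw [← modByMonic_add_div p (minpoly F ψ)]
    rw [map_add, map_mul, minpoly.aeval, zero_mul, add_zero]
  have h1 := LinearMap.finrank_le_finrank_of_surjective hg
  have h2 : Module.finrank F (degreeLT F (minpoly F ψ).natDegree) = (minpoly F ψ).natDegree := by
    rw [LinearEquiv.finrank_eq (degreeLTEquiv F (minpoly F ψ).natDegree), Module.finrank_fin_fun]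
  rwa [h2] at h1

theorem charpoly_eq_minpoly (hψ : IsSimpleEnd ψ) : ψ.charpoly = minpoly F ψ := by
  have hint : IsIntegral F ψ := Algebra.IsIntegral.isIntegral ψ
  apply eq_of_monic_of_dvd_of_natDegree_le (minpoly.monic hint) (LinearMap.charpoly_monic ψ)
    (LinearMap.minpoly_dvd_charpoly ψ)
  rw [LinearMap.charpoly_natDegree]
  exact finrank_le_natDegree_minpoly hψ

end general

theorem irreducible_charpoly_of_isSimpleEnd {F N : Type*} [Field F] [AddCommGroup N] [Module F N]
    [FiniteDimensional F N] (ψ : Module.End F N) (hψ : IsSimpleEnd ψ) : Irreducible ψ.charpoly := by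
  rw [charpoly_eq_minpoly hψ]
  exact minpoly_irreducible hψ

/-- a nonzero equivariant map between simple endomorphisms is bijective -/
theorem bijective_of_mem_eqHom {F M N : Type*} [Field F] [AddCommGroup M] [Module F M]
    [AddCommGroup N] [Module F N] (φ : Module.End F M) (ψ : Module.End F N) (hφ : IsSimpleEnd φ)
    (hψ : IsSimpleEnd ψ) {h : M →ₗ[F] N} (hh : h ∈ eqHom φ ψ) (h0 : h ≠ 0) : Function.Bijective h := by
  have hcomm : ∀ x, h (φ x) = ψ (h x) := fun x => congrArg (fun f : M →ₗ[F] N => f x) (mem_eqHom.mp hh)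
  have hker : LinearMap.ker h ∈ φ.invtSubmodule := by
    rw [Module.End.mem_invtSubmodule]
    intro x hx
    rw [Submodule.mem_comap, LinearMap.mem_ker, hcomm, LinearMap.mem_ker.mp hx, map_zero]
  have hrange : LinearMap.range h ∈ ψ.invtSubmodule := by
    rw [Module.End.mem_invtSubmodule]
    rintro _ ⟨x, rfl⟩
    rw [Submodule.mem_comap]
    exact ⟨φ x, hcomm x⟩
  constructor
  · rcases hφ.2 _ hker with h1 | h1
    · exact LinearMap.ker_eq_bot.mp h1
    · exact absurd (LinearMap.ker_eq_top.mp h1) h0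
  · rcases hψ.2 _ hrange with h1 | h1
    · exact absurd (LinearMap.range_eq_bot.mp h1) h0
    · exact LinearMap.range_eq_top.mp h1

theorem eqHom_eq_bot_of_charpoly_ne {F M N : Type*} [Field F] [AddCommGroup M] [Module F M]
    [AddCommGroup N] [Module F N] [FiniteDimensional F M] [FiniteDimensional F N]
    (φ : Module.End F M) (ψ : Module.End F N) (hφ : IsSimpleEnd φ) (hψ : IsSimpleEnd ψ)
    (hne : φ.charpoly ≠ ψ.charpoly) : eqHom φ ψ = ⊥ := by
  rw [eq_bot_iff]
  intro h hh
  rw [Submodule.mem_bot]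
  by_contra h0
  apply hne
  have hbij := bijective_of_mem_eqHom φ ψ hφ hψ hh h0
  let e : M ≃ₗ[F] N := LinearEquiv.ofBijective h hbij
  have hcomm : ∀ x, h (φ x) = ψ (h x) := fun x => congrArg (fun f : M →ₗ[F] N => f x) (mem_eqHom.mp hh)
  have hconj : e.conj φ = ψ := by
    apply LinearMap.ext
    intro y
    obtain ⟨x, rfl⟩ := e.surjective y
    rw [LinearEquiv.conj_apply_apply, LinearEquiv.symm_apply_apply]
    exact hcomm x
  rw [← hconj, LinearEquiv.charpoly_conj]

theorem card_eqHom_of_charpoly_eq {F M N : Type*} [Field F] [Fintype F] [AddCommGroup M] [Module F M]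
    [AddCommGroup N] [Module F N] [FiniteDimensional F M] [FiniteDimensional F N]
    (φ : Module.End F M) (ψ : Module.End F N) (hφ : IsSimpleEnd φ) (hψ : IsSimpleEnd ψ)
    (heq : φ.charpoly = ψ.charpoly) :
    Nat.card (eqHom φ ψ) = Fintype.card F ^ ψ.charpoly.natDegree := by
  have := hφ.1
  obtain ⟨s, hs⟩ := exists_ne (0 : M)
  have hmin : minpoly F φ = minpoly F ψ := by
    rw [← charpoly_eq_minpoly hφ, ← charpoly_eq_minpoly hψ, heq]
  -- evaluation at `s`
  let ev : eqHom φ ψ → N := fun h => (h : M →ₗ[F] N) s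
  have hinj : Function.Injective ev := by
    intro h h' hhh'
    have hd : (h : M →ₗ[F] N) - h' ∈ eqHom φ ψ := (eqHom φ ψ).sub_mem h.2 h'.2
    by_contra hne
    have h0 : (h : M →ₗ[F] N) - h' ≠ 0 := by
      intro h1
      apply hne
      exact Subtype.ext (sub_eq_zero.mp h1)
    have hbij := bijective_of_mem_eqHom φ ψ hφ hψ hd h0
    have h2 : ((h : M →ₗ[F] N) - h') s = 0 := by
      rw [LinearMap.sub_apply]
      exact sub_eq_zero.mpr hhh'
    have h3 : ((h : M →ₗ[F] N) - h') s = ((h : M →ₗ[F] N) - h') 0 := by rw [h2, map_zero]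
    exact hs (hbij.1 h3)
  have hsurj : Function.Surjective ev := by
    intro y
    -- the map `p(φ) s ↦ p(ψ) y`
    have hes := evalAt_surjective hφ hs
    have hle : LinearMap.ker (evalAt φ s) ≤ LinearMap.ker (evalAt ψ y) := by
      intro p hp
      rw [LinearMap.mem_ker, evalAt_apply] at hp ⊢
      have h1 : aeval φ p = 0 := aeval_eq_zero_of_apply hφ hs hp
      have h2 : minpoly F φ ∣ p := minpoly.dvd F φ h1
      rw [hmin] at h2
      obtain ⟨c, rfl⟩ := h2
      rw [map_mul, minpoly.aeval, zero_mul]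
      rfl
    let t : M →ₗ[F] N :=
      ((LinearMap.ker (evalAt φ s)).liftQ (evalAt ψ y) hle).comp
        ((evalAt φ s).quotKerEquivOfSurjective hes).symm.toLinearMap
    have ht : ∀ p : F[X], t (evalAt φ s p) = evalAt ψ y p := by
      intro p
      show ((LinearMap.ker (evalAt φ s)).liftQ (evalAt ψ y) hle)
        (((evalAt φ s).quotKerEquivOfSurjective hes).symm (evalAt φ s p)) = _
      have : ((evalAt φ s).quotKerEquivOfSurjective hes).symm (evalAt φ s p) =
          Submodule.Quotient.mk p := by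
        rw [LinearEquiv.symm_apply_eq]
        rfl
      rw [this, Submodule.liftQ_apply]
    have htmem : t ∈ eqHom φ ψ := by
      rw [mem_eqHom]
      apply LinearMap.ext
      intro x
      obtain ⟨p, rfl⟩ := hes x
      show t (φ (evalAt φ s p)) = ψ (t (evalAt φ s p))
      rw [← evalAt_X_mul, ht, ht, evalAt_X_mul]
    refine ⟨⟨t, htmem⟩, ?_⟩
    show t s = y
    have h1 : s = evalAt φ s 1 := by rw [evalAt_apply, map_one]; rfl
    conv_lhs => rw [h1]
    rw [ht, evalAt_apply, map_one]
    rfl
  rw [Nat.card_congr (Equiv.ofBijective ev ⟨hinj, hsurj⟩), Module.natCard_eq_pow_finrank (K := F),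
    Nat.card_eq_fintype_card, LinearMap.charpoly_natDegree]

end Cfsg.Agent.Helper67.StVal
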