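/-
helper67: key lemma for fusion in nilpotent Hall subgroups.

`Γ` finite solvable, `R` a nilpotent Hall subgroup of `Γ`, `Q ≤ R` normal in `Γ`, and `Γ` of
`p`-length one for every prime `p` dividing `|R|`.  Then `C_Γ(Q) R` is normal in `Γ`, and
`Γ = N_Γ(R) C_Γ(Q)`.
-/
import Mathlib
import Cfsg.Prelude.Def_OddOrderLocal
import Cfsg.Agent.Lib.Cores
import Cfsg.Agent.Helper54.PLength
import Cfsg.Agent.Helper62.CoprimeHall
import Cfsg.Agent.Helper65.Nilpotent

set_option autoImplicit false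

namespace Cfsg.Agent.Helper67.NilHall

open Pointwise

variable {Γ : Type*} [Group Γ]

/-- A subgroup containing all elements of prime power order of `R` contains `R`. -/
theorem le_of_primePow_mem [Finite Γ] (R M : Subgroup Γ)
    (h : ∀ r ∈ R, ∀ p k : ℕ, p.Prime → orderOf r = p ^ k → r ∈ M) : R ≤ M := by
  have key : ∀ n : ℕ, ∀ r ∈ R, orderOf r = n → r ∈ M := by
    intro n
    induction n using Nat.recOnPosPrimePosCoprime with
    | prime_pow p k hp _ => intro r hr ho; exact h r hr p k hp ho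
    | zero => intro r _ ho; exact absurd ho (orderOf_pos r).ne'
    | one => intro r _ ho; rw [orderOf_eq_one_iff.mp ho]; exact M.one_mem
    | coprime a b ha hb hab iha ihb =>
      intro r hr ho
      have ha0 : a ≠ 0 := by omega
      have hb0 : b ≠ 0 := by omega
      have h1 : orderOf (r ^ a) = b := by
        rw [orderOf_pow_of_dvd ha0 (ho ▸ dvd_mul_right a b), ho, Nat.mul_div_cancel_left b (by omega)]
      have h2 : orderOf (r ^ b) = a := by
        rw [orderOf_pow_of_dvd hb0 (ho ▸ dvd_mul_left b a), ho]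
        exact Nat.mul_div_cancel a (by omega)
      have m1 : r ^ a ∈ M := ihb _ (R.pow_mem hr a) h1
      have m2 : r ^ b ∈ M := iha _ (R.pow_mem hr b) h2
      have hg : (1 : ℤ) = a * Nat.gcdA a b + b * Nat.gcdB a b := by
        have := Nat.gcd_eq_gcd_ab a b
        rw [hab] at this
        exact_mod_cast this
      have : r = (r ^ a) ^ (Nat.gcdA a b) * (r ^ b) ^ (Nat.gcdB a b) := by
        rw [← zpow_natCast r a, ← zpow_natCast r b, ← zpow_mul, ← zpow_mul, ← zpow_add, ← hg, zpow_one]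
      rw [this]
      exact M.mul_mem (M.zpow_mem m1 _) (M.zpow_mem m2 _)
  intro r hr
  exact key _ r hr rfl

/-- A Hall subgroup whose order is divisible by `p` contains a Sylow `p`-subgroup. -/
theorem exists_sylow_le_of_hall [Finite Γ] (R : Subgroup Γ) (hHall : (Nat.card R).Coprime R.index)
    (p : ℕ) [hp : Fact p.Prime] (hpR : p ∣ Nat.card R) : ∃ S : Sylow p Γ, (S : Subgroup Γ) ≤ R := by
  obtain P : Sylow p R := default
  have hP : IsPGroup p ((P : Subgroup R).map R.subtype) := P.isPGroup'.map _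
  have hidx : ¬ p ∣ ((P : Subgroup R).map R.subtype).index := by
    rw [Subgroup.index_map_subtype]
    intro hdvd
    rcases (Nat.Prime.dvd_mul hp.out).mp hdvd with h1 | h1
    · exact P.not_dvd_index h1
    · exact (Nat.Prime.coprime_iff_not_dvd hp.out).mp
        (Nat.Coprime.coprime_dvd_left hpR hHall) h1
  exact ⟨hP.toSylow hidx, by rw [IsPGroup.toSylow_coe]; exact Subgroup.map_subtype_le _⟩

/-- In a finite group, `O_{p'}` centralizes every element of `p`-power order of a normal nilpotent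
subgroup. -/
theorem commute_pPrimeCore_of_normal_nilpotent [Finite Γ] {p : ℕ} [hp : Fact p.Prime]
    (Q : Subgroup Γ) [hQn : Q.Normal] (hQ : Group.IsNilpotent Q) {k y : Γ}
    (hk : k ∈ Cfsg.pPrimeCore p Γ) (hy : y ∈ Q) (j : ℕ) (hyo : orderOf y = p ^ j) :
    k * y = y * k := by
  set c : Γ := k * y * k⁻¹ * y⁻¹ with hc
  have hcO : c ∈ Cfsg.pPrimeCore p Γ := by
    have hn : (Cfsg.pPrimeCore p Γ).Normal := by unfold Cfsg.pPrimeCore; exact Subgroup.sSup_normal _ (fun _ h => h.1)
    have : y * k⁻¹ * y⁻¹ ∈ Cfsg.pPrimeCore p Γ := hn.conj_mem _ (inv_mem hk) y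
    have h2 := mul_mem hk this
    have e : c = k * (y * k⁻¹ * y⁻¹) := by rw [hc]; group
    rw [e]; exact h2
  have hcQ : c ∈ Q := by
    have : k * y * k⁻¹ ∈ Q := hQn.conj_mem _ hy k
    exact mul_mem this (inv_mem hy)
  have hco : (orderOf c).Coprime p := by
    have h1 : orderOf c ∣ Nat.card (Cfsg.pPrimeCore p Γ) := by
      have := orderOf_dvd_natCard (⟨c, hcO⟩ : Cfsg.pPrimeCore p Γ)
      rwa [Subgroup.orderOf_mk] at this
    exact Nat.Coprime.coprime_dvd_left h1 (Cfsg.Agent.Lib.card_pPrimeCore_coprime p)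
  -- `c` and `y` commute in the nilpotent group `Q`
  have hcomm : Commute c y := by
    have := hQ
    have h1 : (orderOf (⟨c, hcQ⟩ : Q)).Coprime (orderOf (⟨y, hy⟩ : Q)) := by
      rw [Subgroup.orderOf_mk, Subgroup.orderOf_mk, hyo]
      exact Nat.Coprime.pow_right j hco
    have h2 := Cfsg.Agent.Helper65.commute_of_coprime_orderOf Q ⟨c, hcQ⟩ ⟨y, hy⟩ h1
    have := congrArg Subtype.val h2.eq
    exact (by simpa using this : c * y = y * c)
  -- `(c y)^(p^j) = c^(p^j)` while `c y = k y k⁻¹` has order `p^j`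
  have e1 : c * y = k * y * k⁻¹ := by rw [hc]; group
  have e2 : (c * y) ^ (p ^ j) = 1 := by
    rw [e1, conj_pow, ← hyo, pow_orderOf_eq_one]; group
  rw [hcomm.mul_pow, ← hyo, pow_orderOf_eq_one, mul_one, hyo] at e2
  have hc1 : c = 1 := by
    have h1 : orderOf c ∣ p ^ j := orderOf_dvd_of_pow_eq_one e2
    have h2 : orderOf c = 1 :=
      Nat.eq_one_of_dvd_coprimes (Nat.Coprime.pow_right j hco) dvd_rfl h1
    exact orderOf_eq_one_iff.mp h2
  have : k * y * k⁻¹ * y⁻¹ = 1 := hc1
  calc k * y = (k * y * k⁻¹ * y⁻¹) * (y * k) := by group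
    _ = y * k := by rw [this, one_mul]


theorem isNilpotent_of_le' {H K : Subgroup Γ} (h : H ≤ K) (hK : Group.IsNilpotent K) :
    Group.IsNilpotent H := by
  have h1 : Group.IsNilpotent (H.subgroupOf K) := Subgroup.isNilpotent _
  exact Group.nilpotent_of_mulEquiv (Subgroup.subgroupOfEquivOfLe h)

theorem orderOf_conj' (l r : Γ) : orderOf (l * r * l⁻¹) = orderOf r := by
  have := (MulAut.conj l).orderOf_eq r
  rwa [MulAut.conj_apply] at this

/-- In a nilpotent subgroup, elements of coprime orders commute. -/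
theorem commute_of_mem_nilpotent {R : Subgroup Γ} (hRn : Group.IsNilpotent R) {a b : Γ}
    (ha : a ∈ R) (hb : b ∈ R) (h : (orderOf a).Coprime (orderOf b)) : a * b = b * a := by
  have h1 : (orderOf (⟨a, ha⟩ : R)).Coprime (orderOf (⟨b, hb⟩ : R)) := by
    rwa [Subgroup.orderOf_mk, Subgroup.orderOf_mk]
  have h2 := Cfsg.Agent.Helper65.commute_of_coprime_orderOf R ⟨a, ha⟩ ⟨b, hb⟩ h1
  have := congrArg Subtype.val h2.eq
  simpa using this

theorem pPrimeCore_normal' (p : ℕ) : (Cfsg.pPrimeCore p Γ).Normal := by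
  unfold Cfsg.pPrimeCore; exact Subgroup.sSup_normal _ (fun _ h => h.1)

/-- Key step: the conjugate of a `p`-element of `R` lies in `C_Γ(Q) R`. -/
theorem conj_mem_sup [Finite Γ] (R Q : Subgroup Γ) [hQn : Q.Normal] (hRn : Group.IsNilpotent R)
    (hHall : (Nat.card R).Coprime R.index) (hQR : Q ≤ R) (p : ℕ) [hp : Fact p.Prime]
    (hPL : p ∣ Nat.card R → Cfsg.PLengthLE p 1 Γ) {r : Γ} (hr : r ∈ R) (k : ℕ)
    (hro : orderOf r = p ^ k) (l : Γ) :
    l * r * l⁻¹ ∈ Subgroup.centralizer (Q : Set Γ) ⊔ R := by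
  by_cases hk0 : k = 0
  · subst hk0
    rw [pow_zero, orderOf_eq_one_iff] at hro
    subst hro
    simp
  have hpR : p ∣ Nat.card R := by
    have h1 : orderOf r ∣ Nat.card R := by
      have := orderOf_dvd_natCard (⟨r, hr⟩ : R)
      rwa [Subgroup.orderOf_mk] at this
    rw [hro] at h1
    exact dvd_trans (dvd_pow_self p hk0) h1
  have hPL' := hPL hpR
  obtain ⟨S, hSR⟩ := exists_sylow_le_of_hall R hHall p hpR
  have hoc : orderOf (l * r * l⁻¹) = p ^ k := by rw [orderOf_conj', hro]
  have hP : IsPGroup p (Subgroup.zpowers (l * r * l⁻¹)) := by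
    rw [IsPGroup.iff_card, Nat.card_zpowers, hoc]
    exact ⟨k, rfl⟩
  have h1 := Cfsg.Agent.Helper54.le_pPrimePCore_of_pLengthLE_one hPL' _ hP
  have hS := Cfsg.Agent.Helper54.le_pPrimePCore_of_pLengthLE_one hPL' S S.isPGroup'
  rw [Cfsg.Agent.Helper54.pPrimePCore_eq_sup S hS] at h1
  have hmem : l * r * l⁻¹ ∈ (S : Subgroup Γ) ⊔ Cfsg.pPrimeCore p Γ :=
    h1 (Subgroup.mem_zpowers _)
  haveI : (Cfsg.pPrimeCore p Γ).Normal := pPrimeCore_normal' p
  obtain ⟨s, hs, c, hc, hsc⟩ := Subgroup.mem_sup_of_normal_right.mp hmem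
  have hQnil : Group.IsNilpotent Q := isNilpotent_of_le' hQR hRn
  -- order of `s` is a power of `p`
  obtain ⟨i, hi⟩ : ∃ i, orderOf s = p ^ i := by
    obtain ⟨n, hn⟩ := S.isPGroup' ⟨s, hs⟩
    have hn' : s ^ p ^ n = 1 := by
      have := congrArg Subtype.val hn
      simpa using this
    obtain ⟨i, _, hi⟩ := (Nat.dvd_prime_pow hp.out).mp (orderOf_dvd_of_pow_eq_one hn')
    exact ⟨i, hi⟩
  have hcQ : c ∈ Subgroup.centralizer (Q : Set Γ) := by
    have hle : Q ≤ Subgroup.centralizer ({c} : Set Γ) := by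
      apply le_of_primePow_mem
      intro y hy q j hq hyo
      rw [Subgroup.mem_centralizer_singleton_iff]
      by_cases hqp : q = p
      · subst hqp
        exact (commute_pPrimeCore_of_normal_nilpotent Q hQnil hc hy j hyo).symm
      · have hcop : ∀ a b : ℕ, (p ^ a).Coprime (q ^ b) := fun a b =>
          Nat.Coprime.pow a b ((Nat.coprime_primes hp.out hq).mpr (fun h => hqp h.symm))
        -- `s` commutes with `y`
        have h1 : s * y = y * s :=
          commute_of_mem_nilpotent hRn (hSR hs) (hQR hy) (by rw [hi, hyo]; exact hcop i j)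
        -- `r` commutes with `l⁻¹ y l`
        have hy' : l⁻¹ * y * l ∈ Q := by
          have := hQn.conj_mem y hy l⁻¹
          simpa using this
        have hoy' : orderOf (l⁻¹ * y * l) = q ^ j := by
          have := orderOf_conj' l⁻¹ y
          rw [inv_inv] at this
          rw [this, hyo]
        have h2 : r * (l⁻¹ * y * l) = (l⁻¹ * y * l) * r :=
          commute_of_mem_nilpotent hRn hr (hQR hy') (by rw [hro, hoy']; exact hcop k j)
        have h3 : (l * r * l⁻¹) * y = y * (l * r * l⁻¹) := by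
          calc (l * r * l⁻¹) * y = l * (r * (l⁻¹ * y * l)) * l⁻¹ := by group
            _ = l * ((l⁻¹ * y * l) * r) * l⁻¹ := by rw [h2]
            _ = y * (l * r * l⁻¹) := by group
        rw [← hsc] at h3
        -- c = s⁻¹ (s c)
        calc y * c = s⁻¹ * (s * y) * c := by group
          _ = s⁻¹ * (y * s) * c := by rw [h1]
          _ = s⁻¹ * (y * (s * c)) := by group
          _ = s⁻¹ * ((s * c) * y) := by rw [h3]
          _ = c * y := by group
    rw [Subgroup.mem_centralizer_iff]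
    intro y hy
    have := hle hy
    rw [Subgroup.mem_centralizer_singleton_iff] at this
    exact this
  rw [← hsc]
  exact mul_mem (Subgroup.mem_sup_right (hSR hs)) (Subgroup.mem_sup_left hcQ)

/-- **Key lemma.** `Γ` finite solvable, `R` a nilpotent Hall subgroup, `Q ≤ R` normal in `Γ`, and `Γ` of
`p`-length one for all primes dividing `|R|`: then `Γ = N_Γ(R) C_Γ(Q)`. -/
theorem key [Finite Γ] [Group.IsSolvable Γ] (R Q : Subgroup Γ) [hQn : Q.Normal]
    (hRn : Group.IsNilpotent R) (hHall : (Nat.card R).Coprime R.index) (hQR : Q ≤ R)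
    (hPL : ∀ p : ℕ, p.Prime → p ∣ Nat.card R → Cfsg.PLengthLE p 1 Γ) (l : Γ) :
    ∃ m ∈ Subgroup.normalizer (R : Set Γ), ∃ c ∈ Subgroup.centralizer (Q : Set Γ), l = m * c := by
  set M' : Subgroup Γ := Subgroup.centralizer (Q : Set Γ) ⊔ R with hM'
  have hRM : R ≤ M' := le_sup_right
  -- conjugates of `R` lie in `M'`
  have hconj : MulAut.conj l • R ≤ M' := by
    have h1 : R ≤ MulAut.conj l⁻¹ • M' := by
      apply le_of_primePow_mem
      intro r hr p k hp hro
      haveI : Fact p.Prime := ⟨hp⟩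
      rw [Subgroup.mem_pointwise_smul_iff_inv_smul_mem]
      simp only [map_inv, inv_inv, MulAut.smul_def, MulAut.conj_apply]
      exact conj_mem_sup R Q hRn hHall hQR p (hPL p hp) hr k hro l
    intro x hx
    obtain ⟨r, hr, rfl⟩ := (Subgroup.mem_smul_pointwise_iff_exists _ _ _).mp hx
    have := h1 hr
    rw [Subgroup.mem_pointwise_smul_iff_inv_smul_mem] at this
    simpa only [map_inv, inv_inv] using this
  -- Hall subgroups of `M'`
  set π : Set ℕ := {p | p ∣ Nat.card R} with hπ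
  have hH1 : Cfsg.IsPiHallOf π R M' := by
    refine ⟨hRM, fun p _ hpd => hpd, ?_⟩
    intro p hp hpπ hdvd
    have h1 : p ∣ R.index := dvd_trans hdvd (Subgroup.relIndex_dvd_index_of_le hRM)
    exact (Nat.Prime.coprime_iff_not_dvd hp).mp (Nat.Coprime.coprime_dvd_left hpπ hHall) h1
  have hH2 : Cfsg.IsPiHallOf π (MulAut.conj l • R) M' :=
    Cfsg.Agent.Helper62.isPiHallOf_of_card_eq hH1 hconj (Cfsg.Agent.Helper1.card_conj_smul R l)
  obtain ⟨u, huM, hu⟩ := Cfsg.Agent.Helper62.isPiHallOf_conj_of_solvable hH2 hH1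
  obtain ⟨c0, hc0, r0, hr0, hcr⟩ := Subgroup.mem_sup_of_normal_left.mp huM
  have hm0 : u * l ∈ Subgroup.normalizer (R : Set Γ) := by
    apply Cfsg.Agent.Helper1.mem_normalizer_of_conj_smul_eq
    rw [map_mul, mul_smul]
    exact hu
  refine ⟨r0⁻¹ * (u * l), mul_mem (Subgroup.le_normalizer (inv_mem hr0)) hm0,
    (u * l)⁻¹ * c0⁻¹ * (u * l), ?_, ?_⟩
  · have hn : (Subgroup.centralizer (Q : Set Γ)).Normal := inferInstance
    have := hn.conj_mem c0⁻¹ (inv_mem hc0) (u * l)⁻¹
    simpa using this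
  · rw [← hcr]; group

end Cfsg.Agent.Helper67.NilHall
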