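import Cfsg.Agent.Helper16.DT.Defs
import Cfsg.Agent.Helper16.Omega

set_option autoImplicit false
set_option linter.unusedSectionVars false
set_option linter.unusedVariables false

namespace Cfsg.Agent.Helper67.DT

open Cfsg Cfsg.Agent.Helper16 Cfsg.Agent.Helper16.DT Polynomial Matrix

universe u v w

section FieldK

variable {K : Type v} [Field K] {G : Type u} [Group G]

/-- Schur's lemma for matrix representations over an algebraically closed field (local copy of the
statement of (SCH), used by (CLS)). -/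
theorem schur_scalar_aux [IsAlgClosed K] {ι : Type w} [Fintype ι] [DecidableEq ι]
    (ρ : G →* Matrix ι ι K) (hρ : IsIrredMat ρ) (Z : Matrix ι ι K)
    (hZ : ∀ g, Z * ρ g = ρ g * Z) : ∃ c : K, Z = c • (1 : Matrix ι ι K) := by
  obtain ⟨hne, hW⟩ := hρ
  have : Nontrivial (ι → K) := inferInstance
  obtain ⟨c, hc⟩ := Module.End.exists_eigenvalue (Matrix.toLin' Z)
  have hWinv : ∀ g, ∀ w ∈ Module.End.eigenspace (Matrix.toLin' Z) c,
      (ρ g).mulVec w ∈ Module.End.eigenspace (Matrix.toLin' Z) c := by
    intro g w hw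
    rw [Module.End.mem_eigenspace_iff] at hw ⊢
    simp only [Matrix.toLin'_apply] at hw ⊢
    rw [Matrix.mulVec_mulVec, hZ, ← Matrix.mulVec_mulVec, hw, Matrix.mulVec_smul]
  rcases hW _ hWinv with h | h
  · exact absurd h hc
  · refine ⟨c, ?_⟩
    apply Matrix.mulVec_injective
    funext v
    have hv : v ∈ Module.End.eigenspace (Matrix.toLin' Z) c := by rw [h]; trivial
    rw [Module.End.mem_eigenspace_iff, Matrix.toLin'_apply] at hv
    show Z *ᵥ v = (c • (1 : Matrix ι ι K)) *ᵥ v
    rw [hv, Matrix.smul_mulVec, Matrix.one_mulVec]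

end FieldK

section Complex

variable {G : Type u} [Group G]

/-- (CLS) class sums act on an irreducible complex matrix representation through the central
character. -/
theorem classSumMat_eq_centralChar [Fintype G] {n : ℕ} (ρ : G →* Matrix (Fin n) (Fin n) ℂ)
    (h : IsIrredMat ρ) (χ : IrrCharacter G) (hχ : ∀ g, (ρ g).trace = (χ : G → ℂ) g) (x : G) :
    classSumMat ρ x = centralChar (χ : G → ℂ) x • (1 : Matrix (Fin n) (Fin n) ℂ) := by
  classical
  have hcs : classSumMat ρ x = ∑ y ∈ Finset.univ.filter (fun y : G => IsConj x y), ρ y := by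
    unfold classSumMat
    congr
  have hcomm : ∀ g, classSumMat ρ x * ρ g = ρ g * classSumMat ρ x := by
    intro g
    rw [hcs, Finset.sum_mul, Finset.mul_sum]
    symm
    refine Finset.sum_bij (fun y _ => g * y * g⁻¹) ?_ ?_ ?_ ?_
    · intro y hy
      simp only [Finset.mem_filter, Finset.mem_univ, true_and] at hy ⊢
      exact hy.trans (isConj_iff.mpr ⟨g, rfl⟩)
    · intro y _ y' _ hyy'
      simpa using hyy'
    · intro y' hy'
      simp only [Finset.mem_filter, Finset.mem_univ, true_and] at hy'
      refine ⟨g⁻¹ * y' * g, ?_, by group⟩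
      simp only [Finset.mem_filter, Finset.mem_univ, true_and]
      exact hy'.trans (isConj_iff.mpr ⟨g⁻¹, by group⟩)
    · intro y _
      rw [← map_mul, ← map_mul]
      congr 1
      group
  obtain ⟨c, hc⟩ := schur_scalar_aux ρ h _ hcomm
  have htr : (classSumMat ρ x).trace = c * n := by
    rw [hc, Matrix.trace_smul, Matrix.trace_one, Fintype.card_fin, smul_eq_mul]
  have htr2 : (classSumMat ρ x).trace =
      ((Subgroup.centralizer ({x} : Set G)).index : ℂ) * (χ : G → ℂ) x := by
    rw [hcs, Matrix.trace_sum]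
    have hconst : ∀ y ∈ Finset.univ.filter (fun y : G => IsConj x y),
        (ρ y).trace = (χ : G → ℂ) x := by
      intro y hy
      simp only [Finset.mem_filter, Finset.mem_univ, true_and] at hy
      obtain ⟨a, ha⟩ := isConj_iff.mp hy
      rw [← ha, map_mul, map_mul, Matrix.trace_mul_comm, ← Matrix.mul_assoc, ← map_mul,
        inv_mul_cancel, map_one, Matrix.one_mul, hχ]
    rw [Finset.sum_congr rfl hconst, Finset.sum_const, nsmul_eq_mul, card_filter_isConj']
  have hn : (χ : G → ℂ) 1 = n := by
    rw [← hχ 1, map_one, Matrix.trace_one, Fintype.card_fin]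
  have hn0 : (n : ℂ) ≠ 0 := by
    obtain ⟨⟨i⟩, _⟩ := h
    exact Nat.cast_ne_zero.mpr (Nat.pos_of_ne_zero (fun h0 => by subst h0; exact i.elim0)).ne'
  rw [hc]
  congr 1
  unfold centralChar
  rw [hn, eq_div_iff hn0, ← htr, htr2]

end Complex

end Cfsg.Agent.Helper67.DT
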