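import Cfsg.Agent.Helper16.DT.Defs
import Cfsg.Agent.Helper74.RealRep
import Cfsg.Agent.Helper80.Irr

set_option autoImplicit false
set_option linter.unusedSectionVars false
set_option linter.unusedVariables false

namespace Cfsg.Agent.Helper67.DT

open Cfsg Cfsg.Agent.Helper16 Cfsg.Agent.Helper16.DT Polynomial Matrix

universe u v w

section Complex

variable {G : Type u} [Group G]

/-- (BRG) the trace of an irreducible complex matrix representation is an irreducible character. -/
theorem isIrrCharacter_of_isIrredMat {n : ℕ} (ρ : G →* Matrix (Fin n) (Fin n) ℂ)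
    (h : IsIrredMat ρ) : IsIrrCharacter G (fun g => (ρ g).trace) := by
  obtain ⟨hne, hW⟩ := h
  refine ⟨n, Helper74.repOfMat (fun g => ρ g) (map_one ρ) (map_mul ρ), ?_, ?_⟩
  · rw [Helper80.isIrreducible_iff]
    refine ⟨inferInstance, fun W hWinv => hW W (fun g w hw => ?_)⟩
    have := hWinv g w hw
    simpa [Helper74.repOfMat] using this
  · funext g
    rw [Helper74.character_eq_trace_repMat, Helper74.repMat_repOfMat]

end Complex

end Cfsg.Agent.Helper67.DT
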