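import Mathlib
import Cfsg.Agent.Helper13.MonoA

/-!
helper67 (for helper13, WANTED #6098 (M2c), S5634): a subgroup of `GL (τ × κ) F` containing the
block-monomial matrices of determinant one and one cross transvection `1 + w χᵀ` contains all
matrices of determinant one.
-/

set_option autoImplicit false
set_option linter.unusedSectionVars false
set_option linter.unusedVariables false

namespace Cfsg.Agent.Helper67.MonoM2c

open Matrix Cfsg.Agent.Helper13.Mono

section general

variable {ι : Type*} [Fintype ι] [DecidableEq ι] {F : Type*} [Field F]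

/-- the commutator rule for `T(v, ψ) = 1 + v ψᵀ` -/
theorem comm_rule (M : Subgroup (GL ι F)) (v ψ v' ψ' : ι → F) (h1 : ψ ⬝ᵥ v = 0)
    (h2 : ψ' ⬝ᵥ v' = 0) (h3 : ψ ⬝ᵥ v' = 0) (hA : MatIn M (1 + vecMulVec v ψ))
    (hB : MatIn M (1 + vecMulVec v' ψ')) :
    MatIn M (1 - (ψ' ⬝ᵥ v) • vecMulVec v' ψ) := by
  set A := vecMulVec v ψ with hAdef
  set B := vecMulVec v' ψ' with hBdef
  have hAA : A * A = 0 := by rw [hAdef, vecMulVec_mul_self, h1, zero_smul]
  have hBB : B * B = 0 := by rw [hBdef, vecMulVec_mul_self, h2, zero_smul]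
  have hAB : A * B = 0 := by
    rw [hAdef, hBdef, vecMulVec_mul_vecMulVec, h3, zero_smul]
    ext i j; simp [vecMulVec_apply]
  have hBA : B * A = (ψ' ⬝ᵥ v) • vecMulVec v' ψ := by
    rw [hAdef, hBdef, vecMulVec_mul_vecMulVec]
    ext i j; simp [vecMulVec_apply]; ring
  have hA' : MatIn M (1 - A) := hA.of_mul_eq_one (by
    have : (1 + A) * (1 - A) = 1 - A * A := by noncomm_ring
    rw [this, hAA, sub_zero])
  have hB' : MatIn M (1 - B) := hB.of_mul_eq_one (by
    have : (1 + B) * (1 - B) = 1 - B * B := by noncomm_ring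
    rw [this, hBB, sub_zero])
  have hprod : (1 + A) * (1 + B) * (1 - A) * (1 - B) = 1 - B * A := by
    have e1 : (1 + A) * (1 + B) = 1 + A + B + A * B := by noncomm_ring
    have e2 : (1 + A + B) * (1 - A) = 1 + B - B * A - A * A := by noncomm_ring
    have e3 : (1 + B - B * A) * (1 - B) = 1 - B * A - B * B + B * (A * B) := by noncomm_ring
    rw [e1, hAB, add_zero, e2, hAA, sub_zero, e3, hBB, hAB, Matrix.mul_zero, sub_zero, add_zero]
  rw [← hBA, ← hprod]
  exact ((hA.mul hB).mul hA').mul hB'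

/-- every transvection `E_{ij}(a)`, `a ∈ F`, lies in `M` -/
def Full (M : Subgroup (GL ι F)) (i j : ι) : Prop := ∀ a : F, MatIn M (transvection i j a)

theorem transvection_eq (i j : ι) (a : F) :
    transvection i j a = 1 + vecMulVec (Pi.single i (1 : F)) (Pi.single j a) := by
  rw [vecMulVec_single_single, transvection]

/-- the elementary commutator rule -/
theorem elem_rule (M : Subgroup (GL ι F)) {i j k : ι} (hij : i ≠ j) (hki : k ≠ i) (hkj : k ≠ j)
    (a a' : F) (h1 : MatIn M (transvection i j a')) (h2 : MatIn M (transvection k i a)) :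
    MatIn M (transvection k j (-(a * a'))) := by
  rw [transvection_eq] at h1 h2
  have h := comm_rule M (Pi.single i 1) (Pi.single j a') (Pi.single k 1) (Pi.single i a)
    (single_dotProduct_single_ne hij a') (single_dotProduct_single_ne hki a)
    (single_dotProduct_single_ne hkj a') h1 h2
  have hs : (Pi.single i a : ι → F) ⬝ᵥ (Pi.single i (1 : F)) = a := by
    rw [single_dotProduct]; simp
  rw [hs, vecMulVec_single_single] at h
  have : (1 : Matrix ι ι F) - a • Matrix.single k j a' = transvection k j (-(a * a')) := by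
    rw [transvection, Matrix.smul_single, smul_eq_mul, sub_eq_add_neg, ← Matrix.single_neg]
  rwa [this] at h

theorem full_trans (M : Subgroup (GL ι F)) {i j k : ι} (hij : i ≠ j) (hki : k ≠ i) (hkj : k ≠ j)
    (h1 : Full M i j) (h2 : Full M k i) : Full M k j := by
  intro a
  have := elem_rule M hij hki hkj (-a) 1 (h1 1) (h2 (-a))
  simpa using this

theorem full_of_one (M : Subgroup (GL ι F)) {i j k : ι} (hij : i ≠ j) (hki : k ≠ i) (hkj : k ≠ j)
    {a₀ : F} (ha₀ : a₀ ≠ 0) (h1 : MatIn M (transvection i j a₀)) (h2 : Full M k i) :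
    Full M k j := by
  intro a
  have := elem_rule M hij hki hkj (-a / a₀) a₀ h1 (h2 (-a / a₀))
  have e : -(-a / a₀ * a₀) = a := by field_simp
  rwa [e] at this

theorem one_sub_smul_vecMulVec_single (p q : ι) (x y : F) :
    (1 : Matrix ι ι F) - y • vecMulVec (Pi.single p x) (Pi.single q (1 : F)) =
      transvection p q (-(y * x)) := by
  have : vecMulVec (Pi.single p x) (Pi.single q (1 : F)) = Matrix.single p q x := by
    ext k l
    rw [vecMulVec_apply, Matrix.single_apply, Pi.single_apply, Pi.single_apply]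
    by_cases hk : k = p
    · by_cases hl : l = q
      · rw [if_pos hk, if_pos hl, if_pos ⟨hk.symm, hl.symm⟩, mul_one]
      · rw [if_neg hl, mul_zero, if_neg (fun e => hl e.2.symm)]
    · rw [if_neg hk, zero_mul, if_neg (fun e => hk e.1.symm)]
  rw [this, transvection, Matrix.smul_single, smul_eq_mul, sub_eq_add_neg, ← Matrix.single_neg]

theorem one_sub_smul_vecMulVec_single' (p : ι) (x y : F) (χ : ι → F) :
    (1 : Matrix ι ι F) - y • vecMulVec (Pi.single p x) χ =
      1 + vecMulVec (Pi.single p (-(y * x))) χ := by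
  ext k l
  rw [Matrix.sub_apply, Matrix.add_apply, Matrix.smul_apply, vecMulVec_apply, vecMulVec_apply,
    Pi.single_apply, Pi.single_apply]
  by_cases hk : k = p
  · rw [if_pos hk, if_pos hk, smul_eq_mul]; ring
  · rw [if_neg hk, if_neg hk, zero_mul, smul_zero, sub_zero, add_zero]

end general

section blocks

variable {τ κ : Type*} [Fintype τ] [DecidableEq τ] [Fintype κ] [DecidableEq κ] {F : Type*} [Field F]

/-- in-block transvections are block-monomial -/
theorem isBlockMono_transvection {i j : τ × κ} (h : i.1 = j.1) (a : F) :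
    IsBlockMono (Prod.fst : τ × κ → τ) (transvection i j a) := by
  refine ⟨1, fun k l hkl => ?_⟩
  rw [transvection, Matrix.add_apply, Matrix.single_apply] at hkl
  by_cases hk : k = l
  · rw [hk]; rfl
  · rw [Matrix.one_apply_ne hk, zero_add] at hkl
    by_cases h2 : i = k ∧ j = l
    · rw [← h2.1, ← h2.2]; exact h
    · rw [if_neg h2] at hkl; exact absurd rfl hkl

theorem full_inblock (M : Subgroup (GL (τ × κ) F))
    (hN : ∀ g : GL (τ × κ) F, IsBlockMono (Prod.fst : τ × κ → τ) (g : Matrix (τ × κ) (τ × κ) F) →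
      (g : Matrix (τ × κ) (τ × κ) F).det = 1 → g ∈ M)
    {i j : τ × κ} (hij : i ≠ j) (h : i.1 = j.1) : Full M i j := by
  intro a
  refine ⟨elGL hij a, hN _ ?_ (det_elGL hij a), elGL_val hij a⟩
  rw [elGL_val]
  exact isBlockMono_transvection h a

/-- transfer of fullness along a block permutation -/
theorem full_perm (M : Subgroup (GL (τ × κ) F))
    (hN : ∀ g : GL (τ × κ) F, IsBlockMono (Prod.fst : τ × κ → τ) (g : Matrix (τ × κ) (τ × κ) F) →
      (g : Matrix (τ × κ) (τ × κ) F).det = 1 → g ∈ M)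
    (ρ : Equiv.Perm τ) {i j : τ × κ} (hij : i ≠ j) (h : Full M i j) :
    Full M (ρ i.1, i.2) (ρ j.1, j.2) := by
  set σ : Equiv.Perm (τ × κ) := Equiv.prodCongr ρ (Equiv.refl κ) with hσ
  have hσi : ∀ p : τ × κ, σ p = (ρ p.1, p.2) := fun p => rfl
  set Q : Matrix (τ × κ) (τ × κ) F := (1 : Matrix (τ × κ) (τ × κ) F).submatrix σ.symm id with hQ
  have hQapp : ∀ k l, Q k l = if k = σ l then 1 else 0 := by
    intro k l
    rw [hQ, Matrix.submatrix_apply, id, Matrix.one_apply]
    by_cases hkl : k = σ l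
    · rw [if_pos hkl, if_pos (by rw [hkl, Equiv.symm_apply_apply])]
    · rw [if_neg hkl, if_neg (fun e => hkl (by rw [← e, Equiv.apply_symm_apply]))]
  have hε : Q.det ≠ 0 := by
    rw [hQ, Matrix.det_permute, Matrix.det_one, mul_one]
    rcases Int.units_eq_one_or (Equiv.Perm.sign σ.symm) with e | e <;> rw [e] <;> simp
  set d : τ × κ → F := fun p => if p = i then (Q.det)⁻¹ else 1 with hd
  have hdne : ∀ p, d p ≠ 0 := by
    intro p
    rw [hd]
    by_cases hp : p = i
    · simp only [if_pos hp]; exact inv_ne_zero hε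
    · simp only [if_neg hp]; exact one_ne_zero
  have hdetD : (Matrix.diagonal d).det = (Q.det)⁻¹ := by
    rw [Matrix.det_diagonal, hd, Finset.prod_ite_eq' Finset.univ i (fun _ => (Q.det)⁻¹)]
    simp
  set G : Matrix (τ × κ) (τ × κ) F := Q * Matrix.diagonal d with hG
  have hGapp : ∀ k l, G k l = if k = σ l then d l else 0 := by
    intro k l
    rw [hG, Matrix.mul_diagonal, hQapp]
    by_cases hkl : k = σ l
    · rw [if_pos hkl, if_pos hkl, one_mul]
    · rw [if_neg hkl, if_neg hkl, zero_mul]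
  have hdetG : G.det = 1 := by
    rw [hG, Matrix.det_mul, hdetD, mul_inv_cancel₀ hε]
  set g : GL (τ × κ) F := Matrix.GeneralLinearGroup.mkOfDetNeZero G (by rw [hdetG]; exact one_ne_zero)
    with hg
  have hgval : (g : Matrix (τ × κ) (τ × κ) F) = G := rfl
  have hgM : g ∈ M := by
    refine hN g ⟨ρ, fun k l hkl => ?_⟩ (by rw [hgval, hdetG])
    rw [hgval, hGapp] at hkl
    by_cases e : k = σ l
    · rw [e, hσi]
    · rw [if_neg e] at hkl; exact absurd rfl hkl
  intro a'
  have hij' : σ i ≠ σ j := fun e => hij (σ.injective e)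
  set a : F := a' * d j / d i with ha
  have key : G * transvection i j a = transvection (σ i) (σ j) a' * G := by
    rw [transvection, transvection, Matrix.mul_add, Matrix.add_mul, Matrix.mul_one, Matrix.one_mul]
    congr 1
    ext k l
    by_cases hl : l = j
    · subst hl
      by_cases hk : k = σ i
      · subst hk
        rw [Matrix.mul_single_apply_same, Matrix.single_mul_apply_same, hGapp, hGapp,
          if_pos rfl, if_pos rfl, ha]
        have := hdne i
        field_simp
      · rw [Matrix.mul_single_apply_same, Matrix.single_mul_apply_of_ne _ _ _ _ _ hk, hGapp,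
          if_neg hk, zero_mul]
    · rw [Matrix.mul_single_apply_of_ne _ _ _ _ _ hl]
      by_cases hk : k = σ i
      · subst hk
        rw [Matrix.single_mul_apply_same, hGapp,
          if_neg (fun e => hl (σ.injective e).symm), mul_zero]
      · rw [Matrix.single_mul_apply_of_ne _ _ _ _ _ hk]
  have hmem : g * elGL hij a * g⁻¹ ∈ M :=
    M.mul_mem (M.mul_mem hgM (MatIn.mem (by rw [elGL_val]; exact h a))) (M.inv_mem hgM)
  refine ⟨g * elGL hij a * g⁻¹, hmem, ?_⟩
  calc ((g * elGL hij a * g⁻¹ : GL (τ × κ) F) : Matrix (τ × κ) (τ × κ) F)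
      = G * transvection i j a * ((g⁻¹ : GL (τ × κ) F) : Matrix (τ × κ) (τ × κ) F) := by
        rw [Units.val_mul, Units.val_mul, hgval, elGL_val]
    _ = transvection (σ i) (σ j) a' *
          ((g : Matrix (τ × κ) (τ × κ) F) * ((g⁻¹ : GL (τ × κ) F) : Matrix (τ × κ) (τ × κ) F)) := by
        rw [key, Matrix.mul_assoc, hgval]
    _ = transvection (σ i) (σ j) a' := by
        rw [← Units.val_mul, mul_inv_cancel, Units.val_one, Matrix.mul_one]

/-- **(M2c)** (exact signature of #6098). -/
theorem m2c (hκ : 2 ≤ Fintype.card κ) (M : Subgroup (GL (τ × κ) F))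
    (hN : ∀ g : GL (τ × κ) F, IsBlockMono (Prod.fst : τ × κ → τ) (g : Matrix (τ × κ) (τ × κ) F) →
      (g : Matrix (τ × κ) (τ × κ) F).det = 1 → g ∈ M)
    (w χ : τ × κ → F) (b c : τ) (hbc : b ≠ c) (hw : ∀ i, w i ≠ 0 → i.1 = b) (hχ : ∀ i, χ i ≠ 0 → i.1 = c)
    (hw0 : w ≠ 0) (hχ0 : χ ≠ 0) (hM : MatIn M (1 + vecMulVec w χ)) :
    ∀ g : GL (τ × κ) F, (g : Matrix (τ × κ) (τ × κ) F).det = 1 → g ∈ M := by
  have hχw : χ ⬝ᵥ w = 0 := by
    rw [dotProduct]
    apply Finset.sum_eq_zero
    intro i _
    by_cases h1 : w i = 0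
    · rw [h1, mul_zero]
    · have : χ i = 0 := by
        by_contra h2
        exact hbc ((hw i h1).symm.trans (hχ i h2))
      rw [this, zero_mul]
  obtain ⟨i, hi⟩ : ∃ i, w i ≠ 0 := by
    by_contra h
    simp only [not_exists, not_not] at h
    exact hw0 (funext h)
  obtain ⟨j, hj⟩ : ∃ j, χ j ≠ 0 := by
    by_contra h
    simp only [not_exists, not_not] at h
    exact hχ0 (funext h)
  have hib := hw i hi
  have hjc := hχ j hj
  obtain ⟨k', hk'⟩ : ∃ k', k' ≠ i.2 := Fintype.exists_ne_of_one_lt_card (by omega) i.2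
  obtain ⟨l', hl'⟩ : ∃ l', l' ≠ j.2 := Fintype.exists_ne_of_one_lt_card (by omega) j.2
  obtain ⟨i', hi'def⟩ : ∃ i' : τ × κ, i' = (b, k') := ⟨_, rfl⟩
  obtain ⟨j', hj'def⟩ : ∃ j' : τ × κ, j' = (c, l') := ⟨_, rfl⟩
  have hi'1 : i'.1 = b := by rw [hi'def]
  have hj'1 : j'.1 = c := by rw [hj'def]
  have hi'i : i' ≠ i := fun e => hk' (by rw [← e, hi'def])
  have hj'j : j' ≠ j := fun e => hl' (by rw [← e, hj'def])
  have hi'j' : i' ≠ j' := fun e => hbc (by rw [← hi'1, ← hj'1, e])
  have hχi' : χ i' = 0 := by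
    by_contra h
    exact hbc (hi'1.symm.trans (hχ i' h))
  -- step 1a : move the centre
  have hE1 : MatIn M (1 + vecMulVec (Pi.single i' (1 : F)) (Pi.single i (1 : F))) := by
    rw [← transvection_eq]
    exact full_inblock M hN hi'i (hi'1.trans hib.symm) 1
  have s1 := comm_rule M w χ (Pi.single i' 1) (Pi.single i 1) hχw
    (single_dotProduct_single_ne hi'i 1)
    (by rw [dotProduct_single, hχi', zero_mul]) hM hE1
  rw [single_dotProduct, one_mul, one_sub_smul_vecMulVec_single'] at s1
  -- step 1b : move the axis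
  have hE2 : MatIn M (1 + vecMulVec (Pi.single j (1 : F)) (Pi.single j' (1 : F))) := by
    rw [← transvection_eq]
    exact full_inblock M hN hj'j.symm (hjc.trans hj'1.symm) 1
  have s2 := comm_rule M (Pi.single j 1) (Pi.single j' 1) (Pi.single i' (-(w i * 1))) χ
    (single_dotProduct_single_ne hj'j.symm 1)
    (by rw [dotProduct_single, hχi', zero_mul])
    (by rw [single_dotProduct, Pi.single_apply, if_neg hi'j'.symm, mul_zero]) hE2 s1
  rw [dotProduct_single, mul_one, one_sub_smul_vecMulVec_single] at s2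
  have ha₀ : -(χ j * -(w i * 1)) ≠ 0 := by
    simp only [mul_one, mul_neg, neg_neg]
    exact mul_ne_zero hj hi
  -- step 2 : all transvections from block `b` to block `c`
  have hinb : ∀ p q : τ × κ, p ≠ q → p.1 = q.1 → Full M p q :=
    fun p q hpq h => full_inblock M hN hpq h
  have hF1 : Full M i j' :=
    full_of_one M hi'j' hi'i.symm (fun e => hbc (by rw [← hib, ← hj'1, e])) ha₀ s2
      (hinb i i' hi'i.symm (hib.trans hi'1.symm))
  have hF2 : Full M i' j' :=
    full_trans M (fun e => hbc (by rw [← hib, ← hj'1, e])) hi'i hi'j' hF1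
      (hinb i' i hi'i (hi'1.trans hib.symm))
  have hF3 : ∀ k : τ × κ, k.1 = b → Full M k j' := by
    intro k hk
    by_cases e : k = i'
    · rw [e]; exact hF2
    · exact full_trans M hi'j' e (fun e' => hbc (by rw [← hk, ← hj'1, e'])) hF2
        (hinb k i' e (hk.trans hi'1.symm))
  have hF4 : ∀ k l : τ × κ, k.1 = b → l.1 = c → Full M k l := by
    intro k l hk hl
    by_cases e : l = j'
    · rw [e]; exact hF3 k hk
    · exact full_trans M (Ne.symm e) (fun e' => hbc (by rw [← hk, ← hj'1, e']))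
        (fun e' => hbc (by rw [← hk, ← hl, e'])) (hinb j' l (Ne.symm e) (hj'1.trans hl.symm))
        (hF3 k hk)
  -- step 3 : all cross transvections
  have hF5 : ∀ p q : τ × κ, p.1 ≠ q.1 → Full M p q := by
    intro p q hpq
    -- a permutation with `ρ b = p.1`, `ρ c = q.1`
    set c₁ : τ := Equiv.swap b p.1 c with hc₁
    have hc₁ne : c₁ ≠ p.1 := by
      intro e
      have : Equiv.swap b p.1 c = Equiv.swap b p.1 b := by rw [← hc₁, e, Equiv.swap_apply_left]
      exact hbc ((Equiv.swap b p.1).injective this).symm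
    set ρ : Equiv.Perm τ := Equiv.swap c₁ q.1 * Equiv.swap b p.1 with hρ
    have hρb : ρ b = p.1 := by
      rw [hρ, Equiv.Perm.mul_apply, Equiv.swap_apply_left,
        Equiv.swap_apply_of_ne_of_ne hc₁ne.symm hpq]
    have hρc : ρ c = q.1 := by
      rw [hρ, Equiv.Perm.mul_apply, ← hc₁, Equiv.swap_apply_left]
    have h0 : Full M (b, p.2) (c, q.2) := hF4 _ _ rfl rfl
    have h1 := full_perm M hN ρ (fun e => hbc (congrArg Prod.fst e)) h0
    simp only [hρb, hρc] at h1
    exact h1
  -- step 4 : conclude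
  have hne : Nontrivial (τ × κ) := by
    have : Nontrivial κ := Fintype.one_lt_card_iff_nontrivial.1 (by omega)
    have : Nonempty τ := ⟨b⟩
    infer_instance
  refine sl_le_of_elem M (fun g hg hdet => ?_) (fun p q hpq a => ?_)
  · obtain ⟨d, hd⟩ := hg
    exact hN g (by rw [hd]; exact isBlockMono_diagonal _ d) hdet
  · by_cases h : p.1 = q.1
    · exact hinb p q hpq h a
    · exact hF5 p q h a

end blocks

end Cfsg.Agent.Helper67.MonoM2c
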