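import Mathlib
import Cfsg.Agent.Helper13.QFEDefs
import Cfsg.Agent.Helper44.OmegaIndex

/-!
# helper67 for helper13 (S5977/S5978): shared lemmas for the pieces (NEG1), (NEG2), (NEG3)

An isometry `X` with `X² = -1` is skew-adjoint; `u ⟂ X u`, `Q (X u) = Q u`; the formula for `reflT`.
-/

set_option autoImplicit false

namespace Cfsg.Agent.Helper67.QFENEGCore

open Matrix QuadraticMap
open Cfsg.Agent.Helper44

variable {F : Type*} [Field F] {ι : Type} [Fintype ι] [DecidableEq ι]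

/-- an isometry preserves the polar form -/
theorem polar_iso (Q : QuadraticForm F (ι → F)) (x : GL ι F) (hx : x ∈ Cfsg.isometryGroup F ⇑Q)
    (v w : ι → F) :
    polar ⇑Q ((x : Matrix ι ι F) *ᵥ v) ((x : Matrix ι ι F) *ᵥ w) = polar ⇑Q v w :=
  Cfsg.Agent.Helper13.polar_mulVec_of_isometry Q _
    ((Cfsg.Agent.Helper13.mem_isometryGroup_iff _ _).mp hx) v w

/-- an isometry preserves the form -/
theorem Q_iso (Q : QuadraticForm F (ι → F)) (x : GL ι F) (hx : x ∈ Cfsg.isometryGroup F ⇑Q)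
    (v : ι → F) : Q ((x : Matrix ι ι F) *ᵥ v) = Q v :=
  (Cfsg.Agent.Helper13.mem_isometryGroup_iff _ _).mp hx v

/-- `X (X v) = -v` -/
theorem mulVec_mulVec_neg {X : Matrix ι ι F} (hX2 : X * X = -1) (v : ι → F) :
    X *ᵥ (X *ᵥ v) = -v := by
  rw [Matrix.mulVec_mulVec, hX2, Matrix.neg_mulVec, Matrix.one_mulVec]

/-- an isometry with `X² = -1` is skew-adjoint -/
theorem polar_skew (Q : QuadraticForm F (ι → F)) (x : GL ι F) (hx : x ∈ Cfsg.isometryGroup F ⇑Q)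
    (hx2 : (x : Matrix ι ι F) * (x : Matrix ι ι F) = -1) (v w : ι → F) :
    polar ⇑Q ((x : Matrix ι ι F) *ᵥ v) w = -polar ⇑Q v ((x : Matrix ι ι F) *ᵥ w) := by
  rw [← polar_iso Q x hx ((x : Matrix ι ι F) *ᵥ v) w, mulVec_mulVec_neg hx2, polar_neg_left]

/-- skew-adjointness, the other way round -/
theorem polar_skew' (Q : QuadraticForm F (ι → F)) (x : GL ι F) (hx : x ∈ Cfsg.isometryGroup F ⇑Q)
    (hx2 : (x : Matrix ι ι F) * (x : Matrix ι ι F) = -1) (v w : ι → F) :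
    polar ⇑Q v ((x : Matrix ι ι F) *ᵥ w) = -polar ⇑Q ((x : Matrix ι ι F) *ᵥ v) w := by
  rw [polar_skew Q x hx hx2, neg_neg]

/-- `u ⟂ X u` -/
theorem polar_self_mulVec (h2 : (2 : F) ≠ 0) (Q : QuadraticForm F (ι → F)) (x : GL ι F)
    (hx : x ∈ Cfsg.isometryGroup F ⇑Q)
    (hx2 : (x : Matrix ι ι F) * (x : Matrix ι ι F) = -1) (u : ι → F) :
    polar ⇑Q u ((x : Matrix ι ι F) *ᵥ u) = 0 := by
  have h1 := polar_skew' Q x hx hx2 u u
  rw [polar_comm ⇑Q ((x : Matrix ι ι F) *ᵥ u) u] at h1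
  have h3 : (2 : F) * polar ⇑Q u ((x : Matrix ι ι F) *ᵥ u) = 0 := by linear_combination h1
  rcases mul_eq_zero.mp h3 with h | h
  · exact absurd h h2
  · exact h

/-- `X u ⟂ u` -/
theorem polar_mulVec_self (h2 : (2 : F) ≠ 0) (Q : QuadraticForm F (ι → F)) (x : GL ι F)
    (hx : x ∈ Cfsg.isometryGroup F ⇑Q)
    (hx2 : (x : Matrix ι ι F) * (x : Matrix ι ι F) = -1) (u : ι → F) :
    polar ⇑Q ((x : Matrix ι ι F) *ᵥ u) u = 0 := by
  rw [polar_comm, polar_self_mulVec h2 Q x hx hx2]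

omit [Fintype ι] [DecidableEq ι] in
/-- `polar u u = 2 Q u` in the form used below -/
theorem polar_self' (Q : QuadraticForm F (ι → F)) (u : ι → F) : polar ⇑Q u u = 2 * Q u := by
  rw [QuadraticMap.polar_self, nsmul_eq_mul]
  norm_num

/-- the formula for the reflection `reflT` -/
theorem reflT_mulVec (Q : QuadraticForm F (ι → F)) (u : ι → F) (hu : Q u ≠ 0) (v : ι → F) :
    (((reflT Q u : Cfsg.isometryGroup F ⇑Q) : GL ι F) : Matrix ι ι F) *ᵥ v =
      v - ((Q u)⁻¹ * polar ⇑Q u v) • u := by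
  rw [reflT_coe Q u hu, Cfsg.Agent.Helper13.reflectionMatrix_mulVec]

/-- `reflT` squares to one, as matrices -/
theorem reflT_mul_self_coe (Q : QuadraticForm F (ι → F)) (u : ι → F) :
    (((reflT Q u : Cfsg.isometryGroup F ⇑Q) : GL ι F) : Matrix ι ι F) *
      (((reflT Q u : Cfsg.isometryGroup F ⇑Q) : GL ι F) : Matrix ι ι F) = 1 := by
  have h := reflT_mul_self Q u
  have h1 := congrArg (fun g : Cfsg.isometryGroup F ⇑Q => ((g : GL ι F) : Matrix ι ι F)) h
  simpa using h1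

end Cfsg.Agent.Helper67.QFENEGCore
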