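import Mathlib
import Cfsg.Agent.Helper13.QFEDefs
import Cfsg.Agent.Helper13.SymmForm
import Cfsg.Agent.Helper37.OddCard
import Cfsg.Agent.Helper44.OmegaIndex
import Cfsg.Agent.Helper67.QFENEGCore

/-!
# helper67 for helper13 (S5977/S5978): piece (NEG1) `exists_tdata_anticommute`

For an isometry `X` with `X² = -1` of a nondegenerate symmetric bilinear space (`2 ≠ 0`) and
`δ = s² + t²` there is a self-adjoint `θ` with `θ² = δ` anticommuting with `X`: split off the plane
`⟨u, X u⟩` of a nonsingular vector `u` and induct on the dimension.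
-/

set_option autoImplicit false

namespace Cfsg.Agent.Helper67.QFENEG1

open Matrix Cfsg Cfsg.Geo QuadraticMap Polynomial
open Cfsg.Agent.Helper44 Cfsg.Agent.Helper44.QType Cfsg.Agent.Helper13.QFE
open Cfsg.Agent.Helper67.QFENEGCore

universe u

section Abs

variable {F : Type u} [Field F]

/-- the abstract statement, by induction on the dimension -/
theorem exists_theta_abs (h2 : (2 : F) ≠ 0) {δ s t : F} (hst : s * s + t * t = δ) :
    ∀ (n : ℕ) (V : Type u) [AddCommGroup V] [Module F V] [FiniteDimensional F V],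
      Module.finrank F V = n →
      ∀ (B : LinearMap.BilinForm F V) (X : V →ₗ[F] V), (∀ v w, B v w = B w v) →
        (∀ v, (∀ w, B v w = 0) → v = 0) → (∀ v, X (X v) = -v) →
        (∀ v w, B (X v) (X w) = B v w) →
        ∃ θ : V →ₗ[F] V, (∀ v, θ (θ v) = δ • v) ∧ (∀ v w, B (θ v) w = B v (θ w)) ∧
          (∀ v, X (θ v) = -θ (X v)) ∧
          ((∃ v : V, v ≠ 0) → ∃ u : V, B u u ≠ 0 ∧ θ u = s • u + t • X u) := by
  intro n
  induction n using Nat.strong_induction_on with
  | _ n ih =>
  intro V _ _ _ hn B X hsymm hnd hXX hXiso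
  by_cases hex : ∃ u, B u u ≠ 0
  swap
  · -- the form vanishes, so the space is trivial
    push Not at hex
    have hB0 : ∀ v w, B v w = 0 := by
      intro v w
      have h1 := hex (v + w)
      simp only [map_add, LinearMap.add_apply, hex v, hex w, hsymm w v] at h1
      have h3 : (2 : F) * B v w = 0 := by linear_combination h1
      rcases mul_eq_zero.mp h3 with h | h
      · exact absurd h h2
      · exact h
    have hV : ∀ v : V, v = 0 := fun v => hnd v (hB0 v)
    refine ⟨0, ?_, ?_, ?_, ?_⟩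
    · intro v
      rw [hV v]
      simp
    · intro v w
      simp
    · intro v
      simp
    · rintro ⟨v, hv⟩
      exact absurd (hV v) hv
  obtain ⟨u, hu⟩ := hex
  have hskew : ∀ v w, B (X v) w = -B v (X w) := by
    intro v w
    rw [← hXiso (X v) w, hXX, map_neg, LinearMap.neg_apply]
  set e : V := X u with he
  set β : F := B u u with hβ
  have hue : B u e = 0 := by
    have h1 := hskew u u
    rw [hsymm (X u) u] at h1
    have h3 : (2 : F) * B u (X u) = 0 := by linear_combination h1
    rcases mul_eq_zero.mp h3 with h | h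
    · exact absurd h h2
    · exact h
  have heu : B e u = 0 := by rw [hsymm, hue]
  have hee : B e e = β := hXiso u u
  have hXe : X e = -u := hXX u
  -- the orthogonal complement of the plane
  set W : Submodule F V := LinearMap.ker (B u) ⊓ LinearMap.ker (B e) with hW
  have hmemW : ∀ w, w ∈ W ↔ B u w = 0 ∧ B e w = 0 := by
    intro w
    rw [hW, Submodule.mem_inf, LinearMap.mem_ker, LinearMap.mem_ker]
  set pr : V →ₗ[F] V := LinearMap.id - (β⁻¹ • B u).smulRight u - (β⁻¹ • B e).smulRight e with hpr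
  have hprv : ∀ v, pr v = v - (β⁻¹ * B u v) • u - (β⁻¹ * B e v) • e := by
    intro v
    simp [hpr]
  have hprW : ∀ v, pr v ∈ W := by
    intro v
    rw [hmemW, hprv]
    constructor
    · simp only [map_sub, map_smul, smul_eq_mul, hue]
      rw [← hβ]
      field_simp
      ring
    · simp only [map_sub, map_smul, smul_eq_mul, heu, hee]
      field_simp
      ring
  set prW : V →ₗ[F] W := pr.codRestrict W hprW with hprWdef
  have hprWv : ∀ v, ((prW v : W) : V) = pr v := fun v => rfl
  have hdecomp : ∀ v, v = (β⁻¹ * B u v) • u + (β⁻¹ * B e v) • e + pr v := by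
    intro v
    rw [hprv]
    abel
  have hXW : ∀ w ∈ W, X w ∈ W := by
    intro w hw
    rw [hmemW] at hw ⊢
    constructor
    · have h1 := hskew u w
      rw [← he, hw.2] at h1
      linear_combination h1
    · rw [he, hXiso]
      exact hw.1
  set XW : W →ₗ[F] W := X.restrict hXW with hXWdef
  have hXWv : ∀ w : W, ((XW w : W) : V) = X w := fun w => rfl
  set BW : LinearMap.BilinForm F W := B.restrict W with hBWdef
  have hBW : ∀ a b : W, BW a b = B a b := fun a b => rfl
  have hWu : ∀ w : W, B u w = 0 := fun w => ((hmemW w).mp w.2).1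
  have hWe : ∀ w : W, B e w = 0 := fun w => ((hmemW w).mp w.2).2
  have hWu' : ∀ w : W, B w u = 0 := fun w => by rw [hsymm, hWu]
  have hWe' : ∀ w : W, B w e = 0 := fun w => by rw [hsymm, hWe]
  -- `B w v = B w (pr v)` for `w ∈ W`
  have hBWpr : ∀ (w : W) (v : V), B w v = B w (pr v) := by
    intro w v
    conv_lhs => rw [hdecomp v]
    rw [map_add, map_add, map_smul, map_smul, hWu', hWe']
    simp
  have hltW : Module.finrank F W < n := by
    rw [← hn]
    apply Submodule.finrank_lt
    intro htop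
    have hu' : u ∈ W := by rw [htop]; exact Submodule.mem_top
    exact hu ((hmemW u).mp hu').1
  obtain ⟨θW, hθW1, hθW2, hθW3, -⟩ := ih (Module.finrank F W) hltW W rfl BW XW
    (fun a b => by rw [hBW, hBW, hsymm])
    (by
      intro w hw
      apply Subtype.ext
      apply hnd
      intro v
      rw [hBWpr w v]
      exact hw (prW v))
    (by
      intro w
      apply Subtype.ext
      rw [hXWv, hXWv, hXX]
      rfl)
    (by
      intro a b
      rw [hBW, hBW, hXWv, hXWv, hXiso])
  -- the glued map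
  set θ : V →ₗ[F] V := (β⁻¹ • B u).smulRight (s • u + t • e) +
    (β⁻¹ • B e).smulRight (t • u - s • e) + W.subtype ∘ₗ θW ∘ₗ prW with hθdef
  have hθ : ∀ v, θ v = (β⁻¹ * B u v) • (s • u + t • e) + (β⁻¹ * B e v) • (t • u - s • e) +
      ((θW (prW v) : W) : V) := by
    intro v
    simp [hθdef]
  have hββ : β⁻¹ * β = 1 := inv_mul_cancel₀ hu
  have hBuθ : ∀ v, β⁻¹ * B u (θ v) = s * (β⁻¹ * B u v) + t * (β⁻¹ * B e v) := by
    intro v
    rw [hθ]
    simp only [map_add, map_sub, map_smul, smul_eq_mul, hue, hWu]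
    rw [← hβ]
    linear_combination (s * (β⁻¹ * B u v) + t * (β⁻¹ * B e v)) * hββ
  have hBeθ : ∀ v, β⁻¹ * B e (θ v) = t * (β⁻¹ * B u v) - s * (β⁻¹ * B e v) := by
    intro v
    rw [hθ]
    simp only [map_add, map_sub, map_smul, smul_eq_mul, heu, hee, hWe]
    linear_combination (t * (β⁻¹ * B u v) - s * (β⁻¹ * B e v)) * hββ
  have hprθ : ∀ v, prW (θ v) = θW (prW v) := by
    intro v
    apply Subtype.ext
    rw [hprWv, hprv, hBuθ, hBeθ, hθ]
    module
  have hprX : ∀ v, prW (X v) = XW (prW v) := by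
    intro v
    apply Subtype.ext
    rw [hprWv, hXWv, hprWv, hprv, hprv]
    have h1 : B u (X v) = -B e v := by
      have := hskew u v
      rw [← he] at this
      linear_combination this
    have h3 : B e (X v) = B u v := by rw [he, hXiso]
    rw [h1, h3, map_sub, map_sub, map_smul, map_smul, hXe, ← he]
    module
  refine ⟨θ, ?_, ?_, ?_, ?_⟩
  · intro v
    have e1 : θ (θ v) = (β⁻¹ * B u (θ v)) • (s • u + t • e) +
        (β⁻¹ * B e (θ v)) • (t • u - s • e) + ((θW (prW (θ v)) : W) : V) := hθ (θ v)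
    rw [e1, hBuθ, hBeθ, hprθ, hθW1]
    conv_rhs => rw [hdecomp v]
    rw [← hprWv v, Submodule.coe_smul, ← hst]
    module
  · intro v w
    have e1 : B ((θW (prW v) : W) : V) w = B (pr v) ((θW (prW w) : W) : V) := by
      rw [hBWpr, ← hprWv w, ← hBW, hθW2, hBW, hprWv]
    have e2 : B v ((θW (prW w) : W) : V) = B (pr v) ((θW (prW w) : W) : V) := by
      rw [hsymm, hBWpr, hsymm]
    rw [hθ v, hθ w]
    simp only [map_add, map_sub, map_smul, LinearMap.add_apply, LinearMap.sub_apply,
      LinearMap.smul_apply, smul_eq_mul]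
    rw [e1, e2, hsymm v u, hsymm v e]
    ring
  · intro v
    have e1 : θ (X v) = (β⁻¹ * B u (X v)) • (s • u + t • e) +
        (β⁻¹ * B e (X v)) • (t • u - s • e) + ((θW (prW (X v)) : W) : V) := hθ (X v)
    have h1 : B u (X v) = -B e v := by
      have := hskew u v
      rw [← he] at this
      linear_combination this
    have h3 : B e (X v) = B u v := by rw [he, hXiso]
    have h4 : ((θW (XW (prW v)) : W) : V) = -X ((θW (prW v) : W) : V) := by
      have h5 := hθW3 (prW v)
      have h6 := congrArg (fun w : W => (w : V)) h5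
      simp only [hXWv, Submodule.coe_neg] at h6
      rw [h6, neg_neg]
    rw [e1, h1, h3, hprX, h4, hθ v]
    simp only [map_add, map_sub, map_smul, hXe, ← he]
    module
  · intro _
    refine ⟨u, hu, ?_⟩
    have h0 : prW u = 0 := by
      apply Subtype.ext
      rw [hprWv, hprv, heu, ← hβ, hββ]
      simp
    rw [hθ, h0, map_zero, heu, ← hβ, hββ, ← he]
    simp

end Abs

variable {F : Type u} [Field F] {ι : Type} [Fintype ι] [DecidableEq ι]

/-- (NEG1) -/
theorem exists_tdata_anticommute [Fintype F] (hodd : Odd (Fintype.card F))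
    (Q : QuadraticForm F (ι → F)) (hQ : (polarBilin Q).Nondegenerate) (x : GL ι F)
    (hx : x ∈ Cfsg.isometryGroup F ⇑Q)
    (hx2 : (x : Matrix ι ι F) * (x : Matrix ι ι F) = -1) {δ : F} (hδ : ¬ IsSquare δ)
    (hne : Nonempty ι) :
    ∃ (θ' : Matrix ι ι F) (u : ι → F), TData Q θ' δ ∧
      (x : Matrix ι ι F) * θ' = -(θ' * (x : Matrix ι ι F)) ∧ Q u ≠ 0 ∧
      ∃ a b : F, θ' *ᵥ u = a • u + b • ((x : Matrix ι ι F) *ᵥ u) := by
  have h2 : (2 : F) ≠ 0 := Cfsg.Agent.Helper37.two_ne_zero_of_odd_card hodd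
  have hδ0 : δ ≠ 0 := by
    rintro rfl
    exact hδ ⟨0, by simp⟩
  obtain ⟨s, t, hst⟩ := Cfsg.Agent.Helper13.exists_binary_eq_one h2 (inv_ne_zero hδ0)
    (inv_ne_zero hδ0)
  have hN : s * s + t * t = δ := by
    field_simp at hst
    linear_combination hst
  set X : Matrix ι ι F := (x : Matrix ι ι F) with hX
  obtain ⟨θ, h1, h3, h4, h5⟩ := exists_theta_abs h2 hN (Module.finrank F (ι → F)) (ι → F) rfl
    (polarBilin Q) X.mulVecLin
    (fun v w => by rw [polarBilin_apply_apply, polarBilin_apply_apply, polar_comm])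
    (fun v hv => hQ.1 v hv)
    (fun v => by
      rw [Matrix.mulVecLin_apply, Matrix.mulVecLin_apply]
      exact mulVec_mulVec_neg hx2 v)
    (fun v w => by
      rw [polarBilin_apply_apply, polarBilin_apply_apply, Matrix.mulVecLin_apply,
        Matrix.mulVecLin_apply]
      exact polar_iso Q x hx v w)
  obtain ⟨i⟩ := hne
  obtain ⟨u, hu, hθu⟩ := h5 ⟨Pi.single i 1, by
    intro h
    have := congrFun h i
    simp at this⟩
  refine ⟨LinearMap.toMatrix' θ, u, ⟨hδ, ?_, ?_⟩, ?_, ?_, s, t, ?_⟩
  · rw [Matrix.ext_iff_mulVec]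
    intro v
    rw [← Matrix.mulVec_mulVec, LinearMap.toMatrix'_mulVec, LinearMap.toMatrix'_mulVec, h1,
      Matrix.smul_mulVec, Matrix.one_mulVec]
  · intro v w
    rw [LinearMap.toMatrix'_mulVec, LinearMap.toMatrix'_mulVec]
    have := h3 v w
    simpa [polarBilin_apply_apply] using this
  · rw [Matrix.ext_iff_mulVec]
    intro v
    rw [← Matrix.mulVec_mulVec, Matrix.neg_mulVec, ← Matrix.mulVec_mulVec,
      LinearMap.toMatrix'_mulVec, LinearMap.toMatrix'_mulVec]
    have := h4 v
    simpa [Matrix.mulVecLin_apply] using this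
  · intro h0
    apply hu
    rw [polarBilin_apply_apply, polar_self' Q u, h0, mul_zero]
  · rw [LinearMap.toMatrix'_mulVec, hθu, Matrix.mulVecLin_apply]

end Cfsg.Agent.Helper67.QFENEG1
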