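import Mathlib
import Cfsg.Agent.Helper13.QFEDefs
import Cfsg.Agent.Helper44.OmegaIndex
import Cfsg.Agent.Helper67.QFENEGCore

/-!
# helper67 for helper13 (S5977/S5978): piece (NEG2) `anticommute_refl_conj`
-/

set_option autoImplicit false

namespace Cfsg.Agent.Helper67.QFENEG2

open Matrix Cfsg Cfsg.Geo QuadraticMap Polynomial
open Cfsg.Agent.Helper44 Cfsg.Agent.Helper44.QType Cfsg.Agent.Helper13.QFE
open Cfsg.Agent.Helper67.QFENEGCore

universe u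

variable {F : Type u} [Field F] {ι : Type} [Fintype ι] [DecidableEq ι]

/-- (NEG2) -/
theorem anticommute_refl_conj (h2 : (2 : F) ≠ 0) (Q : QuadraticForm F (ι → F))
    (hQ : (polarBilin Q).Nondegenerate) (x : GL ι F) (hx : x ∈ Cfsg.isometryGroup F ⇑Q)
    (hx2 : (x : Matrix ι ι F) * (x : Matrix ι ι F) = -1) {θ' : Matrix ι ι F} {δ : F}
    (hθ' : TData Q θ' δ) (hanti : (x : Matrix ι ι F) * θ' = -(θ' * (x : Matrix ι ι F)))
    (u : ι → F) (hu : Q u ≠ 0)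
    (hP : ∃ a b : F, θ' *ᵥ u = a • u + b • ((x : Matrix ι ι F) *ᵥ u)) :
    TData Q (((reflT Q u : GL ι F) : Matrix ι ι F) * θ' * ((reflT Q u : GL ι F) : Matrix ι ι F)) δ ∧
      (x : Matrix ι ι F) *
          (((reflT Q u : GL ι F) : Matrix ι ι F) * θ' * ((reflT Q u : GL ι F) : Matrix ι ι F)) =
        -((((reflT Q u : GL ι F) : Matrix ι ι F) * θ' * ((reflT Q u : GL ι F) : Matrix ι ι F)) *
          (x : Matrix ι ι F)) := by
  obtain ⟨a, b, hab⟩ := hP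
  set X : Matrix ι ι F := (x : Matrix ι ι F) with hX
  set R : Matrix ι ι F := ((reflT Q u : GL ι F) : Matrix ι ι F) with hR
  have hRR : R * R = 1 := reflT_mul_self_coe Q u
  have hRv : ∀ v, R *ᵥ v = v - ((Q u)⁻¹ * polar ⇑Q u v) • u := reflT_mulVec Q u hu
  have hRiso : ∀ v w, polar ⇑Q (R *ᵥ v) (R *ᵥ w) = polar ⇑Q v w :=
    polar_iso Q (reflT Q u : GL ι F) (reflT Q u).2
  have hRadj : ∀ v w, polar ⇑Q (R *ᵥ v) w = polar ⇑Q v (R *ᵥ w) := by
    intro v w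
    rw [← hRiso v (R *ᵥ w), Matrix.mulVec_mulVec, hRR, Matrix.one_mulVec]
  have hXX : ∀ v, X *ᵥ (X *ᵥ v) = -v := mulVec_mulVec_neg hx2
  have hXθ : ∀ v, X *ᵥ (θ' *ᵥ v) = -(θ' *ᵥ (X *ᵥ v)) := by
    intro v
    rw [Matrix.mulVec_mulVec, hanti, Matrix.neg_mulVec, Matrix.mulVec_mulVec]
  have huXu : polar ⇑Q u (X *ᵥ u) = 0 := polar_self_mulVec h2 Q x hx hx2 u
  have huu : polar ⇑Q u u = 2 * Q u := polar_self' Q u
  -- the formula for the conjugate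
  have hT : ∀ v, (R * θ' * R) *ᵥ v =
      θ' *ᵥ v - (b * ((Q u)⁻¹ * polar ⇑Q u v)) • (X *ᵥ u) -
        (b * ((Q u)⁻¹ * polar ⇑Q (X *ᵥ u) v)) • u := by
    intro v
    have e1 : polar ⇑Q u (θ' *ᵥ v) = a * polar ⇑Q u v + b * polar ⇑Q (X *ᵥ u) v := by
      rw [← hθ'.sa u v, hab, polar_add_left, polar_smul_left, polar_smul_left, smul_eq_mul,
        smul_eq_mul]
    rw [← Matrix.mulVec_mulVec, ← Matrix.mulVec_mulVec, hRv v, Matrix.mulVec_sub,
      Matrix.mulVec_smul, hab, hRv, polar_sub_right, polar_smul_right, polar_add_right,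
      polar_smul_right, polar_smul_right, huXu, huu, e1]
    simp only [smul_eq_mul]
    have hne : Q u ≠ 0 := hu
    have c1 : (Q u)⁻¹ * (a * polar ⇑Q u v + b * polar ⇑Q (X *ᵥ u) v -
        (Q u)⁻¹ * polar ⇑Q u v * (a * (2 * Q u) + b * 0)) =
        b * ((Q u)⁻¹ * polar ⇑Q (X *ᵥ u) v) - a * ((Q u)⁻¹ * polar ⇑Q u v) := by
      field_simp
      ring
    rw [c1]
    module
  refine ⟨⟨hθ'.nsq, ?_, ?_⟩, ?_⟩
  · calc R * θ' * R * (R * θ' * R) = R * θ' * (R * R) * θ' * R := by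
          simp only [Matrix.mul_assoc]
      _ = R * (θ' * θ') * R := by rw [hRR, Matrix.mul_one]; simp only [Matrix.mul_assoc]
      _ = δ • (1 : Matrix ι ι F) := by
          rw [hθ'.sq, Matrix.mul_smul, Matrix.smul_mul, Matrix.mul_one, hRR]
  · intro v w
    rw [← Matrix.mulVec_mulVec, ← Matrix.mulVec_mulVec, ← Matrix.mulVec_mulVec,
      ← Matrix.mulVec_mulVec, hRadj, hθ'.sa, hRadj]
  · rw [Matrix.ext_iff_mulVec]
    intro v
    have e1 : (X * (R * θ' * R)) *ᵥ v = X *ᵥ ((R * θ' * R) *ᵥ v) :=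
      (Matrix.mulVec_mulVec _ _ _).symm
    have e2 : (R * θ' * R * X) *ᵥ v = (R * θ' * R) *ᵥ (X *ᵥ v) :=
      (Matrix.mulVec_mulVec _ _ _).symm
    rw [e1, Matrix.neg_mulVec, e2, hT, hT,
      Matrix.mulVec_sub, Matrix.mulVec_sub, Matrix.mulVec_smul, Matrix.mulVec_smul, hXX, hXθ,
      polar_skew' Q x hx hx2 u v, polar_iso Q x hx u v]
    module
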