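import Mathlib
import Cfsg.Agent.Helper13.QFEDefs
import Cfsg.Agent.Helper13.SymmForm
import Cfsg.Agent.Helper37.OddCard
import Cfsg.Agent.Helper44.OmegaIndex
import Cfsg.Agent.Helper67.QFENEGCore

/-!
# helper67 for helper13 (S5977/S5978): piece (NEG3) `exists_commuting_rotation`
-/

set_option autoImplicit false

namespace Cfsg.Agent.Helper67.QFENEG3

open Matrix Cfsg Cfsg.Geo QuadraticMap Polynomial
open Cfsg.Agent.Helper44 Cfsg.Agent.Helper44.QType Cfsg.Agent.Helper13.QFE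
open Cfsg.Agent.Helper67.QFENEGCore

universe u

variable {F : Type u} [Field F] {ι : Type} [Fintype ι] [DecidableEq ι]

/-- (NEG3) -/
theorem exists_commuting_rotation [Fintype F] (hodd : Odd (Fintype.card F))
    (Q : QuadraticForm F (ι → F)) (hQ : (polarBilin Q).Nondegenerate) (x : GL ι F)
    (hx : x ∈ Cfsg.isometryGroup F ⇑Q)
    (hx2 : (x : Matrix ι ι F) * (x : Matrix ι ι F) = -1) (u : ι → F) (hu : Q u ≠ 0) {c₀ : F}
    (hc₀ : ¬ IsSquare c₀) :
    ∃ t : ↥(Cfsg.isometryGroup F ⇑Q), (t : GL ι F) * x = x * (t : GL ι F) ∧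
      omegaChar Q c₀ t = (1, -1) := by
  have h2 : (2 : F) ≠ 0 := Cfsg.Agent.Helper37.two_ne_zero_of_odd_card hodd
  have hc0 : c₀ ≠ 0 := by
    rintro rfl
    exact hc₀ ⟨0, by simp⟩
  obtain ⟨s, t, hst⟩ := Cfsg.Agent.Helper13.exists_binary_eq_one h2 (inv_ne_zero hc0)
    (inv_ne_zero hc0)
  have hN : s * s + t * t = c₀ := by
    field_simp at hst
    linear_combination hst
  set X : Matrix ι ι F := (x : Matrix ι ι F) with hX
  have hXX : ∀ v, X *ᵥ (X *ᵥ v) = -v := mulVec_mulVec_neg hx2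
  have huXu : polar ⇑Q u (X *ᵥ u) = 0 := polar_self_mulVec h2 Q x hx hx2 u
  have hXuu : polar ⇑Q (X *ᵥ u) u = 0 := polar_mulVec_self h2 Q x hx hx2 u
  have huu : polar ⇑Q u u = 2 * Q u := polar_self' Q u
  have hQX : Q (X *ᵥ u) = Q u := Q_iso Q x hx u
  set v : ι → F := s • u + t • (X *ᵥ u) with hv
  have hQv : Q v = c₀ * Q u := by
    rw [hv, QuadraticMap.map_add ⇑Q, QuadraticMap.map_smul, QuadraticMap.map_smul, polar_smul_left,
      polar_smul_right, huXu, hQX, ← hN]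
    simp only [smul_eq_mul]
    ring
  have hv0 : Q v ≠ 0 := by
    rw [hQv]
    exact mul_ne_zero hc0 hu
  set Ru : Matrix ι ι F := ((reflT Q u : GL ι F) : Matrix ι ι F) with hRu
  set Rv : Matrix ι ι F := ((reflT Q v : GL ι F) : Matrix ι ι F) with hRv
  have hRuv : ∀ z, Ru *ᵥ z = z - ((Q u)⁻¹ * polar ⇑Q u z) • u := reflT_mulVec Q u hu
  have hRvv : ∀ z, Rv *ᵥ z = z - ((Q v)⁻¹ * polar ⇑Q v z) • v := reflT_mulVec Q v hv0
  set k : F := (c₀ * Q u)⁻¹ with hk
  have hα : (Q u)⁻¹ = (s * s + t * t) * k := by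
    rw [hN, hk]
    field_simp
  -- the formula for the rotation
  have hT : ∀ z, (Rv * Ru) *ᵥ z = z - ((s * s + t * t) * k * polar ⇑Q u z) • u -
      (k * (t * polar ⇑Q (X *ᵥ u) z - s * polar ⇑Q u z)) • (s • u + t • (X *ᵥ u)) := by
    intro z
    have e1 : polar ⇑Q v (z - ((Q u)⁻¹ * polar ⇑Q u z) • u) =
        t * polar ⇑Q (X *ᵥ u) z - s * polar ⇑Q u z := by
      rw [hv, polar_add_left, polar_smul_left, polar_smul_left, polar_sub_right, polar_sub_right,
        polar_smul_right, polar_smul_right, huu, hXuu]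
      simp only [smul_eq_mul]
      field_simp
      ring
    rw [← Matrix.mulVec_mulVec, hRuv, hRvv, e1, hQv, ← hk, hα]
  refine ⟨reflT Q v * reflT Q u, ?_, ?_⟩
  · apply Units.ext
    rw [Units.val_mul, Units.val_mul, Subgroup.coe_mul, Units.val_mul]
    show Rv * Ru * X = X * (Rv * Ru)
    rw [Matrix.ext_iff_mulVec]
    intro y
    have e1 : (Rv * Ru * X) *ᵥ y = (Rv * Ru) *ᵥ (X *ᵥ y) := (Matrix.mulVec_mulVec _ _ _).symm
    have e2 : (X * (Rv * Ru)) *ᵥ y = X *ᵥ ((Rv * Ru) *ᵥ y) := (Matrix.mulVec_mulVec _ _ _).symm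
    rw [e1, e2, hT, hT, polar_skew' Q x hx hx2 u y, polar_iso Q x hx u y, Matrix.mulVec_sub,
      Matrix.mulVec_sub, Matrix.mulVec_smul, Matrix.mulVec_smul, Matrix.mulVec_add,
      Matrix.mulVec_smul, Matrix.mulVec_smul, hXX]
    module
  · have hp : parityChar Q c₀ (reflT Q v * reflT Q u) = 1 := by
      rw [map_mul, parityChar_reflT Q h2 hc₀ v hv0, parityChar_reflT Q h2 hc₀ u hu]
      rfl
    have hsq : IsSquare (Q v) ↔ ¬ IsSquare (Q u) := by
      rw [hQv, isSquare_mul_iff hc0 hu]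
      tauto
    have hs : signChar ⇑Q c₀ (reflT Q v * reflT Q u) = -1 := by
      rw [map_mul]
      obtain ⟨hu1, hu2⟩ := signChar_reflT Q h2 hc₀ u hu
      obtain ⟨hv1, hv2⟩ := signChar_reflT Q h2 hc₀ v hv0
      by_cases hsu : IsSquare (Q u)
      · rw [hu1 hsu, hv2 (fun h => (hsq.mp h) hsu)]
        rfl
      · rw [hu2 hsu, hv1 (hsq.mpr hsu)]
        rfl
    rw [omegaChar, MonoidHom.prod_apply, hp, hs]
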