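import Mathlib

/-!
# (U1) for S2314: counting fixed cosets of the elements satisfying a class-invariant predicate

(helper67 for helper19, piece (U1) of board post #4661.)
-/

set_option autoImplicit false

namespace Cfsg.Agent.Helper67.UnipU1

/-- `g` fixes the coset `xΔ` iff `x⁻¹ g x ∈ Δ`. -/
theorem smul_mk_eq_iff {Γ : Type*} [Group Γ] (Δ : Subgroup Γ) (g x : Γ) :
    g • (x : Γ ⧸ Δ) = (x : Γ ⧸ Δ) ↔ x⁻¹ * g * x ∈ Δ := by
  rw [MulAction.Quotient.smul_mk, QuotientGroup.eq, smul_eq_mul]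
  constructor
  · intro h
    have h2 := Δ.inv_mem h
    have e : ((g * x)⁻¹ * x)⁻¹ = x⁻¹ * g * x := by group
    rwa [e] at h2
  · intro h
    have h2 := Δ.inv_mem h
    have e : (x⁻¹ * g * x)⁻¹ = (g * x)⁻¹ * x := by group
    rwa [e] at h2

/-- The elements with property `Q` fixing the coset `xΔ` correspond to the elements of `Δ` with
property `Q`. -/
noncomputable def fixEquiv {Γ : Type*} [Group Γ] (Δ : Subgroup Γ) (Q : Γ → Prop)
    (hQ : ∀ g x : Γ, Q (x * g * x⁻¹) ↔ Q g) (x : Γ) :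
    {g : Γ // Q g ∧ g • (x : Γ ⧸ Δ) = (x : Γ ⧸ Δ)} ≃ {d : Δ // Q (d : Γ)} where
  toFun g := ⟨⟨x⁻¹ * g.1 * x, (smul_mk_eq_iff Δ g.1 x).mp g.2.2⟩, by
    have h := hQ g.1 x⁻¹
    rw [inv_inv] at h
    exact h.mpr g.2.1⟩
  invFun d := ⟨x * (d.1 : Γ) * x⁻¹, (hQ _ x).mpr d.2, by
    rw [smul_mk_eq_iff]
    have e : x⁻¹ * (x * (d.1 : Γ) * x⁻¹) * x = (d.1 : Γ) := by group
    rw [e]
    exact d.1.2⟩
  left_inv g := by
    apply Subtype.ext
    show x * (x⁻¹ * g.1 * x) * x⁻¹ = g.1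
    group
  right_inv d := by
    apply Subtype.ext
    apply Subtype.ext
    show x⁻¹ * (x * (d.1 : Γ) * x⁻¹) * x = (d.1 : Γ)
    group

open Classical in
theorem sum_fixedBy_pred {Γ : Type*} [Group Γ] [Fintype Γ] (Δ : Subgroup Γ) (Q : Γ → Prop)
    (hQ : ∀ g x : Γ, Q (x * g * x⁻¹) ↔ Q g) :
    ∑ g : Γ, (if Q g then (Nat.card (MulAction.fixedBy (Γ ⧸ Δ) g) : ℂ) else 0) =
      (Δ.index : ℂ) * (Nat.card {d : Δ // Q (d : Γ)} : ℂ) := by
  classical
  have : Fintype (Γ ⧸ Δ) := Fintype.ofFinite _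
  -- the number of fixed cosets as a sum of indicators
  have h1 : ∀ g : Γ, (Nat.card (MulAction.fixedBy (Γ ⧸ Δ) g) : ℂ) =
      ∑ y : Γ ⧸ Δ, if g • y = y then (1 : ℂ) else 0 := by
    intro g
    have e : Nat.card (MulAction.fixedBy (Γ ⧸ Δ) g) =
        (Finset.univ.filter (fun y : Γ ⧸ Δ => g • y = y)).card := by
      rw [Nat.card_eq_fintype_card]
      exact Fintype.card_subtype _
    rw [e, Finset.sum_boole]
  have h2 : ∑ g : Γ, (if Q g then (Nat.card (MulAction.fixedBy (Γ ⧸ Δ) g) : ℂ) else 0) =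
      ∑ g : Γ, ∑ y : Γ ⧸ Δ, if (Q g ∧ g • y = y) then (1 : ℂ) else 0 := by
    apply Finset.sum_congr rfl
    intro g _
    by_cases hg : Q g
    · rw [if_pos hg, h1]
      apply Finset.sum_congr rfl
      intro y _
      by_cases hy : g • y = y
      · rw [if_pos hy, if_pos ⟨hg, hy⟩]
      · rw [if_neg hy, if_neg (fun h => hy h.2)]
    · rw [if_neg hg]
      symm
      apply Finset.sum_eq_zero
      intro y _
      rw [if_neg (fun h => hg h.1)]
  -- for each coset, count the elements fixing it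
  have h3 : ∀ y : Γ ⧸ Δ, (∑ g : Γ, if (Q g ∧ g • y = y) then (1 : ℂ) else 0) =
      (Nat.card {d : Δ // Q (d : Γ)} : ℂ) := by
    intro y
    obtain ⟨x, rfl⟩ := QuotientGroup.mk_surjective y
    rw [Finset.sum_boole]
    have e : (Finset.univ.filter (fun g : Γ => Q g ∧ g • (x : Γ ⧸ Δ) = (x : Γ ⧸ Δ))).card =
        Nat.card {g : Γ // Q g ∧ g • (x : Γ ⧸ Δ) = (x : Γ ⧸ Δ)} := by
      rw [Nat.card_eq_fintype_card]
      exact (Fintype.card_subtype _).symm
    rw [e, Nat.card_congr (fixEquiv Δ Q hQ x)]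
  rw [h2, Finset.sum_comm, Finset.sum_congr rfl (fun y _ => h3 y), Finset.sum_const, Finset.card_univ,
    nsmul_eq_mul, Subgroup.index_eq_card, Nat.card_eq_fintype_card (α := Γ ⧸ Δ)]

end Cfsg.Agent.Helper67.UnipU1
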