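/-
helper67 (for helper86, WANTED #3930 (OR-7)): conjugation-stability of `O^{p'}(A)·A₀` and `O^p(A)·A₀`.
-/
import Mathlib
import Cfsg.Prelude.Def_Transfer

set_option autoImplicit false
open Cfsg

namespace Cfsg.Agent.Helper67.OliverFN

/-- the subgroup of `A` generated by the elements whose order satisfies `Pr` is stable under every
conjugation stabilising `A` -/
theorem conj_mem_gen {M : Type*} [Group M] (Pr : ℕ → Prop) (A : Subgroup M) (γ : M)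
    (hA : ∀ a, a ∈ A → γ * a * γ⁻¹ ∈ A) {b : M}
    (hb : b ∈ (Subgroup.closure {α : ↥A | Pr (orderOf α)}).map A.subtype) :
    γ * b * γ⁻¹ ∈ (Subgroup.closure {α : ↥A | Pr (orderOf α)}).map A.subtype := by
  rw [MonoidHom.map_closure] at hb ⊢
  induction hb using Subgroup.closure_induction with
  | mem x hx =>
    obtain ⟨α, hα, rfl⟩ := hx
    apply Subgroup.subset_closure
    refine ⟨⟨γ * α * γ⁻¹, hA _ α.2⟩, ?_, rfl⟩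
    show Pr (orderOf _)
    rw [Subgroup.orderOf_mk]
    have h1 : orderOf (γ * (α : M) * γ⁻¹) = orderOf (α : M) := (MulAut.conj γ).orderOf_eq (α : M)
    rw [h1, Subgroup.orderOf_coe]
    exact hα
  | one => simp
  | mul x y _ _ hx hy =>
    have : γ * (x * y) * γ⁻¹ = (γ * x * γ⁻¹) * (γ * y * γ⁻¹) := by group
    rw [this]
    exact mul_mem hx hy
  | inv x _ hx =>
    have : γ * x⁻¹ * γ⁻¹ = (γ * x * γ⁻¹)⁻¹ := by group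
    rw [this]
    exact inv_mem hx

theorem conj_mem_sup_of {M : Type*} [Group M] (B A₀ : Subgroup M) (γ : M)
    (hB : ∀ b, b ∈ B → γ * b * γ⁻¹ ∈ B) (hA₀ : ∀ a, a ∈ A₀ → γ * a * γ⁻¹ ∈ A₀) {x : M}
    (hx : x ∈ B ⊔ A₀) : γ * x * γ⁻¹ ∈ B ⊔ A₀ := by
  have h1 : (MulAut.conj γ).toMonoidHom x ∈ (B ⊔ A₀).map (MulAut.conj γ).toMonoidHom :=
    Subgroup.mem_map_of_mem _ hx
  rw [Subgroup.map_sup] at h1
  have hB' : B.map (MulAut.conj γ).toMonoidHom ≤ B := by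
    rintro _ ⟨b, hb, rfl⟩
    exact hB b hb
  have hA' : A₀.map (MulAut.conj γ).toMonoidHom ≤ A₀ := by
    rintro _ ⟨b, hb, rfl⟩
    exact hA₀ b hb
  exact (sup_le_sup hB' hA') h1

theorem conj_mem_gen_sup_iff {M : Type*} [Group M] (Pr : ℕ → Prop) (A A₀ : Subgroup M) (γ : M)
    (hA : ∀ a, γ * a * γ⁻¹ ∈ A ↔ a ∈ A) (hA₀ : ∀ a, γ * a * γ⁻¹ ∈ A₀ ↔ a ∈ A₀) (a : M) :
    γ * a * γ⁻¹ ∈ (Subgroup.closure {α : ↥A | Pr (orderOf α)}).map A.subtype ⊔ A₀ ↔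
      a ∈ (Subgroup.closure {α : ↥A | Pr (orderOf α)}).map A.subtype ⊔ A₀ := by
  have hinv : ∀ (X : Subgroup M), (∀ a, γ * a * γ⁻¹ ∈ X ↔ a ∈ X) → ∀ a, a ∈ X → γ⁻¹ * a * γ⁻¹⁻¹ ∈ X := by
    intro X hX a ha
    rw [← hX]
    have : γ * (γ⁻¹ * a * γ⁻¹⁻¹) * γ⁻¹ = a := by group
    rw [this]
    exact ha
  constructor
  · intro h
    have h1 := conj_mem_sup_of _ A₀ γ⁻¹ (fun b hb => conj_mem_gen Pr A γ⁻¹ (hinv A hA) hb) (hinv A₀ hA₀) h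
    have : γ⁻¹ * (γ * a * γ⁻¹) * γ⁻¹⁻¹ = a := by group
    rwa [this] at h1
  · intro h
    exact conj_mem_sup_of _ A₀ γ (fun b hb => conj_mem_gen Pr A γ (fun a ha => (hA a).2 ha) hb)
      (fun a ha => (hA₀ a).2 ha) h

theorem conj_mem_sup_iff {M : Type*} [Group M] (p : ℕ) (A A₀ : Subgroup M) (γ : M)
    (hA : ∀ a, γ * a * γ⁻¹ ∈ A ↔ a ∈ A) (hA₀ : ∀ a, γ * a * γ⁻¹ ∈ A₀ ↔ a ∈ A₀) (a : M) :
    (γ * a * γ⁻¹ ∈ (Subgroup.closure {α : ↥A | ∃ k : ℕ, orderOf α = p ^ k}).map A.subtype ⊔ A₀ ↔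
      a ∈ (Subgroup.closure {α : ↥A | ∃ k : ℕ, orderOf α = p ^ k}).map A.subtype ⊔ A₀) ∧
    (γ * a * γ⁻¹ ∈ (pResidual p ↥A).map A.subtype ⊔ A₀ ↔ a ∈ (pResidual p ↥A).map A.subtype ⊔ A₀) :=
  ⟨conj_mem_gen_sup_iff (fun n => ∃ k : ℕ, n = p ^ k) A A₀ γ hA hA₀ a,
    conj_mem_gen_sup_iff (fun n => Nat.Coprime n p) A A₀ γ hA hA₀ a⟩

end Cfsg.Agent.Helper67.OliverFN
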