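import Mathlib

set_option autoImplicit false

namespace Cfsg.Agent.Helper67

variable {G : Type*} [Group G]

/-- If `g` inverts `x`, then `g ^ 2` commutes with `x`. -/
theorem commute_sq_of_inverts {g x : G} (h : g * x * g⁻¹ = x⁻¹) : Commute (g ^ 2) x := by
  have h2 : g * x⁻¹ * g⁻¹ = x := by
    have := congrArg (fun y => y⁻¹) h
    simpa [mul_assoc] using this
  show g ^ 2 * x = x * g ^ 2
  rw [pow_two]
  have : (g * g) * x * (g * g)⁻¹ = x := by
    calc (g * g) * x * (g * g)⁻¹ = g * (g * x * g⁻¹) * g⁻¹ := by group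
      _ = g * x⁻¹ * g⁻¹ := by rw [h]
      _ = x := h2
  calc (g * g) * x = (g * g) * x * (g * g)⁻¹ * (g * g) := by group
    _ = x * (g * g) := by rw [this]

/-- If `g` inverts `x`, then so does every odd power of `g`. -/
theorem inverts_pow_of_odd {g x : G} (h : g * x * g⁻¹ = x⁻¹) {m : ℕ} (hm : Odd m) :
    g ^ m * x * (g ^ m)⁻¹ = x⁻¹ := by
  obtain ⟨i, rfl⟩ := hm
  have hc : Commute ((g ^ 2) ^ i) x⁻¹ := ((commute_sq_of_inverts h).pow_left i).inv_right
  have e : g ^ (2 * i + 1) = (g ^ 2) ^ i * g := by rw [pow_succ, pow_mul]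
  calc g ^ (2 * i + 1) * x * (g ^ (2 * i + 1))⁻¹
      = (g ^ 2) ^ i * (g * x * g⁻¹) * ((g ^ 2) ^ i)⁻¹ := by rw [e]; group
    _ = (g ^ 2) ^ i * x⁻¹ * ((g ^ 2) ^ i)⁻¹ := by rw [h]
    _ = x⁻¹ := by rw [hc.eq, mul_assoc, mul_inv_cancel, mul_one]

/-- If some element inverts `x` (in a torsion setting), then some `2`-element, a power of it,
inverts `x`. -/
theorem exists_two_elt_inverting {g x : G} (hg : IsOfFinOrder g) (h : g * x * g⁻¹ = x⁻¹) :
    ∃ t : G, t ∈ Subgroup.zpowers g ∧ (∃ k : ℕ, orderOf t = 2 ^ k) ∧ t * x * t⁻¹ = x⁻¹ := by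
  have hpos : orderOf g ≠ 0 := (orderOf_pos_iff.2 hg).ne'
  obtain ⟨k, m, hm, hkm⟩ := Nat.exists_eq_two_pow_mul_odd hpos
  refine ⟨g ^ m, Subgroup.npow_mem_zpowers g m, ⟨k, ?_⟩, inverts_pow_of_odd h hm⟩
  rw [orderOf_pow' g hm.pos.ne', hkm, Nat.gcd_eq_right (Dvd.intro_left _ rfl),
    Nat.mul_div_cancel _ hm.pos]

/-- A `p`-element normalizing a Sylow `p`-subgroup lies in it. -/
theorem mem_sylow_of_mem_normalizer {p : ℕ} [Fact p.Prime] (S : Sylow p G) {t : G}
    (ht : ∃ k : ℕ, orderOf t = p ^ k) (hn : t ∈ Subgroup.normalizer ((S : Subgroup G) : Set G)) :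
    t ∈ S := by
  obtain ⟨k, hk⟩ := ht
  have hZ : IsPGroup p (Subgroup.zpowers t) := by
    apply IsPGroup.of_card (n := k)
    rw [Nat.card_zpowers, hk]
  have hle : Subgroup.zpowers t ≤ Subgroup.normalizer ((S : Subgroup G) : Set G) := by
    rwa [Subgroup.zpowers_le]
  have hsup : IsPGroup p (Subgroup.zpowers t ⊔ (S : Subgroup G) : Subgroup G) :=
    hZ.to_sup_of_normal_right' S.isPGroup' hle
  have := S.is_maximal' hsup le_sup_right
  have h2 : Subgroup.zpowers t ≤ (S : Subgroup G) := by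
    rw [← this]; exact le_sup_left
  exact h2 (Subgroup.mem_zpowers t)

/-- A real element centralizing a Sylow `2`-subgroup of a finite group has square one. -/
theorem sq_eq_one_of_real_of_mem_centralizer_sylow [Finite G] (S : Sylow 2 G) {x : G}
    (hx : x ∈ Subgroup.centralizer ((S : Subgroup G) : Set G)) (hreal : IsConj x x⁻¹) :
    x ^ 2 = 1 := by
  obtain ⟨c, hc⟩ := isConj_iff.1 hreal
  -- Burnside's fusion lemma: the inverting element can be taken in the normalizer.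
  have hy : (c⁻¹)⁻¹ * x * c⁻¹ ∈ Subgroup.centralizer ((S : Subgroup G) : Set G) := by
    rw [inv_inv, hc]; exact Subgroup.inv_mem _ hx
  obtain ⟨n, hn, hnx⟩ := Sylow.conj_eq_normalizer_conj_of_mem_centralizer S x c⁻¹ hx hy
  rw [inv_inv, hc] at hnx
  -- so n⁻¹ inverts x and normalizes S
  have hinv : n⁻¹ * x * (n⁻¹)⁻¹ = x⁻¹ := by rw [inv_inv]; exact hnx.symm
  obtain ⟨t, htz, ht2, htx⟩ := exists_two_elt_inverting (isOfFinOrder_of_finite n⁻¹) hinv
  have htn : t ∈ Subgroup.normalizer ((S : Subgroup G) : Set G) := by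
    have : Subgroup.zpowers n⁻¹ ≤ Subgroup.normalizer ((S : Subgroup G) : Set G) := by
      rw [Subgroup.zpowers_le]; exact Subgroup.inv_mem _ hn
    exact this htz
  have htS : t ∈ S := mem_sylow_of_mem_normalizer S ht2 htn
  have hcomm : t * x = x * t := hx t htS
  have : x⁻¹ = x := by
    rw [← htx, hcomm, mul_assoc, mul_inv_cancel, mul_one]
  calc x ^ 2 = x * x := pow_two x
    _ = x⁻¹ * x := by rw [this]
    _ = 1 := inv_mul_cancel x

end Cfsg.Agent.Helper67
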