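import Mathlib
import Cfsg.Agent.Helper67.Basic

set_option autoImplicit false

namespace Cfsg.Agent.Helper67

open scoped Pointwise

variable {G : Type*} [Group G]

/-- In a finite group, `g` normalizes `⟨x⟩` as soon as `g x g⁻¹ ∈ ⟨x⟩`. -/
theorem mem_normalizer_zpowers_iff [Finite G] {g x : G} :
    g ∈ Subgroup.normalizer ((Subgroup.zpowers x : Subgroup G) : Set G) ↔
      g * x * g⁻¹ ∈ Subgroup.zpowers x := by
  constructor
  · intro hg
    exact (Subgroup.mem_normalizer_iff.1 hg x).1 (Subgroup.mem_zpowers x)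
  · intro h
    -- conjugation by g maps ⟨x⟩ into itself, hence onto itself
    have hmap : (Subgroup.zpowers x).map (MulAut.conj g).toMonoidHom = Subgroup.zpowers x := by
      apply Subgroup.eq_of_le_of_card_ge
      · rw [MonoidHom.map_zpowers, Subgroup.zpowers_le]
        simpa using h
      · rw [Nat.card_congr ((Subgroup.zpowers x).equivMapOfInjective _
          (MulAut.conj g).injective).symm.toEquiv]
    rw [Subgroup.mem_normalizer_iff]
    intro h'
    constructor
    · intro hh
      rw [← hmap]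
      exact ⟨h', hh, by simp⟩
    · intro hh
      rw [← hmap] at hh
      obtain ⟨z, hz, hz'⟩ := hh
      have : z = h' := by
        have := (MulAut.conj g).injective (a₁ := z) (a₂ := h') (by simpa using hz')
        exact this
      exact this ▸ hz

/-- The totient of a power of two is a power of two. -/
theorem totient_two_pow (k : ℕ) : ∃ j : ℕ, Nat.totient (2 ^ k) = 2 ^ j := by
  rcases Nat.eq_zero_or_pos k with rfl | hk
  · exact ⟨0, by simp⟩
  · exact ⟨k - 1, by rw [Nat.totient_prime_pow Nat.prime_two hk]; simp⟩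

/-- If `x` has `2`-power order and `g` normalizes `⟨x⟩` and some odd power of `g` centralizes `x`,
then `g` centralizes `x`. -/
theorem commute_of_odd_pow_commute [Finite G] {x g : G} {k : ℕ} (hx : orderOf x = 2 ^ k)
    (hn : g ∈ Subgroup.normalizer ((Subgroup.zpowers x : Subgroup G) : Set G))
    {m : ℕ} (hm : Odd m) (hc : Commute (g ^ m) x) : Commute g x := by
  set H := Subgroup.zpowers x with hH
  let φ := H.normalizerMonoidHom
  let g' : Subgroup.normalizer (H : Set G) := ⟨g, hn⟩
  -- φ g' has order dividing a power of two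
  obtain ⟨j, hj⟩ := totient_two_pow k
  have hcard : Nat.card (MulAut H) = 2 ^ j := by
    have : IsCyclic H := by rw [hH]; infer_instance
    rw [IsCyclic.card_mulAut, Nat.card_zpowers, hx, hj]
  have h1 : orderOf (φ g') ∣ 2 ^ j := hcard ▸ orderOf_dvd_natCard (φ g')
  -- φ g' ^ m = 1
  have hker : g' ^ m ∈ φ.ker := by
    rw [Subgroup.normalizerMonoidHom_ker, Subgroup.mem_subgroupOf, Subgroup.mem_centralizer_iff]
    intro h hh
    obtain ⟨i, rfl⟩ := Subgroup.mem_zpowers_iff.1 hh
    exact ((hc.zpow_right i).eq).symm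
  have h2 : orderOf (φ g') ∣ m := by
    apply orderOf_dvd_of_pow_eq_one
    rw [← map_pow]; exact hker
  have hcop : Nat.Coprime (2 ^ j) m := Nat.Coprime.pow_left j (Nat.coprime_two_left.2 hm)
  have h3 : orderOf (φ g') = 1 := Nat.eq_one_of_dvd_coprimes hcop h1 h2
  have h4 : g' ∈ φ.ker := orderOf_eq_one_iff.1 h3
  rw [Subgroup.normalizerMonoidHom_ker, Subgroup.mem_subgroupOf, Subgroup.mem_centralizer_iff] at h4
  exact (h4 x (Subgroup.mem_zpowers x)).symm

/-- A `p`-subgroup is conjugate into any given Sylow `p`-subgroup. -/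
theorem exists_conj_mem_sylow [Finite G] {p : ℕ} [Fact p.Prime] (P : Sylow p G) {T : Subgroup G}
    (hT : IsPGroup p T) : ∃ c : G, ∀ t ∈ T, c * t * c⁻¹ ∈ P := by
  obtain ⟨Q, hQ⟩ := hT.exists_le_sylow
  obtain ⟨c, hc⟩ := MulAction.exists_smul_eq G Q P
  refine ⟨c, fun t ht => ?_⟩
  have h1 : MulAut.conj c • t ∈ MulAut.conj c • (Q : Subgroup G) :=
    Subgroup.smul_mem_pointwise_smul _ _ _ (hQ ht)
  rw [← Sylow.coe_subgroup_smul, hc] at h1
  have h2 : c * t * c⁻¹ ∈ (P : Subgroup G) := by simpa [MulAut.smul_def] using h1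
  exact h2

end Cfsg.Agent.Helper67
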