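import Cfsg.Agent.Helper57.BP.PartI

/-!
# S4705 (helper16), piece (P26) exists_nat_of_rat
-/

set_option autoImplicit false

namespace Cfsg.Agent.Helper67.B66

open Cfsg Cfsg.Agent.Helper16 Cfsg.Agent.Helper16.DefOne Cfsg.Agent.Helper82.DefOne
  Cfsg.Agent.Helper77.DefOne Cfsg.Agent.Helper57.BH Cfsg.Agent.Helper57.BP
open scoped ComplexConjugate

universe u

variable {G : Type u} [Group G] [Fintype G] {p : ℕ} [Fact p.Prime] (P : Sylow p G)

/-- (P26) a nonnegative rational value of an irreducible character is a natural number -/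
theorem exists_nat_of_rat (χ : IrrCharacter G) (g : G) (q : ℚ) (hq : 0 ≤ q)
    (h : (χ : G → ℂ) g = (q : ℂ)) : ∃ n : ℕ, (χ : G → ℂ) g = (n : ℂ) := by
  have hint : IsIntegral ℤ ((χ : G → ℂ) g) := Cfsg.Agent.Helper78.isIntegral_irrChar_apply χ.2 g
  rw [h] at hint
  have hint2 : IsIntegral ℤ q := by
    have h1 : IsIntegral ℤ (algebraMap ℚ ℂ q) := hint
    exact (isIntegral_algebraMap_iff (algebraMap ℚ ℂ).injective).1 h1
  obtain ⟨y, hy⟩ := IsIntegrallyClosed.isIntegral_iff.1 hint2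
  have hy' : (y : ℚ) = q := hy
  have hy0 : 0 ≤ y := by
    have : (0 : ℚ) ≤ (y : ℚ) := hy' ▸ hq
    exact_mod_cast this
  obtain ⟨n, hn⟩ := Int.eq_ofNat_of_zero_le hy0
  refine ⟨n, ?_⟩
  rw [h, ← hy', hn]
  push_cast
  rfl

end Cfsg.Agent.Helper67.B66
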