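import Cfsg.Agent.Helper57.BP.PartI

/-!
# S4705 (helper16), piece (P28) commutator_sup_center
-/

set_option autoImplicit false

namespace Cfsg.Agent.Helper67.B66

open Cfsg Cfsg.Agent.Helper16 Cfsg.Agent.Helper16.DefOne Cfsg.Agent.Helper82.DefOne
  Cfsg.Agent.Helper77.DefOne Cfsg.Agent.Helper57.BH Cfsg.Agent.Helper57.BP
open scoped ComplexConjugate

universe u

variable {G : Type u} [Group G] [Fintype G] {p : ℕ} [Fact p.Prime] (P : Sylow p G)

/-- (P28) if the only linear character trivial on the centre is the trivial one, `G = G' Z(G)` -/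
theorem commutator_sup_center
    (h : ∀ lam : IrrCharacter G, charDegree (lam : G → ℂ) = 1 → lam ∈ overOne G →
      lam = oneIrrG G) :
    commutator G ⊔ Subgroup.center G = ⊤ := by
  classical
  by_contra hne
  set H : Subgroup G := commutator G ⊔ Subgroup.center G with hH
  have hHn : H.Normal := by rw [hH]; infer_instance
  obtain ⟨g, hg⟩ : ∃ g : G, g ∉ H := by
    by_contra hcon
    push Not at hcon
    exact hne (eq_top_iff.2 fun x _ => hcon x)
  have hcomm : commutator G ≤ H := le_sup_left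
  have hcen : Subgroup.center G ≤ H := le_sup_right
  have hab : IsMulCommutative (G ⧸ H) :=
    Subgroup.Normal.quotient_commutative_iff_commutator_le.2 hcomm
  let _ : CommGroup (G ⧸ H) :=
    { (inferInstance : Group (G ⧸ H)) with mul_comm := fun a b => hab.is_comm.comm a b }
  have hgne : (QuotientGroup.mk g : G ⧸ H) ≠ 1 := by
    intro h1
    exact hg ((QuotientGroup.eq_one_iff g).1 h1)
  obtain ⟨φ, hφ⟩ := CommGroup.exists_apply_ne_one_of_hasEnoughRootsOfUnity (G ⧸ H) ℂ hgne
  set μ : G →* ℂˣ := φ.comp (QuotientGroup.mk' H) with hμ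
  have hμH : ∀ x ∈ H, μ x = 1 := by
    intro x hx
    have : (QuotientGroup.mk' H) x = 1 := (QuotientGroup.eq_one_iff x).2 hx
    rw [hμ, MonoidHom.comp_apply, this, map_one]
  set lam : IrrCharacter G :=
    ⟨fun x => ((μ x : ℂˣ) : ℂ), Cfsg.Agent.Helper80.isIrrCharacter_of_monoidHom μ⟩ with hlam
  have hlam_apply : ∀ x : G, (lam : G → ℂ) x = ((μ x : ℂˣ) : ℂ) := fun _ => rfl
  have hdeg : charDegree (lam : G → ℂ) = 1 := by
    unfold charDegree
    rw [hlam_apply, map_one]
    simp
  have h1 := h lam hdeg (by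
    intro ζ hζ
    rw [hlam_apply, hlam_apply, hμH ζ (hcen hζ), map_one])
  have h2 : (lam : G → ℂ) g = ((oneIrrG G : IrrCharacter G) : G → ℂ) g := by
    rw [h1]
  rw [hlam_apply] at h2
  have h3 : ((oneIrrG G : IrrCharacter G) : G → ℂ) g = 1 := rfl
  rw [h3] at h2
  apply hφ
  have h4 : μ g = 1 := Units.ext h2
  exact h4

end Cfsg.Agent.Helper67.B66
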