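import Cfsg.Agent.Helper57.BP.PartI

/-!
# S4705 (helper16), piece (P30) nonempty_mulEquiv_prod
-/

set_option autoImplicit false

namespace Cfsg.Agent.Helper67.B66

open Cfsg Cfsg.Agent.Helper16 Cfsg.Agent.Helper16.DefOne Cfsg.Agent.Helper82.DefOne
  Cfsg.Agent.Helper77.DefOne Cfsg.Agent.Helper57.BH Cfsg.Agent.Helper57.BP
open scoped ComplexConjugate

universe u

variable {G : Type u} [Group G] [Fintype G] {p : ℕ} [Fact p.Prime] (P : Sylow p G)

/-- (P30) a normal complement of the centre splits `G` -/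
theorem nonempty_mulEquiv_prod (H : Subgroup G) [H.Normal]
    (hsup : H ⊔ Subgroup.center G = ⊤) (hinf : H ⊓ Subgroup.center G = ⊥) :
    Nonempty (G ≃* (G ⧸ Subgroup.center G) × Subgroup.center G) := by
  have hdecomp : ∀ g : G, ∃ a ∈ H, ∃ z ∈ Subgroup.center G, a * z = g := by
    intro g
    have hg : g ∈ ((H ⊔ Subgroup.center G : Subgroup G) : Set G) := by
      rw [hsup]; exact Set.mem_univ g
    rw [Subgroup.mul_normal] at hg
    obtain ⟨a, ha, z, hz, rfl⟩ := Set.mem_mul.1 hg
    exact ⟨a, ha, z, hz, rfl⟩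
  let φ : H × Subgroup.center G →* G :=
    { toFun := fun a => (a.1 : G) * (a.2 : G)
      map_one' := by simp
      map_mul' := by
        rintro ⟨a, z⟩ ⟨b, w⟩
        have hz : (z : G) * (b : G) = (b : G) * (z : G) :=
          (Subgroup.mem_center_iff.1 z.2 (b : G)).symm
        simp only [Prod.mk_mul_mk, Subgroup.coe_mul]
        calc (a : G) * (b : G) * ((z : G) * (w : G))
            = (a : G) * ((b : G) * (z : G)) * (w : G) := by group
          _ = (a : G) * (z : G) * ((b : G) * (w : G)) := by rw [← hz]; group }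
  have hφinj : Function.Injective φ := by
    rw [injective_iff_map_eq_one]
    rintro ⟨a, z⟩ haz
    have h1 : (a : G) * (z : G) = 1 := haz
    have h2 : (a : G) = (z : G)⁻¹ := eq_inv_of_mul_eq_one_left h1
    have h3 : (a : G) ∈ H ⊓ Subgroup.center G :=
      ⟨a.2, h2 ▸ Subgroup.inv_mem _ z.2⟩
    rw [hinf, Subgroup.mem_bot] at h3
    have h4 : (z : G) = 1 := by rw [h3, one_mul] at h1; exact h1
    ext
    · exact h3
    · exact h4
  have hφsurj : Function.Surjective φ := by
    intro g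
    obtain ⟨a, ha, z, hz, rfl⟩ := hdecomp g
    exact ⟨(⟨a, ha⟩, ⟨z, hz⟩), rfl⟩
  let e1 : H × Subgroup.center G ≃* G := MulEquiv.ofBijective φ ⟨hφinj, hφsurj⟩
  let ψ : H →* G ⧸ Subgroup.center G := (QuotientGroup.mk' (Subgroup.center G)).comp H.subtype
  have hψinj : Function.Injective ψ := by
    rw [injective_iff_map_eq_one]
    intro a ha
    have h1 : ((a : G) : G ⧸ Subgroup.center G) = 1 := ha
    rw [QuotientGroup.eq_one_iff] at h1
    have h3 : (a : G) ∈ H ⊓ Subgroup.center G := ⟨a.2, h1⟩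
    rw [hinf, Subgroup.mem_bot] at h3
    exact Subtype.ext h3
  have hψsurj : Function.Surjective ψ := by
    intro q
    obtain ⟨g, rfl⟩ := QuotientGroup.mk_surjective q
    obtain ⟨a, ha, z, hz, rfl⟩ := hdecomp g
    refine ⟨⟨a, ha⟩, ?_⟩
    show ((a : G) : G ⧸ Subgroup.center G) = ((a * z : G) : G ⧸ Subgroup.center G)
    rw [QuotientGroup.eq]
    simpa using hz
  let e2 : H ≃* G ⧸ Subgroup.center G := MulEquiv.ofBijective ψ ⟨hψinj, hψsurj⟩
  exact ⟨e1.symm.trans (MulEquiv.prodCongr e2 (MulEquiv.refl _))⟩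

end Cfsg.Agent.Helper67.B66
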