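import Mathlib

/-!
# (U2) for S2314: Moebius inversion over the subsets of a finite set

(helper67 for helper19, piece (U2) of board post #4661.)
-/

set_option autoImplicit false

namespace Cfsg.Agent.Helper67.UnipU2

open Finset

/-- The alternating sum of `(-1)^|J|` over an interval `[I, K]` of finite sets. -/
theorem sum_Icc_neg_one_pow {ι : Type*} [DecidableEq ι] {I K : Finset ι} (hIK : I ⊆ K) :
    ∑ J ∈ Finset.Icc I K, (-1 : ℂ) ^ J.card = if I = K then (-1 : ℂ) ^ I.card else 0 := by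
  rw [Finset.Icc_eq_image_powerset hIK, Finset.sum_image]
  · have h1 : ∀ L ∈ (K \ I).powerset, (-1 : ℂ) ^ (I ∪ L).card = (-1 : ℂ) ^ I.card * (-1 : ℂ) ^ L.card := by
      intro L hL
      rw [Finset.mem_powerset] at hL
      have hdisj : Disjoint I L := by
        rw [Finset.disjoint_left]
        intro a haI haL
        exact (Finset.mem_sdiff.mp (hL haL)).2 haI
      rw [Finset.card_union_of_disjoint hdisj, pow_add]
    rw [Finset.sum_congr rfl h1, ← Finset.mul_sum]
    have h2 : ∑ L ∈ (K \ I).powerset, (-1 : ℂ) ^ L.card = if K \ I = ∅ then 1 else 0 := by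
      have h3 := Finset.sum_powerset_neg_one_pow_card (x := K \ I)
      have h4 : ∑ L ∈ (K \ I).powerset, (-1 : ℂ) ^ L.card =
          ((∑ L ∈ (K \ I).powerset, (-1 : ℤ) ^ L.card : ℤ) : ℂ) := by
        push_cast
        rfl
      rw [h4, h3]
      split_ifs <;> simp
    rw [h2]
    by_cases hIKeq : I = K
    · rw [if_pos hIKeq, if_pos (by rw [hIKeq]; exact Finset.sdiff_self K), mul_one]
    · rw [if_neg hIKeq, if_neg, mul_zero]
      intro h
      apply hIKeq
      exact Finset.Subset.antisymm hIK (Finset.sdiff_eq_empty_iff_subset.mp h)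
  · intro L hL L' hL' hLL'
    have hL1 : L ⊆ K \ I := Finset.mem_powerset.mp hL
    have hL2 : L' ⊆ K \ I := Finset.mem_powerset.mp hL'
    have hd1 : Disjoint I L := by
      rw [Finset.disjoint_left]
      intro a haI haL
      exact (Finset.mem_sdiff.mp (hL1 haL)).2 haI
    have hd2 : Disjoint I L' := by
      rw [Finset.disjoint_left]
      intro a haI haL
      exact (Finset.mem_sdiff.mp (hL2 haL)).2 haI
    have e1 : (I ∪ L) \ I = L := Finset.union_sdiff_cancel_left hd1
    have e2 : (I ∪ L') \ I = L' := Finset.union_sdiff_cancel_left hd2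
    have hLL'' : I ∪ L = I ∪ L' := hLL'
    rw [← e1, ← e2, hLL'']

theorem moebius_powerset {ι : Type*} [DecidableEq ι] (f g : Finset ι → ℂ)
    (h : ∀ K : Finset ι, ∑ J ∈ K.powerset, (-1 : ℂ) ^ J.card * f J = g K) (K : Finset ι) :
    f K = ∑ J ∈ K.powerset, (-1 : ℂ) ^ J.card * g J := by
  have h1 : ∑ J ∈ K.powerset, (-1 : ℂ) ^ J.card * g J =
      ∑ J ∈ K.powerset, ∑ I ∈ J.powerset, (-1 : ℂ) ^ J.card * ((-1 : ℂ) ^ I.card * f I) := by
    apply Finset.sum_congr rfl
    intro J _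
    rw [← h J, Finset.mul_sum]
  have h2 : ∑ J ∈ K.powerset, ∑ I ∈ J.powerset, (-1 : ℂ) ^ J.card * ((-1 : ℂ) ^ I.card * f I) =
      ∑ I ∈ K.powerset, ∑ J ∈ Finset.Icc I K, (-1 : ℂ) ^ J.card * ((-1 : ℂ) ^ I.card * f I) := by
    apply Finset.sum_comm'
    intro J I
    simp only [Finset.mem_powerset, Finset.mem_Icc]
    constructor
    · rintro ⟨hJK, hIJ⟩
      exact ⟨⟨hIJ, hJK⟩, hIJ.trans hJK⟩
    · rintro ⟨⟨hIJ, hJK⟩, _⟩
      exact ⟨hJK, hIJ⟩
  have h3 : ∑ I ∈ K.powerset, ∑ J ∈ Finset.Icc I K, (-1 : ℂ) ^ J.card * ((-1 : ℂ) ^ I.card * f I) =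
      ∑ I ∈ K.powerset, (if I = K then f K else 0) := by
    apply Finset.sum_congr rfl
    intro I hI
    rw [Finset.mem_powerset] at hI
    rw [← Finset.sum_mul, sum_Icc_neg_one_pow hI]
    by_cases hIK : I = K
    · rw [if_pos hIK, if_pos hIK, ← mul_assoc, ← pow_add, ← two_mul, pow_mul, neg_one_sq, one_pow,
        one_mul, hIK]
    · rw [if_neg hIK, if_neg hIK, zero_mul]
  rw [h1, h2, h3, Finset.sum_ite_eq' K.powerset K (fun _ => f K), if_pos (Finset.mem_powerset_self K)]

end Cfsg.Agent.Helper67.UnipU2
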