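import Mathlib
import Cfsg.Agent.Helper2.SC3R.Defs
import Cfsg.Agent.S0494
import Cfsg.Agent.Helper50.HIG_SIM
import Cfsg.Agent.Helper18.Ree.SylowP2

set_option autoImplicit false

namespace Cfsg.Agent.Helper67.SC3R

open Cfsg.Agent.Helper62.SC3 Cfsg.Agent.Helper2.SC3R

universe u v

/-- (A5SL) -/
theorem A5_equiv_SL2_four :
    Nonempty (alternatingGroup (Fin 5) ≃* Matrix.SpecialLinearGroup (Fin 2) (GaloisField 2 2)) := by
  have : Fact (Nat.Prime 2) := ⟨Nat.prime_two⟩
  have : Fintype (GaloisField 2 2) := Fintype.ofFinite _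
  have hcardK : Nat.card (GaloisField 2 2) = 4 := by
    rw [GaloisField.card 2 2 (by norm_num)]; norm_num
  have hcardK' : Fintype.card (GaloisField 2 2) = 4 := by
    rw [← Nat.card_eq_fintype_card]; exact hcardK
  have : IsSimpleGroup (Matrix.SpecialLinearGroup (Fin 2) (GaloisField 2 2)) :=
    Cfsg.Agent.Helper50.Hig.sim (K := GaloisField 2 2) (by rw [hcardK])
  have h60 : Nat.card (Matrix.SpecialLinearGroup (Fin 2) (GaloisField 2 2)) = 60 := by
    rw [Cfsg.Agent.Helper18.Ree.card_SL2, hcardK']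
    norm_num
  obtain ⟨e⟩ := Cfsg.Agent.S0494.result h60
  exact ⟨e.symm⟩

end Cfsg.Agent.Helper67.SC3R
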