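-- helper67: piece (UWA2) of helper46's S2281 design: the action of `UW'` on the basis.
import Mathlib
import Cfsg.Agent.Helper46.RSp.Defs

set_option autoImplicit false
set_option linter.unusedSectionVars false
set_option linter.unusedVariables false

namespace Cfsg.Agent.Helper67.RSp

open Matrix Cfsg.Agent.Helper13
open Cfsg.Agent.Helper46.RSp

variable {K : Type*} [Field K] {j : ℕ}

local notation "Vec" => (Fin (j + 3) ⊕ Fin (j + 3) → K)
local notation "Mat" => Matrix (Fin (j + 3) ⊕ Fin (j + 3)) (Fin (j + 3) ⊕ Fin (j + 3)) K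
local notation "Mk" => Matrix (Fin (j + 3)) (Fin (j + 3)) K
local notation "SpG" => Matrix.symplecticGroup (Fin (j + 3)) K
local notation "B" => Cfsg.sympForm (j + 3) K

/-- the action of `UW'` on a vector -/
theorem UWM_mulVec_UWA (c : K) (x : Vec) :
    UWM c *ᵥ x = lvS (MpM : Mk) MqM *ᵥ (x + (c * x (Sum.inr iN)) • bE iN) := by
  unfold UWM
  rw [← Matrix.mulVec_mulVec, eichS_mulVec, form_bE_right, sympForm_zero_right, smul_zero, zero_smul,
    add_zero, add_zero]

theorem lvS_mulVec_bE_UWA (A A' : Mk) (l : Fin (j + 3)) :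
    lvS A A' *ᵥ (bE l : Vec) = fun y => Sum.elim (fun i => A i l) (fun _ => 0) y := by
  unfold bE
  rw [Matrix.mulVec_single_one]
  funext y
  rcases y with i | i <;> rfl

theorem lvS_mulVec_bF_UWA (A A' : Mk) (l : Fin (j + 3)) :
    lvS A A' *ᵥ (bF l : Vec) = fun y => Sum.elim (fun _ => 0) (fun i => A' i l) y := by
  unfold bF
  rw [Matrix.mulVec_single_one]
  funext y
  rcases y with i | i <;> rfl

theorem UWM_bE_gen_UWA (c : K) (l : Fin (j + 3)) :
    UWM c *ᵥ (bE l : Vec) = fun y => Sum.elim (fun i => (MpM : Mk) i l) (fun _ => 0) y := by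
  rw [UWM_mulVec_UWA, bE_apply_inr, mul_zero, zero_smul, add_zero, lvS_mulVec_bE_UWA]

theorem UWM_bF_gen_UWA (c : K) (l : Fin (j + 3)) (hl : l.val < j + 2) :
    UWM c *ᵥ (bF l : Vec) = fun y => Sum.elim (fun _ => 0) (fun i => (MqM : Mk) i l) y := by
  have h0 : (bF l : Vec) (Sum.inr iN) = 0 := by
    rw [bF_apply_inr, if_neg]
    unfold iN
    simp only [Fin.ext_iff]
    omega
  rw [UWM_mulVec_UWA, h0, mul_zero, zero_smul, add_zero, lvS_mulVec_bF_UWA]

/-! ### (UWA2) the action of `UW'` on the basis -/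

theorem UWM_bE1 (c : K) : UWM c *ᵥ (bE i1 : Vec) = bE i1 := by
  rw [UWM_bE_gen_UWA]
  funext y
  rcases y with i | i
  · show (MpM : Mk) i i1 = (bE i1 : Vec) (Sum.inl i)
    rw [bE_apply_inl]
    unfold MpM i1
    simp only [Matrix.of_apply, Fin.ext_iff]
    split_ifs <;> first | rfl | (exfalso; omega)
  · show (0 : K) = (bE i1 : Vec) (Sum.inr i)
    rw [bE_apply_inr]

theorem UWM_bF1 (c : K) : UWM c *ᵥ (bF i1 : Vec) = bF i1 := by
  rw [UWM_bF_gen_UWA c i1 (by unfold i1; simp)]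
  funext y
  rcases y with i | i
  · show (0 : K) = (bF i1 : Vec) (Sum.inl i)
    rw [bF_apply_inl]
  · show (MqM : Mk) i i1 = (bF i1 : Vec) (Sum.inr i)
    rw [bF_apply_inr]
    unfold MqM i1
    simp only [Matrix.of_apply, Fin.ext_iff]
    split_ifs <;> first | rfl | (exfalso; omega)

/-- `UW' e_l = e_2 + ... + e_l` for `l ≥ 2` -/
theorem UWM_bE (c : K) (l : Fin (j + 3)) (hl : 1 ≤ l.val) : UWM c *ᵥ (bE l : Vec) = pE l := by
  rw [UWM_bE_gen_UWA]
  funext y
  rcases y with i | i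
  · show (MpM : Mk) i l = (pE l : Vec) (Sum.inl i)
    unfold MpM pE
    simp only [Matrix.of_apply, Fin.ext_iff]
    split_ifs <;> first | rfl | (exfalso; omega)
  · rfl

theorem pE_i2 : (pE i2 : Vec) = bE i2 := by
  funext y
  rcases y with i | i
  · rw [bE_apply_inl]
    unfold pE i2
    simp only [Fin.ext_iff]
    split_ifs <;> first | rfl | (exfalso; omega)
  · rw [bE_apply_inr]
    rfl

theorem pE_iN : (pE iN : Vec) = sE := by
  funext y
  rcases y with i | i
  · unfold pE sE iN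
    have := i.isLt
    simp only
    split_ifs <;> first | rfl | (exfalso; omega)
  · rfl

theorem UWM_bF (c : K) (l : Fin (j + 3)) (hl : 1 ≤ l.val) (hl' : l.val < j + 2) :
    UWM c *ᵥ (bF l : Vec) = bF l - bF ⟨l.val + 1, by omega⟩ := by
  rw [UWM_bF_gen_UWA c l hl']
  funext y
  rw [Pi.sub_apply]
  rcases y with i | i
  · show (0 : K) = (bF l : Vec) (Sum.inl i) - (bF ⟨l.val + 1, by omega⟩ : Vec) (Sum.inl i)
    rw [bF_apply_inl, bF_apply_inl, sub_zero]
  · show (MqM : Mk) i l = (bF l : Vec) (Sum.inr i) - (bF ⟨l.val + 1, by omega⟩ : Vec) (Sum.inr i)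
    rw [bF_apply_inr, bF_apply_inr]
    unfold MqM
    simp only [Matrix.of_apply, Fin.ext_iff]
    split_ifs <;> first | (exfalso; omega) | simp

theorem UWM_bFN (c : K) : UWM c *ᵥ (bF iN : Vec) = bF iN + c • sE := by
  have h1 : (bF iN : Vec) (Sum.inr iN) = 1 := by rw [bF_apply_inr, if_pos rfl]
  rw [UWM_mulVec_UWA, h1, mul_one, Matrix.mulVec_add, Matrix.mulVec_smul, lvS_mulVec_bF_UWA,
    lvS_mulVec_bE_UWA]
  funext y
  rw [Pi.add_apply, Pi.add_apply, Pi.smul_apply, Pi.smul_apply, smul_eq_mul, smul_eq_mul]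
  rcases y with i | i
  · show (0 : K) + c * (MpM : Mk) i iN = (bF iN : Vec) (Sum.inl i) + c * (sE : Vec) (Sum.inl i)
    rw [bF_apply_inl]
    unfold MpM sE iN
    have := i.isLt
    simp only [Matrix.of_apply, Fin.ext_iff]
    split_ifs <;> first | (exfalso; omega) | ring
  · show (MqM : Mk) i iN + c * 0 = (bF iN : Vec) (Sum.inr i) + c * (sE : Vec) (Sum.inr i)
    rw [bF_apply_inr]
    show _ = _ + c * 0
    unfold MqM iN
    have := i.isLt
    simp only [Matrix.of_apply, Fin.ext_iff]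
    split_ifs <;> first | (exfalso; omega) | ring

end Cfsg.Agent.Helper67.RSp
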