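-- helper67: piece (UWA1) of helper46's S2281 design: `UW'` is symplectic.
import Mathlib
import Cfsg.Agent.Helper46.RSp.Defs

set_option autoImplicit false
set_option linter.unusedSectionVars false
set_option linter.unusedVariables false

namespace Cfsg.Agent.Helper67.RSp

open Matrix Cfsg.Agent.Helper13
open Cfsg.Agent.Helper46.RSp

variable {K : Type*} [Field K] {j : ℕ}

local notation "Vec" => (Fin (j + 3) ⊕ Fin (j + 3) → K)
local notation "Mat" => Matrix (Fin (j + 3) ⊕ Fin (j + 3)) (Fin (j + 3) ⊕ Fin (j + 3)) K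
local notation "Mk" => Matrix (Fin (j + 3)) (Fin (j + 3)) K
local notation "SpG" => Matrix.symplecticGroup (Fin (j + 3)) K
local notation "B" => Cfsg.sympForm (j + 3) K

theorem MpM_apply' (i l : Fin (j + 3)) :
    (MpM : Mk) i l = if i = l then 1 else if 1 ≤ i.val ∧ i.val < l.val then 1 else 0 := rfl

theorem MqM_apply' (i l : Fin (j + 3)) :
    (MqM : Mk) i l = if i = l then 1 else if 1 ≤ l.val ∧ l.val + 1 = i.val then -1 else 0 := rfl

/-! ### (UWA1) `UW'` is symplectic -/

theorem MpM_transpose_mul_MqM : (MpM : Mk)ᵀ * (MqM : Mk) = 1 := by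
  ext a b
  rw [Matrix.mul_apply]
  simp only [Matrix.transpose_apply]
  have key : ∀ i : Fin (j + 3), (MpM : Mk) i a * (MqM : Mk) i b =
      (if i = b then (MpM : Mk) b a else 0) +
        (if 1 ≤ b.val ∧ b.val + 1 = i.val then -(MpM : Mk) i a else 0) := by
    intro i
    rw [MqM_apply']
    by_cases h1 : i = b
    · subst h1
      rw [if_pos rfl, if_pos rfl, if_neg (by omega), mul_one, add_zero]
    · rw [if_neg h1, if_neg h1, zero_add]
      by_cases h2 : 1 ≤ b.val ∧ b.val + 1 = i.val
      · rw [if_pos h2, if_pos h2, mul_neg, mul_one]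
      · rw [if_neg h2, if_neg h2, mul_zero]
  rw [Finset.sum_congr rfl (fun i _ => key i), Finset.sum_add_distrib, Finset.sum_ite_eq' Finset.univ b,
    if_pos (Finset.mem_univ _)]
  by_cases hb' : 1 ≤ b.val ∧ b.val + 1 < j + 3
  · rw [Finset.sum_eq_single (⟨b.val + 1, hb'.2⟩ : Fin (j + 3))]
    · rw [if_pos ⟨hb'.1, rfl⟩, MpM_apply', MpM_apply', Matrix.one_apply]
      simp only [Fin.ext_iff]
      split_ifs <;> first | omega | simp
    · intro i _ hi
      rw [if_neg]
      rintro ⟨-, h⟩
      exact hi (Fin.ext h.symm)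
    · intro h
      exact absurd (Finset.mem_univ _) h
  · rw [Finset.sum_eq_zero, add_zero, MpM_apply', Matrix.one_apply]
    · have hbm := b.isLt
      have ham := a.isLt
      simp only [Fin.ext_iff]
      split_ifs <;> first | omega | simp
    · intro i _
      rw [if_neg]
      rintro ⟨h1, h2⟩
      have := i.isLt
      exact hb' ⟨h1, by omega⟩

theorem lvS_mem {A A' : Mk} (h : Aᵀ * A' = 1) : lvS A A' ∈ SpG := by
  unfold lvS
  rw [SymplecticGroup.fromBlocks_mem_iff]
  refine ⟨?_, ?_, ?_⟩
  · rw [Matrix.mul_zero, Matrix.transpose_zero, Matrix.zero_mul]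
  · rw [Matrix.transpose_zero, Matrix.zero_mul, Matrix.mul_zero]
  · rw [Matrix.transpose_zero, Matrix.zero_mul, sub_zero, h]

theorem UWM_mem (c : K) : UWM c ∈ SpG := by
  unfold UWM
  refine Submonoid.mul_mem _ (lvS_mem MpM_transpose_mul_MqM) ?_
  exact eichS_mem c (sympForm_zero_left _)

end Cfsg.Agent.Helper67.RSp
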