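import Mathlib
import Cfsg.Agent.Helper3.S3S3Defs
import Cfsg.Agent.Helper48.S3S3G5d

/-!
helper67 (for helper3, WANTED #5796 (G5e)): the seven class multiplication counts in the
`S₃ × S₃` normalizer configuration (S3805).
-/

set_option autoImplicit false
set_option linter.unusedSectionVars false
set_option linter.unusedVariables false

namespace Cfsg.Agent.Helper67.S3S3

open Cfsg Finset Cfsg.Agent.Helper3.S3S3

universe u

variable {G : Type u} [Group G]

section ndata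

variable {T : Subgroup G} {x y a b : G}

theorem xy_comm_pow (hd : NData T x y a b) (m n : ℕ) : x ^ m * y ^ n = y ^ n * x ^ m :=
  ((show Commute x y from hd.comm).pow_pow m n)

/-- uniqueness of the coordinates in `T = ⟨x⟩ × ⟨y⟩` -/
theorem pow_mul_pow_inj (hd : NData T x y a b) {i j k l : ℕ} (h : x ^ i * y ^ j = x ^ k * y ^ l) :
    x ^ i = x ^ k ∧ y ^ j = y ^ l := by
  have hx3k : x ^ (3 * k) = 1 := by rw [pow_mul, hd.x3, one_pow]
  have hy3j : y ^ (3 * j) = 1 := by rw [pow_mul, hd.y3, one_pow]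
  have h1 : x ^ (2 * k) * (x ^ i * y ^ j) * y ^ (2 * j) = x ^ (2 * k + i) := by
    calc x ^ (2 * k) * (x ^ i * y ^ j) * y ^ (2 * j)
        = (x ^ (2 * k) * x ^ i) * (y ^ j * y ^ (2 * j)) := by group
      _ = x ^ (2 * k + i) * y ^ (3 * j) := by
          rw [← pow_add, ← pow_add]; congr 2; ring
      _ = x ^ (2 * k + i) := by rw [hy3j, mul_one]
  have h2 : x ^ (2 * k) * (x ^ k * y ^ l) * y ^ (2 * j) = y ^ (l + 2 * j) := by
    calc x ^ (2 * k) * (x ^ k * y ^ l) * y ^ (2 * j)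
        = (x ^ (2 * k) * x ^ k) * (y ^ l * y ^ (2 * j)) := by group
      _ = x ^ (3 * k) * y ^ (l + 2 * j) := by
          rw [← pow_add, ← pow_add]; congr 2; ring
      _ = y ^ (l + 2 * j) := by rw [hx3k, one_mul]
  have h3 : x ^ (2 * k + i) = y ^ (l + 2 * j) := by rw [← h1, ← h2, h]
  have h4 : x ^ (2 * k + i) = 1 := hd.indep _ _ h3
  have h5 : y ^ (l + 2 * j) = 1 := by rw [← h3, h4]
  constructor
  · have e : x ^ (2 * k) * x ^ i = x ^ (2 * k) * x ^ k := by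
      rw [← pow_add, ← pow_add, h4, show 2 * k + k = 3 * k by ring, hx3k]
    exact mul_left_cancel e
  · have e : y ^ l * y ^ (2 * j) = y ^ j * y ^ (2 * j) := by
      rw [← pow_add, ← pow_add, h5, show j + 2 * j = 3 * j by ring, hy3j]
    exact (mul_right_cancel e).symm

theorem orderOf_x (hd : NData T x y a b) : orderOf x = 3 :=
  haveI : Fact (Nat.Prime 3) := ⟨Nat.prime_three⟩
  orderOf_eq_prime hd.x3 hd.x1

theorem orderOf_y (hd : NData T x y a b) : orderOf y = 3 :=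
  haveI : Fact (Nat.Prime 3) := ⟨Nat.prime_three⟩
  orderOf_eq_prime hd.y3 hd.y1

theorem x_pow_eq_iff (hd : NData T x y a b) (m n : ℕ) : x ^ m = x ^ n ↔ m % 3 = n % 3 := by
  rw [pow_eq_pow_iff_modEq, orderOf_x hd]; rfl

theorem y_pow_eq_iff (hd : NData T x y a b) (m n : ℕ) : y ^ m = y ^ n ↔ m % 3 = n % 3 := by
  rw [pow_eq_pow_iff_modEq, orderOf_y hd]; rfl

theorem x_inv (hd : NData T x y a b) : x⁻¹ = x ^ 2 := by
  rw [inv_eq_iff_mul_eq_one, ← pow_succ', hd.x3]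

theorem y_inv (hd : NData T x y a b) : y⁻¹ = y ^ 2 := by
  rw [inv_eq_iff_mul_eq_one, ← pow_succ', hd.y3]

/-- the action of an element of the normalizer in coordinates -/
theorem conj_coords (hd : NData T x y a b) {n : G} (hn : n ∈ Subgroup.normalizer (T : Set G)) :
    ∃ e f : ℕ, (e = 1 ∨ e = 2) ∧ (f = 1 ∨ f = 2) ∧ n * x * n⁻¹ = x ^ e ∧ n * y * n⁻¹ = y ^ f ∧
      n * (x * y) * n⁻¹ = x ^ e * y ^ f := by
  have hxy : n * (x * y) * n⁻¹ = (n * x * n⁻¹) * (n * y * n⁻¹) := by group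
  rcases hd.conj_in_N hn with ⟨h1, h2⟩ | ⟨h1, h2⟩ | ⟨h1, h2⟩ | ⟨h1, h2⟩
  · exact ⟨1, 1, Or.inl rfl, Or.inl rfl, by rw [h1, pow_one], by rw [h2, pow_one],
      by rw [hxy, h1, h2, pow_one, pow_one]⟩
  · exact ⟨2, 1, Or.inr rfl, Or.inl rfl, by rw [h1, x_inv hd], by rw [h2, pow_one],
      by rw [hxy, h1, h2, x_inv hd, pow_one]⟩
  · exact ⟨1, 2, Or.inl rfl, Or.inr rfl, by rw [h1, pow_one], by rw [h2, y_inv hd],
      by rw [hxy, h1, h2, y_inv hd, pow_one]⟩
  · exact ⟨2, 2, Or.inr rfl, Or.inr rfl, by rw [h1, x_inv hd], by rw [h2, y_inv hd],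
      by rw [hxy, h1, h2, x_inv hd, y_inv hd]⟩

theorem xy_mem (hd : NData T x y a b) : x * y ∈ T := T.mul_mem hd.xT hd.yT

theorem xy_ne_one (hd : NData T x y a b) : x * y ≠ 1 := by
  intro h
  have h1 : x ^ 1 * y ^ 1 = x ^ 0 * y ^ 0 := by rw [pow_one, pow_one, pow_zero, pow_zero, h, one_mul]
  have h2 := (pow_mul_pow_inj hd h1).1
  rw [x_pow_eq_iff hd] at h2
  omega

end ndata

/-- (G5e) the seven class multiplication counts, with (G5d) as a hypothesis -/
theorem pair_counts' [Fintype G] [DecidableEq G]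
    (hG5d : ∀ p q g₀ h₀ : G, (Finset.univ.filter (fun gh : G × G =>
      gh.1 * p * gh.1⁻¹ = g₀ * p * g₀⁻¹ ∧ gh.2 * q * gh.2⁻¹ = h₀ * q * h₀⁻¹)).card =
      Nat.card (Subgroup.centralizer ({p} : Set G)) * Nat.card (Subgroup.centralizer ({q} : Set G)))
    (T : Subgroup G) (x y a b : G)
    (hd : NData T x y a b)
    (hpair : ∀ x₁ x₂ x₃ : G, x₁ ∈ T → x₂ ∈ T → x₃ ∈ T → x₁ ≠ 1 → x₂ ≠ 1 → x₃ ≠ 1 →
      ¬ IsConj x₁ x₂ → ∀ g h : G, g * x₁ * g⁻¹ * (h * x₂ * h⁻¹) = x₃ →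
      g ∈ Subgroup.normalizer (T : Set G) ∧ h ∈ Subgroup.normalizer (T : Set G))
    (hnxy : ¬ IsConj x y) (hnxz : ¬ IsConj x (x * y)) (hnyz : ¬ IsConj y (x * y))
    (hcx : Nat.card (Subgroup.centralizer ({x} : Set G)) = 18)
    (hcy : Nat.card (Subgroup.centralizer ({y} : Set G)) = 18)
    (hcz : Nat.card (Subgroup.centralizer ({x * y} : Set G)) = 9) :
    pairCount x y (x * y) = 324 ∧ pairCount x y x = 0 ∧ pairCount x y y = 0 ∧
    pairCount x (x * y) (x * y) = 162 ∧ pairCount x (x * y) x = 0 ∧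
    pairCount y (x * y) (x * y) = 162 ∧ pairCount y (x * y) y = 0 := by
  have hxT := hd.xT
  have hyT := hd.yT
  have hzT := xy_mem hd
  have hx1 := hd.x1
  have hy1 := hd.y1
  have hz1 := xy_ne_one hd
  have hxi := x_pow_eq_iff hd
  have hyi := y_pow_eq_iff hd
  refine ⟨?_, ?_, ?_, ?_, ?_, ?_, ?_⟩
  · -- `x^G · y^G ∋ xy`
    unfold pairCount
    have hk := hG5d x y 1 1
    rw [hcx, hcy] at hk
    rw [show (324 : ℕ) = 18 * 18 from rfl, ← hk]
    congr 1
    apply Finset.filter_congr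
    rintro ⟨g, h⟩ -
    simp only [one_mul, inv_one, mul_one]
    constructor
    · intro hgh
      obtain ⟨hg, hh⟩ := hpair x y (x * y) hxT hyT hzT hx1 hy1 hz1 hnxy g h hgh
      obtain ⟨e, f, he, hf, h1, h2, -⟩ := conj_coords hd hg
      obtain ⟨e', f', he', hf', h1', h2', -⟩ := conj_coords hd hh
      rw [h1, h2'] at hgh
      have h3 : x ^ e * y ^ f' = x ^ 1 * y ^ 1 := by rw [hgh, pow_one, pow_one]
      obtain ⟨h4, h5⟩ := pow_mul_pow_inj hd h3
      rw [h1, h2', h4, h5, pow_one, pow_one]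
      exact ⟨rfl, rfl⟩
    · rintro ⟨h1, h2⟩
      rw [h1, h2]
  · -- `x^G · y^G ∌ x`
    unfold pairCount
    rw [Finset.card_eq_zero, Finset.filter_eq_empty_iff]
    rintro ⟨g, h⟩ - hgh
    obtain ⟨hg, hh⟩ := hpair x y x hxT hyT hxT hx1 hy1 hx1 hnxy g h hgh
    obtain ⟨e, f, he, hf, h1, h2, -⟩ := conj_coords hd hg
    obtain ⟨e', f', he', hf', h1', h2', -⟩ := conj_coords hd hh
    simp only at hgh
    rw [h1, h2'] at hgh
    have h3 : x ^ e * y ^ f' = x ^ 1 * y ^ 0 := by rw [hgh, pow_one, pow_zero, mul_one]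
    have h5 := (pow_mul_pow_inj hd h3).2
    rw [hyi] at h5
    rcases hf' with rfl | rfl <;> omega
  · -- `x^G · y^G ∌ y`
    unfold pairCount
    rw [Finset.card_eq_zero, Finset.filter_eq_empty_iff]
    rintro ⟨g, h⟩ - hgh
    obtain ⟨hg, hh⟩ := hpair x y y hxT hyT hyT hx1 hy1 hy1 hnxy g h hgh
    obtain ⟨e, f, he, hf, h1, h2, -⟩ := conj_coords hd hg
    obtain ⟨e', f', he', hf', h1', h2', -⟩ := conj_coords hd hh
    simp only at hgh
    rw [h1, h2'] at hgh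
    have h3 : x ^ e * y ^ f' = x ^ 0 * y ^ 1 := by rw [hgh, pow_one, pow_zero, one_mul]
    have h5 := (pow_mul_pow_inj hd h3).1
    rw [hxi] at h5
    rcases he with rfl | rfl <;> omega
  · -- `x^G · (xy)^G ∋ xy`
    unfold pairCount
    have hk := hG5d x (x * y) a a
    rw [hcx, hcz] at hk
    rw [show (162 : ℕ) = 18 * 9 from rfl, ← hk]
    congr 1
    apply Finset.filter_congr
    rintro ⟨g, h⟩ -
    have hax : a * x * a⁻¹ = x ^ 2 := by rw [hd.ax, x_inv hd]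
    have haz : a * (x * y) * a⁻¹ = x ^ 2 * y ^ 1 := by
      have : a * (x * y) * a⁻¹ = (a * x * a⁻¹) * (a * y * a⁻¹) := by group
      rw [this, hax, hd.ay, pow_one]
    simp only
    rw [hax, haz]
    constructor
    · intro hgh
      obtain ⟨hg, hh⟩ := hpair x (x * y) (x * y) hxT hzT hzT hx1 hz1 hz1 hnxz g h hgh
      obtain ⟨e, f, he, hf, h1, h2, -⟩ := conj_coords hd hg
      obtain ⟨e', f', he', hf', -, -, h3'⟩ := conj_coords hd hh
      rw [h1, h3'] at hgh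
      have h3 : x ^ (e + e') * y ^ f' = x ^ 1 * y ^ 1 := by
        rw [pow_add, mul_assoc, hgh, pow_one, pow_one]
      obtain ⟨h4, h5⟩ := pow_mul_pow_inj hd h3
      rw [hxi] at h4
      rw [hyi] at h5
      rw [h1, h3']
      rcases he with rfl | rfl <;> rcases he' with rfl | rfl <;> rcases hf' with rfl | rfl <;>
        first | omega | exact ⟨rfl, rfl⟩
    · rintro ⟨h1, h2⟩
      rw [h1, h2]
      have : x ^ 2 * (x ^ 2 * y ^ 1) = x ^ 4 * y := by
        rw [← mul_assoc, ← pow_add, pow_one]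
      rw [this]
      have h4 : x ^ 4 = x ^ 1 := (hxi 4 1).2 rfl
      rw [h4, pow_one]
  · -- `x^G · (xy)^G ∌ x`
    unfold pairCount
    rw [Finset.card_eq_zero, Finset.filter_eq_empty_iff]
    rintro ⟨g, h⟩ - hgh
    obtain ⟨hg, hh⟩ := hpair x (x * y) x hxT hzT hxT hx1 hz1 hx1 hnxz g h hgh
    obtain ⟨e, f, he, hf, h1, h2, -⟩ := conj_coords hd hg
    obtain ⟨e', f', he', hf', -, -, h3'⟩ := conj_coords hd hh
    simp only at hgh
    rw [h1, h3'] at hgh
    have h3 : x ^ (e + e') * y ^ f' = x ^ 1 * y ^ 0 := by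
      rw [pow_add, mul_assoc, hgh, pow_one, pow_zero, mul_one]
    have h5 := (pow_mul_pow_inj hd h3).2
    rw [hyi] at h5
    rcases hf' with rfl | rfl <;> omega
  · -- `y^G · (xy)^G ∋ xy`
    unfold pairCount
    have hk := hG5d y (x * y) b b
    rw [hcy, hcz] at hk
    rw [show (162 : ℕ) = 18 * 9 from rfl, ← hk]
    congr 1
    apply Finset.filter_congr
    rintro ⟨g, h⟩ -
    have hby : b * y * b⁻¹ = y ^ 2 := by rw [hd.by_, y_inv hd]
    have hbz : b * (x * y) * b⁻¹ = x ^ 1 * y ^ 2 := by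
      have : b * (x * y) * b⁻¹ = (b * x * b⁻¹) * (b * y * b⁻¹) := by group
      rw [this, hby, hd.bx, pow_one]
    simp only
    rw [hby, hbz]
    constructor
    · intro hgh
      obtain ⟨hg, hh⟩ := hpair y (x * y) (x * y) hyT hzT hzT hy1 hz1 hz1 hnyz g h hgh
      obtain ⟨e, f, he, hf, h1, h2, -⟩ := conj_coords hd hg
      obtain ⟨e', f', he', hf', -, -, h3'⟩ := conj_coords hd hh
      rw [h2, h3'] at hgh
      have h3 : x ^ e' * y ^ (f + f') = x ^ 1 * y ^ 1 := by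
        rw [pow_one, pow_one, ← hgh, pow_add, ← mul_assoc, xy_comm_pow hd e' f, mul_assoc]
      obtain ⟨h4, h5⟩ := pow_mul_pow_inj hd h3
      rw [hxi] at h4
      rw [hyi] at h5
      rw [h2, h3']
      rcases hf with rfl | rfl <;> rcases he' with rfl | rfl <;> rcases hf' with rfl | rfl <;>
        first | omega | exact ⟨rfl, rfl⟩
    · rintro ⟨h1, h2⟩
      rw [h1, h2]
      have : y ^ 2 * (x ^ 1 * y ^ 2) = x * y ^ 4 := by
        rw [← mul_assoc, ← xy_comm_pow hd, mul_assoc, ← pow_add, pow_one]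
      rw [this]
      have h4 : y ^ 4 = y ^ 1 := (hyi 4 1).2 rfl
      rw [h4, pow_one]
  · -- `y^G · (xy)^G ∌ y`
    unfold pairCount
    rw [Finset.card_eq_zero, Finset.filter_eq_empty_iff]
    rintro ⟨g, h⟩ - hgh
    obtain ⟨hg, hh⟩ := hpair y (x * y) y hyT hzT hyT hy1 hz1 hy1 hnyz g h hgh
    obtain ⟨e, f, he, hf, h1, h2, -⟩ := conj_coords hd hg
    obtain ⟨e', f', he', hf', -, -, h3'⟩ := conj_coords hd hh
    simp only at hgh
    rw [h2, h3'] at hgh
    have h3 : x ^ e' * y ^ (f + f') = x ^ 0 * y ^ 1 := by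
      rw [pow_zero, one_mul, pow_one, pow_add, ← mul_assoc, xy_comm_pow hd e' f, mul_assoc]
      exact hgh
    have h5 := (pow_mul_pow_inj hd h3).1
    rw [hxi] at h5
    rcases he' with rfl | rfl <;> omega

/-- **(G5e)** the seven class multiplication counts (exact skeleton signature). -/
theorem pair_counts [Fintype G] [DecidableEq G] (T : Subgroup G) (x y a b : G)
    (hd : NData T x y a b)
    (hpair : ∀ x₁ x₂ x₃ : G, x₁ ∈ T → x₂ ∈ T → x₃ ∈ T → x₁ ≠ 1 → x₂ ≠ 1 → x₃ ≠ 1 →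
      ¬ IsConj x₁ x₂ → ∀ g h : G, g * x₁ * g⁻¹ * (h * x₂ * h⁻¹) = x₃ →
      g ∈ Subgroup.normalizer (T : Set G) ∧ h ∈ Subgroup.normalizer (T : Set G))
    (hnxy : ¬ IsConj x y) (hnxz : ¬ IsConj x (x * y)) (hnyz : ¬ IsConj y (x * y))
    (hcx : Nat.card (Subgroup.centralizer ({x} : Set G)) = 18)
    (hcy : Nat.card (Subgroup.centralizer ({y} : Set G)) = 18)
    (hcz : Nat.card (Subgroup.centralizer ({x * y} : Set G)) = 9) :
    pairCount x y (x * y) = 324 ∧ pairCount x y x = 0 ∧ pairCount x y y = 0 ∧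
    pairCount x (x * y) (x * y) = 162 ∧ pairCount x (x * y) x = 0 ∧
    pairCount y (x * y) (x * y) = 162 ∧ pairCount y (x * y) y = 0 :=
  pair_counts' (fun p q g₀ h₀ => Cfsg.Agent.Helper48.S3S3.card_conj_pair p q g₀ h₀)
    T x y a b hd hpair hnxy hnxz hnyz hcx hcy hcz

end Cfsg.Agent.Helper67.S3S3
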