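import Mathlib
import Cfsg.Agent.Helper21.A6Defs

/-!
Piece (GA1) for helper21 (S3341): `|N_G(T)| = 9 e` with `e ∣ 8`, because `N_G(T)` acts on the eight
non-identity elements of `T` with all point stabilizers equal to `T`.
-/

set_option autoImplicit false

namespace Cfsg.Agent.Helper67.A6GA1

open Cfsg.Agent.Helper21.A6

universe u

/-- class formula when all point stabilizers have the same order `c` -/
theorem card_eq_mul_of_card_stabilizer {H X : Type*} [Group H] [Finite H] [MulAction H X]
    [Finite X] (c : ℕ) (hc : ∀ x : X, Nat.card (MulAction.stabilizer H x) = c) :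
    ∃ k : ℕ, Nat.card X = k * (Nat.card H / c) := by
  classical
  have : Fintype H := Fintype.ofFinite H
  have : Fintype X := Fintype.ofFinite X
  have : Fintype (Quotient (MulAction.orbitRel H X)) := Fintype.ofFinite _
  have : ∀ b : X, Fintype (MulAction.stabilizer H b) := fun b => Fintype.ofFinite _
  have h := MulAction.card_eq_sum_card_group_div_card_stabilizer H X
  refine ⟨Fintype.card (Quotient (MulAction.orbitRel H X)), ?_⟩
  rw [Nat.card_eq_fintype_card, h, Nat.card_eq_fintype_card]
  have h2 : ∀ ω : Quotient (MulAction.orbitRel H X),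
      Fintype.card H / Fintype.card (MulAction.stabilizer H ω.out) = Fintype.card H / c := by
    intro ω
    rw [← Nat.card_eq_fintype_card (α := MulAction.stabilizer H ω.out), hc]
  rw [Finset.sum_congr rfl (fun ω _ => h2 ω), Finset.sum_const, Finset.card_univ, smul_eq_mul]

variable {G : Type u} [Group G] [Finite G]

/-- the conjugation action of `N_G(T)` on the non-identity elements of `T` -/
abbrev conjSharp (T : Subgroup G) :
    MulAction (Subgroup.normalizer (T : Set G)) {s : G // s ∈ T ∧ s ≠ 1} where
  smul n s := ⟨(n : G) * s.1 * (n : G)⁻¹,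
    (Subgroup.mem_normalizer_iff.mp n.2 s.1).mp s.2.1, by
      intro h
      apply s.2.2
      have : s.1 = (n : G)⁻¹ * ((n : G) * s.1 * (n : G)⁻¹) * (n : G) := by group
      rw [this, h]
      group⟩
  one_smul s := by
    apply Subtype.ext
    show ((1 : Subgroup.normalizer (T : Set G)) : G) * s.1 *
      ((1 : Subgroup.normalizer (T : Set G)) : G)⁻¹ = s.1
    simp
  mul_smul a b s := by
    apply Subtype.ext
    show ((a * b : Subgroup.normalizer (T : Set G)) : G) * s.1 *
      ((a * b : Subgroup.normalizer (T : Set G)) : G)⁻¹ =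
      (a : G) * ((b : G) * s.1 * (b : G)⁻¹) * (a : G)⁻¹
    rw [Subgroup.coe_mul]
    group

/-- (GA1) -/
theorem card_normalizer (T : Subgroup G) (hT : Hyp T) :
    ∃ e : ℕ, Nat.card (Subgroup.normalizer (T : Set G)) = 9 * e ∧ e ∣ 8 := by
  classical
  have hTN : T ≤ Subgroup.normalizer (T : Set G) := Subgroup.le_normalizer
  have h9 : 9 ∣ Nat.card (Subgroup.normalizer (T : Set G)) := by
    rw [← hT.cardT]
    exact Subgroup.card_dvd_of_le hTN
  obtain ⟨e, he⟩ := h9
  refine ⟨e, he, ?_⟩
  let _ := conjSharp T
  -- the stabilizers are `T`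
  have hstab : ∀ s : {s : G // s ∈ T ∧ s ≠ 1},
      Nat.card (MulAction.stabilizer (Subgroup.normalizer (T : Set G)) s) = 9 := by
    intro s
    have hEq : MulAction.stabilizer (Subgroup.normalizer (T : Set G)) s =
        T.subgroupOf (Subgroup.normalizer (T : Set G)) := by
      ext n
      rw [MulAction.mem_stabilizer_iff, Subgroup.mem_subgroupOf]
      have hmem : (n : G) ∈ T ↔ (n : G) ∈ Subgroup.centralizer ({s.1} : Set G) := by
        rw [hT.cent s.1 s.2.1 s.2.2]
      rw [hmem, Subgroup.mem_centralizer_iff]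
      constructor
      · intro h z hz
        rw [Set.mem_singleton_iff] at hz
        subst hz
        have h1 : (n : G) * s.1 * (n : G)⁻¹ = s.1 := congrArg Subtype.val h
        calc s.1 * (n : G) = ((n : G) * s.1 * (n : G)⁻¹) * (n : G) := by rw [h1]
          _ = (n : G) * s.1 := by group
      · intro h
        apply Subtype.ext
        show (n : G) * s.1 * (n : G)⁻¹ = s.1
        have h1 := h s.1 (Set.mem_singleton _)
        rw [← h1]
        group
    rw [hEq, Nat.card_congr (Subgroup.subgroupOfEquivOfLe hTN).toEquiv, hT.cardT]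
  -- there are eight points
  have hX : Nat.card {s : G // s ∈ T ∧ s ≠ 1} = 8 := by
    have h1 : Nat.card {s : G // s ∈ T ∧ s ≠ 1} = ((T : Set G) \ {1}).ncard := by
      rw [← Nat.card_coe_set_eq]
      rfl
    rw [h1, Set.ncard_sdiff_singleton_of_mem (Subgroup.one_mem T), ← Nat.card_coe_set_eq]
    have : Nat.card (↥(T : Set G)) = 9 := hT.cardT
    rw [this]
  obtain ⟨k, hk⟩ := card_eq_mul_of_card_stabilizer
    (H := Subgroup.normalizer (T : Set G)) (X := {s : G // s ∈ T ∧ s ≠ 1}) 9 hstab
  rw [hX, he, Nat.mul_div_cancel_left e (by norm_num : 0 < 9)] at hk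
  exact ⟨k, by rw [hk, mul_comm]⟩

end Cfsg.Agent.Helper67.A6GA1
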