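import Mathlib
import Cfsg.Agent.Helper21.A6Defs

/-!
Piece (GA2) for helper21 (S3341): Burnside transfer — in a simple group a self-centralizing
Sylow `3`-subgroup of order `9` is not self-normalizing.
-/

set_option autoImplicit false

namespace Cfsg.Agent.Helper67.A6GA2

open Cfsg.Agent.Helper21.A6

universe u
variable {G : Type u} [Group G] [Finite G]

/-- (GA2) Burnside transfer -/
theorem card_normalizer_ne_nine [IsSimpleGroup G] (T : Sylow 3 G) (hT : Hyp (T : Subgroup G)) :
    Nat.card (Subgroup.normalizer ((T : Subgroup G) : Set G)) ≠ 9 := by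
  intro hN
  have : Fact (Nat.Prime 3) := ⟨Nat.prime_three⟩
  set N := Subgroup.normalizer ((T : Subgroup G) : Set G) with hNdef
  have hTN : (T : Subgroup G) ≤ N := Subgroup.le_normalizer
  have hNT : (T : Subgroup G) = N :=
    Subgroup.eq_of_le_of_card_ge hTN (by rw [hN, hT.cardT])
  have hNC : N ≤ Subgroup.centralizer ((T : Subgroup G) : Set G) := by
    rw [← hNT]
    intro a ha b hb
    exact hT.commT b hb a ha
  have hcomp := MonoidHom.ker_transferSylow_isComplement' T hNC
  have hmul := hcomp.card_mul_card
  have hK : (MonoidHom.transferSylow T hNC).ker.Normal := MonoidHom.normal_ker _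
  rcases hK.eq_bot_or_eq_top with h' | h'
  · -- `|G| = 9`, so `G = T` is commutative, and simple of non-prime order
    rw [h', Subgroup.card_bot, one_mul, hT.cardT] at hmul
    have htop : (T : Subgroup G) = ⊤ := by
      apply Subgroup.eq_top_of_card_eq
      rw [hT.cardT, hmul]
    have hcomm : ∀ a b : G, a * b = b * a := by
      intro a b
      exact hT.commT a (by rw [htop]; trivial) b (by rw [htop]; trivial)
    let _ : CommGroup G := { (inferInstance : Group G) with mul_comm := hcomm }
    have hprime : (Nat.card G).Prime := IsSimpleGroup.prime_card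
    rw [← hmul] at hprime
    exact absurd hprime (by norm_num)
  · rw [h', Subgroup.card_top, hT.cardT] at hmul
    have hpos : 0 < Nat.card G := Nat.card_pos
    have : Nat.card G * 9 = Nat.card G * 1 := by rw [hmul, mul_one]
    have := Nat.eq_of_mul_eq_mul_left hpos this
    omega

end Cfsg.Agent.Helper67.A6GA2
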