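import Mathlib
import Cfsg.Agent.Helper21.A6Defs

/-!
Piece (GA3a) for helper21 (S3341): two non-conjugate elements of order `3` can be found inside a
given Sylow `3`-subgroup.
-/

set_option autoImplicit false

namespace Cfsg.Agent.Helper67.A6GA3a

open scoped Pointwise

universe u
variable {G : Type u} [Group G] [Finite G]

/-- an element of order `3` is conjugate into any Sylow `3`-subgroup -/
theorem exists_conj_mem_sylow (T : Sylow 3 G) (a : G) (ha : orderOf a = 3) :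
    ∃ g : G, g * a * g⁻¹ ∈ (T : Subgroup G) := by
  have : Fact (Nat.Prime 3) := ⟨Nat.prime_three⟩
  have hp : IsPGroup 3 (Subgroup.zpowers a) :=
    IsPGroup.of_card (n := 1) (by rw [Nat.card_zpowers, ha, pow_one])
  obtain ⟨Q, hQ⟩ := hp.exists_le_sylow
  obtain ⟨g, hg⟩ := MulAction.exists_smul_eq G Q T
  refine ⟨g, ?_⟩
  have haQ : a ∈ (Q : Subgroup G) := hQ (Subgroup.mem_zpowers a)
  have h1 : MulAut.conj g • a ∈ MulAut.conj g • (Q : Subgroup G) :=
    Subgroup.smul_mem_pointwise_smul a _ _ haQ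
  rw [← Sylow.pointwise_smul_def, ← Sylow.smul_def, hg] at h1
  simpa [MulAut.smul_def, MulAut.conj_apply] using h1

/-- (GA3a) -/
theorem exists_nonconj_mem (T : Sylow 3 G)
    (hcl : ∃ a b : G, orderOf a = 3 ∧ orderOf b = 3 ∧ ∀ g : G, g * a * g⁻¹ ≠ b) :
    ∃ a b : G, a ∈ (T : Subgroup G) ∧ b ∈ (T : Subgroup G) ∧ a ≠ 1 ∧ b ≠ 1 ∧ ¬ IsConj a b := by
  obtain ⟨a, b, ha, hb, hab⟩ := hcl
  obtain ⟨g, hg⟩ := exists_conj_mem_sylow T a ha
  obtain ⟨h, hh⟩ := exists_conj_mem_sylow T b hb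
  have ha1 : a ≠ 1 := by
    rintro rfl
    rw [orderOf_one] at ha
    omega
  have hb1 : b ≠ 1 := by
    rintro rfl
    rw [orderOf_one] at hb
    omega
  refine ⟨g * a * g⁻¹, h * b * h⁻¹, hg, hh, ?_, ?_, ?_⟩
  · intro h1
    apply ha1
    have : a = g⁻¹ * (g * a * g⁻¹) * g := by group
    rw [this, h1]
    group
  · intro h1
    apply hb1
    have : b = h⁻¹ * (h * b * h⁻¹) * h := by group
    rw [this, h1]
    group
  · intro hc
    obtain ⟨c, hc⟩ := isConj_iff.mp hc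
    apply hab (h⁻¹ * c * g)
    have : h⁻¹ * c * g * a * (h⁻¹ * c * g)⁻¹ = h⁻¹ * (c * (g * a * g⁻¹) * c⁻¹) * h := by group
    rw [this, hc]
    group

end Cfsg.Agent.Helper67.A6GA3a
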