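import Mathlib
import Cfsg.Agent.Helper21.A6Defs

/-!
helper67, for helper21 (S3341): coordinates in `T = ⟨x⟩ × ⟨y⟩` and the action of the normalizer in
the configurations `NData2`, `NData4`.  Used by the pieces (GC2), (GB2).
-/

set_option autoImplicit false

namespace Cfsg.Agent.Helper67.A6C

open Cfsg.Agent.Helper21.A6

universe u
variable {G : Type u} [Group G]

/-- uniqueness of the coordinates in `T = ⟨x⟩ × ⟨y⟩` -/
theorem pow_mul_pow_inj {x y : G} (hx3 : x ^ 3 = 1) (hy3 : y ^ 3 = 1)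
    (hindep : ∀ i k : ℕ, x ^ i = y ^ k → x ^ i = 1) {i j k l : ℕ}
    (h : x ^ i * y ^ j = x ^ k * y ^ l) : x ^ i = x ^ k ∧ y ^ j = y ^ l := by
  have hx3k : x ^ (3 * k) = 1 := by rw [pow_mul, hx3, one_pow]
  have hy3j : y ^ (3 * j) = 1 := by rw [pow_mul, hy3, one_pow]
  have h1 : x ^ (2 * k) * (x ^ i * y ^ j) * y ^ (2 * j) = x ^ (2 * k + i) := by
    calc x ^ (2 * k) * (x ^ i * y ^ j) * y ^ (2 * j)
        = (x ^ (2 * k) * x ^ i) * (y ^ j * y ^ (2 * j)) := by group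
      _ = x ^ (2 * k + i) * y ^ (3 * j) := by
          rw [← pow_add, ← pow_add]; congr 2; ring
      _ = x ^ (2 * k + i) := by rw [hy3j, mul_one]
  have h2 : x ^ (2 * k) * (x ^ k * y ^ l) * y ^ (2 * j) = y ^ (l + 2 * j) := by
    calc x ^ (2 * k) * (x ^ k * y ^ l) * y ^ (2 * j)
        = (x ^ (2 * k) * x ^ k) * (y ^ l * y ^ (2 * j)) := by group
      _ = x ^ (3 * k) * y ^ (l + 2 * j) := by
          rw [← pow_add, ← pow_add]; congr 2; ring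
      _ = y ^ (l + 2 * j) := by rw [hx3k, one_mul]
  have h3 : x ^ (2 * k + i) = y ^ (l + 2 * j) := by rw [← h1, ← h2, h]
  have h4 : x ^ (2 * k + i) = 1 := hindep _ _ h3
  have h5 : y ^ (l + 2 * j) = 1 := by rw [← h3, h4]
  constructor
  · have e : x ^ (2 * k) * x ^ i = x ^ (2 * k) * x ^ k := by
      rw [← pow_add, ← pow_add, h4, show 2 * k + k = 3 * k by ring, hx3k]
    exact mul_left_cancel e
  · have e : y ^ l * y ^ (2 * j) = y ^ j * y ^ (2 * j) := by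
      rw [← pow_add, ← pow_add, h5, show j + 2 * j = 3 * j by ring, hy3j]
    exact (mul_right_cancel e).symm

theorem pow_eq_iff {x : G} (hx3 : x ^ 3 = 1) (hx1 : x ≠ 1) (m n : ℕ) :
    x ^ m = x ^ n ↔ m % 3 = n % 3 := by
  have : Fact (Nat.Prime 3) := ⟨Nat.prime_three⟩
  rw [pow_eq_pow_iff_modEq, orderOf_eq_prime hx3 hx1]; rfl

theorem inv_eq_sq {x : G} (hx3 : x ^ 3 = 1) : x⁻¹ = x ^ 2 := by
  rw [inv_eq_iff_mul_eq_one, ← pow_succ', hx3]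

/-- conjugation by an element of the commutative group `T` is trivial on `T` -/
theorem conj_eq_of_mem {T : Subgroup G} (hc : ∀ s ∈ T, ∀ u ∈ T, s * u = u * s) {s u : G}
    (hs : s ∈ T) (hu : u ∈ T) : s * u * s⁻¹ = u := by
  rw [hc s hs u hu, mul_assoc, mul_inv_cancel, mul_one]

/-- the action of the normalizer in the configuration `NData2` -/
theorem conj_coords2 {T : Subgroup G} {x y t : G} (hd : NData2 T x y t) {n : G}
    (hn : n ∈ Subgroup.normalizer (T : Set G)) :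
    ∃ e : ℕ, (e = 1 ∨ e = 2) ∧ n * x * n⁻¹ = x ^ e ∧ n * y * n⁻¹ = y ^ e := by
  obtain ⟨s, hs, rfl | rfl⟩ := hd.memN n hn
  · exact ⟨1, Or.inl rfl, by rw [conj_eq_of_mem hd.commT hs hd.xT, pow_one],
      by rw [conj_eq_of_mem hd.commT hs hd.yT, pow_one]⟩
  · refine ⟨2, Or.inr rfl, ?_, ?_⟩
    · have : s * t * x * (s * t)⁻¹ = s * (t * x * t⁻¹) * s⁻¹ := by group
      rw [this, hd.tx, conj_eq_of_mem hd.commT hs (T.inv_mem hd.xT), inv_eq_sq hd.x3]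
    · have : s * t * y * (s * t)⁻¹ = s * (t * y * t⁻¹) * s⁻¹ := by group
      rw [this, hd.ty, conj_eq_of_mem hd.commT hs (T.inv_mem hd.yT), inv_eq_sq hd.y3]

/-- the action of the normalizer in the configuration `NData4` -/
theorem conj_coords4 {T : Subgroup G} {x y j : G} (hd : NData4 T x y j) {n : G}
    (hn : n ∈ Subgroup.normalizer (T : Set G)) :
    ∃ a b c d : ℕ, n * x * n⁻¹ = x ^ a * y ^ b ∧ n * (x * y) * n⁻¹ = x ^ c * y ^ d ∧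
      ((a = 1 ∧ b = 0 ∧ c = 1 ∧ d = 1) ∨ (a = 0 ∧ b = 1 ∧ c = 2 ∧ d = 1) ∨
        (a = 2 ∧ b = 0 ∧ c = 2 ∧ d = 2) ∨ (a = 0 ∧ b = 2 ∧ c = 1 ∧ d = 2)) := by
  have hxi := inv_eq_sq hd.x3
  have hyi := inv_eq_sq hd.y3
  have hxy : ∀ w : G, w * (x * y) * w⁻¹ = (w * x * w⁻¹) * (w * y * w⁻¹) := fun w => by group
  have hinv : ∀ w u : G, w * u⁻¹ * w⁻¹ = (w * u * w⁻¹)⁻¹ := fun w u => by group
  -- the powers of `j`
  have j1x : j * x * j⁻¹ = y := hd.jx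
  have j1y : j * y * j⁻¹ = x ^ 2 := by rw [hd.jy, hxi]
  have j2x : j ^ 2 * x * (j ^ 2)⁻¹ = x ^ 2 := by
    have : j ^ 2 * x * (j ^ 2)⁻¹ = j * (j * x * j⁻¹) * j⁻¹ := by
      simp only [pow_succ, pow_zero, one_mul, mul_inv_rev, mul_assoc]
    rw [this, j1x, j1y]
  have j2y : j ^ 2 * y * (j ^ 2)⁻¹ = y ^ 2 := by
    have : j ^ 2 * y * (j ^ 2)⁻¹ = j * (j * y * j⁻¹) * j⁻¹ := by
      simp only [pow_succ, pow_zero, one_mul, mul_inv_rev, mul_assoc]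
    rw [this, hd.jy, hinv, j1x, hyi]
  have j3x : j ^ 3 * x * (j ^ 3)⁻¹ = y ^ 2 := by
    have : j ^ 3 * x * (j ^ 3)⁻¹ = j * (j ^ 2 * x * (j ^ 2)⁻¹) * j⁻¹ := by
      simp only [pow_succ, pow_zero, one_mul, mul_inv_rev, mul_assoc]
    rw [this, j2x, ← hxi, hinv, j1x, hyi]
  have j3y : j ^ 3 * y * (j ^ 3)⁻¹ = x := by
    have : j ^ 3 * y * (j ^ 3)⁻¹ = j * (j ^ 2 * y * (j ^ 2)⁻¹) * j⁻¹ := by
      simp only [pow_succ, pow_zero, one_mul, mul_inv_rev, mul_assoc]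
    rw [this, j2y, ← hyi, hinv, hd.jy, inv_inv]
  have hx2T : x ^ 2 ∈ T := T.pow_mem hd.xT 2
  have hy2T : y ^ 2 ∈ T := T.pow_mem hd.yT 2
  have hsw : ∀ s w u : G, s * w * u * (s * w)⁻¹ = s * (w * u * w⁻¹) * s⁻¹ := fun s w u => by group
  have hcomm2 : y * x ^ 2 = x ^ 2 * y := by
    have : Commute x y := hd.comm
    exact ((this.pow_left 2).eq).symm
  have hcomm3 : y ^ 2 * x = x * y ^ 2 := by
    have : Commute x y := hd.comm
    exact ((this.pow_right 2).eq).symm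
  obtain ⟨s, hs, rfl | rfl | rfl | rfl⟩ := hd.memN n hn
  · refine ⟨1, 0, 1, 1, ?_, ?_, Or.inl ⟨rfl, rfl, rfl, rfl⟩⟩
    · rw [conj_eq_of_mem hd.commT hs hd.xT, pow_one, pow_zero, mul_one]
    · rw [conj_eq_of_mem hd.commT hs (T.mul_mem hd.xT hd.yT), pow_one, pow_one]
  · refine ⟨0, 1, 2, 1, ?_, ?_, Or.inr (Or.inl ⟨rfl, rfl, rfl, rfl⟩)⟩
    · rw [hsw, j1x, conj_eq_of_mem hd.commT hs hd.yT, pow_zero, one_mul, pow_one]
    · rw [hsw, hxy, j1x, j1y, conj_eq_of_mem hd.commT hs (T.mul_mem hd.yT hx2T), pow_one, hcomm2]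
  · refine ⟨2, 0, 2, 2, ?_, ?_, Or.inr (Or.inr (Or.inl ⟨rfl, rfl, rfl, rfl⟩))⟩
    · rw [hsw, j2x, conj_eq_of_mem hd.commT hs hx2T, pow_zero, mul_one]
    · rw [hsw, hxy, j2x, j2y, conj_eq_of_mem hd.commT hs (T.mul_mem hx2T hy2T)]
  · refine ⟨0, 2, 1, 2, ?_, ?_, Or.inr (Or.inr (Or.inr ⟨rfl, rfl, rfl, rfl⟩))⟩
    · rw [hsw, j3x, conj_eq_of_mem hd.commT hs hy2T, pow_zero, one_mul]
    · rw [hsw, hxy, j3x, j3y, conj_eq_of_mem hd.commT hs (T.mul_mem hy2T hd.xT), pow_one, hcomm3]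

end Cfsg.Agent.Helper67.A6C
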