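import Mathlib
import Cfsg.Agent.Helper21.A6Defs
import Cfsg.Agent.Helper67.A6_Coords

/-!
Piece (GC2) for helper21 (S3341): in the `C₂` configuration `x^G · y^G ∌ x`.
-/

set_option autoImplicit false
set_option linter.unusedSectionVars false

namespace Cfsg.Agent.Helper67.A6GC2

open Cfsg Finset Cfsg.Agent.Helper21.A6 Cfsg.Agent.Helper67.A6C
open Cfsg.Agent.Helper3.S3S3 (pairCount)

universe u
variable {G : Type u} [Group G] [Finite G]

/-- (GC2) -/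
theorem pair_count2 [Fintype G] [DecidableEq G] (T : Subgroup G) (x y t : G)
    (hd : NData2 T x y t)
    (hpair : ∀ x₁ x₂ x₃ : G, x₁ ∈ T → x₂ ∈ T → x₃ ∈ T → x₁ ≠ 1 → x₂ ≠ 1 → x₃ ≠ 1 →
      ¬ IsConj x₁ x₂ → ∀ g h : G, g * x₁ * g⁻¹ * (h * x₂ * h⁻¹) = x₃ →
      g ∈ Subgroup.normalizer (T : Set G) ∧ h ∈ Subgroup.normalizer (T : Set G))
    (hnxy : ¬ IsConj x y) :
    pairCount x y x = 0 := by
  unfold pairCount
  rw [Finset.card_eq_zero, Finset.filter_eq_empty_iff]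
  rintro ⟨g, h⟩ - hgh
  obtain ⟨hg, hh⟩ := hpair x y x hd.xT hd.yT hd.xT hd.x1 hd.y1 hd.x1 hnxy g h hgh
  obtain ⟨e, he, h1, -⟩ := conj_coords2 hd hg
  obtain ⟨f, hf, -, h2⟩ := conj_coords2 hd hh
  simp only at hgh
  rw [h1, h2] at hgh
  have h3 : x ^ e * y ^ f = x ^ 1 * y ^ 0 := by rw [hgh, pow_one, pow_zero, mul_one]
  have h5 := (pow_mul_pow_inj hd.x3 hd.y3 hd.indep h3).2
  rw [pow_eq_iff hd.y3 hd.y1] at h5
  rcases hf with rfl | rfl <;> omega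

end Cfsg.Agent.Helper67.A6GC2
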