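import Mathlib
import Cfsg.Agent.Helper21.THDefs2
import Cfsg.Agent.Helper21.THMin
import Cfsg.Agent.Helper49.THW2

/-!
helper67 (for helper21, WANTED #5557 (E2), (E3)): the endgame of Thompson's theorem S3797.
`fix_cent_of`, `hyp_cent_of`: the two statements with the pieces (N2a), (N2d) as hypotheses.
-/

set_option autoImplicit false
set_option linter.unusedSectionVars false
set_option linter.unusedVariables false

namespace Cfsg.Agent.Helper67.TH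

open Subgroup Cfsg Cfsg.Agent.Helper21.TH
open scoped commutatorElement

universe u

variable {G : Type u} [Group G] [Finite G]

/-- the common part of (E2) and (E3): application of (W2) to `A ≤ U` and an element `t ∈ U` inverted by `x ∈ X` -/
theorem w2_apply {P V X D U R Y : Subgroup G} (h : YCfg P V X D U R Y) (A : Subgroup G) (hAU : A ≤ U)
    {x t : G} (hx : x ∈ X) (ht : t ∈ U) (hxt : x * t * x⁻¹ = t⁻¹)
    (hxA : ∀ a ∈ A, x * a = a * x)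
    (htA : ∀ a ∈ A, t * a * t⁻¹ * a⁻¹ ∈ centralizer (Y : Set G)) :
    ∀ a ∈ A, ∀ y ∈ Y, a * (t * y * t⁻¹ * y⁻¹) * a⁻¹ = t * y * t⁻¹ * y⁻¹ := by
  have hVc : V ≤ centralizer (Y : Set G) :=
    h.z.hVZ.trans (Subgroup.centralizer_le (by exact_mod_cast h.hYP))
  have hV2 : ∀ v ∈ V, v ^ 2 = 1 := fun v hv => ((h.z.hV v).1 hv).2
  have hΩ : ∀ y ∈ Y, y ^ 2 = 1 → y ∈ V := fun y hy hy2 => (h.z.hV y).2 ⟨h.hYP hy, hy2⟩
  have hx2 : ∀ y ∈ Y, x ^ 2 * y * (x ^ 2)⁻¹ * y⁻¹ ∈ V := by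
    intro y hy
    have h1 : x ^ 2 ∈ centralizer (Y : Set G) := h.hDY (h.z.m.sq_mem hx)
    have h2 : y * x ^ 2 = x ^ 2 * y := Subgroup.mem_centralizer_iff.mp h1 y hy
    have h3 : x ^ 2 * y * (x ^ 2)⁻¹ * y⁻¹ = 1 := by
      rw [← h2]; group
    rw [h3]
    exact V.one_mem
  have hUodd := h.z.m.hUodd
  have htodd : Odd (orderOf t) := by
    have h1 : orderOf t ∣ Nat.card U := Subgroup.orderOf_dvd_natCard U ht
    exact Odd.of_dvd_nat hUodd h1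
  have hAodd : Odd (Nat.card A) := Odd.of_dvd_nat hUodd (Subgroup.card_dvd_of_le hAU)
  exact Cfsg.Agent.Helper49.THW2.A_centralizes_comm Y V A x t h.hVY hVc hV2 h.hsq hΩ (h.hXY hx)
    (h.z.hXV hx) hx2 (h.hUY ht) (h.z.hUV ht) htodd hxt (hAU.trans h.hUY) (hAU.trans h.z.hUV) hAodd
    hxA htA

/-- (E2) with (N2d) `inverted_gen` as a hypothesis -/
theorem fix_cent_of {P V X D U R Y : Subgroup G} (h : YCfg P V X D U R Y)
    (hgen : U = closure {t : G | t ∈ U ∧ ∃ x ∈ X, x * t * x⁻¹ = t⁻¹}) :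
    U ⊓ centralizer (X : Set G) ≤ centralizer (Y : Set G) := by
  have hAU : U ⊓ centralizer (X : Set G) ≤ U := inf_le_left
  have hAZ : U ⊓ centralizer (X : Set G) ≤ centralizer (U : Set G) := h.z.m.fix_central
  -- every `a ∈ A` commutes with every `t ∈ U`
  have hcomm : ∀ a ∈ U ⊓ centralizer (X : Set G), ∀ t ∈ U, t * a = a * t :=
    fun a ha t ht => Subgroup.mem_centralizer_iff.mp (hAZ ha) t ht
  have key : ∀ t ∈ U, ∀ a ∈ U ⊓ centralizer (X : Set G), ∀ y ∈ Y,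
      a * (t * y * t⁻¹ * y⁻¹) * a⁻¹ = t * y * t⁻¹ * y⁻¹ := by
    intro t ht
    have ht' : t ∈ closure {t : G | t ∈ U ∧ ∃ x ∈ X, x * t * x⁻¹ = t⁻¹} := by
      rw [← hgen]; exact ht
    have hp : t ∈ U ∧ ∀ a ∈ U ⊓ centralizer (X : Set G), ∀ y ∈ Y,
        a * (t * y * t⁻¹ * y⁻¹) * a⁻¹ = t * y * t⁻¹ * y⁻¹ := by
      refine Subgroup.closure_induction (p := fun t _ => t ∈ U ∧
        ∀ a ∈ U ⊓ centralizer (X : Set G), ∀ y ∈ Y,
          a * (t * y * t⁻¹ * y⁻¹) * a⁻¹ = t * y * t⁻¹ * y⁻¹) ?_ ?_ ?_ ?_ ht'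
      · rintro s ⟨hsU, x, hx, hxs⟩
        refine ⟨hsU, ?_⟩
        apply w2_apply h _ hAU hx hsU hxs
        · intro a ha
          exact Subgroup.mem_centralizer_iff.mp ha.2 x hx
        · intro a ha
          have h1 : s * a * s⁻¹ * a⁻¹ = 1 := by
            rw [hcomm a ha s hsU]; group
          rw [h1]
          exact Subgroup.one_mem _
      · refine ⟨U.one_mem, ?_⟩
        intro a ha y hy
        group
      · rintro s s' _ _ ⟨hsU, hs⟩ ⟨hs'U, hs'⟩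
        refine ⟨U.mul_mem hsU hs'U, ?_⟩
        intro a ha y hy
        have e1 : s * s' * y * (s * s')⁻¹ * y⁻¹ =
            s * (s' * y * s'⁻¹ * y⁻¹) * s⁻¹ * (s * y * s⁻¹ * y⁻¹) := by group
        have e2 : a * (s * (s' * y * s'⁻¹ * y⁻¹) * s⁻¹ * (s * y * s⁻¹ * y⁻¹)) * a⁻¹ =
            (a * s * a⁻¹) * (a * (s' * y * s'⁻¹ * y⁻¹) * a⁻¹) * (a * s * a⁻¹)⁻¹ *
              (a * (s * y * s⁻¹ * y⁻¹) * a⁻¹) := by group
        have e3 : a * s * a⁻¹ = s := by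
          rw [← hcomm a ha s hsU]; group
        rw [e1, e2, e3, hs a ha y hy, hs' a ha y hy]
      · rintro s _ ⟨hsU, hs⟩
        refine ⟨U.inv_mem hsU, ?_⟩
        intro a ha y hy
        have hy' : s⁻¹ * y * s ∈ Y := by
          have h1 := (Subgroup.mem_normalizer_iff.mp (h.hUY (U.inv_mem hsU))) y
          have h2 := h1.1 hy
          rw [inv_inv] at h2
          exact h2
        have e1 : s⁻¹ * y * s⁻¹⁻¹ * y⁻¹ = (s * (s⁻¹ * y * s) * s⁻¹ * (s⁻¹ * y * s)⁻¹)⁻¹ := by group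
        have e2 : ∀ g : G, a * g⁻¹ * a⁻¹ = (a * g * a⁻¹)⁻¹ := by intro g; group
        rw [e1, e2, hs a ha _ hy']
    exact hp.2
  -- hence `⁅Y, U⁆ ≤ C(A)`
  have hYU : ⁅Y, U⁆ ≤ centralizer ((U ⊓ centralizer (X : Set G) : Subgroup G) : Set G) := by
    rw [Subgroup.commutator_le]
    intro y hy t ht
    rw [Subgroup.mem_centralizer_iff]
    intro a ha
    have h1 := key t ht a ha y hy
    have e1 : ⁅y, t⁆ = (t * y * t⁻¹ * y⁻¹)⁻¹ := by
      rw [commutatorElement_def]; group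
    rw [e1]
    have h2 : a * (t * y * t⁻¹ * y⁻¹)⁻¹ * a⁻¹ = (t * y * t⁻¹ * y⁻¹)⁻¹ := by
      have : a * (t * y * t⁻¹ * y⁻¹)⁻¹ * a⁻¹ = (a * (t * y * t⁻¹ * y⁻¹) * a⁻¹)⁻¹ := by group
      rw [this, h1]
    calc a * (t * y * t⁻¹ * y⁻¹)⁻¹ = a * (t * y * t⁻¹ * y⁻¹)⁻¹ * a⁻¹ * a := by group
      _ = (t * y * t⁻¹ * y⁻¹)⁻¹ * a := by rw [h2]
  rw [h.hcomm] at hYU
  exact Subgroup.le_centralizer_iff.mp hYU

end Cfsg.Agent.Helper67.TH
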