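import Mathlib
import Cfsg.Agent.Helper21.THDefs2
import Cfsg.Agent.Helper21.THMin
import Cfsg.Agent.Helper67.THE2

/-!
helper67 (for helper21, WANTED #5557 (E3)): the endgame of Thompson's theorem S3797.
-/

set_option autoImplicit false
set_option linter.unusedSectionVars false
set_option linter.unusedVariables false

namespace Cfsg.Agent.Helper67.TH

open Subgroup Cfsg Cfsg.Agent.Helper21.TH
open scoped commutatorElement

universe u

variable {G : Type u} [Group G] [Finite G]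

/-- (E3) with the pieces (N2a) `exists_mem_not_mem` and (N2d) `hyp_decomp` as hypotheses (for the given `H'`) -/
theorem hyp_cent_of {P V X D U R Y : Subgroup G} (h : YCfg P V X D U R Y)
    (hfix : U ⊓ centralizer (X : Set G) ≤ centralizer (Y : Set G))
    {H H' : Subgroup G} (hH : IsHyp X D H) (hH' : IsHyp X D H')
    (hex : ∃ x ∈ H, x ∉ H')
    (hdec : ∀ {x : G}, x ∈ X → x ∉ H' → ∀ {u : G}, u ∈ U ⊓ centralizer (H' : Set G) →
      ∃ c ∈ U ⊓ centralizer (X : Set G), ∃ i ∈ U ⊓ centralizer (H' : Set G),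
        x * i * x⁻¹ = i⁻¹ ∧ u = c * i) :
    U ⊓ centralizer (H : Set G) ≤
      centralizer ((⁅Y, U ⊓ centralizer (H' : Set G)⁆ : Subgroup G) : Set G) := by
  obtain ⟨x, hxH, hxH'⟩ := hex
  have hxX : x ∈ X := hH.2.1 hxH
  have hAU : U ⊓ centralizer (H : Set G) ≤ U := inf_le_left
  rw [Subgroup.le_centralizer_iff, Subgroup.commutator_le]
  intro y hy u hu
  obtain ⟨c, hc, i, hi, hxi, rfl⟩ := hdec hxX hxH' hu
  have hcY : c ∈ centralizer (Y : Set G) := hfix hc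
  have hiU : i ∈ U := hi.1
  -- `i y⁻¹ i⁻¹ ∈ Y`
  have hiy : i * y⁻¹ * i⁻¹ ∈ Y :=
    (Subgroup.mem_normalizer_iff.mp (h.hUY hiU) y⁻¹).1 (Y.inv_mem hy)
  have hyiy : y * i * y⁻¹ * i⁻¹ ∈ Y := by
    have : y * i * y⁻¹ * i⁻¹ = y * (i * y⁻¹ * i⁻¹) := by group
    rw [this]
    exact Y.mul_mem hy hiy
  have e1 : ⁅y, c * i⁆ = (i * y * i⁻¹ * y⁻¹)⁻¹ := by
    rw [commutatorElement_def]
    have h1 : y * c = c * y := Subgroup.mem_centralizer_iff.mp hcY y hy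
    have h2 : (y * i * y⁻¹ * i⁻¹) * c = c * (y * i * y⁻¹ * i⁻¹) :=
      Subgroup.mem_centralizer_iff.mp hcY _ hyiy
    calc y * (c * i) * y⁻¹ * (c * i)⁻¹ = (y * c) * i * y⁻¹ * i⁻¹ * c⁻¹ := by group
      _ = c * y * i * y⁻¹ * i⁻¹ * c⁻¹ := by rw [h1]
      _ = c * (y * i * y⁻¹ * i⁻¹) * c⁻¹ := by group
      _ = (y * i * y⁻¹ * i⁻¹) * c * c⁻¹ := by rw [← h2]
      _ = (i * y * i⁻¹ * y⁻¹)⁻¹ := by group
  rw [e1, Subgroup.mem_centralizer_iff]
  intro a ha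
  have key := w2_apply h (U ⊓ centralizer (H : Set G)) hAU hxX hiU hxi
    (fun a ha => Subgroup.mem_centralizer_iff.mp ha.2 x hxH)
    (fun a ha => by
      have h1 : ⁅i, a⁆ ∈ ⁅U, U⁆ := Subgroup.commutator_mem_commutator hiU ha.1
      have h2 : ⁅i, a⁆ ∈ centralizer (Y : Set G) := hfix (h.z.m.derived_le_fix h1)
      rw [commutatorElement_def] at h2
      exact h2) a ha y hy
  have h2 : a * (i * y * i⁻¹ * y⁻¹)⁻¹ * a⁻¹ = (i * y * i⁻¹ * y⁻¹)⁻¹ := by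
    have : a * (i * y * i⁻¹ * y⁻¹)⁻¹ * a⁻¹ = (a * (i * y * i⁻¹ * y⁻¹) * a⁻¹)⁻¹ := by group
    rw [this, key]
  calc a * (i * y * i⁻¹ * y⁻¹)⁻¹ = a * (i * y * i⁻¹ * y⁻¹)⁻¹ * a⁻¹ * a := by group
    _ = (i * y * i⁻¹ * y⁻¹)⁻¹ * a := by rw [h2]

end Cfsg.Agent.Helper67.TH
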