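import Cfsg.Agent.Helper16.DT.Defs
import Cfsg.Agent.Helper16.Idempotent
import Cfsg.Agent.Helper74.CharBasic

set_option autoImplicit false
set_option linter.unusedSectionVars false
set_option linter.unusedVariables false

namespace Cfsg.Agent.Helper67.FS

open Cfsg Cfsg.Agent.Helper16 Cfsg.Agent.Helper16.DT
open scoped ComplexConjugate

universe u

variable {p : ℕ} [Fact p.Prime] {M : Ideal AlgInt} [M.IsMaximal] {G : Type u} [Group G]

/-- (KO4) the idempotent of `U` has coefficients in the local ring. -/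
theorem memLocalRing_blockCoeff_of_dichotomy (hM : IsPModular p M) [Finite G]
    (S : Finset (G → ℂ)) (d : IrrCharacter G → (G → ℂ) → ℕ)
    (hdec : ∀ χ : IrrCharacter G, pRegularPart p (χ : G → ℂ) = ∑ φ ∈ S, (d χ φ : ℂ) • φ)
    (hloc : ∀ φ ∈ S, ∀ g : G, MemLocalRing M (φ g))
    (hdiv : ∀ φ ∈ S, ∃ k : ℕ, ∑ᶠ χ : IrrCharacter G, (d χ φ : ℂ) * (χ : G → ℂ) 1 =
      ((p ^ (Nat.card G).factorization p * k : ℕ) : ℂ))
    (U : Set (IrrCharacter G))
    (hU : ∀ x : G, p ∣ orderOf x → ∑ᶠ χ ∈ U, (χ : G → ℂ) 1 * (χ : G → ℂ) x = 0)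
    (A : Set (G → ℂ)) (hA : ∀ χ : IrrCharacter G, ∀ φ ∈ S, d χ φ ≠ 0 → (χ ∈ U ↔ φ ∈ A)) (g : G) :
    MemLocalRing M (blockCoeff U g) := by
  classical
  have hMp : M.IsPrime := hM.2.1.isPrime
  let _ := Helper74.irrFintype G
  have hp : p.Prime := hM.1
  unfold blockCoeff
  have hconj : ∀ χ : IrrCharacter G, conj ((χ : G → ℂ) g) = (χ : G → ℂ) g⁻¹ :=
    fun χ => (Helper74.char_inv (Helper74.irr_isCharacter χ) g).symm
  have hsum : ∑ᶠ χ ∈ U, (χ : G → ℂ) 1 * conj ((χ : G → ℂ) g) =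
      ∑ᶠ χ ∈ U, (χ : G → ℂ) 1 * (χ : G → ℂ) g⁻¹ := by
    simp only [hconj]
  rw [hsum]
  by_cases hx : p ∣ orderOf g⁻¹
  · rw [hU _ hx, mul_zero]; exact memLocalRing_zero
  · have hreg : IsPRegular p g⁻¹ := hx
    have hχx : ∀ χ : IrrCharacter G, (χ : G → ℂ) g⁻¹ = ∑ φ ∈ S, (d χ φ : ℂ) * φ g⁻¹ := by
      intro χ
      have h := congrFun (hdec χ) g⁻¹
      have h1 : pRegularPart p (χ : G → ℂ) g⁻¹ = (χ : G → ℂ) g⁻¹ := by
        unfold pRegularPart
        rw [if_pos hreg]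
      rw [h1] at h
      rw [h, Finset.sum_apply]
      simp [Pi.smul_apply, smul_eq_mul]
    choose! k hk using hdiv
    set a := (Nat.card G).factorization p with ha
    have hcard0 : Nat.card G ≠ 0 := Nat.card_pos.ne'
    have hfac : p ^ a * (Nat.card G / p ^ a) = Nat.card G := Nat.ordProj_mul_ordCompl_eq_self _ p
    have hnd : ¬ p ∣ Nat.card G / p ^ a := Nat.not_dvd_ordCompl hp hcard0
    -- the inner sums
    have hinner : ∀ φ ∈ S, ∑ χ : IrrCharacter G,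
        (if χ ∈ U then (χ : G → ℂ) 1 * ((d χ φ : ℂ) * φ g⁻¹) else 0) =
        φ g⁻¹ * (if φ ∈ A then ((p ^ a * k φ : ℕ) : ℂ) else 0) := by
      intro φ hφ
      by_cases hφA : φ ∈ A
      · rw [if_pos hφA, ← hk φ hφ, finsum_eq_sum_of_fintype, Finset.mul_sum]
        refine Finset.sum_congr rfl (fun χ _ => ?_)
        by_cases hχU : χ ∈ U
        · rw [if_pos hχU]; ring
        · rw [if_neg hχU]
          have hd0 : d χ φ = 0 := by
            by_contra hne
            exact hχU ((hA χ φ hφ hne).mpr hφA)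
          rw [hd0]; simp
      · rw [if_neg hφA, mul_zero]
        refine Finset.sum_eq_zero (fun χ _ => ?_)
        by_cases hχU : χ ∈ U
        · rw [if_pos hχU]
          have hd0 : d χ φ = 0 := by
            by_contra hne
            exact hφA ((hA χ φ hφ hne).mp hχU)
          rw [hd0]; simp
        · rw [if_neg hχU]
    have htotal : ∑ᶠ χ ∈ U, (χ : G → ℂ) 1 * (χ : G → ℂ) g⁻¹ =
        ∑ φ ∈ S, φ g⁻¹ * (if φ ∈ A then ((p ^ a * k φ : ℕ) : ℂ) else 0) := by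
      rw [finsum_mem_def, finsum_eq_sum_of_fintype]
      have h1 : ∀ χ : IrrCharacter G,
          U.indicator (fun χ : IrrCharacter G => (χ : G → ℂ) 1 * (χ : G → ℂ) g⁻¹) χ =
          ∑ φ ∈ S, (if χ ∈ U then (χ : G → ℂ) 1 * ((d χ φ : ℂ) * φ g⁻¹) else 0) := by
        intro χ
        rw [Set.indicator_apply]
        by_cases hχU : χ ∈ U
        · simp only [if_pos hχU]
          rw [hχx χ, Finset.mul_sum]
        · simp only [if_neg hχU]
          rw [Finset.sum_const_zero]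
      rw [Finset.sum_congr rfl (fun χ _ => h1 χ), Finset.sum_comm]
      exact Finset.sum_congr rfl (fun φ hφ => hinner φ hφ)
    rw [htotal]
    have hfinal : (Nat.card G : ℂ)⁻¹ *
        ∑ φ ∈ S, φ g⁻¹ * (if φ ∈ A then ((p ^ a * k φ : ℕ) : ℂ) else 0) =
        ((Nat.card G / p ^ a : ℕ) : ℂ)⁻¹ *
          ∑ φ ∈ S, φ g⁻¹ * (if φ ∈ A then ((k φ : ℕ) : ℂ) else 0) := by
      have hpa : ((p ^ a : ℕ) : ℂ) ≠ 0 := by
        exact_mod_cast (pow_pos hp.pos a).ne'
      have hc : (Nat.card G : ℂ) = ((p ^ a : ℕ) : ℂ) * ((Nat.card G / p ^ a : ℕ) : ℂ) := by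
        rw [← Nat.cast_mul, hfac]
      have hs : ∑ φ ∈ S, φ g⁻¹ * (if φ ∈ A then ((p ^ a * k φ : ℕ) : ℂ) else 0) =
          ((p ^ a : ℕ) : ℂ) * ∑ φ ∈ S, φ g⁻¹ * (if φ ∈ A then ((k φ : ℕ) : ℂ) else 0) := by
        rw [Finset.mul_sum]
        refine Finset.sum_congr rfl (fun φ _ => ?_)
        by_cases hφA : φ ∈ A
        · simp only [if_pos hφA]; push_cast; ring
        · simp only [if_neg hφA]; ring
      have hgen : ∀ (X Y Z : ℂ), Y ≠ 0 → (Y⁻¹ * X⁻¹) * (Y * Z) = X⁻¹ * Z := by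
        intro X Y Z hY
        rw [mul_comm Y⁻¹, mul_assoc, inv_mul_cancel_left₀ hY]
      rw [hs, hc, mul_inv]
      exact hgen _ _ _ hpa
    rw [hfinal]
    refine memLocalRing_mul (memLocalRing_inv_natCast hM hnd) (memLocalRing_sum _ _ (fun φ hφ => ?_))
    refine memLocalRing_mul (hloc φ hφ _) ?_
    by_cases hφA : φ ∈ A
    · rw [if_pos hφA]; exact memLocalRing_natCast _
    · rw [if_neg hφA]; exact memLocalRing_zero

end Cfsg.Agent.Helper67.FS
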