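import Cfsg.Agent.Helper61.Sr.Basic
import Cfsg.Agent.Helper87.DihFR3

/-!
# S3572 (helper61), piece (F-ref): the reflection coefficients of the `q`-th power vanish mod `q`
when the reflection part is `q`-periodic (`q` odd)
-/

set_option autoImplicit false
set_option linter.unusedSectionVars false
set_option linter.unusedVariables false
set_option linter.style.haveILetI false

namespace Cfsg.Agent.Helper67.Sr

open Finset DihedralGroup Cfsg.Agent.Helper61.Dih Cfsg.Agent.Helper61.Sr Cfsg.Agent.Helper87.Dih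

variable {n : ℕ} [NeZero n]

/-- a sum of a `q`-periodic function over a `q`-periodic subset of `ZMod n` vanishes in
characteristic `q` -/
theorem Fref_sum_periodic {M : Type*} [AddCommMonoid M] (q : ℕ) [Fact q.Prime] (hqn : q ∣ n)
    (hM : ∀ m : M, q • m = 0) (B : Finset (ZMod n)) (g : ZMod n → M)
    (hB : ∀ j u : ZMod n, q • u = 0 → (j ∈ B ↔ j + u ∈ B))
    (hg : ∀ j u : ZMod n, q • u = 0 → g (j + u) = g j) : ∑ j ∈ B, g j = 0 := by
  classical
  let U : AddSubgroup (ZMod n) := (nsmulAddMonoidHom q : ZMod n →+ ZMod n).ker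
  have hU : ∀ u : ZMod n, u ∈ U ↔ q • u = 0 := fun u => by
    simp [U, AddMonoidHom.mem_ker]
  rw [← Finset.sum_fiberwise_of_maps_to (s := B) (t := B.image (fun j => (QuotientAddGroup.mk j : ZMod n ⧸ U)))
    (g := fun j => (QuotientAddGroup.mk j : ZMod n ⧸ U)) (fun j hj => Finset.mem_image_of_mem _ hj)]
  apply Finset.sum_eq_zero
  intro c hc
  obtain ⟨j₀, hj₀, rfl⟩ := Finset.mem_image.1 hc
  have hfib : B.filter (fun j => (QuotientAddGroup.mk j : ZMod n ⧸ U) = (QuotientAddGroup.mk j₀ : ZMod n ⧸ U)) =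
      (univ.filter (fun u : ZMod n => q • u = 0)).image (fun u => j₀ + u) := by
    ext j
    simp only [Finset.mem_filter, Finset.mem_image, Finset.mem_univ, true_and]
    constructor
    · rintro ⟨hj, hjj⟩
      rw [QuotientAddGroup.eq, hU] at hjj
      refine ⟨-j₀ + j, ?_, by abel⟩
      have : -j₀ + j = -(-j + j₀) := by abel
      rw [this, smul_neg, hjj, neg_zero]
    · rintro ⟨u, hu, rfl⟩
      refine ⟨(hB j₀ u hu).1 hj₀, ?_⟩
      rw [QuotientAddGroup.eq, hU]
      have : -(j₀ + u) + j₀ = -u := by abel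
      rw [this, smul_neg, hu, neg_zero]
  rw [hfib, Finset.sum_image (fun a _ b _ h => add_left_cancel h)]
  rw [Finset.sum_congr rfl (fun u hu => hg j₀ u (Finset.mem_filter.1 hu).2), Finset.sum_const,
    Cfsg.Agent.Helper61.Dih.card_torsion q hqn, hM]

/-- a periodic reflection sum is fixed by the torsion rotations -/
theorem Fref_rot_mul_refSum (q : ℕ) [Fact q.Prime] (B : Finset (ZMod n))
    (hB : ∀ j u : ZMod n, q • u = 0 → (j ∈ B ↔ j + u ∈ B)) (u : ZMod n) (hu : q • u = 0) :
    MonoidAlgebra.single (r u) (1 : ZMod q) * refSum q B = refSum q B := by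
  unfold refSum
  rw [Finset.mul_sum]
  simp only [MonoidAlgebra.single_mul_single, r_mul_sr, mul_one]
  have hnu : q • (-u) = 0 := by rw [smul_neg, hu, neg_zero]
  refine Finset.sum_nbij' (fun j => j - u) (fun j => j + u) ?_ ?_ ?_ ?_ ?_
  · intro j hj
    have := (hB j (-u) hnu).1 hj
    rwa [← sub_eq_add_neg] at this
  · intro j hj
    exact (hB j u hu).1 hj
  · intro j _
    exact sub_add_cancel j u
  · intro j _
    exact add_sub_cancel_right j u
  · intro j _
    rfl

/-- the square of a periodic reflection sum vanishes -/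
theorem Fref_refSum_sq (q : ℕ) [Fact q.Prime] (hqn : q ∣ n) (B : Finset (ZMod n))
    (hB : ∀ j u : ZMod n, q • u = 0 → (j ∈ B ↔ j + u ∈ B)) :
    refSum q B * refSum q B = 0 := by
  haveI := charP_monoidAlgebra q (DihedralGroup n)
  have h1 : refSum q B * refSum q B =
      ∑ j ∈ B, MonoidAlgebra.single (sr j) (1 : ZMod q) * refSum q B := by
    conv_lhs => rw [refSum.eq_1 q B]
    rw [Finset.sum_mul]
    rfl
  rw [h1]
  apply Fref_sum_periodic q hqn _ B _ hB
  · intro j u hu
    have : MonoidAlgebra.single (sr (j + u)) (1 : ZMod q) =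
        MonoidAlgebra.single (sr j) (1 : ZMod q) * MonoidAlgebra.single (r u) (1 : ZMod q) := by
      rw [MonoidAlgebra.single_mul_single, sr_mul_r, mul_one]
    rw [this, mul_assoc, Fref_rot_mul_refSum q B hB u hu]
  · intro m
    rw [nsmul_eq_mul, CharP.cast_eq_zero, zero_mul]

/-- (F-ref) the reflection coefficients of the `q`-th power vanish mod `q` when the reflection
part is `q`-periodic (`q` odd) -/
theorem coeff_pow_ref (T : Finset (DihedralGroup n)) (hinv : ∀ d ∈ T, d⁻¹ ∈ T) (q : ℕ)
    [Fact q.Prime] (hq2 : q ≠ 2) (hqn : q ∣ n)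
    (hB : ∀ j u : ZMod n, q • u = 0 → (sr j ∈ T ↔ sr (j + u) ∈ T)) (x : ZMod n) :
    ((((ind T : MonoidAlgebra ℤ (DihedralGroup n)) ^ q).coeff (sr x) : ℤ) : ZMod q) = 0 := by
  haveI := charP_monoidAlgebra q (DihedralGroup n)
  have hq : q.Prime := Fact.out
  set φ := MonoidAlgebra.mapRingHom (DihedralGroup n) (Int.castRingHom (ZMod q)) with hφ
  have hT : T = (rotPart T).image r ∪ (refPart T).image sr := by
    ext d
    cases d with
    | r i => simp [mem_rotPart]
    | sr j => simp [mem_refPart]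
  have hdisj : Disjoint ((rotPart T).image (r : ZMod n → DihedralGroup n))
      ((refPart T).image sr) := by
    rw [Finset.disjoint_left]
    intro d hd hd'
    obtain ⟨i, _, rfl⟩ := Finset.mem_image.mp hd
    obtain ⟨j, _, hj⟩ := Finset.mem_image.mp hd'
    cases hj
  have hind : φ (ind T) = rotSum q (rotPart T) + refSum q (refPart T) := by
    unfold ind rotSum refSum
    conv_lhs => rw [hT]
    rw [Finset.sum_union hdisj, map_add, map_sum, map_sum,
      Finset.sum_image (fun a _ b _ h => by injection h),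
      Finset.sum_image (fun a _ b _ h => by injection h)]
    simp [hφ]
  have hA : ∀ i ∈ rotPart T, -i ∈ rotPart T := by
    intro i hi
    rw [mem_rotPart] at hi ⊢
    have := hinv _ hi
    rwa [inv_r] at this
  have hB' : ∀ j u : ZMod n, q • u = 0 → (j ∈ refPart T ↔ j + u ∈ refPart T) := by
    intro j u hu
    rw [mem_refPart, mem_refPart]
    exact hB j u hu
  obtain ⟨k, hk⟩ : ∃ k, q = 2 * k + 1 := by
    rcases hq.eq_two_or_odd' with h | h
    · exact absurd h hq2
    · obtain ⟨k, hk⟩ := h; exact ⟨k, hk⟩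
  have hk0 : k ≠ 0 := by
    rintro rfl
    have := hq.two_le
    omega
  have h1 : ((((ind T : MonoidAlgebra ℤ (DihedralGroup n)) ^ q).coeff (sr x) : ℤ) : ZMod q) =
      ((φ (ind T)) ^ q).coeff (sr x) := by
    rw [← map_pow, hφ, MonoidAlgebra.coeff_mapRingHom]
    rfl
  rw [h1, hind, add_pow_char_of_commute q (rotSum_commute_refSum q _ _ hA), MonoidAlgebra.coeff_add,
    Finsupp.add_apply]
  have h2 : (rotSum q (rotPart T) ^ q).coeff (sr x) = 0 := by
    rw [rotSum_pow, MonoidAlgebra.coeff_sum, Finsupp.finsetSum_apply]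
    apply Finset.sum_eq_zero
    intro i _
    rw [MonoidAlgebra.coeff_single, Finsupp.single_apply, if_neg (by simp)]
  have h3 : refSum q (refPart T) ^ q = 0 := by
    have e : refSum q (refPart T) ^ q = refSum q (refPart T) ^ (2 * k + 1) :=
      congrArg (fun m => refSum q (refPart T) ^ m) hk
    rw [e, pow_succ, pow_mul, pow_two, Fref_refSum_sq q hqn _ hB', zero_pow hk0, zero_mul]
  rw [h2, h3, zero_add]
  rfl

end Cfsg.Agent.Helper67.Sr
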