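/-
helper67 (for helper19, WANTED #2875): `gcd(3, q+1) * |H ∩ ²E₆(q)| = (q - 1)⁴ (q + 1)²`.
-/
import Cfsg.Agent.Helper67.TorusE6B

set_option autoImplicit false
set_option maxRecDepth 100000
set_option linter.unusedSectionVars false

namespace Cfsg.Agent.Helper67.TorusE6

open Cfsg Cfsg.Lie Cfsg.Agent.Helper18 Cfsg.Agent.Helper40.GraphAut Cfsg.Agent.S1081
  Cfsg.Agent.Helper19.Twist

section Count

variable {K : Type*} [Field K] [Fintype K] {q : ℕ} (f : K ≃+* K) (hf : ∀ t, f t = t ^ q)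

/-- the units of the fixed field -/
abbrev Bk (K : Type*) [Field K] (q : ℕ) : Subgroup Kˣ := (powMonoidHom (q - 1) : Kˣ →* Kˣ).ker

theorem Bk_pow (hq : 1 ≤ q) (u : Kˣ) (hu : u ∈ Bk K q) : ((u : Kˣ) : K) ^ q = u := by
  have h1 : u ^ (q - 1) = 1 := hu
  have h2 := congrArg Units.val h1
  rw [Units.val_pow_eq_pow_val, Units.val_one] at h2
  calc (u : K) ^ q = (u : K) ^ (q - 1 + 1) := by rw [Nat.sub_add_cancel hq]
    _ = (u : K) := by rw [pow_succ, h2, one_mul]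

theorem mem_Bk (hq : 1 ≤ q) (x : K) (hx : x ≠ 0) (h : x ^ q = x) : Units.mk0 x hx ∈ Bk K q := by
  show (Units.mk0 x hx) ^ (q - 1) = 1
  apply Units.ext
  rw [Units.val_pow_eq_pow_val, Units.val_mk0, Units.val_one]
  have : x ^ (q - 1) * x = 1 * x := by rw [← pow_succ, Nat.sub_add_cancel hq, h, one_mul]
  exact mul_right_cancel₀ hx this

/-- the parameter group -/
abbrev SS (K : Type*) [Field K] (q : ℕ) : Type _ := Kˣ × Kˣ × Bk K q × Bk K q

theorem card_Bk (hq : 1 ≤ q) (hK : Fintype.card K = q ^ 2) : Nat.card (Bk K q) = q - 1 := by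
  rw [IsCyclic.card_powMonoidHom_ker, Nat.card_units, Nat.card_eq_fintype_card, hK]
  apply Nat.gcd_eq_right
  exact Nat.sub_one_dvd_pow_sub_one q 2

theorem card_SS (hq : 1 ≤ q) (hK : Fintype.card K = q ^ 2) :
    Nat.card (SS K q) = (q ^ 2 - 1) * ((q ^ 2 - 1) * ((q - 1) * (q - 1))) := by
  rw [Nat.card_prod, Nat.card_prod, Nat.card_prod, card_Bk hq hK, Nat.card_units,
    Nat.card_eq_fintype_card, hK]

/-- the torus `H ∩ ²E₆(q)` -/
abbrev TT (K : Type*) [Field K] (q : ℕ) : Subgroup (GL chevE6.Idx K) :=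
  chevE6.diagonalSubgroup K ⊓ twistedE6 K q

include hf in
/-- `ψ` as a map into the torus -/
noncomputable def psiT (hq : 1 ≤ q) (s : SS K q) : TT K q :=
  ⟨psi0 f (s.1 : K) (s.2.1 : K) ((s.2.2.1 : Kˣ) : K) ((s.2.2.2 : Kˣ) : K),
    psi0_memH f _ _ _ _ s.1.ne_zero s.2.1.ne_zero (s.2.2.1 : Kˣ).ne_zero (s.2.2.2 : Kˣ).ne_zero,
    psi0_memG f hf _ _ _ _ (by rw [hf]; exact Bk_pow hq _ s.2.2.1.2)
      (by rw [hf]; exact Bk_pow hq _ s.2.2.2.2)⟩

include hf in
/-- lower bound -/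
theorem card_SS_le (hq : 1 ≤ q) : Nat.card (SS K q) ≤ Nat.gcd 3 (q + 1) * Nat.card (TT K q) := by
  classical
  haveI : Fintype (SS K q) := Fintype.ofFinite _
  haveI : Fintype (TT K q) := Fintype.ofFinite _
  haveI : Fintype Kˣ := Fintype.ofFinite _
  set d := Nat.gcd 3 (q + 1) with hd
  have hd0 : 0 < d := Nat.gcd_pos_of_pos_left _ (by norm_num)
  have h1 := Finset.card_le_mul_card_image (f := psiT f hf hq) (Finset.univ : Finset (SS K q)) d ?_
  · rw [Nat.card_eq_fintype_card, Nat.card_eq_fintype_card]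
    calc Fintype.card (SS K q) = (Finset.univ : Finset (SS K q)).card := rfl
      _ ≤ d * (Finset.univ.image (psiT f hf hq)).card := h1
      _ ≤ d * Fintype.card (TT K q) := Nat.mul_le_mul_left _ (Finset.card_le_univ _)
  · intro b hb
    obtain ⟨s0, -, rfl⟩ := Finset.mem_image.mp hb
    refine le_trans ?_ (IsCyclic.card_pow_eq_one_le (α := Kˣ) hd0)
    apply Finset.card_le_card_of_injOn (fun x => x.1 * s0.1⁻¹)
    · intro x hx
      have hx' : psiT f hf hq x = psiT f hf hq s0 := (Finset.mem_filter.mp hx).2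
      have hx'' : psi0 f (s0.1 : K) (s0.2.1 : K) ((s0.2.2.1 : Kˣ) : K) ((s0.2.2.2 : Kˣ) : K) =
          psi0 f (x.1 : K) (x.2.1 : K) ((x.2.2.1 : Kˣ) : K) ((x.2.2.2 : Kˣ) : K) :=
        (congrArg Subtype.val hx').symm
      obtain ⟨w3, wf, -, -, -⟩ := psi0_fiber f _ _ _ _ _ _ _ _ s0.1.ne_zero s0.2.1.ne_zero
        (s0.2.2.1 : Kˣ).ne_zero (s0.2.2.2 : Kˣ).ne_zero x.1.ne_zero x.2.1.ne_zero
        (x.2.2.1 : Kˣ).ne_zero (x.2.2.2 : Kˣ).ne_zero hx''
      rw [Finset.mem_coe, Finset.mem_filter]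
      refine ⟨Finset.mem_univ _, ?_⟩
      apply Units.ext
      rw [Units.val_pow_eq_pow_val, Units.val_one, Units.val_mul, Units.val_inv_eq_inv_val]
      set w : K := (x.1 : K) * (s0.1 : K)⁻¹ with hw
      have wq : w ^ (q + 1) = 1 := by
        rw [pow_succ, ← hf, wf, ← pow_succ]; exact w3
      exact pow_gcd_eq_one.mpr ⟨w3, wq⟩
    · intro x hx x' hx' hxx
      have hx1 : psiT f hf hq x = psiT f hf hq s0 := (Finset.mem_filter.mp hx).2
      have hx1' : psiT f hf hq x' = psiT f hf hq s0 := (Finset.mem_filter.mp hx').2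
      have e1 : psi0 f (s0.1 : K) (s0.2.1 : K) ((s0.2.2.1 : Kˣ) : K) ((s0.2.2.2 : Kˣ) : K) =
          psi0 f (x.1 : K) (x.2.1 : K) ((x.2.2.1 : Kˣ) : K) ((x.2.2.2 : Kˣ) : K) :=
        (congrArg Subtype.val hx1).symm
      have e2 : psi0 f (s0.1 : K) (s0.2.1 : K) ((s0.2.2.1 : Kˣ) : K) ((s0.2.2.2 : Kˣ) : K) =
          psi0 f (x'.1 : K) (x'.2.1 : K) ((x'.2.2.1 : Kˣ) : K) ((x'.2.2.2 : Kˣ) : K) :=
        (congrArg Subtype.val hx1').symm
      obtain ⟨-, -, b1, c1, d1⟩ := psi0_fiber f _ _ _ _ _ _ _ _ s0.1.ne_zero s0.2.1.ne_zero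
        (s0.2.2.1 : Kˣ).ne_zero (s0.2.2.2 : Kˣ).ne_zero x.1.ne_zero x.2.1.ne_zero
        (x.2.2.1 : Kˣ).ne_zero (x.2.2.2 : Kˣ).ne_zero e1
      obtain ⟨-, -, b2, c2, d2⟩ := psi0_fiber f _ _ _ _ _ _ _ _ s0.1.ne_zero s0.2.1.ne_zero
        (s0.2.2.1 : Kˣ).ne_zero (s0.2.2.2 : Kˣ).ne_zero x'.1.ne_zero x'.2.1.ne_zero
        (x'.2.2.1 : Kˣ).ne_zero (x'.2.2.2 : Kˣ).ne_zero e2
      have hxx' : x.1 = x'.1 := mul_right_cancel (b := s0.1⁻¹) hxx
      have hb : x.2.1 = x'.2.1 := by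
        apply Units.ext
        have hbb : (x.2.1 : K) * (s0.2.1 : K)⁻¹ = (x'.2.1 : K) * (s0.2.1 : K)⁻¹ := by
          rw [b1, b2, hxx']
        exact mul_right_cancel₀ (inv_ne_zero s0.2.1.ne_zero) hbb
      have hc : x.2.2.1 = x'.2.2.1 := Subtype.ext (Units.ext (c1.trans c2.symm))
      have hdd : x.2.2.2 = x'.2.2.2 := Subtype.ext (Units.ext (d1.trans d2.symm))
      exact Prod.ext hxx' (Prod.ext hb (Prod.ext hc hdd))


include hf in
theorem entry_sigma_E6 (hK : Fintype.card K = q ^ 2) (g : GL chevE6.Idx K) (hg : g ∈ TT K q) (u : ℕ)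
    (hu : u < chevE6.nroots) :
    rootEntry chevE6 (g : Matrix chevE6.Idx chevE6.Idx K) (pi0 u) =
      f (rootEntry chevE6 (g : Matrix chevE6.Idx chevE6.Idx K) u) := by
  have hfix : sigE6 f g = g := (mem_FixE6 f g).mp (twistedE6_le_FixE6 f hf hK hg.2)
  exact rootEntry_sigma chevE6 memE6 rho0 rhoInv0 pi0 piInv0 eps0 permsOK_E6 f g hg.1 hfix u hu

include hf in
theorem entry_fixed (hK : Fintype.card K = q ^ 2) (g : GL chevE6.Idx K) (hg : g ∈ TT K q) (u : ℕ)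
    (hu : u < chevE6.nroots) (hpu : pi0 u = u) :
    rootEntry chevE6 (g : Matrix chevE6.Idx chevE6.Idx K) u ^ q =
      rootEntry chevE6 (g : Matrix chevE6.Idx chevE6.Idx K) u := by
  have h := entry_sigma_E6 f hf hK g hg u hu
  rw [hpu, hf] at h
  exact h.symm

include hf in
/-- the parameters of a torus element -/
noncomputable def phiT (hq : 1 ≤ q) (hK : Fintype.card K = q ^ 2) (g : TT K q) : SS K q :=
  (Units.mk0 (rootEntry chevE6 ((g : GL chevE6.Idx K) : Matrix chevE6.Idx chevE6.Idx K) 56)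
      (rootEntry_ne_zero chevE6 memE6 (g : GL chevE6.Idx K) g.2.1 56),
    Units.mk0 (rootEntry chevE6 ((g : GL chevE6.Idx K) : Matrix chevE6.Idx chevE6.Idx K) 42)
      (rootEntry_ne_zero chevE6 memE6 (g : GL chevE6.Idx K) g.2.1 42),
    ⟨Units.mk0 (rootEntry chevE6 ((g : GL chevE6.Idx K) : Matrix chevE6.Idx chevE6.Idx K) 39)
      (rootEntry_ne_zero chevE6 memE6 (g : GL chevE6.Idx K) g.2.1 39),
      mem_Bk hq _ _ (entry_fixed f hf hK (g : GL chevE6.Idx K) g.2 39 (by decide) rfl)⟩,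
    ⟨Units.mk0 (rootEntry chevE6 ((g : GL chevE6.Idx K) : Matrix chevE6.Idx chevE6.Idx K) 46)
      (rootEntry_ne_zero chevE6 memE6 (g : GL chevE6.Idx K) g.2.1 46),
      mem_Bk hq _ _ (entry_fixed f hf hK (g : GL chevE6.Idx K) g.2 46 (by decide) rfl)⟩)

include hf in
theorem phiT_injective (hq : 1 ≤ q) (hK : Fintype.card K = q ^ 2) :
    Function.Injective (phiT f hf hq hK) := by
  intro g g' heq
  have hg := g.2
  have hg' := g'.2
  have e56 : rootEntry chevE6 ((g : GL chevE6.Idx K) : Matrix chevE6.Idx chevE6.Idx K) 56 =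
      rootEntry chevE6 ((g' : GL chevE6.Idx K) : Matrix chevE6.Idx chevE6.Idx K) 56 :=
    congrArg (fun s : SS K q => ((s.1 : Kˣ) : K)) heq
  have e42 : rootEntry chevE6 ((g : GL chevE6.Idx K) : Matrix chevE6.Idx chevE6.Idx K) 42 =
      rootEntry chevE6 ((g' : GL chevE6.Idx K) : Matrix chevE6.Idx chevE6.Idx K) 42 :=
    congrArg (fun s : SS K q => ((s.2.1 : Kˣ) : K)) heq
  have e39 : rootEntry chevE6 ((g : GL chevE6.Idx K) : Matrix chevE6.Idx chevE6.Idx K) 39 =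
      rootEntry chevE6 ((g' : GL chevE6.Idx K) : Matrix chevE6.Idx chevE6.Idx K) 39 :=
    congrArg (fun s : SS K q => (((s.2.2.1 : Bk K q) : Kˣ) : K)) heq
  have e46 : rootEntry chevE6 ((g : GL chevE6.Idx K) : Matrix chevE6.Idx chevE6.Idx K) 46 =
      rootEntry chevE6 ((g' : GL chevE6.Idx K) : Matrix chevE6.Idx chevE6.Idx K) 46 :=
    congrArg (fun s : SS K q => (((s.2.2.2 : Bk K q) : Kˣ) : K)) heq
  have p56 : pi0 56 = 36 := rfl
  have p42 : pi0 42 = 37 := rfl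
  have e36 : rootEntry chevE6 ((g : GL chevE6.Idx K) : Matrix chevE6.Idx chevE6.Idx K) 36 =
      rootEntry chevE6 ((g' : GL chevE6.Idx K) : Matrix chevE6.Idx chevE6.Idx K) 36 := by
    have h1 := entry_sigma_E6 f hf hK g hg 56 (by decide)
    have h2 := entry_sigma_E6 f hf hK g' hg' 56 (by decide)
    rw [p56] at h1 h2
    rw [h1, h2, e56]
  have e37 : rootEntry chevE6 ((g : GL chevE6.Idx K) : Matrix chevE6.Idx chevE6.Idx K) 37 =
      rootEntry chevE6 ((g' : GL chevE6.Idx K) : Matrix chevE6.Idx chevE6.Idx K) 37 := by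
    have h1 := entry_sigma_E6 f hf hK g hg 42 (by decide)
    have h2 := entry_sigma_E6 f hf hK g' hg' 42 (by decide)
    rw [p42] at h1 h2
    rw [h1, h2, e42]
  apply Subtype.ext
  apply diag_ext chevE6 memE6 coordE6 coordOK_E6 (g : GL chevE6.Idx K) (g' : GL chevE6.Idx K) hg.1 hg'.1
  intro i hi
  have hi6 : i < 6 := hi
  interval_cases i
  · exact e56
  · exact e46
  · exact e42
  · exact e39
  · exact e37
  · exact e36

/-- the obstruction character -/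
noncomputable def nu (m1 m2 : ℕ) : SS K q →* Kˣ where
  toFun s := s.1 ^ m1 * s.2.1 ^ m2
  map_one' := by simp
  map_mul' s s' := by
    simp only [Prod.fst_mul, Prod.snd_mul, mul_pow]
    exact mul_mul_mul_comm _ _ _ _


theorem sq_sub_one_eq (q : ℕ) : q ^ 2 - 1 = (q + 1) * (q - 1) := by
  cases q with
  | zero => simp
  | succ m =>
    apply Nat.sub_eq_of_eq_add
    rw [Nat.add_sub_cancel]
    ring

include hf in
theorem nu_phiT (hq : 1 ≤ q) (hK : Fintype.card K = q ^ 2) (g : TT K q) :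
    nu (K := K) (q := q) ((1 + 2 * q) * ((q ^ 2 - 1) / Nat.gcd 3 (q + 1)))
      ((2 + q) * ((q ^ 2 - 1) / Nat.gcd 3 (q + 1))) (phiT f hf hq hK g) = 1 := by
  set d := Nat.gcd 3 (q + 1) with hd
  have hd0 : 0 < d := Nat.gcd_pos_of_pos_left _ (by norm_num)
  obtain ⟨y, hy, hcube⟩ := cube_of_mem (g : GL chevE6.Idx K) g.2.1
  have h36 := entry_sigma_E6 f hf hK (g : GL chevE6.Idx K) g.2 56 (by decide)
  have h37 := entry_sigma_E6 f hf hK (g : GL chevE6.Idx K) g.2 42 (by decide)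
  have p56 : pi0 56 = 36 := rfl
  have p42 : pi0 42 = 37 := rfl
  rw [p56, hf] at h36
  rw [p42, hf] at h37
  rw [h36, h37] at hcube
  have hd3 : d ∣ 3 := Nat.gcd_dvd_left 3 (q + 1)
  have hdN : d ∣ q ^ 2 - 1 := by
    rw [sq_sub_one_eq]
    exact Dvd.dvd.mul_right (Nat.gcd_dvd_right 3 (q + 1)) _
  have hyN : y ^ (q ^ 2 - 1) = 1 := by
    rw [← hK]; exact FiniteField.pow_card_sub_one_eq_one y hy
  have harith : 3 * ((q ^ 2 - 1) / d) = (q ^ 2 - 1) * (3 / d) := by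
    obtain ⟨k, hk⟩ := hd3
    obtain ⟨n, hn⟩ := hdN
    rw [hk, hn, Nat.mul_div_cancel_left _ hd0, Nat.mul_div_cancel_left _ hd0]
    ring
  apply Units.ext
  simp only [nu, MonoidHom.coe_mk, OneHom.coe_mk, phiT, Units.val_mul, Units.val_pow_eq_pow_val,
    Units.val_mk0, Units.val_one]
  set x := rootEntry chevE6 ((g : GL chevE6.Idx K) : Matrix chevE6.Idx chevE6.Idx K) 56 with hx
  set z := rootEntry chevE6 ((g : GL chevE6.Idx K) : Matrix chevE6.Idx chevE6.Idx K) 42 with hz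
  calc x ^ ((1 + 2 * q) * ((q ^ 2 - 1) / d)) * z ^ ((2 + q) * ((q ^ 2 - 1) / d))
      = (x ^ (1 + 2 * q) * z ^ (2 + q)) ^ ((q ^ 2 - 1) / d) := by
        rw [mul_pow, ← pow_mul, ← pow_mul]
    _ = (y ^ 3) ^ ((q ^ 2 - 1) / d) := by
        rw [← hcube]; congr 1; ring
    _ = (y ^ (q ^ 2 - 1)) ^ (3 / d) := by
        rw [← pow_mul, ← pow_mul, harith]
    _ = 1 := by rw [hyN, one_pow]

theorem card_range_nu_ge (hq : 1 ≤ q) (hK : Fintype.card K = q ^ 2) :
    Nat.gcd 3 (q + 1) ≤ Nat.card (nu (K := K) (q := q) ((1 + 2 * q) * ((q ^ 2 - 1) / Nat.gcd 3 (q + 1)))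
      ((2 + q) * ((q ^ 2 - 1) / Nat.gcd 3 (q + 1)))).range := by
  have hd3 : Nat.gcd 3 (q + 1) ∣ 3 := Nat.gcd_dvd_left 3 (q + 1)
  rcases (Nat.dvd_prime Nat.prime_three).mp hd3 with h1 | h3
  · rw [h1]; exact Nat.card_pos
  · rw [h3]
    have h3q : 3 ∣ q + 1 := by
      have := Nat.gcd_dvd_right 3 (q + 1)
      rwa [h3] at this
    have hN : q ^ 2 - 1 = 3 * ((q ^ 2 - 1) / 3) := by
      have : 3 ∣ q ^ 2 - 1 := by
        rw [sq_sub_one_eq]; exact Dvd.dvd.mul_right h3q _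
      exact (Nat.mul_div_cancel' this).symm
    have hNpos : 0 < q ^ 2 - 1 := by
      have : 1 < q ^ 2 := by
        have h2 : 2 ≤ q := by
          rcases Nat.lt_or_ge q 2 with h | h
          · exfalso
            have : q = 1 := by omega
            subst this
            norm_num at h3q
          · exact h
        nlinarith
      omega
    have hn0 : 0 < (q ^ 2 - 1) / 3 := by
      rcases Nat.eq_zero_or_pos ((q ^ 2 - 1) / 3) with h | h
      · rw [h] at hN; omega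
      · exact h
    obtain ⟨ζ, hζ⟩ := IsCyclic.exists_ofOrder_eq_natCard (α := Kˣ)
    rw [Nat.card_units, Nat.card_eq_fintype_card, hK] at hζ
    set ν := nu (K := K) (q := q) ((1 + 2 * q) * ((q ^ 2 - 1) / 3)) ((2 + q) * ((q ^ 2 - 1) / 3)) with hν
    set s : SS K q := (1, ζ, 1, 1) with hs
    have hνs : ν s = ζ ^ ((2 + q) * ((q ^ 2 - 1) / 3)) := by
      simp [hν, nu, hs]
    have hne : ν s ≠ 1 := by
      rw [hνs]
      intro h
      have hdvd := orderOf_dvd_of_pow_eq_one h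
      rw [hζ] at hdvd
      have : 3 * ((q ^ 2 - 1) / 3) ∣ (2 + q) * ((q ^ 2 - 1) / 3) := by rwa [← hN]
      have h32 : 3 ∣ 2 + q := Nat.dvd_of_mul_dvd_mul_right hn0 this
      omega
    have hcube : ν s ^ 3 = 1 := by
      rw [hνs, ← pow_mul]
      have : (2 + q) * ((q ^ 2 - 1) / 3) * 3 = (q ^ 2 - 1) * (2 + q) := by
        rw [mul_assoc, mul_comm ((q ^ 2 - 1) / 3) 3, ← hN]; ring
      rw [this, pow_mul, ← hζ, pow_orderOf_eq_one, one_pow]
    haveI : Fact (Nat.Prime 3) := ⟨Nat.prime_three⟩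
    have hord : orderOf (ν s) = 3 := orderOf_eq_prime hcube hne
    have hmem : ν s ∈ ν.range := ⟨s, rfl⟩
    have h1 : orderOf (⟨ν s, hmem⟩ : ν.range) ∣ Nat.card ν.range := orderOf_dvd_natCard _
    rw [Subgroup.orderOf_mk, hord] at h1
    exact Nat.le_of_dvd Nat.card_pos h1

include hf in
/-- `gcd(3, q+1) * |H ∩ ²E₆(q)| = (q - 1)⁴ (q + 1)²` -/
theorem card_torus_E6 (hq2 : 2 ≤ q) (hK : Fintype.card K = q ^ 2) :
    Nat.gcd 3 (q + 1) * Nat.card ↥(chevE6.diagonalSubgroup K ⊓ twistedE6 K q) =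
      (q - 1) ^ 4 * (q + 1) ^ 2 := by
  have hq : 1 ≤ q := by omega
  have h1 := card_SS_le f hf hq
  set ν := nu (K := K) (q := q) ((1 + 2 * q) * ((q ^ 2 - 1) / Nat.gcd 3 (q + 1)))
      ((2 + q) * ((q ^ 2 - 1) / Nat.gcd 3 (q + 1))) with hν
  have h2 : Nat.gcd 3 (q + 1) * Nat.card (TT K q) ≤ Nat.card (SS K q) := by
    have hinj : Nat.card (TT K q) ≤ Nat.card ν.ker :=
      Nat.card_le_card_of_injective (fun g => (⟨phiT f hf hq hK g, nu_phiT f hf hq hK g⟩ : ν.ker))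
        (fun g g' h => phiT_injective f hf hq hK (congrArg Subtype.val h))
    have hidx := Subgroup.card_mul_index ν.ker
    rw [Subgroup.index_ker] at hidx
    calc Nat.gcd 3 (q + 1) * Nat.card (TT K q) ≤ Nat.card ν.range * Nat.card ν.ker :=
          Nat.mul_le_mul (card_range_nu_ge hq hK) hinj
      _ = Nat.card (SS K q) := by rw [mul_comm]; exact hidx
  have h3 : Nat.gcd 3 (q + 1) * Nat.card (TT K q) = Nat.card (SS K q) := le_antisymm h2 h1
  rw [h3, card_SS hq hK, sq_sub_one_eq]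
  ring

end Count

end Cfsg.Agent.Helper67.TorusE6
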