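import Cfsg.Agent.Helper67.FPBase

/-!
# S2276 (helper38), piece (B6): degree `6`, `p = 3`
-/

set_option autoImplicit false

namespace Cfsg.Agent.Helper67.FP

open Equiv Cfsg.Agent.Helper38.FP

namespace B6

/-- `(0 1 2)(3 4 5)` -/
def u33 : Perm (Fin 6) := ⟨![1, 2, 0, 4, 5, 3], ![2, 0, 1, 5, 3, 4], by decide, by decide⟩

/-- `(0 1 2)` -/
def u3 : Perm (Fin 6) := ⟨![1, 2, 0, 3, 4, 5], ![2, 0, 1, 3, 4, 5], by decide, by decide⟩

/-- `(0 1 3)(2 5 4)` -/
def wa : Perm (Fin 6) := ⟨![1, 3, 5, 0, 2, 4], ![3, 0, 4, 1, 5, 2], by decide, by decide⟩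

/-- `(2 3 4)` -/
def wb : Perm (Fin 6) := ⟨![0, 1, 3, 4, 2, 5], ![0, 1, 4, 2, 3, 5], by decide, by decide⟩

/-- `(0 1 3)(2 4 5)` -/
def wc : Perm (Fin 6) := ⟨![1, 3, 4, 0, 5, 2], ![3, 0, 5, 1, 2, 4], by decide, by decide⟩

theorem good_a : Good 3 u33 wa :=
  good_of_cert u33 wa 1 5 [true, false] [false] [false, true]
    (by decide +kernel) (by decide +kernel) (by norm_num) (by decide +kernel) (by decide +kernel)

theorem good_b : Good 3 u33 wb :=
  good_of_cert u33 wb 1 4 [false] [true] [true, true, false, true]
    (by decide +kernel) (by decide +kernel) (by norm_num) (by decide +kernel) (by decide +kernel)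

theorem good_c : Good 3 u3 wc :=
  good_of_cert u3 wc 1 4 [true] [false] [false, false, true, false]
    (by decide +kernel) (by decide +kernel) (by norm_num) (by decide +kernel) (by decide +kernel)

theorem good_d : Good 3 u3 wb :=
  good_of_cert u3 wb 1 5 [true] [false, true, true, false] [false]
    (by decide +kernel) (by decide +kernel) (by norm_num) (by decide +kernel) (by decide +kernel)

theorem cycleType_three (a b c : Fin 6) (ab : a ≠ b) (ac : a ≠ c) (bc : b ≠ c) :
    (swap a b * swap a c).cycleType = {3} :=
  Perm.isThreeCycle_swap_mul_swap_same ab ac bc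

theorem cycleType_three_three (a b c d e f : Fin 6) (ab : a ≠ b) (ac : a ≠ c) (bc : b ≠ c)
    (de : d ≠ e) (df : d ≠ f) (ef : e ≠ f)
    (hd : Perm.Disjoint (swap a b * swap a c) (swap d e * swap d f)) :
    ((swap a b * swap a c) * (swap d e * swap d f)).cycleType = {3, 3} := by
  rw [Perm.Disjoint.cycleType_mul hd, cycleType_three a b c ab ac bc,
    cycleType_three d e f de df ef]
  rfl

theorem cycleType_u3 : u3.cycleType = {3} := by
  have h : u3 = swap (2 : Fin 6) 1 * swap 2 0 := by decide
  rw [h]
  exact cycleType_three _ _ _ (by decide) (by decide) (by decide)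

theorem cycleType_wb : wb.cycleType = {3} := by
  have h : wb = swap (4 : Fin 6) 3 * swap 4 2 := by decide
  rw [h]
  exact cycleType_three _ _ _ (by decide) (by decide) (by decide)

theorem cycleType_u33 : u33.cycleType = {3, 3} := by
  have h : u33 = (swap (2 : Fin 6) 1 * swap 2 0) * (swap 5 4 * swap 5 3) := by decide
  rw [h]
  exact cycleType_three_three _ _ _ _ _ _ (by decide) (by decide) (by decide) (by decide)
    (by decide) (by decide) (by intro x; revert x; decide)

theorem cycleType_wa : wa.cycleType = {3, 3} := by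
  have h : wa = (swap (3 : Fin 6) 1 * swap 3 0) * (swap 4 5 * swap 4 2) := by decide
  rw [h]
  exact cycleType_three_three _ _ _ _ _ _ (by decide) (by decide) (by decide) (by decide)
    (by decide) (by decide) (by intro x; revert x; decide)

theorem cycleType_wc : wc.cycleType = {3, 3} := by
  have h : wc = (swap (3 : Fin 6) 1 * swap 3 0) * (swap 5 4 * swap 5 2) := by decide
  rw [h]
  exact cycleType_three_three _ _ _ _ _ _ (by decide) (by decide) (by decide) (by decide)
    (by decide) (by decide) (by intro x; revert x; decide)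

/-- an odd permutation centralizing `wa` -/
def ta : Perm (Fin 6) := swap 0 2 * swap 1 5 * swap 3 4

/-- an odd permutation centralizing `wc` -/
def tc : Perm (Fin 6) := swap 0 2 * swap 1 4 * swap 3 5

theorem sign_ta : Perm.sign ta = -1 := by
  unfold ta
  rw [Perm.sign_mul, Perm.sign_mul, Perm.sign_swap (by decide), Perm.sign_swap (by decide),
    Perm.sign_swap (by decide)]
  rfl

theorem sign_tc : Perm.sign tc = -1 := by
  unfold tc
  rw [Perm.sign_mul, Perm.sign_mul, Perm.sign_swap (by decide), Perm.sign_swap (by decide),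
    Perm.sign_swap (by decide)]
  rfl

/-- cycle types of nontrivial `3`-elements of `Perm (Fin 6)` -/
theorem cycleType_cases (σ : Perm (Fin 6)) (h1 : σ ≠ 1) (hσ : IsPEl 3 σ) :
    σ.cycleType = {3} ∨ σ.cycleType = {3, 3} := by
  have h9 : ∀ n ∈ σ.cycleType, n < 9 := by
    intro n hn
    have hle : n ≤ σ.cycleType.sum := Multiset.le_sum_of_mem hn
    have hs : σ.cycleType.sum = σ.support.card := Perm.sum_cycleType σ
    have hc : σ.support.card ≤ 6 := by simpa using Finset.card_le_univ σ.support
    omega
  have hrep := cycleType_eq_replicate σ hσ h9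
  have hcard3 := three_mul_card_cycleType σ hσ h9
  have hpos := card_cycleType_pos σ h1
  have hcases : Multiset.card σ.cycleType = 1 ∨ Multiset.card σ.cycleType = 2 := by
    simp only [Fintype.card_fin] at hcard3
    omega
  rcases hcases with h | h
  · left
    rw [hrep, h]
    rfl
  · right
    rw [hrep, h]
    rfl

theorem claim_six_fin : Claim 3 (Fin 6) := by
  intro u w hu hw hpu hpw
  rcases cycleType_cases u hu hpu with hcu | hcu <;> rcases cycleType_cases w hw hpw with hcw | hcw
  · exact exists_even_conj u u3 w wb (swap 0 1) (hcu.trans cycleType_u3.symm)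
      (hcw.trans cycleType_wb.symm) (Perm.sign_swap (by decide)) (by decide) good_d
  · exact exists_even_conj u u3 w wc tc (hcu.trans cycleType_u3.symm)
      (hcw.trans cycleType_wc.symm) sign_tc (by decide) good_c
  · exact exists_even_conj u u33 w wb (swap 0 1) (hcu.trans cycleType_u33.symm)
      (hcw.trans cycleType_wb.symm) (Perm.sign_swap (by decide)) (by decide) good_b
  · exact exists_even_conj u u33 w wa ta (hcu.trans cycleType_u33.symm)
      (hcw.trans cycleType_wa.symm) sign_ta (by decide) good_a

end B6

/-- (B6) degree `6` -/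
theorem claim_six {α : Type} [Fintype α] [DecidableEq α] (hcard : Fintype.card α = 6) :
    Claim 3 α :=
  B6.claim_six_fin.transport (Fintype.equivFinOfCardEq hcard).symm

end Cfsg.Agent.Helper67.FP
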