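import Cfsg.Agent.Helper67.FPBase

/-!
# S2276 (helper38), piece (B9): degree `9`, a full cycle and a non-full `3`-element
-/

set_option autoImplicit false

namespace Cfsg.Agent.Helper67.FP

open Equiv Cfsg.Agent.Helper38.FP

namespace B9

/-- the full cycle `i ↦ i + 1` -/
def u9 : Perm (Fin 9) :=
  ⟨![1, 2, 3, 4, 5, 6, 7, 8, 0], ![8, 0, 1, 2, 3, 4, 5, 6, 7], by decide, by decide⟩

/-- representative of type `3` -/
def wa : Perm (Fin 9) :=
  ⟨![0, 1, 7, 3, 4, 2, 6, 5, 8], ![0, 1, 5, 3, 4, 7, 6, 2, 8], by decide, by decide⟩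

/-- representative of type `3, 3` -/
def wb : Perm (Fin 9) :=
  ⟨![8, 0, 3, 6, 4, 5, 2, 7, 1], ![1, 8, 6, 2, 4, 5, 3, 7, 0], by decide, by decide⟩

/-- representative of type `3, 3, 3` -/
def wc : Perm (Fin 9) :=
  ⟨![5, 6, 1, 7, 3, 8, 2, 4, 0], ![8, 2, 6, 4, 7, 0, 1, 3, 5], by decide, by decide⟩

theorem isFull_u9 : IsFull u9 := by
  intro a b
  refine ⟨(((b - a : Fin 9) : ℕ) : ℤ), ?_⟩
  rw [zpow_natCast]
  revert a b
  decide

theorem good_a : Good 3 u9 wa :=
  good_of_cert u9 wa 3 4 [false] [true, true] [true, true, false, true, false, true]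
    (by decide +kernel) (by decide +kernel) (by norm_num) (by decide +kernel) (by decide +kernel)

theorem good_b : Good 3 u9 wb :=
  good_of_cert u9 wb 1 7
    [false, true, false, false, true, false, false, true, false, false, true, false, false, true,
      false] [true] [false, true]
    (by decide +kernel) (by decide +kernel) (by norm_num) (by decide +kernel) (by decide +kernel)

theorem good_c : Good 3 u9 wc :=
  good_of_cert u9 wc 1 7
    [true, true, true, true, true, true, false, true, false, false, true, true, true, false,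
      false] [true] [false, true, false, true]
    (by decide +kernel) (by decide +kernel) (by norm_num) (by decide +kernel) (by decide +kernel)

theorem cycleType_wa : wa.cycleType = {3} := by
  have h : wa = swap (5 : Fin 9) 7 * swap 5 2 := by decide
  rw [h]
  exact Perm.isThreeCycle_swap_mul_swap_same (by decide) (by decide) (by decide)

theorem cycleType_wb : wb.cycleType = {3, 3} := by
  have h : wb = (swap (1 : Fin 9) 8 * swap 1 0) * (swap 6 3 * swap 6 2) := by decide
  have hd : Perm.Disjoint (swap (1 : Fin 9) 8 * swap 1 0) (swap 6 3 * swap 6 2) := by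
    intro x
    revert x
    decide
  have h1 : (swap (1 : Fin 9) 8 * swap 1 0).cycleType = {3} :=
    Perm.isThreeCycle_swap_mul_swap_same (by decide) (by decide) (by decide)
  have h2 : (swap (6 : Fin 9) 3 * swap 6 2).cycleType = {3} :=
    Perm.isThreeCycle_swap_mul_swap_same (by decide) (by decide) (by decide)
  rw [h, Perm.Disjoint.cycleType_mul hd, h1, h2]
  rfl

theorem cycleType_wc : wc.cycleType = {3, 3, 3} := by
  have h : wc = (swap (8 : Fin 9) 5 * swap 8 0) * (swap 2 6 * swap 2 1) * (swap 4 7 * swap 4 3) := by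
    decide
  have hd1 : Perm.Disjoint (swap (8 : Fin 9) 5 * swap 8 0) (swap 2 6 * swap 2 1) := by
    intro x
    revert x
    decide
  have hd2 : Perm.Disjoint ((swap (8 : Fin 9) 5 * swap 8 0) * (swap 2 6 * swap 2 1))
      (swap 4 7 * swap 4 3) := by
    intro x
    revert x
    decide
  have h1 : (swap (8 : Fin 9) 5 * swap 8 0).cycleType = {3} :=
    Perm.isThreeCycle_swap_mul_swap_same (by decide) (by decide) (by decide)
  have h2 : (swap (2 : Fin 9) 6 * swap 2 1).cycleType = {3} :=
    Perm.isThreeCycle_swap_mul_swap_same (by decide) (by decide) (by decide)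
  have h3 : (swap (4 : Fin 9) 7 * swap 4 3).cycleType = {3} :=
    Perm.isThreeCycle_swap_mul_swap_same (by decide) (by decide) (by decide)
  rw [h, Perm.Disjoint.cycleType_mul hd2, Perm.Disjoint.cycleType_mul hd1, h1, h2, h3]
  rfl

/-- an odd permutation centralizing `wc` -/
def tc : Perm (Fin 9) := swap 0 1 * swap 5 6 * swap 8 2

theorem sign_tc : Perm.sign tc = -1 := by
  unfold tc
  rw [Perm.sign_mul, Perm.sign_mul, Perm.sign_swap (by decide), Perm.sign_swap (by decide),
    Perm.sign_swap (by decide)]
  rfl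

/-- the statement in `Perm (Fin 9)` -/
theorem good_nine_fin (u' w' : Perm (Fin 9)) (hu' : IsFull u') (hw1' : w' ≠ 1)
    (hpw' : IsPEl 3 w') (hwn' : ¬ IsFull w') :
    ∃ g' : Perm (Fin 9), Perm.sign g' = 1 ∧ Good 3 u' (g' * w' * g'⁻¹) := by
  have hcu : u'.cycleType = u9.cycleType := by
    rw [hu'.cycleType (by simp), isFull_u9.cycleType (by simp)]
  have h9 : ∀ n ∈ w'.cycleType, n < 9 := by
    intro n hn
    have hle : n ≤ w'.cycleType.sum := Multiset.le_sum_of_mem hn
    have hs : w'.cycleType.sum = w'.support.card := Perm.sum_cycleType w'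
    have hc : w'.support.card ≤ 9 := by simpa using Finset.card_le_univ w'.support
    by_contra hcon
    push Not at hcon
    have hn9 : n = 9 := by omega
    apply hwn'
    apply isFull_of_cycleType
    obtain ⟨m', hm'⟩ := Multiset.exists_cons_of_mem hn
    have hsum : m'.sum = 0 := by
      have : w'.cycleType.sum = n + m'.sum := by rw [hm', Multiset.sum_cons]
      omega
    have hm0 : m' = 0 := by
      apply Multiset.eq_zero_of_forall_notMem
      intro x hx
      have hx2 : 2 ≤ x := Perm.two_le_of_mem_cycleType (by rw [hm']; exact Multiset.mem_cons_of_mem hx)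
      have hx0 : x ≤ m'.sum := Multiset.le_sum_of_mem hx
      omega
    rw [hm', hm0, hn9]
    rfl
  have hrep := cycleType_eq_replicate w' hpw' h9
  have hcard3 := three_mul_card_cycleType w' hpw' h9
  have hpos := card_cycleType_pos w' hw1'
  have hcases : Multiset.card w'.cycleType = 1 ∨ Multiset.card w'.cycleType = 2 ∨
      Multiset.card w'.cycleType = 3 := by
    simp only [Fintype.card_fin] at hcard3
    omega
  rcases hcases with h | h | h
  · refine exists_even_conj u' u9 w' wa (swap 0 1) hcu ?_ (Perm.sign_swap (by decide))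
      (by decide) good_a
    rw [hrep, h, cycleType_wa]
    rfl
  · refine exists_even_conj u' u9 w' wb (swap 4 5) hcu ?_ (Perm.sign_swap (by decide))
      (by decide) good_b
    rw [hrep, h, cycleType_wb]
    rfl
  · refine exists_even_conj u' u9 w' wc tc hcu ?_ sign_tc (by decide) good_c
    rw [hrep, h, cycleType_wc]
    rfl

end B9

/-- (B9) degree `9`: a full cycle `u` and a nontrivial non-full `3`-element `w` -/
theorem good_nine {α : Type} [Fintype α] [DecidableEq α] (hcard : Fintype.card α = 9)
    (u w : Perm α) (hu : IsFull u) (hw1 : w ≠ 1)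
    (hpw : IsPEl 3 w) (hwn : ¬ IsFull w) :
    ∃ g : Perm α, Perm.sign g = 1 ∧ Good 3 u (g * w * g⁻¹) := by
  let e : α ≃ Fin 9 := Fintype.equivFinOfCardEq hcard
  let φ : Perm α ≃* Perm (Fin 9) := e.permCongrHom
  have hφinj : Function.Injective φ.toMonoidHom := φ.injective
  have hu' : IsFull (φ u) := isFull_permCongr e u hu
  have hw1' : φ w ≠ 1 := fun h1 => hw1 (φ.injective (h1.trans (map_one φ).symm))
  have hpw' : IsPEl 3 (φ w) := (isPEl_map_iff φ.toMonoidHom hφinj).2 hpw
  have hwn' : ¬ IsFull (φ w) := fun h => hwn ((isFull_permCongr_iff e w).1 h)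
  obtain ⟨g', hg', hgood⟩ := B9.good_nine_fin (φ u) (φ w) hu' hw1' hpw' hwn'
  refine ⟨φ.symm g', ?_, ?_⟩
  · change Perm.sign (e.symm.permCongr g') = 1
    rw [Perm.sign_permCongr]
    exact hg'
  · have := hgood.map_of_injective φ.symm.toMonoidHom φ.symm.injective
    simpa using this

end Cfsg.Agent.Helper67.FP
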