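/-
helper67 (for helper86, WANTED #3930 (OR-8)): saturated subsystems of index prime to `p` are determined by
their automorphism group on `S`.
-/
import Cfsg.Agent.S5114
import Cfsg.Agent.S5140

set_option autoImplicit false
open Cfsg

namespace Cfsg.Agent.Helper67.OliverFN

open Cfsg.FusionSystem Cfsg.Agent.Helper87

variable {Ω : Type*} [Group Ω]

theorem hom_subset_of_primeIndex_of_autGroup_le {S : Subgroup Ω} [Finite S] (p : ℕ) [Fact p.Prime]
    (hS : IsPGroup p S) (F X X' : FusionSystem S) (hF : F.IsSaturated p) (hX : X.IsSaturated p)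
    (hX' : X'.IsSaturated p) (hXi : X.HasPrimeToPIndexIn F p) (hX'i : X'.HasPrimeToPIndexIn F p)
    (haut : X.autGroup S ≤ X'.autGroup S) (P : Subgroup Ω) : X.Hom P ⊆ X'.Hom P := by
  obtain ⟨R, hRsat, hRi, hRmin⟩ := Cfsg.Agent.S5140.result p hS F hF
  have hRX : R.IsSubsystemOf X := hRmin X hX hXi
  have hRX' : R.IsSubsystemOf X' := hRmin X' hX' hX'i
  have hXF : ∀ Q : Subgroup Ω, X.autGroup Q ≤ F.autGroup Q := by
    intro Q
    apply Subgroup.closure_mono
    intro α hα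
    exact hXi.1 Q hα
  have h : ∀ Q : Subgroup Ω, X.IsCentric Q →
      (Subgroup.closure {α : ↥(X.autGroup Q) | ∃ k : ℕ, orderOf α = p ^ k}).map (X.autGroup Q).subtype ≤
        R.autGroup Q := by
    intro Q hQc
    rw [Subgroup.map_le_iff_le_comap, Subgroup.closure_le]
    rintro α ⟨k, hk⟩
    show (α : MulAut Q) ∈ R.autGroup Q
    have hαF : (α : MulAut Q) ∈ F.autGroup Q := hXF Q α.2
    have hord : orderOf (⟨(α : MulAut Q), hαF⟩ : F.autGroup Q) = p ^ k := by
      rw [Subgroup.orderOf_mk, Subgroup.orderOf_coe, hk]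
    exact hRi.2 Q hQc.1 ⟨⟨(α : MulAut Q), hαF⟩, Subgroup.subset_closure ⟨k, hord⟩, rfl⟩
  have hfr := (Cfsg.Agent.S5114.result p hS X hX R hRX h).2.1
  intro φ hφ
  obtain ⟨α, hα, φ₀, hφ₀, hx⟩ := hfr P φ hφ
  have hφ₀' : φ₀ ∈ X'.Hom P := hRX' P hφ₀
  have hφ₀S : ∀ x, φ₀ x ∈ S := (X'.le_of_mem hφ₀').2
  have hα' : S.subtype.comp (α : S ≃* S).toMonoidHom ∈ X'.Hom S :=
    (mem_autGroup_iff X' le_rfl α).mp (haut hα)
  have hc := X'.comp_mem hφ₀' hα' hφ₀S
  exact mem_of_eq X' hc (fun x => hx x (hφ₀S x))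

theorem hom_eq_of_primeIndex_of_autGroup_eq {S : Subgroup Ω} [Finite S] (p : ℕ) [Fact p.Prime]
    (hS : IsPGroup p S) (F X X' : FusionSystem S) (hF : F.IsSaturated p) (hX : X.IsSaturated p)
    (hX' : X'.IsSaturated p) (hXi : X.HasPrimeToPIndexIn F p) (hX'i : X'.HasPrimeToPIndexIn F p)
    (haut : X.autGroup S = X'.autGroup S) (P : Subgroup Ω) : X.Hom P = X'.Hom P :=
  Set.Subset.antisymm
    (hom_subset_of_primeIndex_of_autGroup_le p hS F X X' hF hX hX' hXi hX'i haut.le P)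
    (hom_subset_of_primeIndex_of_autGroup_le p hS F X' X hF hX' hX hX'i hXi haut.ge P)

end Cfsg.Agent.Helper67.OliverFN
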