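import Mathlib
import Cfsg.Agent.Helper38.SU2G.Defs

/-!
# S2412 (helper38), piece (O1): the commutator `[h, b h b⁻¹]` is a nontrivial root element
`E(e_1, t₂ w_a, c₂)`
-/

set_option autoImplicit false
set_option linter.unusedSectionVars false

namespace Cfsg.Agent.Helper67.SU2G

open Matrix Cfsg.Agent.Helper84.PSU Cfsg.Agent.Helper38.SU2G

variable {K : Type*} [Field K] {m r : ℕ}

local notation "Vec" => (I (m + 2) r → K)
local notation "Mat" => Matrix (I (m + 2) r) (I (m + 2) r) K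

variable (bar : K →+* K) (hb : ∀ x, bar (bar x) = x)

set_option quotPrecheck false in
local notation "SUk" => ↥(SUm (m + 2) r bar)

/-- a general commutator identity -/
theorem O1_comm_identity {G : Type*} [Group G] (h x hp : G) (hc : h * hp = hp * h) :
    h * x * hp * x⁻¹ * h⁻¹ * x * hp⁻¹ * x⁻¹ =
      (h * x * h⁻¹) * (hp * ((h * x * h⁻¹)⁻¹ * x) * hp⁻¹) * x⁻¹ := by
  have h1 : hp = h⁻¹ * hp * h := by rw [mul_assoc, ← hc, inv_mul_cancel_left]
  calc h * x * hp * x⁻¹ * h⁻¹ * x * hp⁻¹ * x⁻¹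
      = h * x * (h⁻¹ * hp * h) * x⁻¹ * h⁻¹ * x * hp⁻¹ * x⁻¹ := by rw [← h1]
    _ = (h * x * h⁻¹) * (hp * ((h * x * h⁻¹)⁻¹ * x) * hp⁻¹) * x⁻¹ := by group

/-- the torus element is diagonal -/
theorem O1_tor_diag {h : SUk} {κ : K} (hh : IsTor bar h κ) (y : I (m + 2) r) :
    ∃ l : K, av bar h (bv y : Vec) = l • bv y := by
  rcases y with i | a | i
  · by_cases h0 : i = i0
    · subst h0; exact ⟨κ, hh.e0⟩
    · by_cases h1 : i = i1
      · subst h1; exact ⟨κ⁻¹, hh.e1⟩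
      · exact ⟨1, by rw [one_smul]; exact hh.e_fix i h0 h1⟩
  · exact ⟨1, by rw [one_smul]; exact hh.w_fix a⟩
  · by_cases h0 : i = i0
    · subst h0; exact ⟨(bar κ)⁻¹, hh.f0⟩
    · by_cases h1 : i = i1
      · subst h1; exact ⟨bar κ, hh.f1⟩
      · exact ⟨1, by rw [one_smul]; exact hh.f_fix i h0 h1⟩

/-- the Coxeter element hits every basis vector -/
theorem O1_cox_hits {n : SUk} {μ ν : K} (hn : IsCox bar n μ ν) (y : I (m + 2) r) :
    ∃ (z : I (m + 2) r) (α : K), α ≠ 0 ∧ av bar n (bv z : Vec) = α • bv y := by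
  rcases y with i | a | i
  · by_cases h0 : i.val = 0
    · have hi : i = i0 := Fin.ext h0
      subst hi
      exact ⟨fI il, ν, hn.hν, hn.f_last⟩
    · have hlt : (i.val - 1) + 1 < m + 2 := by have := i.2; omega
      refine ⟨eI ⟨i.val - 1, by omega⟩, 1, one_ne_zero, ?_⟩
      rw [one_smul]
      have h1 := hn.e_succ ⟨i.val - 1, by omega⟩ hlt
      have h2 : (⟨(i.val - 1) + 1, hlt⟩ : Fin (m + 2)) = i := Fin.ext (by simp only; omega)
      simp only at h1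
      rw [h2] at h1
      exact h1
  · exact ⟨wI a, 1, one_ne_zero, by rw [one_smul]; exact hn.w_fix a⟩
  · by_cases h0 : i.val = 0
    · have hi : i = i0 := Fin.ext h0
      subst hi
      exact ⟨eI il, μ, hn.hμ, hn.e_last⟩
    · have hlt : (i.val - 1) + 1 < m + 2 := by have := i.2; omega
      refine ⟨fI ⟨i.val - 1, by omega⟩, 1, one_ne_zero, ?_⟩
      rw [one_smul]
      have h1 := hn.f_succ ⟨i.val - 1, by omega⟩ hlt
      have h2 : (⟨(i.val - 1) + 1, hlt⟩ : Fin (m + 2)) = i := Fin.ext (by simp only; omega)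
      simp only at h1
      rw [h2] at h1
      exact h1

/-- conjugating a diagonal element by a monomial one -/
theorem O1_diag_conj {n h : SUk} (hdiag : ∀ y : I (m + 2) r, ∃ l : K, av bar h (bv y : Vec) = l • bv y)
    (hhits : ∀ y : I (m + 2) r, ∃ (z : I (m + 2) r) (α : K), α ≠ 0 ∧ av bar n (bv z : Vec) = α • bv y)
    (y : I (m + 2) r) : ∃ l : K, av bar (n * h * n⁻¹) (bv y : Vec) = l • bv y := by
  obtain ⟨z, α, hα, hz⟩ := hhits y
  obtain ⟨l, hl⟩ := hdiag z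
  refine ⟨l, ?_⟩
  have hy : (bv y : Vec) = α⁻¹ • av bar n (bv z) := by
    rw [hz, smul_smul, inv_mul_cancel₀ hα, one_smul]
  have key : av bar (n * h * n⁻¹) (α⁻¹ • av bar n (bv z : Vec)) = l • (α⁻¹ • av bar n (bv z)) := by
    rw [av_mul, av_mul, av_smul, av_inv_av, av_smul, hl, av_smul, av_smul, smul_comm]
  rw [← hy] at key
  exact key

/-- diagonal elements commute -/
theorem O1_diag_commute {g g' : SUk} (h1 : ∀ y : I (m + 2) r, ∃ l : K, av bar g (bv y : Vec) = l • bv y)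
    (h2 : ∀ y : I (m + 2) r, ∃ l : K, av bar g' (bv y : Vec) = l • bv y) : g * g' = g' * g := by
  apply ext_av
  intro y
  obtain ⟨l, hl⟩ := h1 y
  obtain ⟨l', hl'⟩ := h2 y
  rw [av_mul, av_mul, hl', av_smul, hl, av_smul, hl', smul_comm]

/-- `g` is a root element `E(e_1, t w_a, c)` with a valid `c` -/
def O1_IsR (a : Fin r) (g : SUk) (t : K) : Prop :=
  ∃ c : K, c + bar c + t * bar t = 0 ∧ mt bar g = eichM bar (vE i1) (t • vW a) c

theorem O1_hf_ee : hf bar (vE i1 : Vec) (vE i1) = 0 := hf_bv_ee bar _ _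

theorem O1_hf_we (a : Fin r) (t : K) : hf bar (t • vW a : Vec) (vE i1) = 0 := by
  rw [hf_smul_left]
  unfold vW vE
  rw [hf_bv_we, mul_zero]

theorem O1_hf_ww (a : Fin r) (t t' : K) : hf bar (t' • vW a : Vec) (t • vW a) = t' * bar t := by
  rw [hf_smul_left, hf_smul_right]
  unfold vW
  rw [hf_bv_ww, if_pos rfl, mul_one]

include hb in
theorem O1_IsR.mul {a : Fin r} {g g' : SUk} {t t' : K} (h1 : O1_IsR bar a g t)
    (h2 : O1_IsR bar a g' t') : O1_IsR bar a (g * g') (t + t') := by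
  obtain ⟨c, hc, hm⟩ := h1
  obtain ⟨c', hc', hm'⟩ := h2
  refine ⟨c + c' - t' * bar t, ?_, ?_⟩
  · rw [map_sub, map_add, map_mul, hb, map_add]
    linear_combination hc + hc'
  · rw [mt_mul, hm, hm', eichM_mul bar hb _ _ (O1_hf_ee bar) (O1_hf_we bar a t) (O1_hf_we bar a t'),
      O1_hf_ww, add_smul]

include hb in
theorem O1_IsR.inv {a : Fin r} {g : SUk} {t : K} (h1 : O1_IsR bar a g t) :
    O1_IsR bar a g⁻¹ (-t) := by
  obtain ⟨c, hc, hm⟩ := h1
  refine ⟨bar c, ?_, ?_⟩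
  · rw [hb, map_neg]
    linear_combination hc
  · have hc' : c + bar c + hf bar (t • vW a : Vec) (t • vW a) = 0 := by rw [O1_hf_ww]; exact hc
    have h2 := eichM_mul_neg bar hb (O1_hf_ee bar) (O1_hf_we bar a t) hc'
    have h3 : mt bar g⁻¹ * mt bar g = 1 := mt_inv_mul bar g
    rw [neg_smul]
    calc mt bar g⁻¹ = mt bar g⁻¹ * (eichM bar (vE i1) (t • vW a) c *
          eichM bar (vE i1) (-(t • vW a)) (bar c)) := by rw [h2, Matrix.mul_one]
      _ = eichM bar (vE i1) (-(t • vW a)) (bar c) := by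
          rw [← Matrix.mul_assoc, ← hm, h3, Matrix.one_mul]

include hb in
theorem O1_IsR.conj {a : Fin r} {g y : SUk} {t α : K} (h1 : O1_IsR bar a g t)
    (he : av bar y (vE i1 : Vec) = α • vE i1) (hw : av bar y (vW a : Vec) = vW a) :
    O1_IsR bar a (y * g * y⁻¹) (bar α * t) := by
  obtain ⟨c, hc, hm⟩ := h1
  refine ⟨α * bar α * c, ?_, ?_⟩
  · rw [map_mul, map_mul, map_mul, hb]
    linear_combination (α * bar α) * hc
  · rw [mt_mul, mt_mul, hm, conj_eichM bar (isU_mt bar y) (mt_mul_inv bar y)]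
    have he' : mt bar y *ᵥ (vE i1 : Vec) = α • vE i1 := he
    have hw' : mt bar y *ᵥ (vW a : Vec) = vW a := hw
    rw [he', Matrix.mulVec_smul, hw', eichM_smul_left bar hb, smul_smul]

include hb in
theorem o1_piece (a : Fin r) {n h x : SUk} {μ ν κ c₀ : K} (hn : IsCox bar n μ ν) (hh : IsTor bar h κ) (hκ0 : κ ≠ 0)
    (hκ1 : κ ≠ 1) (hc₀ : c₀ + bar c₀ + 1 = 0) (hx : mt bar x = eichM bar (vE i1) (vW a) c₀)
    (L : Subgroup SUk) (hhL : h ∈ L) (hbL : x * n ∈ L) :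
    ∃ t₂ c₂ : K, t₂ ≠ 0 ∧ c₂ + bar c₂ + t₂ * bar t₂ = 0 ∧ HasM bar L (eichM bar (vE i1) (t₂ • vW a) c₂) := by
  -- `h` and `h' = n h n⁻¹` commute
  have hdiag := O1_tor_diag bar hh
  have hdiag' := O1_diag_conj bar hdiag (O1_cox_hits bar hn)
  have hcomm : h * (n * h * n⁻¹) = (n * h * n⁻¹) * h := O1_diag_commute bar hdiag hdiag'
  -- the action of `h'` on `e_1` and `w_a`
  have he01 : av bar n (vE i0 : Vec) = vE i1 := by
    have h1 := hn.e_succ i0 (by show 0 + 1 < m + 2; omega)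
    have h2 : (⟨(i0 : Fin (m + 2)).val + 1, by show 0 + 1 < m + 2; omega⟩ : Fin (m + 2)) = i1 :=
      Fin.ext (by show 0 + 1 = 1; rfl)
    rw [h2] at h1
    exact h1
  have hpe : av bar (n * h * n⁻¹) (vE i1 : Vec) = κ • vE i1 := by
    rw [av_mul, av_mul, ← he01, av_inv_av, hh.e0, av_smul]
  have hpw : av bar (n * h * n⁻¹) (vW a : Vec) = vW a := by
    have h1 : av bar n⁻¹ (vW a : Vec) = vW a := by
      conv_lhs => rw [← hn.w_fix a]
      rw [av_inv_av]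
    rw [av_mul, av_mul, h1, hh.w_fix, hn.w_fix]
  -- the root elements
  have hx1 : O1_IsR bar a x 1 := ⟨c₀, by rw [map_one, mul_one]; exact hc₀, by rw [one_smul]; exact hx⟩
  have hx₁ : O1_IsR bar a (h * x * h⁻¹) (bar κ⁻¹ * 1) := hx1.conj bar hb hh.e1 (hh.w_fix a)
  have hz : O1_IsR bar a ((h * x * h⁻¹)⁻¹ * x) (-(bar κ⁻¹ * 1) + 1) := (hx₁.inv bar hb).mul bar hb hx1
  have hz' : O1_IsR bar a ((n * h * n⁻¹) * ((h * x * h⁻¹)⁻¹ * x) * (n * h * n⁻¹)⁻¹)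
      (bar κ * (-(bar κ⁻¹ * 1) + 1)) := hz.conj bar hb hpe hpw
  have hg : O1_IsR bar a ((h * x * h⁻¹) * ((n * h * n⁻¹) * ((h * x * h⁻¹)⁻¹ * x) * (n * h * n⁻¹)⁻¹) * x⁻¹)
      (bar κ⁻¹ * 1 + bar κ * (-(bar κ⁻¹ * 1) + 1) + -1) :=
    (hx₁.mul bar hb hz').mul bar hb (hx1.inv bar hb)
  -- the element lies in `L`
  have hgL : (h * x * h⁻¹) * ((n * h * n⁻¹) * ((h * x * h⁻¹)⁻¹ * x) * (n * h * n⁻¹)⁻¹) * x⁻¹ ∈ L := by
    rw [← O1_comm_identity h x (n * h * n⁻¹) hcomm]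
    have h1 : h * x * (n * h * n⁻¹) * x⁻¹ * h⁻¹ * x * (n * h * n⁻¹)⁻¹ * x⁻¹ =
        h * ((x * n) * h * (x * n)⁻¹) * h⁻¹ * ((x * n) * h * (x * n)⁻¹)⁻¹ := by group
    rw [h1]
    have h2 : (x * n) * h * (x * n)⁻¹ ∈ L := L.mul_mem (L.mul_mem hbL hhL) (L.inv_mem hbL)
    exact L.mul_mem (L.mul_mem (L.mul_mem hhL h2) (L.inv_mem hhL)) (L.inv_mem h2)
  obtain ⟨c₂, hc₂, hm⟩ := hg
  refine ⟨_, c₂, ?_, hc₂, ⟨_, hgL, hm⟩⟩
  -- `t₂ ≠ 0`
  have hbκ0 : bar κ ≠ 0 := fun h0 => hκ0 (by rw [← hb κ, h0, map_zero])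
  have hbκ1 : bar κ ≠ 1 := fun h0 => hκ1 (by rw [← hb κ, h0, map_one])
  rw [map_inv₀]
  have h3 : (bar κ)⁻¹ * 1 + bar κ * (-((bar κ)⁻¹ * 1) + 1) + -1 = ((bar κ)⁻¹ - 1) * (1 - bar κ) := by
    field_simp
    ring
  rw [h3]
  apply mul_ne_zero
  · intro h4
    apply hbκ1
    have h5 : (bar κ)⁻¹ = 1 := by linear_combination h4
    rw [← inv_inv (bar κ), h5, inv_one]
  · intro h4
    apply hbκ1
    linear_combination -h4

end Cfsg.Agent.Helper67.SU2G
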