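import Mathlib
import Cfsg.Agent.Helper40.StCLiftDefs
import Cfsg.Agent.Helper67.HyperN1

/-!
helper67, for helper40/helper96 (S2092, part II), pieces (LG2) `Ll_torus`, (LG3) `Ll_bar`,
(LG4) `Ll_move`: behaviour of the lifts `Ll p q t u` of the long root elements under the
monomial elements `h_{p,-p}(u)`, `w_{p,-p}(1)`, `w_{p,p'}(1)`.

In this file the pieces (SH5) `Zs_conj` and (LG1) `map_Ll` are hypotheses (`ZsConjStmt`,
`MapLlStmt`); the wrappers with helper40's exact signatures import the landed files.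
-/

set_option autoImplicit false
set_option linter.unusedSectionVars false

namespace Cfsg.Agent.Helper67.StCLG

open scoped commutatorElement
open Cfsg.Agent.Helper96.StN Cfsg.Agent.Helper96.StC Cfsg.Agent.Helper96.StLift
  Cfsg.Agent.Helper40.StCLift Cfsg.Agent.Helper67.HyperN1

universe u v v' w

variable {K : Type u} [Field K] {D : Type v} [Group D] {E : Type v'} [Group E] {π : E →* D}
  {ι : Type w} [DecidableEq ι] {X : ι ⊕ ι → ι ⊕ ι → K → D}

/-- the statement of (SH5) -/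
def ZsConjStmt (hπ : Function.Surjective π) (X : ι ⊕ ι → ι ⊕ ι → K → D)
    (h3 : ∀ p q : ι ⊕ ι, ∃ k, AbsNe k p ∧ AbsNe k q) : Prop :=
  ∀ {g : D} {σ : Equiv.Perm (ι ⊕ ι)} {pp : ι ⊕ ι → K}, IsMono X g σ pp →
    (∀ k, σ (bar k) = bar (σ k)) → ∀ {p s : ι ⊕ ι}, AbsNe p s → ∀ (t : K) (x : E), π x = g →
      x * Zs hπ X h3 p s t * x⁻¹ = Zs hπ X h3 (σ p) (σ s) (pp p * (pp s)⁻¹ * t)

/-- the statement of (LG1) `map_Ll` -/
def MapLlStmt (hπ : Function.Surjective π) (X : ι ⊕ ι → ι ⊕ ι → K → D)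
    (h3 : ∀ p q : ι ⊕ ι, ∃ k, AbsNe k p ∧ AbsNe k q) : Prop :=
  ∀ {p q : ι ⊕ ι}, AbsNe p q → ∀ t u : K,
    π (Ll hπ X h3 p q t u) = X (bar q) q (eps K p q * t * u ^ 2)

/-! ### the coefficients `cw` -/

theorem cw_long (p : ι ⊕ ι) (t : K) (k : ι ⊕ ι) :
    cw p (bar p) t k = if k = p then -t⁻¹ else if k = bar p then t else 1 := by
  unfold cw
  rw [if_pos rfl]

theorem cw_short {p q : ι ⊕ ι} (hq : q ≠ bar p) (t : K) (k : ι ⊕ ι) :
    cw p q t k = if k = p then -t⁻¹ else if k = q then t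
      else if k = bar p then -(eps K p q * t) else if k = bar q then eps K p q * t⁻¹ else 1 := by
  unfold cw
  rw [if_neg hq]

/-! ### conjugating `Ll` by a lift of a monomial element -/

theorem conj_Ll (hπ : Function.Surjective π) (hc : π.ker ≤ Subgroup.center E)
    (h3 : ∀ p q : ι ⊕ ι, ∃ k, AbsNe k p ∧ AbsNe k q) (hZ : ZsConjStmt hπ X h3)
    {g : D} {σ : Equiv.Perm (ι ⊕ ι)} {pp : ι ⊕ ι → K} (hg : IsMono X g σ pp)
    (hσ : ∀ k, σ (bar k) = bar (σ k)) {p q : ι ⊕ ι} (hpq : AbsNe p q) (t u : K) (x : E)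
    (hx : π x = g) :
    x * Ll hπ X h3 p q t u * x⁻¹ =
      (Zs hπ X h3 (σ p) (σ q) (pp p * (pp q)⁻¹ * (t * u)))⁻¹ *
        lc hπ (X (σ p) (σ (bar p)) (pp p * (pp (bar p))⁻¹ * t))
          (X (σ (bar p)) (σ q) (pp (bar p) * (pp q)⁻¹ * u)) := by
  unfold Ll
  have e : x * ((Zs hπ X h3 p q (t * u))⁻¹ * lc hπ (X p (bar p) t) (X (bar p) q u)) * x⁻¹ =
      (x * Zs hπ X h3 p q (t * u) * x⁻¹)⁻¹ *
        (x * lc hπ (X p (bar p) t) (X (bar p) q u) * x⁻¹) := by group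
  rw [e, hZ hg hσ hpq (t * u) x hx, lc_conj hπ hc, hx, hg.2 p (bar p) (bar_ne p).symm,
    hg.2 (bar p) q hpq.bar_left.1]

/-! ### elements fixing the lifts of `X (bar q) q w` -/

/-- the root elements commuting with all `X (bar q) q w` -/
def fixGens (X : ι ⊕ ι → ι ⊕ ι → K → D) (q : ι ⊕ ι) : Set D :=
  {g | ∃ a b : ι ⊕ ι, a ≠ b ∧ a ≠ q ∧ b ≠ bar q ∧ ∃ v : K, g = X a b v}

theorem conj_eq_of_mem_fixGens (hπ : Function.Surjective π) (hc : π.ker ≤ Subgroup.center E)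
    (hX : SpRel X) (hCL : CLC hπ X) {q : ι ⊕ ι} {g : D}
    (hg : g ∈ Subgroup.closure (fixGens X q)) (w : K) {x y : E} (hx : π x = g)
    (hy : π y = X (bar q) q w) : x * y * x⁻¹ = y := by
  have hS : ∀ b ∈ fixGens X q, Commute (X (bar q) q w) b ∧ lc hπ (X (bar q) q w) b = 1 := by
    rintro _ ⟨a, b, hab, haq, hbq, v, rfl⟩
    have h1 : q ≠ a := Ne.symm haq
    have h2 : q ≠ bar b := fun e => hbq (by rw [e, bar_bar])
    have h3 : bar q ≠ bar a := fun e => haq (bar_injective e).symm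
    have h4 : bar q ≠ b := Ne.symm hbq
    exact ⟨hX.comm (bar q) q a b (bar_ne q) hab h1 h2 h3 h4 w v,
      hCL (bar q) q a b (bar_ne q) hab h1 h2 h3 h4 w v⟩
  have h := lc_eq_one_of_mem_closure hπ hc (X (bar q) q w) hS hg
  exact conj_lift_eq hπ hc (lc_eq_one_symm hπ h.2) hx hy

theorem W_mem_fixGens {q a b : ι ⊕ ι} (hab : a ≠ b) (haq : AbsNe a q) (hbq : AbsNe b q) (t : K) :
    W X a b t ∈ Subgroup.closure (fixGens X q) := by
  unfold W
  have h1 : ∀ v, X a b v ∈ Subgroup.closure (fixGens X q) := fun v =>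
    Subgroup.subset_closure ⟨a, b, hab, haq.1, hbq.2, v, rfl⟩
  have h2 : ∀ v, X b a v ∈ Subgroup.closure (fixGens X q) := fun v =>
    Subgroup.subset_closure ⟨b, a, hab.symm, hbq.1, haq.2, v, rfl⟩
  exact mul_mem (mul_mem (h1 _) (h2 _)) (h1 _)

theorem Hd_mem_fixGens {q a b : ι ⊕ ι} (hab : a ≠ b) (haq : AbsNe a q) (hbq : AbsNe b q) (t : K) :
    Hd X a b t ∈ Subgroup.closure (fixGens X q) := by
  unfold Hd
  exact mul_mem (W_mem_fixGens hab haq hbq t) (inv_mem (W_mem_fixGens hab haq hbq 1))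

/-! ### (LG2) -/

theorem Ll_torus_core (hπ : Function.Surjective π) (hc : π.ker ≤ Subgroup.center E)
    (hX : SpRel X) (hM : MonoData X (reflPerm (ι := ι)) (cw (K := K))) (hCL : CLC hπ X)
    (h3 : ∀ p q : ι ⊕ ι, ∃ k, AbsNe k p ∧ AbsNe k q)
    (hZ : ZsConjStmt hπ X h3) (hL : MapLlStmt hπ X h3)
    {p q : ι ⊕ ι} (hpq : AbsNe p q) (t : K)
    {u : K} (hu : u ≠ 0) : Ll hπ X h3 p q t u = Ll hπ X h3 p q (t * u ^ 2) 1 := by
  obtain ⟨x, hx⟩ := hπ (Hd X p (bar p) u)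
  have hpp : p ≠ bar p := (bar_ne p).symm
  have hfix := conj_eq_of_mem_fixGens hπ hc hX hCL
    (Hd_mem_fixGens hpp hpq hpq.bar_left u) _ hx (hL hpq t u)
  have hmono := hM.Hd_isMono hpp hu
  have hconj := conj_Ll hπ hc h3 hZ hmono (fun k => rfl) hpq t u x hx
  rw [hfix] at hconj
  -- the coefficients
  have hσp : (reflPerm p (bar p))⁻¹ p = bar p := by
    rw [Equiv.Perm.inv_eq_iff_eq, refl_right]
  have hσpb : (reflPerm p (bar p))⁻¹ (bar p) = p := by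
    rw [Equiv.Perm.inv_eq_iff_eq, refl_left]
  have hσq : (reflPerm p (bar p))⁻¹ q = q := by
    rw [Equiv.Perm.inv_eq_iff_eq, refl_other hpq.1.symm hpq.ne_bar' hpq.ne_bar'
      (by rw [bar_bar]; exact hpq.1.symm)]
  have hpbp : bar p ≠ p := bar_ne p
  have hqp : q ≠ p := hpq.1.symm
  have hqpb : q ≠ bar p := hpq.ne_bar'
  simp only [Equiv.Perm.one_apply, hσp, hσpb, hσq, cw_long, if_neg hpbp,
    if_neg hqp, if_neg hqpb, inv_one, mul_one, if_true] at hconj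
  rw [hconj]
  unfold Ll
  have e1 : u * (t * u) = t * u ^ 2 * 1 := by ring
  have e2 : u * (-u⁻¹ * (-1)⁻¹)⁻¹ * t = t * u ^ 2 := by
    field_simp
  have e3 : -u⁻¹ * (-1)⁻¹ * u = 1 := by
    field_simp
  rw [e1, e2, e3]

/-! ### more values of `cw` and `reflPerm` -/

theorem cw_long_left (p : ι ⊕ ι) (t : K) : cw p (bar p) t p = -t⁻¹ := by
  rw [cw_long, if_pos rfl]

theorem cw_long_right (p : ι ⊕ ι) (t : K) : cw p (bar p) t (bar p) = t := by
  rw [cw_long, if_neg (bar_ne p), if_pos rfl]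

theorem cw_long_other {p k : ι ⊕ ι} (h1 : k ≠ p) (h2 : k ≠ bar p) (t : K) :
    cw p (bar p) t k = 1 := by
  rw [cw_long, if_neg h1, if_neg h2]

theorem cw_short_left {p q : ι ⊕ ι} (hq : q ≠ bar p) (t : K) : cw p q t p = -t⁻¹ := by
  rw [cw_short hq, if_pos rfl]

theorem cw_short_right {p q : ι ⊕ ι} (hpq : p ≠ q) (hq : q ≠ bar p) (t : K) :
    cw p q t q = t := by
  rw [cw_short hq, if_neg hpq.symm, if_pos rfl]

theorem cw_short_bar_left {p q : ι ⊕ ι} (hq : q ≠ bar p) (t : K) :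
    cw p q t (bar p) = -(eps K p q * t) := by
  rw [cw_short hq, if_neg (bar_ne p), if_neg hq.symm, if_pos rfl]

theorem cw_short_bar_right {p q : ι ⊕ ι} (hpq : p ≠ q) (hq : q ≠ bar p) (t : K) :
    cw p q t (bar q) = eps K p q * t⁻¹ := by
  have h1 : bar q ≠ p := fun e => hq (by rw [← e, bar_bar])
  have h2 : bar q ≠ bar p := fun e => hpq (bar_injective e).symm
  rw [cw_short hq, if_neg h1, if_neg (bar_ne q), if_neg h2, if_pos rfl]

theorem cw_short_other {p q k : ι ⊕ ι} (hq : q ≠ bar p) (h1 : k ≠ p) (h2 : k ≠ q)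
    (h3 : k ≠ bar p) (h4 : k ≠ bar q) (t : K) : cw p q t k = 1 := by
  rw [cw_short hq, if_neg h1, if_neg h2, if_neg h3, if_neg h4]

theorem refl_bar (p q k : ι ⊕ ι) : reflPerm p q (bar k) = bar (reflPerm p q k) := by
  by_cases h1 : k = p
  · subst h1; rw [refl_bar_left, refl_left]
  by_cases h2 : k = q
  · subst h2; rw [refl_bar_right, refl_right]
  by_cases h3 : k = bar p
  · subst h3; rw [bar_bar, refl_left, refl_bar_left, bar_bar]
  by_cases h4 : k = bar q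
  · subst h4; rw [bar_bar, refl_right, refl_bar_right, bar_bar]
  have g1 : bar k ≠ p := fun e => h3 (by rw [← e, bar_bar])
  have g2 : bar k ≠ q := fun e => h4 (by rw [← e, bar_bar])
  have g3 : bar k ≠ bar p := fun e => h1 (bar_injective e)
  have g4 : bar k ≠ bar q := fun e => h2 (bar_injective e)
  rw [refl_other h1 h2 h3 h4, refl_other g1 g2 g3 g4]

/-! ### (LG3) -/

theorem Ll_bar_core (hπ : Function.Surjective π) (hc : π.ker ≤ Subgroup.center E)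
    (hX : SpRel X) (hM : MonoData X (reflPerm (ι := ι)) (cw (K := K))) (hCL : CLC hπ X)
    (h3 : ∀ p q : ι ⊕ ι, ∃ k, AbsNe k p ∧ AbsNe k q)
    (hZ : ZsConjStmt hπ X h3) (hL : MapLlStmt hπ X h3)
    {p q : ι ⊕ ι} (hpq : AbsNe p q) (t : K) :
    Ll hπ X h3 p q t 1 = Ll hπ X h3 (bar p) q (-t) 1 := by
  obtain ⟨x, hx⟩ := hπ (W X p (bar p) 1)
  have hpp : p ≠ bar p := (bar_ne p).symm
  have hfix := conj_eq_of_mem_fixGens hπ hc hX hCL
    (W_mem_fixGens hpp hpq hpq.bar_left 1) _ hx (hL hpq t 1)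
  have hmono := hM.mono p (bar p) hpp 1 one_ne_zero
  have hconj := conj_Ll hπ hc h3 hZ hmono (refl_bar p (bar p)) hpq t 1 x hx
  rw [hfix] at hconj
  have hσq : reflPerm p (bar p) q = q :=
    refl_other hpq.1.symm hpq.ne_bar' hpq.ne_bar' (by rw [bar_bar]; exact hpq.1.symm)
  rw [refl_left, refl_right, hσq, cw_long_left, cw_long_right,
    cw_long_other hpq.1.symm hpq.ne_bar'] at hconj
  rw [hconj]
  unfold Ll
  rw [bar_bar]
  have e1 : -(1 : K)⁻¹ * 1⁻¹ * (t * 1) = -t * 1 := by simp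
  have e2 : -(1 : K)⁻¹ * 1⁻¹ * t = -t := by simp
  have e3 : (1 : K) * 1⁻¹ * 1 = 1 := by simp
  rw [e1, e2, e3]

/-! ### (LG4) -/

theorem Ll_move_core (hπ : Function.Surjective π) (hc : π.ker ≤ Subgroup.center E)
    (hX : SpRel X) (hM : MonoData X (reflPerm (ι := ι)) (cw (K := K))) (hCL : CLC hπ X)
    (h3 : ∀ p q : ι ⊕ ι, ∃ k, AbsNe k p ∧ AbsNe k q)
    (hZ : ZsConjStmt hπ X h3) (hL : MapLlStmt hπ X h3)
    {p p' q : ι ⊕ ι} (hpq : AbsNe p q) (hp'q : AbsNe p' q) (hpp' : AbsNe p p') (t : K) :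
    Ll hπ X h3 p q t 1 = Ll hπ X h3 p' q (eps K p p' * t) 1 := by
  obtain ⟨x, hx⟩ := hπ (W X p p' 1)
  have hne : p ≠ p' := hpp'.1
  have hnb : p' ≠ bar p := hpp'.ne_bar'
  have hfix := conj_eq_of_mem_fixGens hπ hc hX hCL
    (W_mem_fixGens hne hpq hp'q 1) _ hx (hL hpq t 1)
  have hmono := hM.mono p p' hne 1 one_ne_zero
  have hconj := conj_Ll hπ hc h3 hZ hmono (refl_bar p p') hpq t 1 x hx
  rw [hfix] at hconj
  have q1 : q ≠ p := hpq.1.symm
  have q2 : q ≠ p' := hp'q.1.symm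
  have q3 : q ≠ bar p := hpq.ne_bar'
  have q4 : q ≠ bar p' := hp'q.ne_bar'
  rw [refl_left, refl_bar_left, refl_other q1 q2 q3 q4, cw_short_left hnb,
    cw_short_bar_left hnb, cw_short_other hnb q1 q2 q3 q4] at hconj
  have hee : eps K p p' * eps K p p' = 1 := eps_mul_self p p'
  have htor := Ll_torus_core hπ hc hX hM hCL h3 hZ hL hp'q (eps K p p' * t)
    (u := -eps K p p') (neg_ne_zero.mpr (eps_ne_zero p p'))
  have e0 : eps K p p' * t * (-eps K p p') ^ 2 = eps K p p' * t := by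
    rw [neg_sq, sq, hee, mul_one]
  rw [e0] at htor
  rw [hconj, ← htor]
  unfold Ll
  have e1 : -(1 : K)⁻¹ * 1⁻¹ * (t * 1) = eps K p p' * t * -eps K p p' := by
    have : eps K p p' * t * -eps K p p' = -(eps K p p' * eps K p p') * t := by ring
    rw [this, hee]; simp
  have e2 : -(1 : K)⁻¹ * (-(eps K p p' * 1))⁻¹ * t = eps K p p' * t := by
    rw [mul_one, inv_neg, eps_inv]; simp
  have e3 : -(eps K p p' * 1) * (1 : K)⁻¹ * 1 = -eps K p p' := by simp
  rw [e1, e2, e3]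

end Cfsg.Agent.Helper67.StCLG
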