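import Mathlib
import Cfsg.Agent.Helper40.StCLiftDefs
import Cfsg.Agent.Helper67.StCLGCore
import Cfsg.Agent.Helper14.StCSH5
import Cfsg.Agent.Helper33.StCLG1
import Cfsg.Agent.Helper41.StCSH1

/-!
helper67, for helper40/helper96 (S2092, part II), pieces (LG2) `Ll_torus`, (LG3) `Ll_bar`,
(LG4) `Ll_move`, stage 1: the skeleton statements with the single extra hypothesis
`hB : HypB hπ X` (= (SH2) `milnor_B`), placed after `h3`.  Everything else is discharged with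
the landed pieces (SH1) `milnor_A` (helper41), (SH5) `Zs_conj'` (helper14), (LG1) `map_Ll`
(helper33).
-/

set_option autoImplicit false
set_option linter.unusedSectionVars false

namespace Cfsg.Agent.Helper67.StCLG

open scoped commutatorElement
open Cfsg.Agent.Helper96.StN Cfsg.Agent.Helper96.StC Cfsg.Agent.Helper96.StLift
  Cfsg.Agent.Helper40.StCLift

universe u v v' w

variable {K : Type u} [Field K] {D : Type v} [Group D] {E : Type v'} [Group E] {π : E →* D}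
  {ι : Type w} [DecidableEq ι] {X : ι ⊕ ι → ι ⊕ ι → K → D}

theorem hypA_of (hπ : Function.Surjective π) (hc : π.ker ≤ Subgroup.center E) (hX : SpRel X)
    (hCL : CLC hπ X) : Cfsg.Agent.Helper14.StCSH3.HypA hπ X :=
  fun _ _ _ _ hih hik hij hhk hhj hkj a b c =>
    Cfsg.Agent.Helper41.StCSH1.milnor_A hπ hc hX hCL hih hik hij hhk hhj hkj a b c

theorem zsConjStmt_of (hπ : Function.Surjective π) (hc : π.ker ≤ Subgroup.center E)
    (hX : SpRel X) (hCL : CLC hπ X) (h3 : ∀ p q : ι ⊕ ι, ∃ k, AbsNe k p ∧ AbsNe k q)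
    (hB : Cfsg.Agent.Helper14.StCSH3.HypB hπ X) : ZsConjStmt hπ X h3 :=
  fun hg hσ _ _ hps t x hx =>
    Cfsg.Agent.Helper14.StCSH5.Zs_conj' hπ hc hX hCL (hypA_of hπ hc hX hCL) hB h3 hg hσ hps t x hx

theorem mapLlStmt_of (hπ : Function.Surjective π) (hX : SpRel X)
    (h3 : ∀ p q : ι ⊕ ι, ∃ k, AbsNe k p ∧ AbsNe k q) : MapLlStmt hπ X h3 :=
  fun hpq t u => Cfsg.Agent.Helper33.StCLG1.map_Ll hπ hX h3 hpq t u

/-- (LG2) with (SH2) as a hypothesis -/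
theorem Ll_torus_of (hπ : Function.Surjective π) (hc : π.ker ≤ Subgroup.center E)
    (hX : SpRel X) (hM : MonoData X (reflPerm (ι := ι)) (cw (K := K))) (hCL : CLC hπ X)
    (h3 : ∀ p q : ι ⊕ ι, ∃ k, AbsNe k p ∧ AbsNe k q)
    (hB : Cfsg.Agent.Helper14.StCSH3.HypB hπ X) {p q : ι ⊕ ι} (hpq : AbsNe p q) (t : K)
    {u : K} (hu : u ≠ 0) : Ll hπ X h3 p q t u = Ll hπ X h3 p q (t * u ^ 2) 1 :=
  Ll_torus_core hπ hc hX hM hCL h3 (zsConjStmt_of hπ hc hX hCL h3 hB) (mapLlStmt_of hπ hX h3)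
    hpq t hu

/-- (LG3) with (SH2) as a hypothesis -/
theorem Ll_bar_of (hπ : Function.Surjective π) (hc : π.ker ≤ Subgroup.center E)
    (hX : SpRel X) (hM : MonoData X (reflPerm (ι := ι)) (cw (K := K))) (hCL : CLC hπ X)
    (h3 : ∀ p q : ι ⊕ ι, ∃ k, AbsNe k p ∧ AbsNe k q)
    (hB : Cfsg.Agent.Helper14.StCSH3.HypB hπ X) {p q : ι ⊕ ι} (hpq : AbsNe p q) (t : K) :
    Ll hπ X h3 p q t 1 = Ll hπ X h3 (bar p) q (-t) 1 :=
  Ll_bar_core hπ hc hX hM hCL h3 (zsConjStmt_of hπ hc hX hCL h3 hB) (mapLlStmt_of hπ hX h3)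
    hpq t

/-- (LG4) with (SH2) as a hypothesis -/
theorem Ll_move_of (hπ : Function.Surjective π) (hc : π.ker ≤ Subgroup.center E)
    (hX : SpRel X) (hM : MonoData X (reflPerm (ι := ι)) (cw (K := K))) (hCL : CLC hπ X)
    (h3 : ∀ p q : ι ⊕ ι, ∃ k, AbsNe k p ∧ AbsNe k q)
    (hB : Cfsg.Agent.Helper14.StCSH3.HypB hπ X) {p p' q : ι ⊕ ι} (hpq : AbsNe p q)
    (hp'q : AbsNe p' q) (hpp' : AbsNe p p') (t : K) :
    Ll hπ X h3 p q t 1 = Ll hπ X h3 p' q (eps K p p' * t) 1 :=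
  Ll_move_core hπ hc hX hM hCL h3 (zsConjStmt_of hπ hc hX hCL h3 hB) (mapLlStmt_of hπ hX h3)
    hpq hp'q hpp' t

end Cfsg.Agent.Helper67.StCLG
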