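import Mathlib
import Cfsg.Agent.Helper40.StCLiftDefs
import Cfsg.Agent.Helper67.StCLG23
import Cfsg.Agent.Helper29.StCSH2

/-!
helper67, for helper40/helper96 (S2092, part II), piece (LG2) `Ll_torus`: exact skeleton
statement ((SH2) `milnor_B` of helper29 discharges the hypothesis of `Ll_torus_of`).
-/

set_option autoImplicit false
set_option linter.unusedSectionVars false

namespace Cfsg.Agent.Helper67.StCLG2

open scoped commutatorElement
open Cfsg.Agent.Helper96.StN Cfsg.Agent.Helper96.StC Cfsg.Agent.Helper96.StLift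
  Cfsg.Agent.Helper40.StCLift

universe u v v' w

variable {K : Type u} [Field K] {D : Type v} [Group D] {E : Type v'} [Group E] {π : E →* D}
  {ι : Type w} [DecidableEq ι] {X : ι ⊕ ι → ι ⊕ ι → K → D}

theorem hypB_of (hπ : Function.Surjective π) (hc : π.ker ≤ Subgroup.center E) (hX : SpRel X)
    (hCL : CLC hπ X) : Cfsg.Agent.Helper14.StCSH3.HypB hπ X :=
  fun _ _ _ hih hij hhj a b c =>
    Cfsg.Agent.Helper29.StCSH2.milnor_B hπ hc hX hCL hih hij hhj a b c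

/-- (SH5), exact skeleton statement -/
theorem Zs_conj (hπ : Function.Surjective π) (hc : π.ker ≤ Subgroup.center E)
    (hX : SpRel X) (hCL : CLC hπ X) (h3 : ∀ p q : ι ⊕ ι, ∃ k, AbsNe k p ∧ AbsNe k q)
    {g : D} {σ : Equiv.Perm (ι ⊕ ι)} {pp : ι ⊕ ι → K} (hg : IsMono X g σ pp)
    (hσ : ∀ k, σ (bar k) = bar (σ k)) {p s : ι ⊕ ι} (hps : AbsNe p s) (t : K) (x : E)
    (hx : π x = g) :
    x * Zs hπ X h3 p s t * x⁻¹ = Zs hπ X h3 (σ p) (σ s) (pp p * (pp s)⁻¹ * t) :=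
  Cfsg.Agent.Helper14.StCSH5.Zs_conj' hπ hc hX hCL
    (Cfsg.Agent.Helper67.StCLG.hypA_of hπ hc hX hCL) (hypB_of hπ hc hX hCL) h3 hg hσ hps t x hx

/-- (LG2) -/
theorem Ll_torus (hπ : Function.Surjective π) (hc : π.ker ≤ Subgroup.center E)
    (hX : SpRel X) (hM : MonoData X (reflPerm (ι := ι)) (cw (K := K))) (hCL : CLC hπ X)
    (h3 : ∀ p q : ι ⊕ ι, ∃ k, AbsNe k p ∧ AbsNe k q) {p q : ι ⊕ ι} (hpq : AbsNe p q) (t : K)
    {u : K} (hu : u ≠ 0) : Ll hπ X h3 p q t u = Ll hπ X h3 p q (t * u ^ 2) 1 :=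
  Cfsg.Agent.Helper67.StCLG.Ll_torus_of hπ hc hX hM hCL h3 (hypB_of hπ hc hX hCL) hpq t hu

end Cfsg.Agent.Helper67.StCLG2
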