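import Mathlib
import Cfsg.Agent.Helper40.StCLiftDefs
import Cfsg.Agent.Helper67.StCLG2

/-!
helper67, for helper40/helper96 (S2092, part II), pieces (LG3) `Ll_bar` and (LG4) `Ll_move`:
exact skeleton statements.
-/

set_option autoImplicit false
set_option linter.unusedSectionVars false

namespace Cfsg.Agent.Helper67.StCLG3

open scoped commutatorElement
open Cfsg.Agent.Helper96.StN Cfsg.Agent.Helper96.StC Cfsg.Agent.Helper96.StLift
  Cfsg.Agent.Helper40.StCLift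

universe u v v' w

variable {K : Type u} [Field K] {D : Type v} [Group D] {E : Type v'} [Group E] {π : E →* D}
  {ι : Type w} [DecidableEq ι] {X : ι ⊕ ι → ι ⊕ ι → K → D}

/-- (LG3) -/
theorem Ll_bar (hπ : Function.Surjective π) (hc : π.ker ≤ Subgroup.center E)
    (hX : SpRel X) (hM : MonoData X (reflPerm (ι := ι)) (cw (K := K))) (hCL : CLC hπ X)
    (h3 : ∀ p q : ι ⊕ ι, ∃ k, AbsNe k p ∧ AbsNe k q) {p q : ι ⊕ ι} (hpq : AbsNe p q) (t : K) :
    Ll hπ X h3 p q t 1 = Ll hπ X h3 (bar p) q (-t) 1 :=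
  Cfsg.Agent.Helper67.StCLG.Ll_bar_of hπ hc hX hM hCL h3
    (Cfsg.Agent.Helper67.StCLG2.hypB_of hπ hc hX hCL) hpq t

/-- (LG4) -/
theorem Ll_move (hπ : Function.Surjective π) (hc : π.ker ≤ Subgroup.center E)
    (hX : SpRel X) (hM : MonoData X (reflPerm (ι := ι)) (cw (K := K))) (hCL : CLC hπ X)
    (h3 : ∀ p q : ι ⊕ ι, ∃ k, AbsNe k p ∧ AbsNe k q) {p p' q : ι ⊕ ι} (hpq : AbsNe p q)
    (hp'q : AbsNe p' q) (hpp' : AbsNe p p') (t : K) :
    Ll hπ X h3 p q t 1 = Ll hπ X h3 p' q (eps K p p' * t) 1 :=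
  Cfsg.Agent.Helper67.StCLG.Ll_move_of hπ hc hX hM hCL h3
    (Cfsg.Agent.Helper67.StCLG2.hypB_of hπ hc hX hCL) hpq hp'q hpp' t

end Cfsg.Agent.Helper67.StCLG3
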