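import Mathlib
import Cfsg.Agent.Helper38.VL.Defs

set_option autoImplicit false

namespace Cfsg.Agent.Helper67.VL

/-- (S5) arithmetic for the Vaughan-Lee bound. -/
theorem arith_bound (d b : ℕ) (hd : d ≤ b + 1) :
    d * (d - 1) / 2 + d * (b + 1 - d) ≤ b * (b + 1) / 2 := by
  obtain ⟨e, he⟩ := Nat.exists_eq_add_of_le hd
  have hb : b = d + e - 1 := by omega
  obtain ⟨k, hk⟩ := Nat.even_mul_pred_self d
  obtain ⟨l, hl⟩ := Nat.even_mul_pred_self e
  have h1 : d * (d - 1) / 2 = k := by omega
  have h2 : b + 1 - d = e := by omega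
  rw [h1, h2]
  have h3 : b * (b + 1) = 2 * (k + d * e + l) := by
    rcases Nat.eq_zero_or_pos d with rfl | hdpos
    · simp only [zero_mul] at hk ⊢
      have hk0 : k = 0 := by omega
      subst hk0
      have hb1 : b + 1 = e := by omega
      have hb2 : b = e - 1 := by omega
      rw [hb1, hb2, mul_comm, hl]; ring
    rcases Nat.eq_zero_or_pos e with rfl | hepos
    · simp only [zero_mul, mul_zero, add_zero] at hl ⊢
      have hl0 : l = 0 := by omega
      subst hl0
      have hb1 : b + 1 = d := by omega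
      have hb2 : b = d - 1 := by omega
      rw [hb1, hb2, mul_comm, hk]; ring
    obtain ⟨d', rfl⟩ := Nat.exists_eq_succ_of_ne_zero hdpos.ne'
    obtain ⟨e', rfl⟩ := Nat.exists_eq_succ_of_ne_zero hepos.ne'
    have hb' : b = d' + e' + 1 := by omega
    subst hb'
    simp only [Nat.succ_eq_add_one, Nat.add_sub_cancel] at hk hl
    nlinarith [hk, hl]
  rw [h3, Nat.mul_div_cancel_left _ (by norm_num : 0 < 2)]
  omega

end Cfsg.Agent.Helper67.VL
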