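import Mathlib
import Cfsg.Agent.Helper9.SpGen.Root
import Cfsg.Agent.Helper9.SpGen.Pos
import Cfsg.Agent.Helper19.SpBN.Basic

/-!
# helper67 for helper9 (S2411): piece (GM1) `monoM_mem`
-/

set_option autoImplicit false

namespace Cfsg.Agent.Helper67.SpGen

open Matrix Cfsg.Agent.Helper96.StN Cfsg.Agent.Helper96.StC Cfsg.Agent.Helper29.StCM
  Cfsg.Agent.Helper19.SpBN Cfsg.Agent.Helper9.SpGen

universe u v w

variable {K : Type u} [Field K]

theorem monoM_mem {ι : Type w} [DecidableEq ι] [Fintype ι] {π : Equiv.Perm (ι ⊕ ι)}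
    {c : ι ⊕ ι → K} (hπ : ∀ k, π (bar k) = bar (π k))
    (hc : ∀ k, c k * c (bar k) * sgn K k = sgn K (π k)) :
    monoM π c ∈ Matrix.symplecticGroup ι K := by
  rw [SymplecticGroup.mem_iff]
  ext r s
  have h1 : ∀ l, (monoM π c * Matrix.J ι K) r l =
      if l = bar (π.symm r) then c (π.symm r) * sgn K (π.symm r) else 0 := by
    intro l
    rw [Matrix.mul_apply, Finset.sum_eq_single (π.symm r)]
    · rw [J_apply]
      simp [monoM]
    · intro k _ hk
      have hne : r ≠ π k := by
        rintro rfl
        exact hk (by simp)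
      simp [monoM, hne]
    · intro h
      exact absurd (Finset.mem_univ _) h
  rw [Matrix.mul_apply]
  simp_rw [h1, Matrix.transpose_apply]
  rw [Finset.sum_eq_single (bar (π.symm r))]
  · rw [if_pos rfl, J_apply]
    have h2 := hc (π.symm r)
    rw [Equiv.apply_symm_apply] at h2
    by_cases hs : s = bar r
    · subst hs
      have h3 : bar r = π (bar (π.symm r)) := by rw [hπ, Equiv.apply_symm_apply]
      rw [if_pos rfl, monoM, if_pos h3, ← h2]
      ring
    · have h3 : s ≠ π (bar (π.symm r)) := by
        rw [hπ, Equiv.apply_symm_apply]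
        exact hs
      rw [if_neg hs, monoM, if_neg h3, mul_zero]
  · intro l _ hl
    rw [if_neg hl, zero_mul]
  · intro h
    exact absurd (Finset.mem_univ _) h
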