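import Mathlib
import Cfsg.Agent.Helper9.SpGen.Root
import Cfsg.Agent.Helper9.SpGen.Pos
import Cfsg.Agent.Helper19.SpBN.Basic

/-!
# helper67 for helper9 (S2411): piece (GM2) `isMono_of_coe`
-/

set_option autoImplicit false

namespace Cfsg.Agent.Helper67.SpGen

open Matrix Cfsg.Agent.Helper96.StN Cfsg.Agent.Helper96.StC Cfsg.Agent.Helper29.StCM
  Cfsg.Agent.Helper19.SpBN Cfsg.Agent.Helper9.SpGen

universe u v w

variable {K : Type u} [Field K]

/-- the entries of a symplectic root matrix -/
theorem spM_entry {ι : Type w} [DecidableEq ι] [Fintype ι] (p q : ι ⊕ ι) (t : K) (a b : ι ⊕ ι) :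
    spM p q t a b = (if a = b then 1 else 0) + (if p = a ∧ q = b then t else 0) -
      (if q ≠ bar p ∧ bar q = a ∧ bar p = b then eps K p q * t else 0) := by
  unfold spM
  by_cases hq : q = bar p
  · have n : ¬ (q ≠ bar p ∧ bar q = a ∧ bar p = b) := fun h => h.1 hq
    rw [if_pos hq, if_neg n, Matrix.add_apply, Matrix.one_apply, Matrix.single_apply, sub_zero]
  · rw [if_neg hq, Matrix.sub_apply, Matrix.add_apply, Matrix.one_apply, Matrix.single_apply,
      Matrix.single_apply]
    simp only [hq, ne_eq, not_false_eq_true, true_and]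

theorem sgn_mul_self {ι : Type w} (a : ι ⊕ ι) : sgn K a * sgn K a = 1 := by
  unfold sgn
  split_ifs <;> ring

theorem sgn_ne_zero {ι : Type w} (a : ι ⊕ ι) : sgn K a ≠ 0 := by
  intro h
  have := sgn_mul_self (K := K) a
  rw [h, zero_mul] at this
  exact zero_ne_one this

theorem eps_eq_sgn_mul {ι : Type w} (p q : ι ⊕ ι) : eps K p q = sgn K p * sgn K q := by
  rcases p with p | p <;> rcases q with q | q <;> simp [eps, sgn]

/-- the monomial matrix conjugates root matrices to root matrices -/
theorem monoM_mul_spM {ι : Type w} [DecidableEq ι] [Fintype ι] {π : Equiv.Perm (ι ⊕ ι)}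
    {c : ι ⊕ ι → K} (hπ : ∀ k, π (bar k) = bar (π k))
    (hc : ∀ k, c k * c (bar k) * sgn K k = sgn K (π k)) (hc0 : ∀ k, c k ≠ 0)
    {p q : ι ⊕ ι} (hpq : p ≠ q) (t : K) :
    monoM π c * spM p q t = spM (π p) (π q) (c p * (c q)⁻¹ * t) * monoM π c := by
  ext r k
  have hL : (monoM π c * spM p q t) r k = c (π.symm r) * spM p q t (π.symm r) k := by
    rw [Matrix.mul_apply, Finset.sum_eq_single (π.symm r)]
    · simp [monoM]
    · intro j _ hj
      have hne : r ≠ π j := by
        rintro rfl
        exact hj (by simp)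
      simp [monoM, hne]
    · intro h
      exact absurd (Finset.mem_univ _) h
  have hR : (spM (π p) (π q) (c p * (c q)⁻¹ * t) * monoM π c) r k =
      spM (π p) (π q) (c p * (c q)⁻¹ * t) r (π k) * c k := by
    rw [Matrix.mul_apply, Finset.sum_eq_single (π k)]
    · simp [monoM]
    · intro j _ hj
      simp [monoM, hj]
    · intro h
      exact absurd (Finset.mem_univ _) h
  rw [hL, hR]
  obtain ⟨r', rfl⟩ := π.surjective r
  rw [Equiv.symm_apply_apply, spM_entry, spM_entry]
  have e1 : (π r' = π k) ↔ (r' = k) := π.injective.eq_iff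
  have e2 : (π p = π r' ∧ π q = π k) ↔ (p = r' ∧ q = k) := by
    rw [π.injective.eq_iff, π.injective.eq_iff]
  have e3 : (π q ≠ bar (π p) ∧ bar (π q) = π r' ∧ bar (π p) = π k) ↔
      (q ≠ bar p ∧ bar q = r' ∧ bar p = k) := by
    rw [← hπ, ← hπ, π.injective.eq_iff, π.injective.eq_iff, Ne, π.injective.eq_iff]
  simp only [e1, e2, e3]
  have hcq : c q * (c q)⁻¹ = 1 := mul_inv_cancel₀ (hc0 q)
  by_cases h1 : r' = k
  · subst h1
    have n2 : ¬ (p = r' ∧ q = r') := fun h => hpq (h.1.trans h.2.symm)
    have n3 : ¬ (q ≠ bar p ∧ bar q = r' ∧ bar p = r') := fun h =>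
      hpq (bar_injective (h.2.2.trans h.2.1.symm))
    simp only [n2, n3, if_true, if_false]
    ring
  · simp only [h1, if_false]
    by_cases h2 : p = r' ∧ q = k
    · obtain ⟨rfl, rfl⟩ := h2
      have n3 : ¬ (q ≠ bar p ∧ bar q = p ∧ bar p = q) := fun h => h.1 h.2.2.symm
      simp only [n3, and_self, if_true, if_false]
      linear_combination (-(c p * t)) * hcq
    · simp only [h2, if_false]
      by_cases h3 : q ≠ bar p ∧ bar q = r' ∧ bar p = k
      · obtain ⟨hq', rfl, rfl⟩ := h3
        have h3' : q ≠ bar p ∧ bar q = bar q ∧ bar p = bar p := ⟨hq', rfl, rfl⟩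
        rw [if_pos h3', if_pos h3']
        have hA : c q * c (bar q) = sgn K (π q) * sgn K q := by
          have := hc q
          have h4 := sgn_mul_self (K := K) q
          linear_combination (sgn K q) * this - (c q * c (bar q)) * h4
        have hB : c p * c (bar p) = sgn K (π p) * sgn K p := by
          have := hc p
          have h4 := sgn_mul_self (K := K) p
          linear_combination (sgn K p) * this - (c p * c (bar p)) * h4
        have hsq := sgn_mul_self (K := K) q
        have hsπp := sgn_mul_self (K := K) (π p)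
        rw [eps_eq_sgn_mul, eps_eq_sgn_mul]
        apply mul_left_cancel₀ (hc0 q)
        linear_combination (-(sgn K p * sgn K q * t)) * hA - (sgn K (π q) * sgn K p * t) * hsq +
          (sgn K (π p) * sgn K (π q) * t * c p * c (bar p)) * hcq +
          (sgn K (π p) * sgn K (π q) * t) * hB + (sgn K (π q) * sgn K p * t) * hsπp
      · simp only [h3, if_false]
        ring

theorem isMono_of_coe {m : ℕ} {g : SpG K m} {π : Equiv.Perm (Fin m ⊕ Fin m)}
    {c : Fin m ⊕ Fin m → K} (hπ : ∀ k, π (bar k) = bar (π k))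
    (hc : ∀ k, c k * c (bar k) * sgn K k = sgn K (π k)) (hg : g.1 = monoM π c) :
    IsMono (XS K m) g π c := by
  have hc0 : ∀ k, c k ≠ 0 := by
    intro k h
    have := hc k
    rw [h, zero_mul, zero_mul] at this
    exact sgn_ne_zero (K := K) (π k) this.symm
  refine ⟨hc0, ?_⟩
  intro k l hkl u
  rw [mul_inv_eq_iff_eq_mul]
  apply Subtype.ext
  show g.1 * (XS K m k l u).1 = (XS K m (π k) (π l) (c k * (c l)⁻¹ * u)).1 * g.1
  rw [XS_coe hkl, XS_coe (fun h => hkl (π.injective h)), hg]
  exact monoM_mul_spM hπ hc hc0 hkl u
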