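import Mathlib
import Cfsg.Agent.Helper9.SpGen.Root
import Cfsg.Agent.Helper9.SpGen.Pos

/-!
# helper67 for helper9 (S2411): piece (L1) `short_of_adjacent`
-/

set_option autoImplicit false

namespace Cfsg.Agent.Helper67.SpGen

open Matrix Cfsg.Agent.Helper96.StN Cfsg.Agent.Helper96.StC Cfsg.Agent.Helper29.StCM
  Cfsg.Agent.Helper19.SpBN Cfsg.Agent.Helper9.SpGen

universe u v w

variable {K : Type u} [Field K] {D : Type v} [Group D] {ι : Type w}
  {X : ι ⊕ ι → ι ⊕ ι → K → D} {G1 : Subgroup D}

variable {π : Equiv.Perm (ι ⊕ ι)} {P : ℕ → ι ⊕ ι} {m : ℕ} {n : D} {c : ι ⊕ ι → K}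

theorem short_of_adjacent (hX : SpRel X) (hm : 2 ≤ m) (hP : IsCyc π P m) (hn : IsMono X n π c)
    (hnG : n ∈ G1) (h01 : RootIn X G1 (P 0) (P 1)) :
    ∀ p q, p ≠ q → q ≠ bar p → RootIn X G1 p q := by
  have hne : ∀ a j, 0 < j → j < 2 * m → P a ≠ P (a + j) := by
    intro a j h0 hj h
    have h1 := (hP.eq_iff _ _).mp h
    have h2 := Nat.sub_mod_eq_zero_of_mod_eq h1.symm
    rw [Nat.add_sub_cancel_left, Nat.mod_eq_of_lt hj] at h2
    omega
  have hA : ∀ k, RootIn X G1 (P k) (P (k + 1)) := by
    intro k
    induction k with
    | zero => simpa using h01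
    | succ k ih =>
      have h1 := RootIn.conj hn hnG (hP.ne_succ hm k) ih
      rw [← hP.step, ← hP.step] at h1
      exact h1
  have hB : ∀ d, 1 ≤ d → d + 1 ≤ m → ∀ k, RootIn X G1 (P k) (P (k + d)) := by
    intro d
    induction d with
    | zero =>
      intro h
      omega
    | succ d ih =>
      intro _ hd k
      rcases Nat.eq_zero_or_pos d with rfl | hd0
      · exact hA k
      · have h1 := ih hd0 (by omega) k
        have h2 := hA (k + d)
        have e : k + (d + 1) = k + d + 1 := by ring
        rw [e]
        refine RootIn.mul hX ?_ ?_ ?_ ?_ ?_ ?_ h1 h2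
        · exact hne k d hd0 (by omega)
        · exact hP.ne_succ hm (k + d)
        · have h3 := hne k (d + 1) (by omega) (by omega)
          rwa [e] at h3
        · rw [hP.bar]
          have h3 := hne k (d + m) (by omega) (by omega)
          have e2 : k + (d + m) = k + d + m := by ring
          rwa [e2] at h3
        · rw [hP.bar]
          have h3 := hne (k + d) (1 + m) (by omega) (by omega)
          have e2 : k + d + (1 + m) = k + d + 1 + m := by ring
          rwa [e2] at h3
        · rw [hP.bar]
          have h3 := hne k (d + 1 + m) (by omega) (by omega)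
          have e2 : k + (d + 1 + m) = k + d + 1 + m := by ring
          rwa [e2] at h3
  intro p q hpq hq
  obtain ⟨a0, rfl⟩ := hP.surj p
  obtain ⟨b0, rfl⟩ := hP.surj q
  have h2m : 0 < 2 * m := by omega
  set a := a0 % (2 * m) with ha
  set b := b0 % (2 * m) with hb
  have hPa : P a0 = P a := (hP.mod a0).symm
  have hPb : P b0 = P b := (hP.mod b0).symm
  have halt : a < 2 * m := Nat.mod_lt _ h2m
  have hblt : b < 2 * m := Nat.mod_lt _ h2m
  rw [hPa, hPb] at hpq hq ⊢
  rw [hP.bar] at hq
  have hab : a ≠ b := fun h => hpq (by rw [h])
  have key : ∀ a b : ℕ, a < b → b < 2 * m → b - a ≠ m →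
      RootIn X G1 (P a) (P b) ∧ RootIn X G1 (P b) (P a) := by
    intro a b hab hb hδ
    by_cases hlt : b - a < m
    · -- `b = a + δ` with `δ < m`
      have h1 := hB (b - a) (by omega) (by omega) a
      have e1 : a + (b - a) = b := by omega
      rw [e1] at h1
      refine ⟨h1, ?_⟩
      -- `(bar a, bar b)` is at distance `δ`, then `sym`
      have h3 := hB (b - a) (by omega) (by omega) (a + m)
      have e2 : a + m + (b - a) = b + m := by omega
      rw [e2, ← hP.bar, ← hP.bar] at h3
      have h4 := RootIn.sym hX (fun h => (hne a (b - a) (by omega) (by omega))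
        (by rw [e1]; exact bar_injective h)) (by
          rw [bar_bar]
          intro h
          have h5 := hne a ((b - a) + m) (by omega) (by omega)
          apply h5
          have e3 : a + (b - a + m) = b + m := by omega
          rw [e3, ← hP.bar, h]) h3
      rw [bar_bar, bar_bar] at h4
      exact h4
    · -- `a + 2m = b + δ'` with `δ' < m`
      have h1 := hB (2 * m - (b - a)) (by omega) (by omega) b
      have e1 : b + (2 * m - (b - a)) = a + 2 * m := by omega
      rw [e1, hP.period] at h1
      refine ⟨?_, h1⟩
      have h3 := hB (2 * m - (b - a)) (by omega) (by omega) (b + m)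
      have e2 : b + m + (2 * m - (b - a)) = a + m + 2 * m := by omega
      rw [e2, hP.period, ← hP.bar, ← hP.bar] at h3
      have h4 := RootIn.sym hX (fun h => (hne a (b - a) (by omega) (by omega))
        (by
          have e3 : a + (b - a) = b := by omega
          rw [e3]
          exact (bar_injective h).symm)) (by
          rw [bar_bar]
          intro h
          have h5 := hne a ((b - a) - m) (by omega) (by omega)
          apply h5
          have e3 : a + (b - a - m) + m = b := by omega
          have h6 : bar (P (a + (b - a - m))) = P b := by rw [hP.bar, e3]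
          rw [← h] at h6
          exact (bar_injective h6).symm) h3
      rw [bar_bar, bar_bar] at h4
      exact h4
  rcases Nat.lt_or_gt_of_ne hab with h | h
  · exact (key a b h hblt (by
      intro hδ
      apply hq
      congr 1
      omega)).1
  · exact (key b a h halt (by
      intro hδ
      apply hq
      have e : b + 2 * m = a + m := by omega
      rw [← e, hP.period])).2
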