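import Mathlib
import Cfsg.Agent.Helper86.Spec4.Defs

/-!
# S2510 (helper86), piece (M1): an element of `SL_n(F)` commuting with a nontrivial idempotent
commutes in `PSL_n(F)` with an element of order `r`
-/

set_option autoImplicit false

namespace Cfsg.Agent.Helper67.Spec4

open Matrix Cfsg.Agent.Helper86.Spec4

variable {F : Type*} [Field F] [Fintype F]

omit [Fintype F] in
/-- powers of `1 + (lam - 1) e` for an idempotent `e` -/
theorem one_add_smul_pow {n : ℕ} (e : Matrix (Fin n) (Fin n) F) (he : e * e = e) (lam : F) (k : ℕ) :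
    (1 + (lam - 1) • e) ^ k = 1 + (lam ^ k - 1) • e := by
  induction k with
  | zero => simp
  | succ k ih =>
    rw [pow_succ, ih]
    rw [Matrix.add_mul, Matrix.mul_add, Matrix.mul_add, Matrix.one_mul, Matrix.mul_one,
      Matrix.one_mul, Matrix.smul_mul, Matrix.mul_smul, he, smul_smul]
    rw [add_assoc, ← add_smul, ← add_smul]
    congr 2
    ring

/-- (M1) an element of `SL_n(F)` commuting with a nontrivial idempotent is `Good r` in `PSL_n(F)`. -/
theorem good_of_idempotent {n r : ℕ} (hr : r.Prime) (hrq : r ∣ Fintype.card F - 1) (hrn : ¬ r ∣ n)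
    (x : SpecialLinearGroup (Fin n) F) (e : Matrix (Fin n) (Fin n) F) (he : e * e = e)
    (he0 : e ≠ 0) (he1 : e ≠ 1) (hc : e * x.1 = x.1 * e) :
    Good r (QuotientGroup.mk x : ProjectiveSpecialLinearGroup (Fin n) F) := by
  classical
  have hrF : Fact r.Prime := ⟨hr⟩
  -- an element of order `r` in the multiplicative group
  obtain ⟨lamU, hlamU⟩ : ∃ l : Fˣ, orderOf l = r := by
    apply exists_prime_orderOf_dvd_card' r
    rw [Nat.card_eq_fintype_card, Fintype.card_units]
    exact hrq
  set lam : F := (lamU : F) with hlam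
  have hlam_r : lam ^ r = 1 := by
    have : lamU ^ r = 1 := by rw [← hlamU]; exact pow_orderOf_eq_one lamU
    rw [hlam, ← Units.val_pow_eq_pow_val, this, Units.val_one]
  have hlam1 : lam ≠ 1 := by
    intro h
    have : lamU = 1 := Units.ext h
    rw [this, orderOf_one] at hlamU
    exact hr.one_lt.ne hlamU
  set E : Matrix (Fin n) (Fin n) F := 1 + (lam - 1) • e with hE
  have hEr : E ^ r = 1 := by
    rw [hE, one_add_smul_pow e he, hlam_r, sub_self, zero_smul, add_zero]
  have hEx : E * x.1 = x.1 * E := by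
    rw [hE, Matrix.add_mul, Matrix.mul_add, Matrix.one_mul, Matrix.mul_one, Matrix.smul_mul,
      Matrix.mul_smul, hc]
  set δ : F := E.det with hδ
  have hδr : δ ^ r = 1 := by
    rw [hδ, ← Matrix.det_pow, hEr, Matrix.det_one]
  have hδ0 : δ ≠ 0 := by
    intro h
    rw [h, zero_pow hr.ne_zero] at hδr
    exact zero_ne_one hδr
  -- `c` with `n * c ≡ 1 mod r`
  have hcop : Nat.Coprime n r := (Nat.Coprime.symm ((Nat.Prime.coprime_iff_not_dvd hr).2 hrn))
  obtain ⟨c, _, hcn⟩ := Nat.exists_mul_mod_eq_one_of_coprime hcop hr.one_lt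
  set μ : F := (δ ^ c)⁻¹ with hμ
  have hμn : μ ^ n * δ = 1 := by
    have h1 : δ ^ (n * c) = δ := by
      have : n * c = r * (n * c / r) + 1 := by
        have := Nat.div_add_mod (n * c) r
        omega
      rw [this, pow_succ, pow_mul, hδr, one_pow, one_mul]
    rw [hμ, inv_pow, ← pow_mul, mul_comm c n, h1, inv_mul_cancel₀ hδ0]
  have hμr : μ ^ r = 1 := by
    rw [hμ, inv_pow, ← pow_mul, mul_comm, pow_mul, hδr, one_pow, inv_one]
  set D : Matrix (Fin n) (Fin n) F := μ • E with hD
  have hDdet : D.det = 1 := by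
    rw [hD, Matrix.det_smul, Fintype.card_fin]
    exact hμn
  have hDr : D ^ r = 1 := by
    rw [hD, smul_pow, hμr, one_smul, hEr]
  have hDx : D * x.1 = x.1 * D := by
    rw [hD, Matrix.smul_mul, Matrix.mul_smul, hEx]
  let d : SpecialLinearGroup (Fin n) F := ⟨D, hDdet⟩
  have hdr : d ^ r = 1 := by
    suffices h : ((d ^ r : SpecialLinearGroup (Fin n) F) : Matrix (Fin n) (Fin n) F)
        = ((1 : SpecialLinearGroup (Fin n) F) : Matrix (Fin n) (Fin n) F) from
      Subtype.val_injective h
    exact hDr
  have hdx : x * d = d * x := by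
    suffices h : ((x * d : SpecialLinearGroup (Fin n) F) : Matrix (Fin n) (Fin n) F)
        = ((d * x : SpecialLinearGroup (Fin n) F) : Matrix (Fin n) (Fin n) F) from
      Subtype.val_injective h
    exact hDx.symm
  have hdc : d ∉ Subgroup.center (SpecialLinearGroup (Fin n) F) := by
    intro hmem
    obtain ⟨s, _, hs⟩ := Matrix.SpecialLinearGroup.mem_center_iff.1 hmem
    have hs' : Matrix.scalar (Fin n) s = D := hs
    have hμ0 : μ ≠ 0 := by
      intro h
      rw [h, zero_pow hr.ne_zero] at hμr
      exact zero_ne_one hμr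
    -- `e` is a scalar matrix
    have hl : lam - 1 ≠ 0 := sub_ne_zero.2 hlam1
    have he_sc : e = ((lam - 1)⁻¹ * (μ⁻¹ * s - 1)) • (1 : Matrix (Fin n) (Fin n) F) := by
      have h1 : μ • (1 + (lam - 1) • e) = s • (1 : Matrix (Fin n) (Fin n) F) := by
        rw [← hE, ← hD, ← hs']
        ext i j
        simp [Matrix.scalar_apply, Matrix.diagonal_apply, Matrix.one_apply]
      have h2 : (1 : Matrix (Fin n) (Fin n) F) + (lam - 1) • e
          = (μ⁻¹ * s) • (1 : Matrix (Fin n) (Fin n) F) := by
        have := congrArg (fun M => μ⁻¹ • M) h1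
        simp only [smul_smul, inv_mul_cancel₀ hμ0, one_smul] at this
        exact this
      have h3 : (lam - 1) • e = (μ⁻¹ * s - 1) • (1 : Matrix (Fin n) (Fin n) F) := by
        have h30 : (μ⁻¹ * s - 1) • (1 : Matrix (Fin n) (Fin n) F)
            = (μ⁻¹ * s) • (1 : Matrix (Fin n) (Fin n) F) - 1 := by
          rw [sub_smul, one_smul]
        rw [h30, ← h2]
        abel
      have := congrArg (fun M => (lam - 1)⁻¹ • M) h3
      simp only [smul_smul, inv_mul_cancel₀ hl, one_smul] at this
      exact this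
    set t : F := (lam - 1)⁻¹ * (μ⁻¹ * s - 1) with ht
    have htt : t * t = t ∨ (1 : Matrix (Fin n) (Fin n) F) = 0 := by
      have h4 : (t * t) • (1 : Matrix (Fin n) (Fin n) F) = t • 1 := by
        have := he
        rw [he_sc, Matrix.smul_mul, Matrix.mul_smul, Matrix.one_mul, smul_smul] at this
        exact this
      by_cases h10 : (1 : Matrix (Fin n) (Fin n) F) = 0
      · exact Or.inr h10
      · left
        have h5 : (t * t - t) • (1 : Matrix (Fin n) (Fin n) F) = 0 := by
          rw [sub_smul, h4, sub_self]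
        rcases smul_eq_zero.1 h5 with h6 | h6
        · exact sub_eq_zero.1 h6
        · exact absurd h6 h10
    rcases htt with htt | h10
    · have : t = 0 ∨ t = 1 := by
        have h7 : t * (t - 1) = 0 := by ring_nf; rw [← sub_eq_zero] at htt; ring_nf at htt; exact htt
        rcases mul_eq_zero.1 h7 with h8 | h8
        · exact Or.inl h8
        · exact Or.inr (sub_eq_zero.1 h8)
      rcases this with h0 | h1
      · exact he0 (by rw [he_sc, h0, zero_smul])
      · exact he1 (by rw [he_sc, h1, one_smul])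
    · exact he0 (by rw [← Matrix.mul_one e, h10, Matrix.mul_zero])
  refine ⟨(QuotientGroup.mk d : ProjectiveSpecialLinearGroup (Fin n) F), ?_, ?_⟩
  · show (QuotientGroup.mk x : ProjectiveSpecialLinearGroup (Fin n) F) * QuotientGroup.mk d
      = QuotientGroup.mk d * QuotientGroup.mk x
    rw [← QuotientGroup.mk_mul, ← QuotientGroup.mk_mul, hdx]
  · apply orderOf_eq_prime
    · rw [← QuotientGroup.mk_pow, hdr, QuotientGroup.mk_one]
    · intro h
      exact hdc ((QuotientGroup.eq_one_iff d).1 h)

end Cfsg.Agent.Helper67.Spec4
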