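import Mathlib
import Cfsg.Agent.Helper94.TiD

/-!
helper67, for helper43 (S5976), piece (DERodd), abstract core: an isometry `y` of odd prime order
`r` of a nondegenerate alternating space whose cyclotomic part has dimension `2 i`, `i` odd
(`i` the common degree of the irreducible factors of `Φ_r`), commutes with no `T` with
`T² = δ` a nonsquare scalar and `T* = -T`.

The argument: pick an irreducible `y`-invariant `U₀` (dimension `i`).  `U₀ ∩ T U₀` is `T`-invariant,
hence of even dimension, hence `0`; so the cyclotomic part is `U₀ ⊕ T U₀`.  Both `B` and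
`B((y - y⁻¹) T ·, ·)` are alternating `y`-invariant forms, so `U₀` (odd dimension) is totally
isotropic for both; hence `U₀ ⊥ U₀ + T U₀`: contradiction with nondegeneracy.
-/

set_option autoImplicit false
set_option linter.unusedSectionVars false

namespace Cfsg.Agent.Helper67.EF

open Module Polynomial
open Cfsg.Agent.Helper59.InvChain Cfsg.Agent.Helper59.Elusive
open Cfsg.Agent.Helper99.RDecomp Cfsg.Agent.Helper99.SpStruct

universe u v

variable {F : Type u} [Field F] {V : Type v} [AddCommGroup V] [Module F V] [FiniteDimensional F V]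

/-- `T`-invariant subspaces have even dimension when `T² = δ` is a nonsquare scalar -/
theorem even_finrank_of_sq_nonsq (T : Module.End F V) (δ : F) (hirr : ∀ γ : F, γ * γ ≠ δ)
    (hT : T * T = δ • (1 : Module.End F V)) {U : Submodule F V} (hU : ∀ u ∈ U, T u ∈ U) :
    Even (finrank F ↥U) := by
  by_contra hodd
  rw [Nat.not_even_iff_odd] at hodd
  obtain ⟨k, hk⟩ := hodd
  have hδ : δ ≠ 0 := fun h0 => hirr 0 (by rw [h0, mul_zero])
  set T' : Module.End F ↥U := T.restrict hU with hT'
  have h1 : T' * T' = δ • (1 : Module.End F ↥U) := by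
    ext u
    have := congrArg (fun f : Module.End F V => f (u : V)) hT
    simpa [hT'] using this
  have h2 := congrArg LinearMap.det h1
  rw [map_mul, LinearMap.det_smul, map_one, mul_one, hk] at h2
  apply hirr (LinearMap.det T' / δ ^ k)
  rw [div_mul_div_comm, h2, div_eq_iff (mul_ne_zero (pow_ne_zero _ hδ) (pow_ne_zero _ hδ))]
  ring

theorem commute_aeval {T y : Module.End F V} (hc : Commute T y) (g : F[X]) :
    Commute T (aeval y g) := by
  induction g using Polynomial.induction_on' with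
  | add p q hp hq => rw [map_add]; exact hp.add_right hq
  | monomial n a =>
    rw [aeval_monomial]
    exact (Algebra.commute_algebraMap_right a T).mul_right (hc.pow_right n)

variable {r : ℕ} {y : Module.End F V} {i : ℕ}

/-- orthogonals of invariant subspaces, for a `y`-invariant form -/
theorem inv_orthogonal_of_isom {B' : LinearMap.BilinForm F V} (hr : 0 < r) (hy : y ^ r = 1)
    (hiso : ∀ u v, B' (y u) (y v) = B' u v) {W : Submodule F V} (hW : Inv y W) :
    Inv y (B'.orthogonal W) := by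
  rw [inv_iff]
  intro m hm
  rw [LinearMap.BilinForm.mem_orthogonal_iff] at hm ⊢
  intro w hw
  have h1 : w = y ((y ^ (r - 1)) w) := by
    rw [← Module.End.mul_apply, ← pow_succ', Nat.sub_add_cancel hr, hy]
    rfl
  show B' w (y m) = 0
  rw [h1, hiso]
  exact hm _ (pow_mem_of_inv hW _ hw)

/-- for odd `i`, invariant subspaces of dimension `i` of the cyclotomic part are totally
isotropic for every alternating `y`-invariant form -/
theorem orth_self_of_odd {B' : LinearMap.BilinForm F V} (hs : Setup r y i) (hi : ¬ Even i)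
    (halt : B'.IsAlt) (hiso : ∀ u v, B' (y u) (y v) = B' u v) {U₀ : Submodule F V}
    (hU₀inv : Inv y U₀) (hU₀c : U₀ ≤ cycSp r y) (hU₀dim : finrank F ↥U₀ = i) :
    ∀ u ∈ U₀, ∀ v ∈ U₀, B' u v = 0 := by
  have hRinv : Inv y (U₀ ⊓ B'.orthogonal U₀) :=
    inv_inf hU₀inv (inv_orthogonal_of_isom hs.prime.pos hs.pow_eq hiso hU₀inv)
  obtain ⟨m', hm'⟩ := hs.dvd (U₀ ⊓ B'.orthogonal U₀) hRinv (inf_le_left.trans hU₀c)
  have hRle : finrank F ↥(U₀ ⊓ B'.orthogonal U₀) ≤ i := by
    rw [← hU₀dim]; exact Submodule.finrank_mono inf_le_left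
  rcases Nat.eq_zero_or_pos m' with h0 | hpos
  · exfalso
    rw [h0, mul_zero] at hm'
    have hnd : Nd B' U₀ := by
      unfold Nd
      rw [disjoint_iff]
      exact Submodule.finrank_eq_zero.mp hm'
    have := even_finrank halt hnd
    rw [hU₀dim] at this
    exact hi this
  · have h1 : i ≤ i * m' := Nat.le_mul_of_pos_right i hpos
    have h2 : finrank F ↥(U₀ ⊓ B'.orthogonal U₀) = finrank F ↥U₀ := by omega
    have h3 : U₀ ⊓ B'.orthogonal U₀ = U₀ := Submodule.eq_of_le_of_finrank_eq inf_le_left h2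
    intro u hu v hv
    rw [← h3] at hv
    have h4 : v ∈ B'.orthogonal U₀ := hv.2
    rw [LinearMap.BilinForm.mem_orthogonal_iff] at h4
    exact h4 u hu

/-- the main abstract statement -/
theorem no_commuting_sq {B : LinearMap.BilinForm F V} (h : SpSetup B r y i) (hi : ¬ Even i)
    (hrodd : Odd r) (h2 : (2 : F) ≠ 0) (hdim : finrank F ↥(cycSp r y) = 2 * i)
    (T : Module.End F V) (δ : F) (hirr : ∀ γ : F, γ * γ ≠ δ)
    (hT : T * T = δ • (1 : Module.End F V)) (hadj : ∀ u v, B (T u) v = -B u (T v))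
    (hcomm : Commute T y) : False := by
  classical
  have hs := h.setup
  have hipos : 0 < i := hs.c_pos
  have hrpos : 0 < r := hs.prime.pos
  have hδ : δ ≠ 0 := fun h0 => hirr 0 (by rw [h0, mul_zero])
  have : Fact r.Prime := ⟨hs.prime⟩
  have hTT : ∀ u, T (T u) = δ • u := fun u => by
    have := congrArg (fun f : Module.End F V => f u) hT
    simpa using this
  have hTinj : Function.Injective T := by
    intro a b hab
    have h1 := congrArg T hab
    rw [hTT, hTT] at h1
    exact smul_right_injective V hδ h1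
  have hTy : ∀ u, T (y u) = y (T u) := fun u => by
    have := congrArg (fun f : Module.End F V => f u) hcomm.eq
    simpa using this
  -- the cyclotomic part
  set W := cycSp r y with hW
  have hWne : W ≠ ⊥ := by
    intro h0
    rw [h0, finrank_bot] at hdim
    omega
  have hTW : ∀ u ∈ W, T u ∈ W := by
    intro u hu
    rw [hW, cycSp, LinearMap.mem_ker] at hu ⊢
    have hc := (commute_aeval hcomm (cyclotomic r F)).eq
    have := congrArg (fun f : Module.End F V => f u) hc
    simp only [Module.End.mul_apply] at this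
    rw [← this, hu, map_zero]
  -- an irreducible invariant subspace
  obtain ⟨U₀, hU₀W, hU₀inv, hU₀dim⟩ := Cfsg.Agent.Helper94.Ti.exists_irr h (inv_cycSp r y) le_rfl hWne
  have hU₀y : ∀ u ∈ U₀, y u ∈ U₀ := inv_iff.mp hU₀inv
  -- its image under `T`
  set U₁ := U₀.map T with hU₁
  have hU₁inv : Inv y U₁ := by
    rw [inv_iff]
    rintro _ ⟨u, hu, rfl⟩
    rw [← hTy]
    exact ⟨y u, hU₀y u hu, rfl⟩
  have hU₁W : U₁ ≤ W := by
    rintro _ ⟨u, hu, rfl⟩
    exact hTW u (hU₀W hu)
  have hU₁dim : finrank F ↥U₁ = i := by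
    rw [← hU₀dim]
    exact (LinearEquiv.finrank_eq (Submodule.equivMapOfInjective T hTinj U₀)).symm
  -- `U₀ ⊓ U₁ = ⊥`
  have hRT : ∀ u ∈ U₀ ⊓ U₁, T u ∈ U₀ ⊓ U₁ := by
    rintro u ⟨hu0, hu1⟩
    refine ⟨?_, ⟨u, hu0, rfl⟩⟩
    obtain ⟨u', hu', rfl⟩ := hu1
    rw [hTT]
    exact U₀.smul_mem δ hu'
  have hReven := even_finrank_of_sq_nonsq T δ hirr hT hRT
  obtain ⟨m', hm'⟩ := hs.dvd (U₀ ⊓ U₁) (inv_inf hU₀inv hU₁inv) (inf_le_left.trans hU₀W)
  have hRle : finrank F ↥(U₀ ⊓ U₁) ≤ i := by
    rw [← hU₀dim]; exact Submodule.finrank_mono inf_le_left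
  have hR0 : finrank F ↥(U₀ ⊓ U₁) = 0 := by
    rcases Nat.eq_zero_or_pos m' with h0 | hpos
    · rw [hm', h0, mul_zero]
    · exfalso
      have h1 : i ≤ i * m' := Nat.le_mul_of_pos_right i hpos
      have h3 : finrank F ↥(U₀ ⊓ U₁) = i := by omega
      rw [h3] at hReven
      exact hi hReven
  have hdisj : Disjoint U₀ U₁ := by
    rw [disjoint_iff]
    exact Submodule.finrank_eq_zero.mp hR0
  have hsup : U₀ ⊔ U₁ = W := by
    apply Submodule.eq_of_le_of_finrank_eq (sup_le hU₀W hU₁W)
    rw [finrank_sup_of_disjoint hdisj, hU₀dim, hU₁dim, hdim]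
    ring
  -- `z = y - y⁻¹`
  set z : Module.End F V := y - y ^ (r - 1) with hz
  have hyy : ∀ u, y ((y ^ (r - 1)) u) = u := fun u => by
    rw [← Module.End.mul_apply, ← pow_succ', Nat.sub_add_cancel hrpos, hs.pow_eq]
    rfl
  have hyy' : ∀ u, (y ^ (r - 1)) (y u) = u := fun u => by
    rw [← Module.End.mul_apply, ← pow_succ, Nat.sub_add_cancel hrpos, hs.pow_eq]
    rfl
  have hzU₀ : ∀ u ∈ U₀, z u ∈ U₀ := by
    intro u hu
    rw [hz, LinearMap.sub_apply]
    exact U₀.sub_mem (hU₀y u hu) (pow_mem_of_inv hU₀inv _ hu)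
  have hzy : ∀ u, z (y u) = y (z u) := fun u => by
    rw [hz, LinearMap.sub_apply, LinearMap.sub_apply, map_sub, hyy, hyy']
  have hTpow : ∀ u, T ((y ^ (r - 1)) u) = (y ^ (r - 1)) (T u) := fun u => by
    have := congrArg (fun f : Module.End F V => f u) (hcomm.pow_right (r - 1)).eq
    simpa using this
  have hzT : ∀ u, z (T u) = T (z u) := fun u => by
    rw [hz, LinearMap.sub_apply, LinearMap.sub_apply, map_sub, hTy, hTpow]
  have hzadj : ∀ u v, B (z u) v = -B u (z v) := by
    intro u v
    have h1 := h.adjoint_pow 1 u v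
    have h3 := h.adjoint_pow (r - 1) u v
    have h4 : ((y ^ (r - 1)) ^ (r - 1)) v = y v := by
      have e : (y ^ (r - 1)) ^ (r - 1) * y ^ (r - 1) = y * y ^ (r - 1) := by
        rw [← pow_succ, Nat.sub_add_cancel hrpos, ← pow_mul, ← pow_succ',
          Nat.sub_add_cancel hrpos, mul_comm, pow_mul, hs.pow_eq, one_pow]
      have h5 := congrArg (fun f : Module.End F V => f (y v)) e
      simp only [Module.End.mul_apply] at h5
      rw [hyy'] at h5
      exact h5
    rw [pow_one, pow_one] at h1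
    rw [h4] at h3
    rw [hz, LinearMap.sub_apply, LinearMap.sub_apply, map_sub, LinearMap.sub_apply, map_sub, h1,
      h3]
    ring
  -- `z` is injective on `U₀`
  have hzinj : ∀ u ∈ U₀, z u = 0 → u = 0 := by
    intro u hu hzu
    rw [hz, LinearMap.sub_apply, sub_eq_zero] at hzu
    have h1 : y (y u) = u := by rw [hzu, hyy]
    obtain ⟨k, hk⟩ := hrodd
    have h3 : ∀ n : ℕ, (y ^ (2 * n)) u = u := by
      intro n
      induction n with
      | zero => simp
      | succ n ih =>
        rw [show 2 * (n + 1) = 2 * n + 2 by ring, pow_add, Module.End.mul_apply, pow_two,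
          Module.End.mul_apply, h1, ih]
    have h4 : y u = u := by
      have h5 : (y ^ r) u = u := by rw [hs.pow_eq]; rfl
      rw [hk, pow_succ', Module.End.mul_apply, h3] at h5
      exact h5
    have h6 : u ∈ fixSp y ⊓ cycSp r y := ⟨mem_fixSp.mpr h4, hU₀W hu⟩
    rw [disjoint_fix_cyc r hs.ne_zero y] at h6
    exact (Submodule.mem_bot F).mp h6
  have hzsurj : ∀ b ∈ U₀, ∃ b' ∈ U₀, z b' = b := by
    set z' : Module.End F ↥U₀ := z.restrict hzU₀ with hz'
    have hinj : Function.Injective z' := by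
      rw [← LinearMap.ker_eq_bot, LinearMap.ker_eq_bot']
      intro u hu
      have h1 : z (u : V) = 0 := by
        have := congrArg (fun w : ↥U₀ => (w : V)) hu
        simpa [hz'] using this
      exact Subtype.ext (hzinj u u.2 h1)
    have hsurj := LinearMap.injective_iff_surjective.mp hinj
    intro b hb
    obtain ⟨b', hb'⟩ := hsurj ⟨b, hb⟩
    refine ⟨b', b'.2, ?_⟩
    have := congrArg (fun w : ↥U₀ => (w : V)) hb'
    simpa [hz'] using this
  -- the second alternating form
  set Ba : LinearMap.BilinForm F V := B.compLeft (z * T) with hBa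
  have hBa_apply : ∀ u v, Ba u v = B (z (T u)) v := fun u v => by
    rw [hBa, LinearMap.BilinForm.compLeft_apply, Module.End.mul_apply]
  have hBa_alt : Ba.IsAlt := by
    intro u
    rw [hBa_apply]
    have h1 : B (z (T u)) u = -B (z (T u)) u := by
      conv_lhs => rw [hzadj, hadj, neg_neg, ← hzT]
      exact (h.alt.neg_eq _ _).symm ▸ rfl
    have h3 : (2 : F) * B (z (T u)) u = 0 := by linear_combination h1
    exact (mul_eq_zero.mp h3).resolve_left h2
  have hBa_iso : ∀ u v, Ba (y u) (y v) = Ba u v := by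
    intro u v
    rw [hBa_apply, hBa_apply, hTy, hzy, h.isom]
  -- `U₀` is totally isotropic for both forms
  have hB0 := orth_self_of_odd hs hi h.alt h.isom hU₀inv hU₀W hU₀dim
  have hBa0 := orth_self_of_odd hs hi hBa_alt hBa_iso hU₀inv hU₀W hU₀dim
  -- contradiction
  obtain ⟨u, hu, hu0⟩ : ∃ u ∈ U₀, u ≠ 0 := by
    apply Submodule.exists_mem_ne_zero_of_ne_bot
    intro h0
    rw [h0, finrank_bot] at hU₀dim
    omega
  apply hu0
  apply nd_iff.mp (Cfsg.Agent.Helper94.Ti.nd_cyc h) u (hU₀W hu)
  intro w hw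
  rw [← hW, ← hsup] at hw
  obtain ⟨a, ha, b, hb, rfl⟩ := Submodule.mem_sup.mp hw
  obtain ⟨b₀, hb₀, rfl⟩ := hb
  obtain ⟨b', hb', rfl⟩ := hzsurj b₀ hb₀
  rw [map_add, LinearMap.add_apply, hB0 a ha u hu, zero_add, ← hzT, ← hBa_apply]
  exact hBa0 b' hb' u hu

end Cfsg.Agent.Helper67.EF
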