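import Mathlib
import Cfsg.Agent.Helper43.EF.Defs
import Cfsg.Agent.Helper43.SpOrthA
import Cfsg.Agent.Helper94.TiI
import Cfsg.Agent.Helper99.SpMain
import Cfsg.Agent.Helper67.EFDERoddCore

/-!
helper67, for helper43 (S5976), piece (DERodd) `exists_derangement_odd`: an element of odd prime
order `r ≠ p` of `Sp_{2d}(q)`, `i = ord_r(q)` odd, `i ≤ d`, commuting with no `θ` with
`SData θ δ` (one block of dimension `2 i`).
-/

set_option autoImplicit false
set_option linter.unusedSectionVars false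
set_option linter.unusedVariables false

namespace Cfsg.Agent.Helper67.EF

open Matrix Cfsg Cfsg.Geo Cfsg.Agent.Helper13 Cfsg.Agent.Helper45.C3S

variable {F : Type*} [Field F] {d : ℕ}

local notation "Vec" => (Fin d ⊕ Fin d → F)
local notation "Mat" => Matrix (Fin d ⊕ Fin d) (Fin d ⊕ Fin d) F
local notation "⟪" x ", " y "⟫" => Cfsg.sympForm d F x y

/-- (DERodd) derangements of odd prime order `r ≠ p`, `i` odd -/
theorem exists_derangement_odd [Fintype F] {p : ℕ} [Fact p.Prime] [CharP F p] (h2 : (2 : F) ≠ 0)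
    (r : ℕ) [Fact r.Prime] (hrp : r ≠ p) (hr2 : r ≠ 2)
    (hi : Odd (orderOf ((Fintype.card F : ℕ) : ZMod r)))
    (hid : orderOf ((Fintype.card F : ℕ) : ZMod r) ≤ d) :
    ∃ x ∈ Cfsg.spGL d F, x ^ r = 1 ∧ x ≠ 1 ∧
      ∀ (θ : Mat) (δ : F), SData θ δ → (x : Mat) * θ ≠ θ * (x : Mat) := by
  classical
  have hieven : ¬ Even (orderOf ((Fintype.card F : ℕ) : ZMod r)) := Nat.not_even_iff_odd.mpr hi
  have hbs := Cfsg.Agent.Helper99.SpStruct.blockSize_odd hieven
  obtain ⟨x, hxr, hxfix⟩ := Cfsg.Agent.Helper99.SpElt.exists_sp_elt (F := F) (p := p) d r hrp 1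
    one_pos (by rw [one_mul, hbs]; omega)
  rw [one_mul, hbs] at hxfix
  set y := Matrix.toLin' (x : Mat) with hy
  have hyr : y ^ r = 1 := Cfsg.Agent.Helper99.SpMain.toLin_pow_eq_one x hxr
  have hsetup := Cfsg.Agent.Helper99.SpMain.spSetup_of (p := p) r hrp y
    (Cfsg.Agent.Helper99.SpMain.toLin_isom x) hyr
  have hipos : 0 < orderOf ((Fintype.card F : ℕ) : ZMod r) := hsetup.setup.c_pos
  have hrF : (r : F) ≠ 0 := hsetup.setup.ne_zero
  have hcyc : Module.finrank F ↥(Cfsg.Agent.Helper59.Elusive.cycSp r y)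
      = 2 * orderOf ((Fintype.card F : ℕ) : ZMod r) := by
    have := Cfsg.Agent.Helper59.Elusive.finrank_fix_add_cyc r hrF y hyr
    rw [Cfsg.Agent.Helper99.SpMain.finrank_space, hxfix] at this
    omega
  refine ⟨Cfsg.Agent.Helper43.SpOrth.sympToGL x, Cfsg.Agent.Helper43.SpOrth.sympToGL_mem x,
    ?_, ?_, ?_⟩
  · rw [← map_pow, hxr, map_one]
  · intro h1
    have hx1 : x = 1 := by
      apply Subtype.ext
      have := congrArg (fun g : GL (Fin d ⊕ Fin d) F => (g : Mat)) h1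
      simpa [Cfsg.Agent.Helper43.SpOrth.sympToGL_coe] using this
    exact Cfsg.Agent.Helper94.Ti.ne_one_of_fix_lt x (by rw [hxfix]; omega) hx1
  · intro θ δ hs hcomm
    rw [Cfsg.Agent.Helper43.SpOrth.sympToGL_coe] at hcomm
    have hrodd : Odd r := (Fact.out : r.Prime).odd_of_ne_two hr2
    apply no_commuting_sq hsetup hieven hrodd h2 hcyc (Matrix.toLin' θ) δ hs.irr ?_ ?_ ?_
    · rw [Module.End.mul_eq_comp, ← Matrix.toLin'_mul, hs.sq, map_smul, Matrix.toLin'_one]
      rfl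
    · intro u v
      rw [Cfsg.Agent.S0776.omega_apply, Cfsg.Agent.S0776.omega_apply, Matrix.toLin'_apply]
      exact hs.adj u v
    · show Matrix.toLin' θ * y = y * Matrix.toLin' θ
      rw [hy, Module.End.mul_eq_comp, Module.End.mul_eq_comp, ← Matrix.toLin'_mul,
        ← Matrix.toLin'_mul, hcomm]

end Cfsg.Agent.Helper67.EF
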