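import Mathlib

/-!
helper67, for helper44 (S5979), piece (ES2b) `exists_block_embed`: the block embedding
`U ↦ U ⊕ 1` of `GL_i` into `GL_n`, `i ≤ n`.
-/

set_option autoImplicit false
open scoped MatrixGroups

namespace Cfsg.Agent.Helper67.Tens

open Matrix Polynomial

universe u

variable {F : Type u} [Field F] {n : ℕ}

/-- the index equivalence `Fin i ⊕ Fin (n - i) ≃ Fin n` -/
def blockIdx {i : ℕ} (hi : i ≤ n) : Fin i ⊕ Fin (n - i) ≃ Fin n :=
  finSumFinEquiv.trans (finCongr (Nat.add_sub_cancel' hi))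

/-- `M ↦ M ⊕ 1` on `Fin i ⊕ Fin (n - i)` -/
def blockSum (F : Type u) [Field F] (i j : ℕ) :
    Matrix (Fin i) (Fin i) F →* Matrix (Fin i ⊕ Fin j) (Fin i ⊕ Fin j) F where
  toFun M := fromBlocks M 0 0 1
  map_one' := fromBlocks_one
  map_mul' M N := by
    rw [fromBlocks_multiply]
    simp

/-- the block embedding `M ↦ M ⊕ 1` as a monoid homomorphism -/
noncomputable def blockHom (F : Type u) [Field F] {i : ℕ} (hi : i ≤ n) :
    Matrix (Fin i) (Fin i) F →* Matrix (Fin n) (Fin n) F :=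
  ((Matrix.reindexAlgEquiv F F (blockIdx hi)).toAlgHom : _ →* _).comp (blockSum F i (n - i))

theorem blockHom_apply {i : ℕ} (hi : i ≤ n) (M : Matrix (Fin i) (Fin i) F) :
    blockHom F hi M = reindex (blockIdx hi) (blockIdx hi) (fromBlocks M 0 0 1) := rfl

theorem det_blockHom {i : ℕ} (hi : i ≤ n) (M : Matrix (Fin i) (Fin i) F) :
    (blockHom F hi M).det = M.det := by
  rw [blockHom_apply, det_reindex_self, det_fromBlocks_zero₂₁, det_one, mul_one]

theorem charpoly_blockHom {i : ℕ} (hi : i ≤ n) (M : Matrix (Fin i) (Fin i) F) :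
    (blockHom F hi M).charpoly = M.charpoly * (X - C 1) ^ (n - i) := by
  rw [blockHom_apply, charpoly_reindex, charpoly_fromBlocks_zero₁₂, charpoly_one,
    Fintype.card_fin, map_one]

theorem rank_blockHom_sub_one {i : ℕ} (hi : i ≤ n) (M : Matrix (Fin i) (Fin i) F) :
    (blockHom F hi M - 1).rank ≤ i := by
  have h1 : blockHom F hi M - 1 = reindex (blockIdx hi) (blockIdx hi)
      (fromBlocks (M - 1) 0 0 (0 : Matrix (Fin (n - i)) (Fin (n - i)) F)) := by
    have e1 : (1 : Matrix (Fin n) (Fin n) F) = blockHom F hi 1 := (map_one _).symm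
    rw [e1, blockHom_apply, blockHom_apply, reindex_apply, reindex_apply, reindex_apply]
    have e2 : fromBlocks (M - 1) 0 0 (0 : Matrix (Fin (n - i)) (Fin (n - i)) F)
        = fromBlocks M 0 0 1 - fromBlocks 1 0 0 1 := by
      ext a b
      rcases a with a | a <;> rcases b with b | b <;>
        simp only [Matrix.sub_apply, fromBlocks_apply₁₁, fromBlocks_apply₁₂, fromBlocks_apply₂₁,
          fromBlocks_apply₂₂, Matrix.zero_apply, sub_self]
    rw [e2]
    rfl
  have h2 : fromBlocks (M - 1) 0 0 (0 : Matrix (Fin (n - i)) (Fin (n - i)) F)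
      = fromRows (M - 1) (0 : Matrix (Fin (n - i)) (Fin i) F)
        * fromCols (1 : Matrix (Fin i) (Fin i) F) (0 : Matrix (Fin i) (Fin (n - i)) F) := by
    rw [fromRows_mul_fromCols]
    simp
  rw [h1, rank_reindex, h2]
  refine (rank_mul_le_left _ _).trans ?_
  have := rank_le_card_width (fromRows (M - 1) (0 : Matrix (Fin (n - i)) (Fin i) F))
  rwa [Fintype.card_fin] at this

/-- (ES2b) the block embedding `U ↦ U ⊕ 1` of `GL_i` into `GL_n` -/
theorem exists_block_embed {i : ℕ} (hi : i ≤ n) (U : GL (Fin i) F) :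
    ∃ x : GL (Fin n) F, (x : Matrix (Fin n) (Fin n) F).det = (U : Matrix (Fin i) (Fin i) F).det ∧
      ((x : Matrix (Fin n) (Fin n) F) - 1).rank ≤ i ∧
      ∀ N : ℕ, (U ^ N = 1 → x ^ N = 1) ∧
        ((x : Matrix (Fin n) (Fin n) F) ^ N).charpoly
          = ((U : Matrix (Fin i) (Fin i) F) ^ N).charpoly * (X - C 1) ^ (n - i) := by
  refine ⟨Units.map (blockHom F hi) U, ?_, ?_, fun N => ⟨fun h => ?_, ?_⟩⟩
  · rw [Units.coe_map]
    exact det_blockHom hi _
  · rw [Units.coe_map]
    exact rank_blockHom_sub_one hi _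
  · rw [← map_pow, h, map_one]
  · rw [Units.coe_map, ← map_pow]
    exact charpoly_blockHom hi _

end Cfsg.Agent.Helper67.Tens
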