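import Mathlib
import Cfsg.Prelude.Def_GeometricClasses
import Cfsg.Agent.Helper43.SpTwoD

/-!
helper67, for helper44 (S5979), piece (G0) `even_rank_of_sq`: for `x ∈ SL_n(q)`, `q` odd, with
`x² = w²` and `v₂(q - 1) ≤ v₂(n)`, the involution `w⁻¹ x` has an even number of eigenvalues `-1`.
-/

set_option autoImplicit false
open scoped MatrixGroups

namespace Cfsg.Agent.Helper67.Tens

open Matrix Cfsg.Geo

universe u

variable {F : Type u} [Field F] {n : ℕ}

/-- (G0) -/
theorem even_rank_of_sq [Fintype F] {q : ℕ} (hq : Fintype.card F = q) (h2 : (2 : F) ≠ 0)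
    (hn : n ≠ 0) (hv : padicValNat 2 (q - 1) ≤ padicValNat 2 n) (x : GL (Fin n) F)
    (hx : x ∈ specialLinear (Fin n) F) (w : F) (hw : w ≠ 0)
    (hxx : (x : Matrix (Fin n) (Fin n) F) * (x : Matrix (Fin n) (Fin n) F)
      = (w * w) • (1 : Matrix (Fin n) (Fin n) F)) :
    Even ((w⁻¹ • (x : Matrix (Fin n) (Fin n) F) - 1).rank) := by
  classical
  set u : Matrix (Fin n) (Fin n) F := w⁻¹ • (x : Matrix (Fin n) (Fin n) F) with hu
  have huu : u * u = 1 := by
    rw [hu, Matrix.smul_mul, Matrix.mul_smul, hxx, smul_smul, smul_smul]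
    have : w⁻¹ * w⁻¹ * (w * w) = 1 := by field_simp
    rw [this, one_smul]
  have hxu : (x : Matrix (Fin n) (Fin n) F) = w • u := by
    rw [hu, smul_smul, mul_inv_cancel₀ hw, one_smul]
  have hdetx : (x : Matrix (Fin n) (Fin n) F).det = 1 := by
    have h1 : Matrix.GeneralLinearGroup.det x = 1 := hx
    have h3 := congrArg (fun y : Fˣ => (y : F)) h1
    simpa using h3
  have hdet : w ^ n * (-1) ^ (u - 1).rank = 1 := by
    have h1 := hdetx
    rw [hxu, Matrix.det_smul, Fintype.card_fin,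
      Cfsg.Agent.Helper43.SpDer.det_invol h2 u huu] at h1
    exact h1
  by_contra hne
  rw [Nat.not_even_iff_odd] at hne
  rw [Odd.neg_one_pow hne] at hdet
  apply Cfsg.Agent.Helper43.SpDer.pow_ne_neg_one hq h2 n hn hv w hw
  linear_combination -hdet

end Cfsg.Agent.Helper67.Tens
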