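import Cfsg.Agent.Helper86.CEDefs
import Cfsg.Agent.Helper88.FusionCentric

/-!
# (W6) for S5293: extending an isomorphism onto a fully normalized subgroup over the centralizer

(helper67 for helper86, piece (W6) of board post #4500.)
-/

set_option autoImplicit false
set_option linter.unusedSectionVars false
set_option linter.unusedVariables false

namespace Cfsg.Agent.Helper67.CE

open Cfsg Cfsg.FusionSystem Cfsg.Agent.Helper87 Cfsg.Agent.Helper86.CE

variable {Ω : Type*} [Group Ω] {S : Subgroup Ω}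

/-- `C_S(P)` lies in the extender of any map with source `P`. -/
theorem centralizerIn_le_extender (P : Subgroup Ω) (φ : P →* Ω) :
    centralizerIn S P ≤ extender S P φ := by
  intro g hg
  have hgS : g ∈ S := hg.1
  have hgC : ∀ x ∈ P, x * g = g * x := fun x hx => (Subgroup.mem_centralizer_iff.mp hg.2) x hx
  have hconj : ∀ x ∈ P, g * x * g⁻¹ = x := by
    intro x hx
    rw [← hgC x hx, mul_inv_cancel_right]
  rw [mem_extender_iff]
  refine ⟨hgS, ?_, 1, S.one_mem, ?_⟩
  · rw [Subgroup.mem_normalizer_iff]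
    intro x
    constructor
    · intro hx
      rw [hconj x hx]; exact hx
    · intro hx
      have h1 : x = g⁻¹ * (g * x * g⁻¹) * g := by group
      have h2 : g⁻¹ * (g * x * g⁻¹) * g = g * x * g⁻¹ := by
        have h3 := hgC _ hx
        calc g⁻¹ * (g * x * g⁻¹) * g = g⁻¹ * ((g * x * g⁻¹) * g) := by group
          _ = g⁻¹ * (g * (g * x * g⁻¹)) := by rw [h3]
          _ = g * x * g⁻¹ := by group
      rw [h1, h2]; exact hx
  · intro x hx
    have : (⟨g * (x : Ω) * g⁻¹, hx⟩ : P) = x := Subtype.ext (hconj x x.2)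
    rw [this, one_mul, inv_one, mul_one]

theorem exists_extension_sup_centralizer [Finite S] {p : ℕ} [Fact p.Prime] (hS : IsPGroup p S)
    (F : FusionSystem S) (hF : F.IsSaturated p) {P R : Subgroup Ω} (hRn : F.IsFullyNormalized R)
    (γ : P ≃* R) (hγ : IsIso F γ) :
    ∃ γ' ∈ F.Hom (P ⊔ centralizerIn S P),
      (∀ x : P, γ' (Subgroup.inclusion le_sup_left x) = ((γ x : R) : Ω)) ∧
      ∀ c : ↥(P ⊔ centralizerIn S P), (c : Ω) ∈ centralizerIn S P → γ' c ∈ centralizerIn S R := by
  have hRc : F.IsFullyCentralized R :=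
    (fullyAutomized_fullyCentralized_of_fullyNormalized hS F hF hRn).1
  have hRr : F.IsReceptive R := receptive_of_fullyCentralized hS F hF hRc
  set φ : P →* Ω := R.subtype.comp γ.toMonoidHom with hφdef
  have hφ : φ ∈ F.Hom P := hγ
  have hrange : φ.range = R := by
    ext y
    constructor
    · rintro ⟨x, rfl⟩
      exact (γ x).2
    · intro hy
      refine ⟨γ.symm ⟨y, hy⟩, ?_⟩
      show ((γ (γ.symm ⟨y, hy⟩) : R) : Ω) = y
      rw [MulEquiv.apply_symm_apply]
  obtain ⟨ψ, hψ, hψP⟩ := hRr.2 P φ hφ hrange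
  have hle : P ⊔ centralizerIn S P ≤ extender S P φ :=
    sup_le (le_extender_of_mem F hφ) (centralizerIn_le_extender P φ)
  refine ⟨ψ.comp (Subgroup.inclusion hle), restrict_mem F hψ hle, ?_, ?_⟩
  · intro x
    exact hψP (x : Ω) x.2 (hle ((le_sup_left : P ≤ P ⊔ centralizerIn S P) x.2))
  · intro c hc
    have hγ' : ψ.comp (Subgroup.inclusion hle) ∈ F.Hom (P ⊔ centralizerIn S P) :=
      restrict_mem F hψ hle
    refine ⟨(F.le_of_mem hγ').2 c, ?_⟩
    show (ψ.comp (Subgroup.inclusion hle)) c ∈ Subgroup.centralizer (R : Set Ω)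
    rw [Subgroup.mem_centralizer_iff]
    intro r hr
    -- `r = γ x` for some `x : P`
    set x : P := γ.symm ⟨r, hr⟩ with hx
    have hrx : r = (ψ.comp (Subgroup.inclusion hle))
        (Subgroup.inclusion (le_sup_left : P ≤ P ⊔ centralizerIn S P) x) := by
      have h1 := hψP (x : Ω) x.2 (hle ((le_sup_left : P ≤ P ⊔ centralizerIn S P) x.2))
      have h2 : φ ⟨(x : Ω), x.2⟩ = r := by
        show ((γ x : R) : Ω) = r
        rw [hx, MulEquiv.apply_symm_apply]
      rw [← h2, ← h1]
      rfl
    have hcomm : (Subgroup.inclusion (le_sup_left : P ≤ P ⊔ centralizerIn S P) x) * c =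
        c * (Subgroup.inclusion (le_sup_left : P ≤ P ⊔ centralizerIn S P) x) := by
      apply Subtype.ext
      exact (Subgroup.mem_centralizer_iff.mp hc.2) (x : Ω) x.2
    rw [hrx, ← map_mul, ← map_mul, hcomm]

end Cfsg.Agent.Helper67.CE
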