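import Mathlib

/-!
# S0508 (helper58), piece (Z0): the cardinalities
-/

set_option autoImplicit false

namespace Cfsg.Agent.Helper67.BSWD

open Subgroup

section Z

variable {G : Type*} [Group G] [Finite G] (Q D : Subgroup G)

/-- `|Q ⊔ D| = |Q| |D|` when `D` normalizes `Q` and `Q ⊓ D = ⊥` -/
theorem Z0_card_sup (h5 : Q ⊓ D = ⊥) (hD : D ≤ normalizer (Q : Set G)) :
    Nat.card ↥(Q ⊔ D) = Nat.card ↥Q * Nat.card ↥D := by
  rw [← Nat.card_prod]
  symm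
  apply Nat.card_congr
  refine Equiv.ofBijective (fun p : ↥Q × ↥D => (⟨(p.1 : G) * (p.2 : G),
    mul_mem (le_sup_left (a := Q) (b := D) p.1.2) (le_sup_right (a := Q) (b := D) p.2.2)⟩ : ↥(Q ⊔ D))) ⟨?_, ?_⟩
  · rintro ⟨a, d⟩ ⟨a', d'⟩ hp
    have h1 : (a : G) * (d : G) = (a' : G) * (d' : G) := congrArg Subtype.val hp
    have h2 : (a' : G)⁻¹ * (a : G) = (d' : G) * (d : G)⁻¹ := by
      calc (a' : G)⁻¹ * (a : G) = (a' : G)⁻¹ * ((a : G) * (d : G)) * (d : G)⁻¹ := by group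
        _ = (a' : G)⁻¹ * ((a' : G) * (d' : G)) * (d : G)⁻¹ := by rw [h1]
        _ = (d' : G) * (d : G)⁻¹ := by group
    have h3 : (a' : G)⁻¹ * (a : G) ∈ Q ⊓ D := by
      rw [mem_inf]
      refine ⟨Q.mul_mem (Q.inv_mem a'.2) a.2, ?_⟩
      rw [h2]
      exact D.mul_mem d'.2 (D.inv_mem d.2)
    rw [h5, mem_bot] at h3
    have h4 : (a : G) = (a' : G) := by
      have := congrArg (fun z => (a' : G) * z) h3
      simpa using this
    have h6 : (d : G) = (d' : G) := by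
      rw [h4] at h1
      exact mul_left_cancel h1
    exact Prod.ext (Subtype.ext h4) (Subtype.ext h6)
  · rintro ⟨x, hx⟩
    have hx' : x ∈ ((Q ⊔ D : Subgroup G) : Set G) := hx
    rw [coe_mul_of_right_le_normalizer_left Q D hD] at hx'
    obtain ⟨a, ha, d, hd, rfl⟩ := Set.mem_mul.1 hx'
    exact ⟨(⟨a, ha⟩, ⟨d, hd⟩), rfl⟩

/-- (Z0) -/
theorem card_facts (h1 : 2 * Nat.card G = Nat.card ↥Q * (Nat.card ↥Q + 1) * (Nat.card ↥Q - 1))
    (h4 : 2 * Nat.card ↥D + 1 = Nat.card ↥Q) (h5 : Q ⊓ D = ⊥)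
    (h6 : normalizer (Q : Set G) = Q ⊔ D) :
    3 ≤ Nat.card ↥Q ∧ Odd (Nat.card ↥Q) ∧
      Nat.card ↥(normalizer (Q : Set G)) = Nat.card ↥Q * Nat.card ↥D ∧
      (normalizer (Q : Set G)).index = Nat.card ↥Q + 1 := by
  have hDpos : 0 < Nat.card ↥D := Nat.card_pos
  have hQpos : 0 < Nat.card ↥Q := Nat.card_pos
  have hD : D ≤ normalizer (Q : Set G) := by rw [h6]; exact le_sup_right
  have hN : Nat.card ↥(normalizer (Q : Set G)) = Nat.card ↥Q * Nat.card ↥D := by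
    rw [h6]
    exact Z0_card_sup Q D h5 hD
  refine ⟨by omega, ⟨Nat.card ↥D, by omega⟩, hN, ?_⟩
  have h7 := (normalizer (Q : Set G)).card_mul_index
  rw [hN] at h7
  -- `2 |G| = q (q + 1) (2 |D|)`
  have h8 : Nat.card ↥Q - 1 = 2 * Nat.card ↥D := by omega
  rw [h8, ← h7] at h1
  have h9 : Nat.card ↥Q * Nat.card ↥D * (normalizer (Q : Set G)).index =
      Nat.card ↥Q * Nat.card ↥D * (Nat.card ↥Q + 1) := by nlinarith
  exact Nat.eq_of_mul_eq_mul_left (Nat.mul_pos hQpos hDpos) h9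

end Z

end Cfsg.Agent.Helper67.BSWD
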