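import Mathlib

/-!
# S0508 (helper58), piece (Z1): `Q ⊓ g N(Q) g⁻¹ = ⊥` for `g ∉ N(Q)`
-/

set_option autoImplicit false

namespace Cfsg.Agent.Helper67.BSWD

open Subgroup

section Z

variable {G : Type*} [Group G] [Finite G] (Q D : Subgroup G)

/-- an element of `N(Q)` whose order divides `|Q|` lies in `Q`, when `|N(Q) : Q|` is prime to `|Q|` -/
theorem Z1_mem_of_orderOf_dvd
    (hcard : Nat.card ↥(normalizer (Q : Set G)) = Nat.card ↥Q * Nat.card ↥D)
    (h4 : 2 * Nat.card ↥D + 1 = Nat.card ↥Q) (x : G) (hxN : x ∈ normalizer (Q : Set G))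
    (hx : orderOf x ∣ Nat.card ↥Q) : x ∈ Q := by
  have hQpos : 0 < Nat.card ↥Q := Nat.card_pos
  have hidx : (Q.subgroupOf (normalizer (Q : Set G))).index = Nat.card ↥D := by
    have h1 := (Q.subgroupOf (normalizer (Q : Set G))).card_mul_index
    rw [Nat.card_congr (subgroupOfEquivOfLe (le_normalizer (H := Q))).toEquiv, hcard] at h1
    exact Nat.eq_of_mul_eq_mul_left hQpos h1
  have hpow : (⟨x, hxN⟩ : ↥(normalizer (Q : Set G))) ^ (Q.subgroupOf (normalizer (Q : Set G))).index ∈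
      Q.subgroupOf (normalizer (Q : Set G)) := Subgroup.pow_index_mem _ _
  rw [hidx, mem_subgroupOf] at hpow
  have hpow' : x ^ Nat.card ↥D ∈ Q := by simpa using hpow
  have hcop : (Nat.card ↥D).Coprime (orderOf x) := by
    apply Nat.Coprime.coprime_dvd_right hx
    rw [← h4]
    have h5 : (Nat.card ↥D).Coprime (Nat.card ↥D * 2 + 1) := by
      rw [Nat.coprime_mul_left_add_right]
      exact Nat.coprime_one_right _
    rw [mul_comm]
    exact h5
  obtain ⟨k, hk⟩ := exists_pow_eq_self_of_coprime hcop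
  rw [← hk]
  exact Q.pow_mem hpow' k

/-- (Z1) -/
theorem inf_conj_normalizer_eq_bot (hcent : ∀ x ∈ Q, x ≠ 1 → centralizer ({x} : Set G) = Q)
    (hcard : Nat.card ↥(normalizer (Q : Set G)) = Nat.card ↥Q * Nat.card ↥D)
    (h4 : 2 * Nat.card ↥D + 1 = Nat.card ↥Q) (g : G) (hg : g ∉ normalizer (Q : Set G)) :
    Q ⊓ (normalizer (Q : Set G)).map (MulAut.conj g).toMonoidHom = ⊥ := by
  rw [eq_bot_iff]
  intro x hx
  rw [mem_bot]
  by_contra hx1
  rw [mem_inf] at hx
  obtain ⟨hxQ, hxN⟩ := hx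
  rw [mem_map_equiv, MulAut.conj_symm_apply] at hxN
  -- `x' = g⁻¹ x g ∈ Q`
  have hord : orderOf (g⁻¹ * x * g) = orderOf x := by
    have h1 := (MulAut.conj g⁻¹ : G ≃* G).orderOf_eq x
    rw [MulAut.conj_apply, inv_inv] at h1
    exact h1
  have hx'Q : g⁻¹ * x * g ∈ Q := by
    apply Z1_mem_of_orderOf_dvd Q D hcard h4 _ hxN
    rw [hord]
    have h2 : orderOf (⟨x, hxQ⟩ : ↥Q) ∣ Nat.card ↥Q := orderOf_dvd_natCard _
    rwa [Subgroup.orderOf_mk] at h2
  have hx'1 : g⁻¹ * x * g ≠ 1 := by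
    intro h
    apply hx1
    have : x = g * (g⁻¹ * x * g) * g⁻¹ := by group
    rw [this, h]
    group
  have hC := hcent x hxQ hx1
  have hC' := hcent _ hx'Q hx'1
  -- `g ∈ N(Q)`
  apply hg
  rw [mem_normalizer_iff]
  intro y
  constructor
  · intro hy
    rw [← hC'] at hy
    rw [← hC]
    rw [mem_centralizer_singleton_iff] at hy ⊢
    calc g * y * g⁻¹ * x = g * (y * (g⁻¹ * x * g)) * g⁻¹ := by group
      _ = g * ((g⁻¹ * x * g) * y) * g⁻¹ := by rw [hy]
      _ = x * (g * y * g⁻¹) := by group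
  · intro hy
    rw [← hC] at hy
    rw [← hC']
    rw [mem_centralizer_singleton_iff] at hy ⊢
    calc y * (g⁻¹ * x * g) = g⁻¹ * ((g * y * g⁻¹) * x) * g := by group
      _ = g⁻¹ * (x * (g * y * g⁻¹)) * g := by rw [hy]
      _ = g⁻¹ * x * g * y := by group

end Z

end Cfsg.Agent.Helper67.BSWD
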