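import Mathlib

/-!
# S0508 (helper58), piece (Z2): `Q` is regular on the points other than the fixed one
-/

set_option autoImplicit false

namespace Cfsg.Agent.Helper67.BSWD

open Subgroup

section Z

variable {G : Type*} [Group G] [Finite G] (Q D : Subgroup G)

/-- (Z2) -/
theorem regular_on_rest (hcent : ∀ x ∈ Q, x ≠ 1 → centralizer ({x} : Set G) = Q)
    (hidx : (normalizer (Q : Set G)).index = Nat.card ↥Q + 1)
    (hZ1 : ∀ g : G, g ∉ normalizer (Q : Set G) →
      Q ⊓ (normalizer (Q : Set G)).map (MulAut.conj g).toMonoidHom = ⊥)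
    (y z : G ⧸ normalizer (Q : Set G)) (hy : y ≠ ((1 : G) : G ⧸ normalizer (Q : Set G)))
    (hz : z ≠ ((1 : G) : G ⧸ normalizer (Q : Set G))) :
    ∃! u : ↥Q, (u : G) • y = z := by
  classical
  -- `Q` fixes the base point
  have hfix : ∀ u : ↥Q, (u : G) • ((1 : G) : G ⧸ normalizer (Q : Set G)) =
      ((1 : G) : G ⧸ normalizer (Q : Set G)) := by
    intro u
    rw [MulAction.Quotient.smul_mk, QuotientGroup.eq]
    have : ((u : G) • (1 : G))⁻¹ * 1 = (u : G)⁻¹ := by simp
    rw [this]
    exact (normalizer (Q : Set G)).inv_mem (le_normalizer u.2)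
  -- the orbit map
  have hne : ∀ u : ↥Q, (u : G) • y ≠ ((1 : G) : G ⧸ normalizer (Q : Set G)) := by
    intro u h
    apply hy
    have h1 : y = (u : G)⁻¹ • ((u : G) • y) := by rw [inv_smul_smul]
    rw [h1, h]
    have := hfix u⁻¹
    simpa using this
  -- semiregularity
  have hsemi : ∀ u : ↥Q, (u : G) • y = y → u = 1 := by
    intro u hu
    obtain ⟨g, rfl⟩ := QuotientGroup.mk_surjective y
    have hg : g ∉ normalizer (Q : Set G) := by
      intro hg
      apply hy
      rw [QuotientGroup.eq]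
      have : g⁻¹ * 1 = g⁻¹ := mul_one _
      rw [this]
      exact (normalizer (Q : Set G)).inv_mem hg
    rw [MulAction.Quotient.smul_mk, QuotientGroup.eq] at hu
    have hu' : g⁻¹ * (u : G)⁻¹ * g ∈ normalizer (Q : Set G) := by
      have : ((u : G) • g)⁻¹ * g = g⁻¹ * (u : G)⁻¹ * g := by
        rw [smul_eq_mul, mul_inv_rev]
      rwa [this] at hu
    have hmem : (u : G)⁻¹ ∈ Q ⊓ (normalizer (Q : Set G)).map (MulAut.conj g).toMonoidHom := by
      rw [mem_inf]
      refine ⟨Q.inv_mem u.2, ?_⟩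
      rw [mem_map_equiv, MulAut.conj_symm_apply]
      exact hu'
    rw [hZ1 g hg, mem_bot, inv_eq_one] at hmem
    exact Subtype.ext hmem
  let f : ↥Q → {w : G ⧸ normalizer (Q : Set G) // w ≠ ((1 : G) : G ⧸ normalizer (Q : Set G))} :=
    fun u => ⟨(u : G) • y, hne u⟩
  have hf : Function.Injective f := by
    intro u u' huu'
    have h1 : (u : G) • y = (u' : G) • y := congrArg Subtype.val huu'
    have h2 : ((u'⁻¹ * u : ↥Q) : G) • y = y := by
      rw [Subgroup.coe_mul, Subgroup.coe_inv, mul_smul, h1, inv_smul_smul]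
    have h3 := hsemi _ h2
    calc u = u' * (u'⁻¹ * u) := by group
      _ = u' := by rw [h3, mul_one]
  have hcard : Nat.card {w : G ⧸ normalizer (Q : Set G) // w ≠ ((1 : G) : G ⧸ normalizer (Q : Set G))} =
      Nat.card ↥Q := by
    have h1 := Nat.card_congr (Equiv.optionSubtypeNe ((1 : G) : G ⧸ normalizer (Q : Set G)))
    rw [Finite.card_option, ← index_eq_card, hidx] at h1
    omega
  have hbij : Function.Bijective f := hf.bijective_of_nat_card_le (le_of_eq hcard)
  obtain ⟨u, hu⟩ := hbij.2 ⟨z, hz⟩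
  refine ⟨u, congrArg Subtype.val hu, ?_⟩
  intro u' hu'
  apply hf
  apply Subtype.ext
  show (u' : G) • y = (u : G) • y
  rw [hu']
  exact (congrArg Subtype.val hu).symm

end Z

end Cfsg.Agent.Helper67.BSWD
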