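import Mathlib

/-!
# S0508 (helper58), piece (Z5b): a nontrivial element fixing two points
-/

set_option autoImplicit false

namespace Cfsg.Agent.Helper67.BSWD

open Subgroup

section Z

variable {G : Type*} [Group G] [Finite G] (Q D : Subgroup G)

/-- (Z5b) -/
theorem exists_two_fixed (hq : 5 ≤ Nat.card ↥Q)
    (hcard : Nat.card ↥(normalizer (Q : Set G)) = Nat.card ↥Q * Nat.card ↥D)
    (h4 : 2 * Nat.card ↥D + 1 = Nat.card ↥Q)
    (hidx : (normalizer (Q : Set G)).index = Nat.card ↥Q + 1)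
    (hreg : ∀ y z : G ⧸ normalizer (Q : Set G),
      y ≠ ((1 : G) : G ⧸ normalizer (Q : Set G)) →
      z ≠ ((1 : G) : G ⧸ normalizer (Q : Set G)) → ∃! u : ↥Q, (u : G) • y = z) :
    ∃ g : G, g ≠ 1 ∧ ∃ a b : G ⧸ normalizer (Q : Set G), a ≠ b ∧ g • a = a ∧ g • b = b := by
  classical
  -- `N(Q)` fixes the base point
  have hfix : ∀ n : ↥(normalizer (Q : Set G)),
      (n : G) • ((1 : G) : G ⧸ normalizer (Q : Set G)) =
      ((1 : G) : G ⧸ normalizer (Q : Set G)) := by
    intro n
    rw [MulAction.Quotient.smul_mk, QuotientGroup.eq]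
    have : ((n : G) • (1 : G))⁻¹ * 1 = (n : G)⁻¹ := by simp
    rw [this]
    exact (normalizer (Q : Set G)).inv_mem n.2
  -- a second point
  have hcardq : Nat.card (G ⧸ normalizer (Q : Set G)) = Nat.card ↥Q + 1 := by
    rw [← index_eq_card, hidx]
  have hnt : Nontrivial (G ⧸ normalizer (Q : Set G)) := by
    apply (Finite.one_lt_card_iff_nontrivial).1
    rw [hcardq]
    omega
  obtain ⟨y, hy⟩ := exists_ne ((1 : G) : G ⧸ normalizer (Q : Set G))
  have hne : ∀ n : ↥(normalizer (Q : Set G)),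
      (n : G) • y ≠ ((1 : G) : G ⧸ normalizer (Q : Set G)) := by
    intro n h
    apply hy
    have h1 : y = (n : G)⁻¹ • ((n : G) • y) := by rw [inv_smul_smul]
    rw [h1, h]
    have := hfix n⁻¹
    simpa using this
  let f : ↥(normalizer (Q : Set G)) →
      {w : G ⧸ normalizer (Q : Set G) // w ≠ ((1 : G) : G ⧸ normalizer (Q : Set G))} :=
    fun n => ⟨(n : G) • y, hne n⟩
  have hcardT : Nat.card {w : G ⧸ normalizer (Q : Set G) //
      w ≠ ((1 : G) : G ⧸ normalizer (Q : Set G))} = Nat.card ↥Q := by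
    have h1 := Nat.card_congr (Equiv.optionSubtypeNe ((1 : G) : G ⧸ normalizer (Q : Set G)))
    rw [Finite.card_option, hcardq] at h1
    omega
  have hD : 2 ≤ Nat.card ↥D := by omega
  have hlt : Nat.card ↥Q < Nat.card ↥(normalizer (Q : Set G)) := by
    rw [hcard]
    have : Nat.card ↥Q * 2 ≤ Nat.card ↥Q * Nat.card ↥D := Nat.mul_le_mul_left _ hD
    omega
  have hnotinj : ¬ Function.Injective f := by
    intro hf
    have := Nat.card_le_card_of_injective f hf
    rw [hcardT] at this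
    omega
  rw [Function.not_injective_iff] at hnotinj
  obtain ⟨n, n', hnn', hne'⟩ := hnotinj
  have h1 : (n : G) • y = (n' : G) • y := congrArg Subtype.val hnn'
  refine ⟨((n'⁻¹ * n : ↥(normalizer (Q : Set G))) : G), ?_, ((1 : G) : G ⧸ normalizer (Q : Set G)),
    y, hy.symm, hfix _, ?_⟩
  · intro h
    apply hne'
    have h2 : (n'⁻¹ * n : ↥(normalizer (Q : Set G))) = 1 := Subtype.ext h
    calc n = n' * (n'⁻¹ * n) := by group
      _ = n' := by rw [h2, mul_one]
  · rw [Subgroup.coe_mul, Subgroup.coe_inv, mul_smul, h1, inv_smul_smul]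

end Z

end Cfsg.Agent.Helper67.BSWD
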