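import Mathlib

/-!
helper67 (for helper6, WANTED #5296 (GEN)): two commuting cyclic subgroups of the same order `d`
coincide when the Sylow subgroups for the primes dividing `d` are cyclic.
-/

set_option autoImplicit false
set_option linter.style.haveILetI false
set_option linter.unusedVariables false

namespace Cfsg.Agent.Helper67.ReeGen

theorem eq_of_commute_of_card {G : Type*} [Group G] [Finite G] (A B : Subgroup G) (d : ℕ)
    (hA : IsCyclic ↥A) (hB : IsCyclic ↥B) (hAd : Nat.card ↥A = d) (hBd : Nat.card ↥B = d)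
    (hcomm : ∀ a ∈ A, ∀ b ∈ B, a * b = b * a)
    (hsyl : ∀ p : ℕ, ∀ _ : Fact p.Prime, p ∣ d → ∀ P : Sylow p G, IsCyclic ↥(P : Subgroup G)) :
    A = B := by
  classical
  have hd0 : 0 < d := by rw [← hAd]; exact Nat.card_pos
  -- every element of `A ⊔ B` is killed by `d`
  have hpow : ∀ x ∈ A ⊔ B, x ^ d = 1 := by
    intro x hx
    have hrange : (MonoidHom.noncommCoprod A.subtype B.subtype
        (fun a b => (show Commute (A.subtype a) (B.subtype b) from
          hcomm a a.2 b b.2))).range = A ⊔ B := by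
      rw [MonoidHom.noncommCoprod_range, Subgroup.range_subtype, Subgroup.range_subtype]
    rw [← hrange] at hx
    obtain ⟨⟨a, b⟩, rfl⟩ := hx
    rw [← map_pow]
    have ha : a ^ d = 1 := by rw [← hAd]; exact pow_card_eq_one'
    have hb : b ^ d = 1 := by rw [← hBd]; exact pow_card_eq_one'
    have : ((a, b) : ↥A × ↥B) ^ d = 1 := by
      rw [Prod.pow_mk, ha, hb]; rfl
    rw [this, map_one]
  have hpow' : ∀ x : ↥(A ⊔ B), x ^ d = 1 := by
    intro x
    apply Subtype.ext
    rw [Subgroup.coe_pow, Subgroup.coe_one]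
    exact hpow x x.2
  -- `A ⊔ B` has cyclic Sylow subgroups
  have hZ : IsZGroup ↥(A ⊔ B) := by
    refine ⟨fun p hp P => ?_⟩
    haveI : Fact p.Prime := ⟨hp⟩
    by_cases hpd : p ∣ d
    · obtain ⟨Q, hQ⟩ := (P.2.map (A ⊔ B).subtype).exists_le_sylow
      haveI : IsCyclic ↥(Q : Subgroup G) := hsyl p ⟨hp⟩ hpd Q
      haveI : IsCyclic ↥((P : Subgroup ↥(A ⊔ B)).map (A ⊔ B).subtype) :=
        Subgroup.isCyclic_of_le hQ
      exact isCyclic_of_surjective
        ((P : Subgroup ↥(A ⊔ B)).equivMapOfInjective (A ⊔ B).subtype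
          (A ⊔ B).subtype_injective).symm
        ((P : Subgroup ↥(A ⊔ B)).equivMapOfInjective (A ⊔ B).subtype
          (A ⊔ B).subtype_injective).symm.surjective
    · haveI : Subsingleton ↥(P : Subgroup ↥(A ⊔ B)) := by
        refine ⟨fun x y => ?_⟩
        have h1 : ∀ z : ↥(P : Subgroup ↥(A ⊔ B)), z = 1 := by
          intro z
          obtain ⟨k, hk⟩ := P.2 z
          have hz : (z : ↥(A ⊔ B)) ^ d = 1 := hpow' _
          have hz' : z ^ d = 1 := by
            apply Subtype.ext
            rw [Subgroup.coe_pow, Subgroup.coe_one]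
            exact hz
          have h2 : orderOf z ∣ d := orderOf_dvd_of_pow_eq_one hz'
          have h3 : orderOf z ∣ p ^ k := orderOf_dvd_of_pow_eq_one hk
          have hcop : Nat.Coprime (p ^ k) d :=
            Nat.Coprime.pow_left k ((Nat.Prime.coprime_iff_not_dvd hp).mpr hpd)
          have h4 : orderOf z = 1 := Nat.eq_one_of_dvd_coprimes hcop h3 h2
          exact orderOf_eq_one_iff.mp h4
        rw [h1 x, h1 y]
      exact isCyclic_of_subsingleton
  have hexp : Monoid.exponent ↥(A ⊔ B) = Nat.card ↥(A ⊔ B) := IsZGroup.exponent_eq_card _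
  have hdvd : Nat.card ↥(A ⊔ B) ∣ d := by
    rw [← hexp]
    exact Monoid.exponent_dvd_of_forall_pow_eq_one hpow'
  have hle : Nat.card ↥(A ⊔ B) ≤ d := Nat.le_of_dvd hd0 hdvd
  have hAN : A = A ⊔ B := Subgroup.eq_of_le_of_card_ge le_sup_left (by rw [hAd]; exact hle)
  have hBN : B = A ⊔ B := Subgroup.eq_of_le_of_card_ge le_sup_right (by rw [hBd]; exact hle)
  rw [hBN]
  exact hAN

end Cfsg.Agent.Helper67.ReeGen
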