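import Cfsg.Agent.Helper48.FT1

/-!
# (F3) for S5201: automorphisms of a fully normalized proper subgroup are trivial modulo `T`

(helper67 for helper86, piece (F3) of board post #4698.)
-/

set_option autoImplicit false
set_option linter.unusedSectionVars false
set_option linter.unusedVariables false

namespace Cfsg.Agent.Helper67

open Cfsg Cfsg.FusionSystem Cfsg.Agent.Helper87 Cfsg.Agent.Helper48
open scoped commutatorElement

variable {Ω : Type*} [Group Ω] {S : Subgroup Ω}

theorem mem_autGroup_trivModSys_iff (G : FusionSystem S) (T : Subgroup Ω) (hcomm : ⁅S, S⁆ ≤ T)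
    {P : Subgroup Ω} (hPS : P ≤ S) (γ : MulAut P) :
    γ ∈ (trivModSys G T hcomm).autGroup P ↔
      γ ∈ G.autGroup P ∧ ∀ x : P, (x : Ω)⁻¹ * ((γ x : P) : Ω) ∈ T := by
  rw [mem_autGroup_iff _ hPS, mem_autGroup_iff _ hPS]
  exact Iff.rfl

theorem autGroup_le_trivModSys [Finite S] {p : ℕ} [Fact p.Prime] (hS : IsPGroup p S)
    (G : FusionSystem S) (hG : G.IsSaturated p) {T : Subgroup Ω} (hT : G.StronglyClosed T)
    (hcomm : ⁅S, S⁆ ≤ T) {P : Subgroup Ω} (hPn : G.IsFullyNormalized P) (hPS : P < S)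
    (ih : ∀ (N : Subgroup Ω) (ψ : N →* Ω), Nat.card P < Nat.card N → ψ ∈ G.Hom N →
      ψ ∈ (trivModSys G T hcomm).Hom N) :
    G.autGroup P ≤ (trivModSys G T hcomm).autGroup P := by
  classical
  have hPS' : P ≤ S := hPS.le
  set E := trivModSys G T hcomm with hE
  obtain ⟨hPc, hPa⟩ := fullyAutomized_fullyCentralized_of_fullyNormalized hS G hG hPn
  have hPr : G.IsReceptive P := receptive_of_fullyCentralized hS G hG hPc
  have hfinA : Finite (MulAut P) := finite_mulAut_of_le hPS'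
  -- the induction hypothesis in the form used by `isIso_of_extender_gt`
  have ih' : ∀ (N : Subgroup Ω) (ψ : N →* Ω), P < N → ψ ∈ G.Hom N → ψ ∈ E.Hom N := by
    intro N ψ hPN hψ
    have hNS : N ≤ S := (G.le_of_mem hψ).1
    have : Finite N := finite_of_le hNS
    exact ih N ψ (card_lt_card_of_lt hPN) hψ
  -- `E`-automorphisms are `G`-automorphisms
  have hEG : E.autGroup P ≤ G.autGroup P := by
    intro γ hγ
    exact ((mem_autGroup_trivModSys_iff G T hcomm hPS' γ).mp hγ).1
  -- the subgroup `K` of `A = Aut_G(P)`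
  set K : Subgroup (G.autGroup P) := (E.autGroup P).subgroupOf (G.autGroup P) with hK
  -- `K` is normal in `A`
  have hKn : K.Normal := by
    refine ⟨fun γ hγ α => ?_⟩
    rw [hK, Subgroup.mem_subgroupOf] at hγ ⊢
    obtain ⟨-, hγT⟩ := (mem_autGroup_trivModSys_iff G T hcomm hPS' _).mp hγ
    rw [mem_autGroup_trivModSys_iff G T hcomm hPS']
    refine ⟨(α * γ * α⁻¹ : G.autGroup P).2, fun x => ?_⟩
    -- `x⁻¹ (αγα⁻¹ x) = α (y⁻¹ γ y)` with `y = α⁻¹ x`
    set y : P := (α⁻¹ : G.autGroup P).1 x with hy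
    have hαy : (α : MulAut P) y = x := by
      rw [hy]
      show (α : MulAut P) (((α : MulAut P)⁻¹) x) = x
      exact MulAut.apply_inv_self (M := ↥P) (α : MulAut P) x
    have h1 : ((α * γ * α⁻¹ : G.autGroup P) : MulAut P) x =
        (α : MulAut P) ((γ : MulAut P) y) := rfl
    have hzT : (y : Ω)⁻¹ * (((γ : MulAut P) y : P) : Ω) ∈ T := hγT y
    have hzP : (y : Ω)⁻¹ * (((γ : MulAut P) y : P) : Ω) ∈ P :=
      P.mul_mem (P.inv_mem y.2) ((γ : MulAut P) y).2
    -- restriction of `α` to `T ⊓ P`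
    have hαG : IsIso G ((α : MulAut P) : P ≃* P) := (mem_autGroup_iff G hPS' _).mp α.2
    have hres := restrict_mem G hαG (inf_le_right : T ⊓ P ≤ P)
    have himg := hT.2 (T ⊓ P) inf_le_left _ hres ⟨_, hzT, hzP⟩
    have e : (x : Ω)⁻¹ * ((((α * γ * α⁻¹ : G.autGroup P) : MulAut P) x : P) : Ω) =
        (((α : MulAut P) (y⁻¹ * (γ : MulAut P) y) : P) : Ω) := by
      rw [h1, map_mul, map_inv, hαy]
      rfl
    rw [e]
    exact himg
  -- the Sylow subgroup `Aut_S(P)` lies in `K`
  obtain ⟨-, Syl, hSyl⟩ := hPa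
  have hfinGA : Finite (G.autGroup P) := inferInstance
  have hSylK : (Syl : Subgroup (G.autGroup P)) ≤ K := by
    intro t ht
    rw [hSyl, Subgroup.mem_subgroupOf] at ht
    obtain ⟨g, hg, hgx⟩ := (mem_autInducedBy_iff S P _).mp ht
    rw [hK, Subgroup.mem_subgroupOf, mem_autGroup_trivModSys_iff G T hcomm hPS']
    refine ⟨t.2, fun x => ?_⟩
    rw [hgx]
    apply hcomm
    have hx : (x : Ω) ∈ S := hPS' x.2
    have h1 : ⁅(x : Ω)⁻¹, g⁆ ∈ ⁅S, S⁆ := Subgroup.commutator_mem_commutator (S.inv_mem hx) hg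
    have h2 : (x : Ω)⁻¹ * (g * (x : Ω) * g⁻¹) = ⁅(x : Ω)⁻¹, g⁆ := by
      rw [commutatorElement_def]; group
    rw [h2]; exact h1
  -- Frattini
  have hfr : Subgroup.normalizer ((Syl : Subgroup (G.autGroup P)) : Set (G.autGroup P)) ⊔ K = ⊤ :=
    Sylow.normalizer_sup_eq_top' Syl hSylK
  -- the normalizer of `Aut_S(P)` lies in `K`
  have hNK : Subgroup.normalizer ((Syl : Subgroup (G.autGroup P)) : Set (G.autGroup P)) ≤ K := by
    intro ν hν
    rw [hK, Subgroup.mem_subgroupOf, mem_autGroup_iff E hPS']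
    have hνG : IsIso G ((ν : MulAut P) : P ≃* P) := (mem_autGroup_iff G hPS' _).mp ν.2
    -- `N_S(P)` lies in the extender of `ν`
    have hext : normalizerIn S P ≤ extender S P (P.subtype.comp ((ν : MulAut P) : P ≃* P).toMonoidHom) := by
      intro g hg
      have hgS : g ∈ S := hg.1
      have hgN : g ∈ Subgroup.normalizer (P : Set Ω) := hg.2
      -- conjugation by `g` as an element of `A`
      have hcgA : conjAut P g hgN ∈ G.autGroup P := by
        rw [mem_autGroup_iff G hPS']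
        exact isIso_conjAut G hPS' hgS hgN
      have hcgSyl : (⟨conjAut P g hgN, hcgA⟩ : G.autGroup P) ∈ (Syl : Subgroup (G.autGroup P)) := by
        rw [hSyl, Subgroup.mem_subgroupOf, mem_autInducedBy_iff]
        exact ⟨g, hgS, fun x => rfl⟩
      have hconj := (Subgroup.mem_normalizer_iff.mp hν _).mp hcgSyl
      rw [hSyl, Subgroup.mem_subgroupOf, mem_autInducedBy_iff] at hconj
      obtain ⟨h, hhS, hhx⟩ := hconj
      rw [mem_extender_iff]
      refine ⟨hgS, hgN, h, hhS, fun x hx => ?_⟩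
      have h3 := hhx ((ν : MulAut P) x)
      have h4 : ((ν * ⟨conjAut P g hgN, hcgA⟩ * ν⁻¹ : G.autGroup P) : MulAut P) ((ν : MulAut P) x) =
          (ν : MulAut P) (conjAut P g hgN x) := by
        show (ν : MulAut P) (conjAut P g hgN (((ν : MulAut P)⁻¹) ((ν : MulAut P) x))) = _
        rw [MulAut.inv_apply_self]
      rw [h4] at h3
      have h5 : conjAut P g hgN x = ⟨g * (x : Ω) * g⁻¹, hx⟩ := Subtype.ext rfl
      rw [h5] at h3
      exact h3
    obtain ⟨g, hgN, hgP⟩ := SetLike.exists_of_lt (lt_normalizerIn hS hPS)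
    exact isIso_of_extender_gt G E hPr (ν : MulAut P) hνG ih' g (hext hgN) hgP
  -- conclusion
  have htop : K = ⊤ := by
    apply top_le_iff.mp
    rw [← hfr]
    exact sup_le hNK le_rfl
  intro α hα
  have : (⟨α, hα⟩ : G.autGroup P) ∈ K := by rw [htop]; exact Subgroup.mem_top _
  rw [hK, Subgroup.mem_subgroupOf] at this
  exact this

end Cfsg.Agent.Helper67
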