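import Cfsg.Agent.Helper61.Sr.Basic

/-!
# S3572 (helper61), pieces (M1), (M2): the small dihedral groups `D₁` and `D₂`
-/

set_option autoImplicit false
set_option linter.unusedSectionVars false
set_option linter.unusedVariables false

namespace Cfsg.Agent.Helper67.Sr

open Finset DihedralGroup Cfsg.Agent.Helper61.Dih Cfsg.Agent.Helper61.Sr

theorem M2_sq : ∀ w : DihedralGroup 2, w ^ 2 = 1 := by decide

theorem M2_third : ∀ x y v : DihedralGroup 2, x ≠ 1 → y ≠ 1 → x ≠ y → v ≠ 1 → v ≠ x → v ≠ y →
    v = x * y := by decide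

theorem M2_not_singleton (S : SRing (DihedralGroup 2)) (hS : S.IsPrim) (w : DihedralGroup 2)
    (hw : w ≠ 1) : ∃ v, v ≠ w ∧ S.rel w v := by
  by_contra hcon
  push Not at hcon
  have hcls : S.cls w = {w} := by
    ext v
    rw [mem_cls, mem_singleton]
    constructor
    · intro h
      by_contra hv
      exact hcon v hv h
    · rintro rfl
      exact S.refl _
  have h1 := hS (S.cls w) (isSet_cls S w) ⟨w, self_mem_cls S w⟩ (one_notMem_cls S hw)
  rw [hcls, coe_singleton, ← Subgroup.zpowers_eq_closure] at h1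
  have h2 : Nat.card (Subgroup.zpowers w) = 4 := by
    rw [h1, Subgroup.card_top, DihedralGroup.nat_card]
  rw [Nat.card_zpowers] at h2
  have h3 : orderOf w ∣ 2 := orderOf_dvd_of_pow_eq_one (M2_sq w)
  have := Nat.le_of_dvd (by norm_num) h3
  omega

/-- (M2) the Klein four group -/
theorem main2 (S : SRing (DihedralGroup 2)) (hS : S.IsPrim) : S.IsTriv := by
  intro x y hx hy
  by_cases hxy : x = y
  · subst hxy
    exact S.refl x
  obtain ⟨v, hvx, hxv⟩ := M2_not_singleton S hS x hx
  obtain ⟨v', hvy, hyv'⟩ := M2_not_singleton S hS y hy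
  have hv1 : v ≠ 1 := by
    intro h
    rw [h] at hxv
    exact hx (S.one_rel hxv)
  have hv'1 : v' ≠ 1 := by
    intro h
    rw [h] at hyv'
    exact hy (S.one_rel hyv')
  by_cases h1 : v = y
  · rw [h1] at hxv
    exact hxv
  by_cases h2 : v' = x
  · rw [h2] at hyv'
    exact S.symm hyv'
  have e1 : v = x * y := M2_third x y v hx hy hxy hv1 hvx h1
  have e2 : v' = x * y := M2_third x y v' hx hy hxy hv'1 h2 hvy
  rw [e1] at hxv
  rw [e2] at hyv'
  exact S.trans hxv (S.symm hyv')

/-- (M1) -/
theorem main1 (S : SRing (DihedralGroup 1)) : S.IsTriv := by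
  intro x y hx hy
  have key : ∀ z : DihedralGroup 1, z ≠ 1 → z = sr 0 := by
    intro z hz
    cases z with
    | r i =>
      exfalso
      apply hz
      rw [Subsingleton.elim i 0]
      rfl
    | sr i => rw [Subsingleton.elim i 0]
  rw [key x hx, key y hy]
  exact S.refl _

end Cfsg.Agent.Helper67.Sr
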