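import Mathlib
import Cfsg.Agent.Helper62.S6.Defs
import Cfsg.Agent.Helper62.D8.Main
import Cfsg.Agent.Helper31.D8G3
import Cfsg.Agent.Helper47.D8Coords
import Cfsg.Agent.S3341

/-!
# S3333 (helper62), piece (C4a): `N ∩ L = S⟨f⟩` gives `L ≅ A₆` by S3341

`case_C4_iso_core` is the statement of the skeleton with the two skeleton facts it rests on
(`simple_normalClosure`, `transfer`) as explicit hypotheses.
-/

set_option autoImplicit false
open Cfsg

namespace Cfsg.Agent.Helper67.S6

open Cfsg.Agent.Helper62.S6 Cfsg.Agent.Helper62.D8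

universe u

variable {G : Type u} [Group G] [Finite G]
variable {S : Subgroup G} {x y t f : G}

/-- a power of `f` fixing a nontrivial element of `S`, in coordinates -/
theorem actE_fix_C4a (i a b : ℕ) (hi : i < 4)
    (h1 : (Cfsg.Agent.Helper47.D8.actE i 0 (a, b)).1 % 3 = a % 3)
    (h2 : (Cfsg.Agent.Helper47.D8.actE i 0 (a, b)).2 % 3 = b % 3) :
    i = 0 ∨ (a % 3 = 0 ∧ b % 3 = 0) := by
  interval_cases i
  · exact Or.inl rfl
  · right
    simp only [Cfsg.Agent.Helper47.D8.actE, Cfsg.Agent.Helper47.D8.phiE, Function.iterate_succ,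
      Function.iterate_zero, Function.comp_apply, id_eq] at h1 h2
    omega
  · right
    simp only [Cfsg.Agent.Helper47.D8.actE, Cfsg.Agent.Helper47.D8.phiE, Function.iterate_succ,
      Function.iterate_zero, Function.comp_apply, id_eq] at h1 h2
    omega
  · right
    simp only [Cfsg.Agent.Helper47.D8.actE, Cfsg.Agent.Helper47.D8.phiE, Function.iterate_succ,
      Function.iterate_zero, Function.comp_apply, id_eq] at h1 h2
    omega

/-- (C4a), core: `N ∩ L = S⟨f⟩` gives `L ≅ A₆` by S3341. -/
theorem case_C4_iso_core (h : Cfg S x y t f)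
    (hf : f ∈ Subgroup.normalClosure (S : Set G)) (ht : t ∉ Subgroup.normalClosure (S : Set G))
    (hsimple : IsSimpleGroup ↥(Subgroup.normalClosure (S : Set G)))
    (htr : ∃ PL : Sylow 3 ↥(Subgroup.normalClosure (S : Set G)),
      (PL : Subgroup ↥(Subgroup.normalClosure (S : Set G))) =
        S.subgroupOf (Subgroup.normalClosure (S : Set G)) ∧
      Nat.card (PL : Subgroup ↥(Subgroup.normalClosure (S : Set G))) = 9 ∧
      (∀ a ∈ (PL : Subgroup ↥(Subgroup.normalClosure (S : Set G))),
        ∀ b ∈ (PL : Subgroup ↥(Subgroup.normalClosure (S : Set G))), a * b = b * a) ∧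
      (∀ a ∈ (PL : Subgroup ↥(Subgroup.normalClosure (S : Set G))), a ^ 3 = 1) ∧
      Subgroup.centralizer ((PL : Subgroup ↥(Subgroup.normalClosure (S : Set G))) :
        Set ↥(Subgroup.normalClosure (S : Set G))) =
          (PL : Subgroup ↥(Subgroup.normalClosure (S : Set G))) ∧
      Subgroup.normalizer ((PL : Subgroup ↥(Subgroup.normalClosure (S : Set G))) :
        Set ↥(Subgroup.normalClosure (S : Set G))) =
        (Subgroup.normalizer (S : Set G)).subgroupOf (Subgroup.normalClosure (S : Set G)) ∧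
      (∀ u ∈ (PL : Subgroup ↥(Subgroup.normalClosure (S : Set G))), u ≠ 1 →
        Subgroup.centralizer ({u} : Set ↥(Subgroup.normalClosure (S : Set G))) ≤
        Subgroup.normalizer ((PL : Subgroup ↥(Subgroup.normalClosure (S : Set G))) :
          Set ↥(Subgroup.normalClosure (S : Set G))))) :
    Nonempty (↥(Subgroup.normalClosure (S : Set G)) ≃* alternatingGroup (Fin 6)) := by
  classical
  set L : Subgroup G := Subgroup.normalClosure (S : Set G) with hL
  have hSL : S ≤ L := Subgroup.le_normalClosure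
  have hd := h.nd
  obtain ⟨PL, hPL, hcard, hcomm, hexp, _, hnorm, hcentle⟩ := htr
  -- fusion in `G`
  obtain ⟨P, hP⟩ := h.syl
  have hTI : ∀ g u : G, u ∈ S → u ≠ 1 → g * u * g⁻¹ ∈ S →
      g ∈ Subgroup.normalizer (S : Set G) := by
    intro g u hu hu1 hg
    have hcommP : ∀ s ∈ (P : Subgroup G), ∀ v ∈ (P : Subgroup G), s * v = v * s := by
      rw [← hP]; exact hd.commT
    have hlocP : ∀ v ∈ (P : Subgroup G), v ≠ 1 →
        Subgroup.centralizer ({v} : Set G) ≤ Subgroup.normalizer ((P : Subgroup G) : Set G) := by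
      rw [← hP]; exact h.loc
    have := Cfsg.Agent.Helper89.S3S3.mem_normalizer_of_conj_mem P hcommP hlocP g u
      (by rw [← hP]; exact hu) hu1 (by rw [← hP]; exact hg)
    rw [← hP] at this
    exact this
  obtain ⟨hxy1, hxy3, _, _, hnc, _, _, _⟩ := Cfsg.Agent.Helper31.D8.fusion8 S x y t f hd hTI
  have := hsimple
  refine Cfsg.Agent.S3341.result PL (PL : Subgroup ↥L) rfl ?_ hexp hcard ?_ ?_
  · exact ⟨⟨fun a b => Subtype.ext (hcomm a a.2 b b.2)⟩⟩
  · -- two classes
    refine ⟨⟨x, hSL hd.xT⟩, ⟨x * y, hSL (S.mul_mem hd.xT hd.yT)⟩, ?_, ?_, ?_⟩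
    · rw [Subgroup.orderOf_mk]
      exact Cfsg.Agent.Helper31.D8.nd_orderOf_x hd
    · rw [Subgroup.orderOf_mk]
      have : Fact (Nat.Prime 3) := ⟨Nat.prime_three⟩
      exact orderOf_eq_prime hxy3 hxy1
    · intro g hg
      apply hnc
      rw [isConj_iff]
      exact ⟨(g : G), congrArg Subtype.val hg⟩
  · -- centralizers
    intro s hs hs1
    have hsS : (s : G) ∈ S := by
      rw [hPL] at hs
      exact Subgroup.mem_subgroupOf.1 hs
    apply le_antisymm
    · intro c hc
      have hcN : c ∈ Subgroup.normalizer ((PL : Subgroup ↥L) : Set ↥L) := hcentle s hs hs1 hc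
      rw [hnorm] at hcN
      have hcN' : (c : G) ∈ Subgroup.normalizer (S : Set G) := Subgroup.mem_subgroupOf.1 hcN
      obtain ⟨s0, hs0, i, j, hi, hj, hcij⟩ := hd.memN (c : G) hcN'
      -- `j = 0`
      have hfi : f ^ i ∈ L := L.pow_mem hf i
      have hs0L : s0 ∈ L := hSL hs0
      have htj : t ^ j ∈ L := by
        have h1 : t ^ j = (f ^ i)⁻¹ * (s0⁻¹ * (c : G)) := by rw [hcij]; group
        rw [h1]
        exact L.mul_mem (L.inv_mem hfi) (L.mul_mem (L.inv_mem hs0L) c.2)
      have hj0 : j = 0 := by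
        interval_cases j
        · rfl
        · exfalso
          rw [pow_one] at htj
          exact ht htj
      subst hj0
      -- the action of `c` on `s`
      obtain ⟨a, b, hab⟩ := hd.memT (s : G) hsS
      have hcs : (c : G) * (s : G) * (c : G)⁻¹ = (s : G) := by
        have h1 : c * s = s * c := Subgroup.mem_centralizer_singleton_iff.1 hc
        have h2 : (c : G) * (s : G) = (s : G) * (c : G) := congrArg Subtype.val h1
        rw [h2, mul_inv_cancel_right]
      have hact := Cfsg.Agent.Helper47.D8.sw_act8 hd hs0 i 0 (a, b)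
      rw [← hcij] at hact
      simp only at hact
      rw [← hab, hcs, hab] at hact
      obtain ⟨e1, e2⟩ := (Cfsg.Agent.Helper47.D8.pow_mul_pow_eq_iff8 hd _ _ _ _).1 hact
      rcases actE_fix_C4a i a b hi e1.symm e2.symm with hi0 | ⟨ha, hb⟩
      · subst hi0
        rw [pow_zero, pow_zero, mul_one, mul_one] at hcij
        rw [hPL]
        exact Subgroup.mem_subgroupOf.2 (hcij ▸ hs0)
      · exfalso
        apply hs1
        apply Subtype.ext
        have hxa : x ^ a = 1 := by
          obtain ⟨k, hk⟩ := Nat.dvd_of_mod_eq_zero ha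
          rw [hk, pow_mul, hd.x3, one_pow]
        have hyb : y ^ b = 1 := by
          obtain ⟨k, hk⟩ := Nat.dvd_of_mod_eq_zero hb
          rw [hk, pow_mul, hd.y3, one_pow]
        rw [hab, hxa, hyb, mul_one]
        rfl
    · intro c hc
      rw [Subgroup.mem_centralizer_singleton_iff]
      exact hcomm c hc s hs

end Cfsg.Agent.Helper67.S6
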