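import Mathlib
import Cfsg.Agent.Helper21.A6Defs
import Cfsg.Agent.Helper48.S3S3G5d
import Cfsg.Agent.Helper67.A6_Coords

/-!
Piece (GB2) for helper21 (S3341): in the `C₄` configuration the class multiplication count
`#{(g,h) | x^g · (xy)^h = x}` is `162 = 2 · 9 · 9`.
-/

set_option autoImplicit false
set_option linter.unusedSectionVars false

namespace Cfsg.Agent.Helper67.A6GB2

open Cfsg Finset Cfsg.Agent.Helper21.A6 Cfsg.Agent.Helper67.A6C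
open Cfsg.Agent.Helper3.S3S3 (pairCount)

universe u
variable {G : Type u} [Group G] [Finite G]

/-- (GB2) -/
theorem pair_count4 [Fintype G] [DecidableEq G] (T : Subgroup G) (hT : Hyp T) (x y j : G)
    (hd : NData4 T x y j)
    (hpair : ∀ x₁ x₂ x₃ : G, x₁ ∈ T → x₂ ∈ T → x₃ ∈ T → x₁ ≠ 1 → x₂ ≠ 1 → x₃ ≠ 1 →
      ¬ IsConj x₁ x₂ → ∀ g h : G, g * x₁ * g⁻¹ * (h * x₂ * h⁻¹) = x₃ →
      g ∈ Subgroup.normalizer (T : Set G) ∧ h ∈ Subgroup.normalizer (T : Set G))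
    (hnxz : ¬ IsConj x (x * y)) :
    pairCount x (x * y) x = 162 := by
  have hxT := hd.xT
  have hyT := hd.yT
  have hzT : x * y ∈ T := T.mul_mem hxT hyT
  have hx1 := hd.x1
  have hxi := pow_eq_iff hd.x3 hd.x1
  have hyi := pow_eq_iff hd.y3 hd.y1
  have hinj := fun {i j k l : ℕ} (h : x ^ i * y ^ j = x ^ k * y ^ l) =>
    pow_mul_pow_inj hd.x3 hd.y3 hd.indep h
  have hz1 : x * y ≠ 1 := by
    intro h
    have h1 : x ^ 1 * y ^ 1 = x ^ 0 * y ^ 0 := by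
      rw [pow_one, pow_one, pow_zero, pow_zero, h, one_mul]
    have h2 := (hinj h1).1
    rw [hxi] at h2
    omega
  have hcx : Nat.card (Subgroup.centralizer ({x} : Set G)) = 9 := by
    rw [hT.cent x hxT hx1, hT.cardT]
  have hcz : Nat.card (Subgroup.centralizer ({x * y} : Set G)) = 9 := by
    rw [hT.cent (x * y) hzT hz1, hT.cardT]
  -- the relevant conjugates
  have hjN : j ∈ Subgroup.normalizer (T : Set G) := hd.jN
  have hjiN : j⁻¹ ∈ Subgroup.normalizer (T : Set G) := Subgroup.inv_mem _ hjN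
  have hxyc : ∀ (m n : ℕ), x ^ m * y ^ n = y ^ n * x ^ m :=
    fun m n => ((show Commute x y from hd.comm).pow_pow m n).eq
  -- `j⁻¹ x j = y²`, `j⁻¹ (xy) j = x y²`
  have hA1 : j * x * j⁻¹ = x ^ 0 * y ^ 1 := by rw [hd.jx, pow_zero, one_mul, pow_one]
  have hjiy : j⁻¹ * y * j⁻¹⁻¹ = x := by
    rw [← hd.jx]; group
  have hjix : j⁻¹ * x * j⁻¹⁻¹ = x ^ 0 * y ^ 2 := by
    have h1 : j⁻¹ * x⁻¹ * j⁻¹⁻¹ = y := by rw [← hd.jy]; group
    have h2 : j⁻¹ * x * j⁻¹⁻¹ = (j⁻¹ * x⁻¹ * j⁻¹⁻¹)⁻¹ := by group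
    rw [h2, h1, inv_eq_sq hd.y3, pow_zero, one_mul]
  have hA2 : j⁻¹ * (x * y) * j⁻¹⁻¹ = x ^ 1 * y ^ 2 := by
    have h2 : j⁻¹ * (x * y) * j⁻¹⁻¹ = (j⁻¹ * x * j⁻¹⁻¹) * (j⁻¹ * y * j⁻¹⁻¹) := by group
    rw [h2, hjix, hjiy, pow_zero, one_mul, pow_one]
    have h3 := hxyc 1 2
    rw [pow_one] at h3
    exact h3.symm
  have hB2 : (1 : G) * (x * y) * (1 : G)⁻¹ = x ^ 1 * y ^ 1 := by
    rw [one_mul, inv_one, mul_one, pow_one, pow_one]
  -- split the filter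
  unfold pairCount
  have hsplit : (Finset.univ.filter (fun gh : G × G =>
        gh.1 * x * gh.1⁻¹ * (gh.2 * (x * y) * gh.2⁻¹) = x)) =
      (Finset.univ.filter (fun gh : G × G =>
        gh.1 * x * gh.1⁻¹ = j * x * j⁻¹ ∧ gh.2 * (x * y) * gh.2⁻¹ = j⁻¹ * (x * y) * j⁻¹⁻¹)) ∪
      (Finset.univ.filter (fun gh : G × G =>
        gh.1 * x * gh.1⁻¹ = j⁻¹ * x * j⁻¹⁻¹ ∧
          gh.2 * (x * y) * gh.2⁻¹ = (1 : G) * (x * y) * (1 : G)⁻¹)) := by
    rw [← Finset.filter_or]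
    apply Finset.filter_congr
    rintro ⟨g, h⟩ -
    simp only
    rw [hA1, hA2, hjix, hB2]
    constructor
    · intro hgh
      obtain ⟨hg, hh⟩ := hpair x (x * y) x hxT hzT hxT hx1 hz1 hx1 hnxz g h hgh
      obtain ⟨a, b, c₁, d₁, h1, -, hab⟩ := conj_coords4 hd hg
      obtain ⟨a₂, b₂, c, d, -, h2, hcd⟩ := conj_coords4 hd hh
      rw [h1, h2] at hgh ⊢
      have h3 : x ^ (a + c) * y ^ (b + d) = x ^ 1 * y ^ 0 := by
        calc x ^ (a + c) * y ^ (b + d) = x ^ a * x ^ c * (y ^ b * y ^ d) := by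
              rw [pow_add, pow_add]
          _ = x ^ a * (x ^ c * y ^ b) * y ^ d := by group
          _ = x ^ a * (y ^ b * x ^ c) * y ^ d := by rw [hxyc c b]
          _ = x ^ a * y ^ b * (x ^ c * y ^ d) := by group
          _ = x := hgh
          _ = x ^ 1 * y ^ 0 := by rw [pow_one, pow_zero, mul_one]
      obtain ⟨h4, h5⟩ := hinj h3
      rw [hxi] at h4
      rw [hyi] at h5
      rcases hab with ⟨rfl, rfl, rfl, rfl⟩ | ⟨rfl, rfl, rfl, rfl⟩ | ⟨rfl, rfl, rfl, rfl⟩ | ⟨rfl, rfl, rfl, rfl⟩ <;>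
        rcases hcd with ⟨rfl, rfl, rfl, rfl⟩ | ⟨rfl, rfl, rfl, rfl⟩ | ⟨rfl, rfl, rfl, rfl⟩ | ⟨rfl, rfl, rfl, rfl⟩ <;>
        first
          | omega
          | exact Or.inl ⟨rfl, rfl⟩
          | exact Or.inr ⟨rfl, rfl⟩
    · rintro (⟨h1, h2⟩ | ⟨h1, h2⟩)
      · rw [h1, h2, pow_zero, one_mul, pow_one, pow_one]
        calc y * (x * y ^ 2) = (y * x) * y ^ 2 := (mul_assoc _ _ _).symm
          _ = (x * y) * y ^ 2 := by rw [hd.comm]
          _ = x * (y * y ^ 2) := mul_assoc _ _ _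
          _ = x * y ^ 3 := by rw [← pow_succ']
          _ = x := by rw [hd.y3, mul_one]
      · rw [h1, h2, pow_zero, one_mul, pow_one, pow_one]
        have h3 := hxyc 1 2
        rw [pow_one] at h3
        calc y ^ 2 * (x * y) = (y ^ 2 * x) * y := (mul_assoc _ _ _).symm
          _ = (x * y ^ 2) * y := by rw [← h3]
          _ = x * (y ^ 2 * y) := mul_assoc _ _ _
          _ = x * y ^ 3 := by rw [← pow_succ]
          _ = x := by rw [hd.y3, mul_one]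
  have hdisj : Disjoint
      (Finset.univ.filter (fun gh : G × G =>
        gh.1 * x * gh.1⁻¹ = j * x * j⁻¹ ∧ gh.2 * (x * y) * gh.2⁻¹ = j⁻¹ * (x * y) * j⁻¹⁻¹))
      (Finset.univ.filter (fun gh : G × G =>
        gh.1 * x * gh.1⁻¹ = j⁻¹ * x * j⁻¹⁻¹ ∧
          gh.2 * (x * y) * gh.2⁻¹ = (1 : G) * (x * y) * (1 : G)⁻¹)) := by
    rw [Finset.disjoint_filter]
    rintro ⟨g, h⟩ - ⟨h1, -⟩ ⟨h2, -⟩
    simp only at h1 h2
    rw [h1, hA1, hjix] at h2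
    have h5 := (hinj h2).2
    rw [hyi] at h5
    omega
  rw [hsplit, Finset.card_union_of_disjoint hdisj,
    Cfsg.Agent.Helper48.S3S3.card_conj_pair x (x * y) j j⁻¹,
    Cfsg.Agent.Helper48.S3S3.card_conj_pair x (x * y) j⁻¹ 1, hcx, hcz]

end Cfsg.Agent.Helper67.A6GB2
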