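import Mathlib
import Cfsg.Agent.Helper23.ZStarGen

set_option autoImplicit false

/-!
# Automorphisms centralising an abelian Sylow `2`-subgroup (helper67)

Abstract form of S4593.  `Γ = I⟨a⟩` with `I` normal, `Q₀` an abelian "Sylow `2`-subgroup of `I`"
centralised by the `2`-element `a`, `O(Γ) = 1 = Z(Γ)`.  Then `a ∈ I`.

Proof: `Q = Q₀⟨a⟩` is an abelian Sylow `2`-subgroup of `Γ`.  Averaging `a` over the (odd order)
image `K` of `N_Γ(Q)` in `Aut Q` gives `β ∈ C_Q(N_Γ(Q))` with `β ≡ a ^ |K|` modulo `I`.  By Burnside's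
fusion theorem all powers of `β` are isolated in `Q`, so the Z*-theorem for `2`-elements
(`Helper23.ZStarCons.gz_core`) puts `β` in `Z(Γ) = 1`.  Hence `a ^ |K| ∈ I` and, `|K|` being odd,
`a ∈ I`.
-/

namespace Cfsg.Agent.Helper67.AbSylAut

open scoped IsMulCommutative
open Cfsg.Agent.Helper23.ZStarCons

universe u

section Abstract

variable {Γ : Type u} [Group Γ] [Finite Γ]

theorem mem_of_abelian_sylow (hZ : ZStarStatement.{u})
    (I : Subgroup Γ) [hI : I.Normal] (a : Γ)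
    (hgen : ∀ g : Γ, ∃ i ∈ I, ∃ k : ℤ, g = i * a ^ k)
    (Q₀ : Subgroup Γ) (hQ₀I : Q₀ ≤ I) (hQ₀2 : IsPGroup 2 Q₀)
    (hQ₀max : ∀ R : Subgroup Γ, IsPGroup 2 R → Q₀ ≤ R → R ≤ I → R = Q₀)
    (hQ₀comm : ∀ x ∈ Q₀, ∀ y ∈ Q₀, x * y = y * x)
    (hacomm : ∀ x ∈ Q₀, a * x = x * a)
    (ha2 : ∃ j : ℕ, a ^ 2 ^ j = 1)
    (hcore : Cfsg.oddCore Γ = ⊥) (hcen : Subgroup.center Γ = ⊥) : a ∈ I := by
  classical
  have : Fact (Nat.Prime 2) := ⟨Nat.prime_two⟩
  obtain ⟨j, hj⟩ := ha2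
  -- the abelian Sylow subgroup `Q = Q₀⟨a⟩`
  set Q : Subgroup Γ := Subgroup.closure ((Q₀ : Set Γ) ∪ {a}) with hQdef
  have hQ₀Q : Q₀ ≤ Q := fun x hx => Subgroup.subset_closure (Or.inl hx)
  have haQ : a ∈ Q := Subgroup.subset_closure (Or.inr rfl)
  have hQcomm : IsMulCommutative Q := Subgroup.isMulCommutative_closure (by
    rintro x (hx | hx) y (hy | hy)
    · exact hQ₀comm x hx y hy
    · rw [Set.mem_singleton_iff.mp hy]; exact (hacomm x hx).symm
    · rw [Set.mem_singleton_iff.mp hx]; exact hacomm y hy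
    · rw [Set.mem_singleton_iff.mp hx, Set.mem_singleton_iff.mp hy])
  have hQeq : Q = Q₀ ⊔ Subgroup.zpowers a := by
    rw [hQdef, Subgroup.closure_union, Subgroup.closure_eq, Subgroup.zpowers_eq_closure]
  have hza2 : IsPGroup 2 (Subgroup.zpowers a) := by
    rintro ⟨g, hg⟩
    obtain ⟨m, rfl⟩ := Subgroup.mem_zpowers_iff.mp hg
    refine ⟨j, Subtype.ext ?_⟩
    show (a ^ m) ^ 2 ^ j = 1
    rw [← zpow_natCast, ← zpow_mul, mul_comm, zpow_mul, zpow_natCast, hj, one_zpow]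
  have hQ2 : IsPGroup 2 Q := by
    rw [hQeq]
    refine IsPGroup.to_sup_of_normal_right' hQ₀2 hza2 ?_
    refine le_trans ?_ (Subgroup.centralizer_le_normalizer _)
    intro x hx
    rw [Subgroup.mem_centralizer_iff]
    intro h hh
    obtain ⟨m, rfl⟩ := Subgroup.mem_zpowers_iff.mp hh
    exact ((Commute.zpow_left (hacomm x hx) m)).eq
  let S : Sylow 2 Γ :=
    { toSubgroup := Q
      isPGroup' := hQ2
      is_maximal' := by
        intro R hR hQR
        have h1 : R ⊓ I = Q₀ := hQ₀max (R ⊓ I) (hR.to_le inf_le_left)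
          (le_inf (hQ₀Q.trans hQR) hQ₀I) inf_le_right
        refine le_antisymm ?_ hQR
        intro r hr
        obtain ⟨i, hi, k, rfl⟩ := hgen r
        have hak : a ^ k ∈ Q := Q.zpow_mem haQ k
        have hiR : i ∈ R := by
          have := R.mul_mem hr (R.inv_mem (hQR hak))
          simpa using this
        have hiQ₀ : i ∈ Q₀ := by rw [← h1]; exact ⟨hiR, hi⟩
        exact Q.mul_mem (hQ₀Q hiQ₀) hak }
  have hSQ : (S : Subgroup Γ) = Q := rfl
  have hScomm : IsMulCommutative (S : Subgroup Γ) := hQcomm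
  -- the image `K` of `N(Q)` in `Aut Q` has odd order
  set K : Subgroup (MulAut Q) := (Subgroup.normalizerMonoidHom Q).range with hKdef
  have hKodd : Odd (Nat.card K) := by
    rw [hKdef, ← Subgroup.index_ker, Subgroup.normalizerMonoidHom_ker]
    have h2 : (Subgroup.centralizer (Q : Set Γ)).relIndex (Subgroup.normalizer (Q : Set Γ)) ∣
        Q.relIndex (Subgroup.normalizer (Q : Set Γ)) :=
      Subgroup.relIndex_dvd_of_le_left _ (Subgroup.le_centralizer Q)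
    have h3 : Q.relIndex (Subgroup.normalizer (Q : Set Γ)) ∣ Q.index :=
      Subgroup.relIndex_dvd_index_of_le Subgroup.le_normalizer
    have h4 : ¬ 2 ∣ (S : Subgroup Γ).index := S.not_dvd_index
    rw [hSQ] at h4
    rw [← Nat.not_even_iff_odd, even_iff_two_dvd]
    intro h5
    exact h4 ((h5.trans h2).trans h3)
  -- averaging
  let _ : Fintype K := Fintype.ofFinite K
  set x₀ : Q := ⟨a, haQ⟩ with hx₀
  set β : Q := ∏ φ : K, (φ : MulAut Q) x₀ with hβdef
  have hβfix : ∀ n : Subgroup.normalizer (Q : Set Γ), Subgroup.normalizerMonoidHom Q n β = β := by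
    intro n
    set ψ : K := ⟨Subgroup.normalizerMonoidHom Q n, ⟨n, rfl⟩⟩ with hψ
    show (ψ : MulAut Q) β = β
    rw [hβdef, map_prod]
    exact Fintype.prod_equiv (Equiv.mulLeft ψ) _ _ (fun φ => rfl)
  have hβfix' : ∀ n ∈ Subgroup.normalizer (Q : Set Γ), n * (β : Γ) * n⁻¹ = β := by
    intro n hn
    exact congrArg Subtype.val (hβfix ⟨n, hn⟩)
  -- `β ≡ a ^ |K|` modulo `I`
  have hrel : ((β : Q) : Γ) * (((∏ _φ : K, x₀ : Q) : Q) : Γ)⁻¹ ∈ I := by
    rw [hβdef]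
    refine Finset.prod_hom_rel (r := fun b c : Q => (b : Γ) * (c : Γ)⁻¹ ∈ I) ?_ ?_
    · simp
    · rintro ⟨_, n, rfl⟩ b c hbc
      show ((n : Γ) * a * (n : Γ)⁻¹ * (b : Γ)) * (a * (c : Γ))⁻¹ ∈ I
      obtain ⟨i, hi, k, hk⟩ := hgen (n : Γ)
      have h1 : (n : Γ) * a * (n : Γ)⁻¹ * a⁻¹ ∈ I := by
        rw [hk]
        have : i * a ^ k * a * (i * a ^ k)⁻¹ * a⁻¹ = i * (a * i⁻¹ * a⁻¹) := by
          have hc : a ^ k * a = a * a ^ k := ((Commute.refl a).zpow_left k).eq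
          rw [mul_inv_rev, mul_assoc i, hc]
          group
        rw [this]
        exact I.mul_mem hi (hI.conj_mem _ (I.inv_mem hi) a)
      have h2 : ((n : Γ) * a * (n : Γ)⁻¹ * (b : Γ)) * (a * (c : Γ))⁻¹ =
          ((n : Γ) * a * (n : Γ)⁻¹ * a⁻¹) * (a * ((b : Γ) * (c : Γ)⁻¹) * a⁻¹) := by group
      rw [h2]
      exact I.mul_mem h1 (hI.conj_mem _ hbc a)
  -- all powers of `β` are isolated in `Q` (Burnside)
  have hβS : (β : Γ) ∈ (S : Subgroup Γ) := β.2
  have hiso : ∀ m : ℕ, IsoIn (S : Subgroup Γ) ((β : Γ) ^ m) := by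
    intro m g hg
    have hx : (β : Γ) ^ m ∈ S := Subgroup.pow_mem _ hβS m
    obtain ⟨n, hn, hn'⟩ := S.conj_eq_normalizer_conj_of_mem ((β : Γ) ^ m) g⁻¹ hx
      (by rw [inv_inv]; exact hg)
    rw [inv_inv] at hn'
    rw [hn']
    have h1 := hβfix' n⁻¹ (Subgroup.inv_mem _ hn)
    rw [inv_inv] at h1
    have h2 : n⁻¹ * (β : Γ) ^ m * n = (n⁻¹ * (β : Γ) * n) ^ m := by
      have := conj_pow (a := n⁻¹) (b := (β : Γ)) (i := m)
      rw [inv_inv] at this
      exact this.symm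
    rw [h2, h1]
  obtain ⟨k, hk⟩ := hQ2 β
  have hβk : (β : Γ) ^ 2 ^ k = 1 := by
    have := congrArg Subtype.val hk
    simpa using this
  have hβcen : (β : Γ) ∈ Subgroup.center Γ := gz_core hZ hcore S k (β : Γ) hβS hβk hiso
  rw [hcen, Subgroup.mem_bot] at hβcen
  -- conclusion
  rw [hβcen, one_mul, Finset.prod_const, Finset.card_univ, inv_mem_iff] at hrel
  have h1 : (QuotientGroup.mk' I a) ^ Fintype.card K = 1 := by
    rw [← map_pow]
    exact (QuotientGroup.eq_one_iff _).mpr hrel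
  have h2 : (QuotientGroup.mk' I a) ^ 2 ^ j = 1 := by
    rw [← map_pow, hj, map_one]
  have h3 := pow_gcd_eq_one.mpr ⟨h1, h2⟩
  have h4 : Nat.gcd (Fintype.card K) (2 ^ j) = 1 := by
    rw [← Nat.card_eq_fintype_card]
    exact Nat.Coprime.pow_right j (Nat.coprime_two_right.mpr hKodd)
  rw [h4, pow_one] at h3
  exact (QuotientGroup.eq_one_iff a).mp h3

end Abstract

section Embedding

variable {G Γ : Type u} [Group G] [Finite G] [Group Γ] [Finite Γ]

/-- Embedded form: `G` sits in `Γ = G⟨a⟩` as a normal subgroup with trivial centraliser. -/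
theorem mem_range_of_abelian_sylow (hZ : ZStarStatement.{u})
    (ι : G →* Γ) (hι : Function.Injective ι) [hn : ι.range.Normal]
    (hC : ∀ γ : Γ, (∀ g : G, γ * ι g = ι g * γ) → γ = 1)
    (a : Γ) (hgen : ∀ γ : Γ, ∃ g : G, ∃ k : ℤ, γ = ι g * a ^ k)
    (P : Sylow 2 G) (hab : IsMulCommutative (P : Subgroup G))
    (haP : ∀ x ∈ (P : Subgroup G), a * ι x = ι x * a) (ha2 : ∃ j : ℕ, a ^ 2 ^ j = 1)
    (hcore : Cfsg.pPrimeCore 2 G = ⊥) : a ∈ ι.range := by
  have hcen : Subgroup.center Γ = ⊥ := by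
    rw [eq_bot_iff]
    intro z hz
    rw [Subgroup.mem_bot]
    exact hC z (fun g => ((Subgroup.mem_center_iff.mp hz) (ι g)).symm)
  have hcoreΓ : Cfsg.oddCore Γ = ⊥ := by
    rw [eq_bot_iff]
    refine sSup_le ?_
    rintro N ⟨hN, hNodd⟩
    have h1 : N.comap ι ≤ Cfsg.pPrimeCore 2 G := by
      refine Cfsg.Agent.Lib.le_pPrimeCore (hN.comap ι) ?_
      refine Nat.Coprime.coprime_dvd_left ?_ hNodd
      rw [← Subgroup.card_map_of_injective hι]
      exact Subgroup.card_dvd_of_le (Subgroup.map_comap_le ι N)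
    rw [hcore] at h1
    intro n hnN
    rw [Subgroup.mem_bot]
    refine hC n (fun g => ?_)
    have hcN : n * ι g * n⁻¹ * (ι g)⁻¹ ∈ N := by
      have : n * ι g * n⁻¹ * (ι g)⁻¹ = n * (ι g * n⁻¹ * (ι g)⁻¹) := by group
      rw [this]
      exact N.mul_mem hnN (hN.conj_mem _ (N.inv_mem hnN) _)
    have hcR : n * ι g * n⁻¹ * (ι g)⁻¹ ∈ ι.range :=
      ι.range.mul_mem (hn.conj_mem _ ⟨g, rfl⟩ n) (ι.range.inv_mem ⟨g, rfl⟩)
    obtain ⟨h, hh⟩ := hcR
    have hh1 : h ∈ N.comap ι := by rw [Subgroup.mem_comap, hh]; exact hcN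
    have hh2 : h = 1 := (Subgroup.mem_bot).mp (h1 hh1)
    rw [hh2, map_one] at hh
    have : n * ι g * n⁻¹ = ι g := by
      have := congrArg (· * ι g) hh
      simpa using this.symm
    calc n * ι g = (n * ι g * n⁻¹) * n := by group
      _ = ι g * n := by rw [this]
  refine mem_of_abelian_sylow hZ ι.range a ?_ ((P : Subgroup G).map ι) ?_ ?_ ?_ ?_ ?_ ha2 hcoreΓ hcen
  · intro γ
    obtain ⟨g, k, hk⟩ := hgen γ
    exact ⟨ι g, ⟨g, rfl⟩, k, hk⟩
  · exact Subgroup.map_le_range ι _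
  · exact P.2.map ι
  · intro R hR hPR hRI
    have h1 : IsPGroup 2 (R.comap ι) := hR.comap_of_injective ι hι
    have h2 : (P : Subgroup G) ≤ R.comap ι := Subgroup.map_le_iff_le_comap.mp hPR
    have h3 : R.comap ι = (P : Subgroup G) := P.is_maximal' h1 h2
    rw [← h3, Subgroup.map_comap_eq_self hRI]
  · rintro _ ⟨x, hx, rfl⟩ _ ⟨y, hy, rfl⟩
    rw [← map_mul, ← map_mul, setLike_mul_comm hx hy]
  · rintro _ ⟨x, hx, rfl⟩
    exact haP x hx

end Embedding

section Concrete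

variable {G : Type u} [Group G] [Finite G]

theorem conj_conj (φ : MulAut G) (g : G) : φ * MulAut.conj g * φ⁻¹ = MulAut.conj (φ g) := by
  ext x
  simp [MulAut.mul_apply, MulAut.conj_apply, MulAut.inv_apply]

theorem inner_of_fix (hZ : ZStarStatement.{u})
    (hZG : Subgroup.center G = ⊥) (hcore : Cfsg.pPrimeCore 2 G = ⊥) (P : Sylow 2 G)
    (hab : IsMulCommutative (P : Subgroup G)) (α : MulAut G) (h2 : ∃ j : ℕ, orderOf α = 2 ^ j)
    (hfix : ∀ x ∈ (P : Subgroup G), α x = x) : ∃ g : G, ∀ x : G, α x = g * x * g⁻¹ := by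
  have hinj : Function.Injective (MulAut.conj : G →* MulAut G) := by
    intro g h hgh
    have h1 : h⁻¹ * g ∈ Subgroup.center G := by
      rw [Subgroup.mem_center_iff]
      intro x
      have h3 := DFunLike.congr_fun hgh x
      simp only [MulAut.conj_apply] at h3
      -- `g * x * g⁻¹ = h * x * h⁻¹`
      calc x * (h⁻¹ * g) = h⁻¹ * (h * x * h⁻¹) * g := by group
        _ = h⁻¹ * (g * x * g⁻¹) * g := by rw [h3]
        _ = h⁻¹ * g * x := by group
    rw [hZG, Subgroup.mem_bot] at h1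
    have : g = h * (h⁻¹ * g) := by group
    rw [this, h1, mul_one]
  set Inn : Subgroup (MulAut G) := (MulAut.conj : G →* MulAut G).range with hInn
  have hInnN : Inn.Normal := by
    constructor
    rintro _ ⟨g, rfl⟩ φ
    exact ⟨φ g, (conj_conj φ g).symm⟩
  set Γ₀ : Subgroup (MulAut G) := Inn ⊔ Subgroup.zpowers α with hΓ₀
  have hle : ∀ g : G, MulAut.conj g ∈ Γ₀ := fun g => (le_sup_left : Inn ≤ Γ₀) ⟨g, rfl⟩
  let ι : G →* Γ₀ := (MulAut.conj : G →* MulAut G).codRestrict Γ₀ hle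
  have hιval : ∀ g : G, ((ι g : Γ₀) : MulAut G) = MulAut.conj g := fun g => rfl
  let a : Γ₀ := ⟨α, (le_sup_right : Subgroup.zpowers α ≤ Γ₀) (Subgroup.mem_zpowers α)⟩
  have hιinj : Function.Injective ι := by
    intro g h hgh
    exact hinj (congrArg Subtype.val hgh)
  have hconjι : ∀ (γ : Γ₀) (g : G), γ * ι g * γ⁻¹ = ι ((γ : MulAut G) g) := by
    intro γ g
    apply Subtype.ext
    exact conj_conj (γ : MulAut G) g
  have hn : ι.range.Normal := by
    constructor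
    rintro _ ⟨g, rfl⟩ γ
    exact ⟨(γ : MulAut G) g, (hconjι γ g).symm⟩
  have hC : ∀ γ : Γ₀, (∀ g : G, γ * ι g = ι g * γ) → γ = 1 := by
    intro γ hγ
    apply Subtype.ext
    apply MulEquiv.ext
    intro g
    have h1 : ι ((γ : MulAut G) g) = ι g := by
      rw [← hconjι, hγ g, mul_inv_cancel_right]
    exact hιinj h1
  have hgen : ∀ γ : Γ₀, ∃ g : G, ∃ k : ℤ, γ = ι g * a ^ k := by
    intro γ
    obtain ⟨y, ⟨g, rfl⟩, z, hz, hyz⟩ := (Subgroup.mem_sup_of_normal_left).mp γ.2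
    obtain ⟨k, rfl⟩ := Subgroup.mem_zpowers_iff.mp hz
    refine ⟨g, k, Subtype.ext ?_⟩
    rw [← hyz]
    simp [ι, a]
  have haP : ∀ x ∈ (P : Subgroup G), a * ι x = ι x * a := by
    intro x hx
    have h1 := hconjι a x
    have h3 : ((a : Γ₀) : MulAut G) x = x := hfix x hx
    rw [h3] at h1
    calc a * ι x = (a * ι x * a⁻¹) * a := by group
      _ = ι x * a := by rw [h1]
  have ha2 : ∃ j : ℕ, a ^ 2 ^ j = 1 := by
    obtain ⟨j, hj⟩ := h2
    refine ⟨j, Subtype.ext ?_⟩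
    show α ^ 2 ^ j = 1
    rw [← hj, pow_orderOf_eq_one]
  obtain ⟨g, hg⟩ := mem_range_of_abelian_sylow hZ ι hιinj hC a hgen P hab haP ha2 hcore
  refine ⟨g, fun x => ?_⟩
  have h1 : (MulAut.conj g : MulAut G) = α := congrArg Subtype.val hg
  rw [← h1, MulAut.conj_apply]

end Concrete

end Cfsg.Agent.Helper67.AbSylAut
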