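import Cfsg.Agent.Helper57.BP.PartI

/-!
# S4705 (helper16), piece (P08) exists_conj_eq_mul
-/

set_option autoImplicit false

namespace Cfsg.Agent.Helper67.B66

open Cfsg Cfsg.Agent.Helper16 Cfsg.Agent.Helper16.DefOne Cfsg.Agent.Helper82.DefOne
  Cfsg.Agent.Helper77.DefOne Cfsg.Agent.Helper57.BH Cfsg.Agent.Helper57.BP
open scoped ComplexConjugate

universe u

variable {G : Type u} [Group G] [Fintype G] {p : ℕ} [Fact p.Prime] (P : Sylow p G)

/-- (P08) the coset `P t` consists of `P`-conjugates of `t` -/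
theorem exists_conj_eq_mul (hP : Nat.card P = p) (hp2 : 2 < p) (t : G)
    (hinv : ∀ x : G, x ∈ (P : Subgroup G) → t * x * t⁻¹ = x⁻¹)
    (x : G) (hx : x ∈ (P : Subgroup G)) :
    ∃ y : G, y ∈ (P : Subgroup G) ∧ y * t * y⁻¹ = x * t := by
  have hpp : p.Prime := Fact.out
  have hodd : Odd p := hpp.odd_of_ne_two (by omega)
  obtain ⟨k, hk⟩ := hodd
  have hxp : x ^ p = 1 := by
    have h1 : (⟨x, hx⟩ : (P : Subgroup G)) ^ Nat.card (P : Subgroup G) = 1 := pow_card_eq_one'
    have h2 : Nat.card (P : Subgroup G) = p := hP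
    rw [h2] at h1
    exact congrArg Subtype.val h1
  refine ⟨x ^ (k + 1), Subgroup.pow_mem _ hx _, ?_⟩
  set y := x ^ (k + 1) with hy
  have hyP : y ∈ (P : Subgroup G) := Subgroup.pow_mem _ hx _
  have hyy : y * y = x := by
    rw [hy, ← pow_add, show k + 1 + (k + 1) = p + 1 by omega, pow_succ, hxp, one_mul]
  have h1 := hinv y⁻¹ (Subgroup.inv_mem _ hyP)
  rw [inv_inv] at h1
  calc y * t * y⁻¹ = y * (t * y⁻¹ * t⁻¹) * t := by group
    _ = x * t := by rw [h1, hyy]

end Cfsg.Agent.Helper67.B66
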