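import Mathlib
import Cfsg.Agent.Helper78.Brandt.Defs

/-!
helper67 (for helper78, WANTED #6392 (B-R2), S4607): the trace map onto the cocenter of a corner
`e A e` when `A e A = A`.
-/

set_option autoImplicit false
set_option linter.unusedSectionVars false
set_option linter.unusedVariables false

namespace Cfsg.Agent.Helper67.BrandtR2

open Module Cfsg.Agent.Helper78.Brandt

variable {k : Type*} [Field k] {A : Type*} [Ring A] [Algebra k A]

/-- the trace map `a ↦ ∑ i, e yᵢ a xᵢ e` -/
noncomputable def trMap (e : A) {ι : Type*} [Fintype ι] (x y : ι → A) : A →ₗ[k] A :=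
  ∑ i, (LinearMap.mulLeft k (e * y i)).comp (LinearMap.mulRight k (x i * e))

theorem trMap_apply (e : A) {ι : Type*} [Fintype ι] (x y : ι → A) (a : A) :
    trMap (k := k) e x y a = ∑ i, e * y i * (a * (x i * e)) := by
  simp [trMap, LinearMap.sum_apply, mul_assoc]

theorem gen_mem (e a b : A) :
    (e * a * e) * (e * b * e) - (e * b * e) * (e * a * e) ∈ cornerCommSpan k e :=
  Submodule.subset_span ⟨a, b, rfl⟩

/-- (1) the trace map sends additive commutators into the commutator span of the corner -/
theorem trMap_comm_mem (e : A) (he : IsIdempotentElem e) {ι : Type*} [Fintype ι] (x y : ι → A)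
    (hxy : ∑ i, x i * e * y i = 1) (a b : A) :
    trMap (k := k) e x y (a * b - b * a) ∈ cornerCommSpan k e := by
  have he' : ∀ z : A, e * (e * z) = e * z := fun z => by rw [← mul_assoc, he.eq]
  have h1 : trMap (k := k) e x y (a * b) =
      ∑ i, ∑ j, (e * (y i * a * x j) * e) * (e * (y j * b * x i) * e) := by
    rw [trMap_apply]
    apply Finset.sum_congr rfl
    intro i _
    have : a * b = ∑ j, a * (x j * e * y j) * b := by
      rw [← Finset.sum_mul, ← Finset.mul_sum, hxy, mul_one]
    rw [this, Finset.sum_mul, Finset.mul_sum]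
    apply Finset.sum_congr rfl
    intro j _
    simp only [mul_assoc, he']
  have h2 : trMap (k := k) e x y (b * a) =
      ∑ i, ∑ j, (e * (y j * b * x i) * e) * (e * (y i * a * x j) * e) := by
    rw [trMap_apply, Finset.sum_comm]
    apply Finset.sum_congr rfl
    intro j _
    have : b * a = ∑ i, b * (x i * e * y i) * a := by
      rw [← Finset.sum_mul, ← Finset.mul_sum, hxy, mul_one]
    rw [this, Finset.sum_mul, Finset.mul_sum]
    apply Finset.sum_congr rfl
    intro i _
    simp only [mul_assoc, he']
  rw [map_sub, h1, h2, ← Finset.sum_sub_distrib]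
  apply Submodule.sum_mem
  intro i _
  rw [← Finset.sum_sub_distrib]
  apply Submodule.sum_mem
  intro j _
  exact gen_mem e _ _

theorem trMap_commSpan_le (e : A) (he : IsIdempotentElem e) {ι : Type*} [Fintype ι] (x y : ι → A)
    (hxy : ∑ i, x i * e * y i = 1) :
    commSpan k A ≤ (cornerCommSpan k e).comap (trMap (k := k) e x y) := by
  unfold commSpan
  rw [Submodule.span_le]
  rintro _ ⟨a, b, rfl⟩
  exact trMap_comm_mem e he x y hxy a b

/-- (2) on the corner, the trace map is the identity modulo commutators -/
theorem trMap_sub_self_mem (e : A) (he : IsIdempotentElem e) {ι : Type*} [Fintype ι] (x y : ι → A)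
    (hxy : ∑ i, x i * e * y i = 1) (a : A) :
    trMap (k := k) e x y (e * (a * e)) - e * (a * e) ∈ cornerCommSpan k e := by
  have he' : ∀ z : A, e * (e * z) = e * z := fun z => by rw [← mul_assoc, he.eq]
  have h1 : trMap (k := k) e x y (e * (a * e)) =
      ∑ i, (e * y i * e) * (e * (a * e * x i) * e) := by
    rw [trMap_apply]
    apply Finset.sum_congr rfl
    intro i _
    simp only [mul_assoc, he']
  have h2 : e * (a * e) = ∑ i, (e * (a * e * x i) * e) * (e * y i * e) := by
    have : e * (a * e) = ∑ i, e * (a * e) * (x i * e * y i) * e := by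
      rw [← Finset.sum_mul, ← Finset.mul_sum, hxy, mul_one, mul_assoc, mul_assoc, he.eq]
    rw [this]
    apply Finset.sum_congr rfl
    intro i _
    simp only [mul_assoc, he']
  rw [h1]
  rw [h2, ← Finset.sum_sub_distrib]
  apply Submodule.sum_mem
  intro i _
  exact gen_mem e _ _

/-- **(B-R2)** the trace map `A → e A e / [e A e, e A e]` (exact skeleton signature). -/
theorem finrank_cornerSpace_add_finrank_commSpan_le [FiniteDimensional k A] (e : A)
    (he : IsIdempotentElem e) {ι : Type*} [Fintype ι] (x y : ι → A)
    (hxy : ∑ i, x i * e * y i = 1) :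
    finrank k (cornerSpace k e) + finrank k (commSpan k A) ≤
      finrank k A + finrank k (cornerCommSpan k e) := by
  have hinf : cornerSpace k e ⊓ commSpan k A ≤ cornerCommSpan k e := by
    rintro w ⟨hw1, hw2⟩
    obtain ⟨a, rfl⟩ := mem_cornerSpace.1 hw1
    have hT : trMap (k := k) e x y (e * (a * e)) ∈ cornerCommSpan k e :=
      trMap_commSpan_le e he x y hxy hw2
    have hd := trMap_sub_self_mem (k := k) e he x y hxy a
    have : e * (a * e) = trMap (k := k) e x y (e * (a * e)) -
        (trMap (k := k) e x y (e * (a * e)) - e * (a * e)) := by abel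
    rw [this]
    exact Submodule.sub_mem _ hT hd
  have h1 := Submodule.finrank_sup_add_finrank_inf_eq (cornerSpace k e) (commSpan k A)
  have h2 : finrank k ↥(cornerSpace k e ⊔ commSpan k A) ≤ finrank k A := Submodule.finrank_le _
  have h3 : finrank k ↥(cornerSpace k e ⊓ commSpan k A) ≤ finrank k ↥(cornerCommSpan k e) :=
    Submodule.finrank_mono hinf
  omega

end Cfsg.Agent.Helper67.BrandtR2
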