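import Cfsg.Agent.Helper67.CEW8
import Cfsg.Agent.Helper67.Cyclic
import Cfsg.Agent.S5153

/-!
# (W7) for S5293: `p`-automorphisms of a normal subsystem extend trivially modulo the source

(helper67 for helper86, piece (W7) of board post #4500.)
-/

set_option autoImplicit false
set_option linter.unusedSectionVars false
set_option linter.unusedVariables false

namespace Cfsg.Agent.Helper67.CE

open Cfsg Cfsg.FusionSystem Cfsg.Agent.Helper87 Cfsg.Agent.Helper86.CE

variable {Ω : Type*} [Group Ω] {S : Subgroup Ω}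

/-- A strongly closed subgroup is normalized by `S`. -/
theorem conj_mem_of_stronglyClosed (F : FusionSystem S) {T : Subgroup Ω} (hT : F.StronglyClosed T)
    {s t : Ω} (hs : s ∈ S) (ht : t ∈ T) : s * t * s⁻¹ ∈ T :=
  hT.2 T le_rfl (conjHom T s) (F.conj_mem hT.1 hs) ⟨t, ht⟩

/-- Conjugation by an element `t ∈ T` inducing the automorphism `β` of `R` extends trivially
modulo `R` to `R ⊔ C_S(R)`, when `T` is strongly closed and `C_T(R) ≤ R`. -/
theorem trivExt_of_conj [Finite S] (F : FusionSystem S) {T R : Subgroup Ω}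
    (hT : F.StronglyClosed T) (hRT : R ≤ T) (hRc : centralizerIn T R ≤ R) (β : MulAut R) {t : Ω}
    (ht : t ∈ T) (hβ : ∀ x : R, ((β x : R) : Ω) = t * (x : Ω) * t⁻¹) :
    TrivExt F R (centralizerIn S R) β := by
  classical
  have hTS : T ≤ S := hT.1
  have htS : t ∈ S := hTS ht
  have hRS : R ≤ S := hRT.trans hTS
  have hCS : centralizerIn S R ≤ S := inf_le_left
  have hMS : R ⊔ centralizerIn S R ≤ S := sup_le hRS hCS
  have hRM : R ≤ R ⊔ centralizerIn S R := le_sup_left
  have hCM : centralizerIn S R ≤ R ⊔ centralizerIn S R := le_sup_right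
  -- `t⁻¹ r t ∈ R` for `r ∈ R`
  have hinv : ∀ r ∈ R, t⁻¹ * r * t ∈ R := by
    intro r hr
    have h1 := hβ (β⁻¹ ⟨r, hr⟩)
    rw [MulAut.apply_inv_self] at h1
    have h2 : t⁻¹ * r * t = ((β⁻¹ ⟨r, hr⟩ : R) : Ω) := by
      have h3 : (r : Ω) = t * ((β⁻¹ ⟨r, hr⟩ : R) : Ω) * t⁻¹ := h1
      generalize ((β⁻¹ ⟨r, hr⟩ : R) : Ω) = y at h3 ⊢
      rw [h3]; group
    rw [h2]
    exact (β⁻¹ ⟨r, hr⟩).2
  -- `t` maps `C_S(R)` into itself
  have hC : ∀ c ∈ centralizerIn S R, t * c * t⁻¹ ∈ centralizerIn S R := by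
    intro c hc
    refine ⟨S.mul_mem (S.mul_mem htS hc.1) (S.inv_mem htS), ?_⟩
    show t * c * t⁻¹ ∈ Subgroup.centralizer (R : Set Ω)
    rw [Subgroup.mem_centralizer_iff]
    intro r hr
    have h1 := (Subgroup.mem_centralizer_iff.mp hc.2) (t⁻¹ * r * t) (hinv r hr)
    calc r * (t * c * t⁻¹) = t * ((t⁻¹ * r * t) * c) * t⁻¹ := by group
      _ = t * (c * (t⁻¹ * r * t)) * t⁻¹ := by rw [h1]
      _ = t * c * t⁻¹ * r := by group
  set θ : ↥(R ⊔ centralizerIn S R) →* Ω := conjHom (R ⊔ centralizerIn S R) t with hθdef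
  have hθ : θ ∈ F.Hom (R ⊔ centralizerIn S R) := F.conj_mem hMS htS
  have hθapply : ∀ n : ↥(R ⊔ centralizerIn S R), θ n = t * (n : Ω) * t⁻¹ := fun n => rfl
  have hθM : ∀ n : ↥(R ⊔ centralizerIn S R), θ n ∈ R ⊔ centralizerIn S R := by
    apply forall_mem_of_sup ((R ⊔ centralizerIn S R).comap θ)
    · intro n hn
      rw [Subgroup.mem_comap, hθapply]
      have := hβ ⟨(n : Ω), hn⟩
      rw [← this]
      exact hRM (β _).2
    · intro n hn
      rw [Subgroup.mem_comap, hθapply]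
      exact hCM (hC _ hn)
  have : Finite ↥(R ⊔ centralizerIn S R) :=
    Finite.of_injective (Subgroup.inclusion hMS) (Subgroup.inclusion_injective hMS)
  set θc : ↥(R ⊔ centralizerIn S R) →* ↥(R ⊔ centralizerIn S R) :=
    θ.codRestrict (R ⊔ centralizerIn S R) hθM with hθcdef
  have hinj : Function.Injective θc := by
    intro a b hab
    apply F.injective_of_mem hθ
    exact congrArg Subtype.val hab
  have hbij : Function.Bijective θc := Finite.injective_iff_bijective.mp hinj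
  refine ⟨MulEquiv.ofBijective θc hbij, ?_, ?_, ?_⟩
  · unfold IsIso
    exact mem_of_eq F hθ (fun x => rfl)
  · intro x
    show t * (x : Ω) * t⁻¹ = ((β x : R) : Ω)
    rw [hβ]
  · intro c hc
    show (c : Ω)⁻¹ * (t * (c : Ω) * t⁻¹) ∈ R
    apply hRc
    refine ⟨?_, ?_⟩
    · have h1 : (c : Ω)⁻¹ * t * ((c : Ω)⁻¹)⁻¹ ∈ T :=
        conj_mem_of_stronglyClosed F hT (S.inv_mem hc.1) ht
      have h2 : (c : Ω)⁻¹ * (t * (c : Ω) * t⁻¹) = ((c : Ω)⁻¹ * t * ((c : Ω)⁻¹)⁻¹) * t⁻¹ := by group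
      rw [h2]
      exact T.mul_mem h1 (T.inv_mem ht)
    · exact Subgroup.mul_mem _ (Subgroup.inv_mem _ hc.2) (hC _ hc).2

theorem trivExt_of_fullyNormalized [Finite S] {p : ℕ} [Fact p.Prime] (hS : IsPGroup p S)
    (F : FusionSystem S) (hF : F.IsSaturated p) {T : Subgroup Ω} (E : FusionSystem T)
    (hE : E.IsNormalIn F p) {R : Subgroup Ω} (hRT : R ≤ T) (hRn : F.IsFullyNormalized R)
    (hRc : centralizerIn T R ≤ R) (α : MulAut R) (hα : α ∈ E.autGroup R) (k : ℕ)
    (hk : orderOf α = p ^ k) : TrivExt F R (centralizerIn S R) α := by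
  classical
  have hTsc : F.StronglyClosed T := hE.1.2.2.2.1
  have hsub : E.IsSubsystemOf F := hE.1.2.2.1
  have hEsat : E.IsSaturated p := hE.1.1
  have hTS : T ≤ S := hTsc.1
  have hRS : R ≤ S := hRT.trans hTS
  have hfinT : Finite T := Finite.of_injective (Subgroup.inclusion hTS) (Subgroup.inclusion_injective hTS)
  have hfinR : Finite R := Finite.of_injective (Subgroup.inclusion hRS) (Subgroup.inclusion_injective hRS)
  have hTp : IsPGroup p T := hS.to_le hTS
  -- `R` is fully normalized, hence fully automized, in `E`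
  have hREn : E.IsFullyNormalized R :=
    Cfsg.Agent.S5153.result p hS F hF E (IsSubnormalIn.step (IsSubnormalIn.refl E p) hE) R hRT hRn
  obtain ⟨-, Syl, hSyl⟩ := (fullyAutomized_fullyCentralized_of_fullyNormalized hTp E hEsat hREn).2
  have hfinA : Finite (MulAut R) := MulEquiv.finite_left
  have hfinEA : Finite (E.autGroup R) := inferInstance
  -- `⟨α⟩` is a `p`-subgroup of `Aut_E(R)`
  set α' : E.autGroup R := ⟨α, hα⟩ with hα'
  have hoα' : orderOf α' = p ^ k := by
    rw [← hk, ← Subgroup.orderOf_coe]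
  have hZp : IsPGroup p (Subgroup.zpowers α') := by
    apply IsPGroup.of_card (n := k)
    rw [Nat.card_zpowers, hoα']
  obtain ⟨c, hc⟩ := Cfsg.Agent.Helper67.exists_conj_mem_sylow Syl hZp
  have hcα := hc α' (Subgroup.mem_zpowers α')
  rw [← SetLike.mem_coe, ← Sylow.coe_coe] at hcα
  have hcα2 : c * α' * c⁻¹ ∈ (autInducedBy T R).subgroupOf (E.autGroup R) := by
    rw [← hSyl]; exact hcα
  rw [Subgroup.mem_subgroupOf] at hcα2
  obtain ⟨t, ht, hβt⟩ := (mem_autInducedBy_iff T R _).mp hcα2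
  -- the conjugate `β = c α c⁻¹` extends trivially
  set δ : MulAut R := (c : MulAut R) with hδ
  have hβ : TrivExt F R (centralizerIn S R) (δ * α * δ⁻¹) :=
    trivExt_of_conj F hTsc hRT hRc (δ * α * δ⁻¹) ht hβt
  -- `δ` is an isomorphism of `F`
  have hδE : IsIso E (δ : R ≃* R) := (mem_autGroup_iff E hRT δ).mp c.2
  have hδF : IsIso F (δ : R ≃* R) := hsub R hδE
  -- transport back
  apply trivExt_transport hS F hF hRn (δ : R ≃* R) hδF α
  have hcongr : MulAut.congr (δ : R ≃* R) α = δ * α * δ⁻¹ := by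
    ext x
    rfl
  rw [hcongr]
  exact hβ

end Cfsg.Agent.Helper67.CE
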