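import Cfsg.Agent.Helper67.CEW6

/-!
# (W8) for S5293: transporting a trivial-modulo-source extension along an isomorphism of the system

(helper67 for helper86, piece (W8) of board post #4500.)
-/

set_option autoImplicit false
set_option linter.unusedSectionVars false
set_option linter.unusedVariables false

namespace Cfsg.Agent.Helper67.CE

open Cfsg Cfsg.FusionSystem Cfsg.Agent.Helper87 Cfsg.Agent.Helper86.CE

variable {Ω : Type*} [Group Ω] {S : Subgroup Ω}

/-- A subgroup of `A ⊔ B` containing the elements of `A` and those of `B` is everything. -/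
theorem forall_mem_of_sup {A B : Subgroup Ω} (T : Subgroup ↥(A ⊔ B))
    (hA : ∀ n : ↥(A ⊔ B), (n : Ω) ∈ A → n ∈ T) (hB : ∀ n : ↥(A ⊔ B), (n : Ω) ∈ B → n ∈ T) :
    ∀ n : ↥(A ⊔ B), n ∈ T := by
  have hle : A ⊔ B ≤ T.map (A ⊔ B).subtype := by
    apply sup_le
    · intro a ha
      exact ⟨⟨a, (le_sup_left : A ≤ A ⊔ B) ha⟩, hA _ ha, rfl⟩
    · intro b hb
      exact ⟨⟨b, (le_sup_right : B ≤ A ⊔ B) hb⟩, hB _ hb, rfl⟩
  intro n
  obtain ⟨t, ht, htn⟩ := hle n.2
  have : t = n := Subtype.ext htn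
  rw [← this]
  exact ht

theorem trivExt_transport [Finite S] {p : ℕ} [Fact p.Prime] (hS : IsPGroup p S)
    (F : FusionSystem S) (hF : F.IsSaturated p) {P R : Subgroup Ω} (hRn : F.IsFullyNormalized R)
    (γ : P ≃* R) (hγ : IsIso F γ) (φ : MulAut P)
    (h : TrivExt F R (centralizerIn S R) (MulAut.congr γ φ)) :
    TrivExt F P (centralizerIn S P) φ := by
  classical
  obtain ⟨γ', hγ', hγ'P, hγ'C⟩ := exists_extension_sup_centralizer hS F hF hRn γ hγ
  obtain ⟨eR, heR, heRP, heRC⟩ := h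
  -- notation
  have hPN : P ≤ P ⊔ centralizerIn S P := le_sup_left
  have hRN : R ≤ R ⊔ centralizerIn S R := le_sup_left
  have hCN : centralizerIn S R ≤ R ⊔ centralizerIn S R := le_sup_right
  -- Step A: `γ'` has values in `R ⊔ C_S(R)`
  have hA : ∀ n : ↥(P ⊔ centralizerIn S P), γ' n ∈ R ⊔ centralizerIn S R := by
    apply forall_mem_of_sup ((R ⊔ centralizerIn S R).comap γ')
    · intro n hn
      rw [Subgroup.mem_comap]
      have e1 : n = Subgroup.inclusion hPN ⟨(n : Ω), hn⟩ := Subtype.ext rfl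
      rw [e1, hγ'P]
      exact hRN (γ _).2
    · intro n hn
      rw [Subgroup.mem_comap]
      exact hCN (hγ'C n hn)
  -- Step B: the composite `e_R ∘ γ'`
  set χ : ↥(P ⊔ centralizerIn S P) →* Ω :=
    ((R ⊔ centralizerIn S R).subtype.comp eR.toMonoidHom).comp
      (γ'.codRestrict (R ⊔ centralizerIn S R) hA) with hχdef
  have hχ : χ ∈ F.Hom (P ⊔ centralizerIn S P) := F.comp_mem hγ' heR hA
  have hχapply : ∀ n : ↥(P ⊔ centralizerIn S P),
      χ n = ((eR ⟨γ' n, hA n⟩ : ↥(R ⊔ centralizerIn S R)) : Ω) := fun n => rfl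
  -- values of `χ` on `P`
  have hC1 : ∀ x : P, χ (Subgroup.inclusion hPN x) = γ' (Subgroup.inclusion hPN (φ x)) := by
    intro x
    rw [hχapply]
    have e1 : (⟨γ' (Subgroup.inclusion hPN x), hA _⟩ : ↥(R ⊔ centralizerIn S R)) =
        Subgroup.inclusion hRN (γ x) := Subtype.ext (hγ'P x)
    rw [e1, heRP, hγ'P]
    show ((γ (φ (γ.symm (γ x))) : R) : Ω) = ((γ (φ x) : R) : Ω)
    rw [MulEquiv.symm_apply_apply]
  -- values of `χ` on `C_S(P)`
  have hC2 : ∀ n : ↥(P ⊔ centralizerIn S P), (n : Ω) ∈ centralizerIn S P →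
      ∃ x₀ : P, χ n = γ' (n * Subgroup.inclusion hPN x₀) := by
    intro n hn
    have hd : γ' n ∈ centralizerIn S R := hγ'C n hn
    have hr := heRC ⟨γ' n, hA n⟩ hd
    refine ⟨γ.symm ⟨_, hr⟩, ?_⟩
    rw [map_mul, hγ'P, MulEquiv.apply_symm_apply, hχapply]
    show _ = γ' n * ((γ' n)⁻¹ * ((eR ⟨γ' n, hA n⟩ : ↥(R ⊔ centralizerIn S R)) : Ω))
    rw [mul_inv_cancel_left]
  -- Step C: `χ` has values in the image of `γ'`
  have hC : ∀ n : ↥(P ⊔ centralizerIn S P), χ n ∈ γ'.range := by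
    apply forall_mem_of_sup (γ'.range.comap χ)
    · intro n hn
      rw [Subgroup.mem_comap]
      have e1 : n = Subgroup.inclusion hPN ⟨(n : Ω), hn⟩ := Subtype.ext rfl
      rw [e1, hC1]
      exact ⟨_, rfl⟩
    · intro n hn
      rw [Subgroup.mem_comap]
      obtain ⟨x₀, hx₀⟩ := hC2 n hn
      rw [hx₀]
      exact ⟨_, rfl⟩
  -- Step D: compose with the inverse of `γ'`
  obtain ⟨ψinv, hψinv, hψinv'⟩ := F.inv_mem hγ'
  set θ : ↥(P ⊔ centralizerIn S P) →* Ω := ψinv.comp (χ.codRestrict γ'.range hC) with hθdef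
  have hθ : θ ∈ F.Hom (P ⊔ centralizerIn S P) := F.comp_mem hχ hψinv hC
  have hθval : ∀ (n m : ↥(P ⊔ centralizerIn S P)), χ n = γ' m → θ n = (m : Ω) := by
    intro n m hnm
    have e1 : (χ.codRestrict γ'.range hC) n = ⟨γ' m, ⟨m, rfl⟩⟩ := Subtype.ext hnm
    show ψinv ((χ.codRestrict γ'.range hC) n) = (m : Ω)
    rw [e1, hψinv']
  have hθN : ∀ n : ↥(P ⊔ centralizerIn S P), θ n ∈ P ⊔ centralizerIn S P := by
    intro n
    obtain ⟨m, hm⟩ := hC n
    rw [hθval n m hm.symm]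
    exact m.2
  -- Step E: `θ` is an automorphism of `P ⊔ C_S(P)`
  have hNS : P ⊔ centralizerIn S P ≤ S := (F.le_of_mem hγ').1
  have : Finite ↥(P ⊔ centralizerIn S P) :=
    Finite.of_injective (Subgroup.inclusion hNS) (Subgroup.inclusion_injective hNS)
  set θc : ↥(P ⊔ centralizerIn S P) →* ↥(P ⊔ centralizerIn S P) :=
    θ.codRestrict (P ⊔ centralizerIn S P) hθN with hθcdef
  have hinj : Function.Injective θc := by
    intro a b hab
    apply F.injective_of_mem hθ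
    exact congrArg Subtype.val hab
  have hbij : Function.Bijective θc := Finite.injective_iff_bijective.mp hinj
  set e : ↥(P ⊔ centralizerIn S P) ≃* ↥(P ⊔ centralizerIn S P) :=
    MulEquiv.ofBijective θc hbij with hedef
  have heapply : ∀ n : ↥(P ⊔ centralizerIn S P), ((e n : ↥(P ⊔ centralizerIn S P)) : Ω) = θ n :=
    fun n => rfl
  refine ⟨e, ?_, ?_, ?_⟩
  · unfold IsIso
    exact mem_of_eq F hθ (fun x => rfl)
  · intro x
    rw [heapply, hθval _ _ (hC1 x)]
    rfl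
  · intro c hc
    obtain ⟨x₀, hx₀⟩ := hC2 c hc
    rw [heapply, hθval _ _ hx₀]
    show (c : Ω)⁻¹ * ((c : Ω) * (x₀ : Ω)) ∈ P
    rw [inv_mul_cancel_left]
    exact x₀.2

end Cfsg.Agent.Helper67.CE
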