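import Mathlib
import Cfsg.Agent.Helper67.Cyclic

set_option autoImplicit false

/-!
Conjugates of subgroups, in the form produced by `Subgroup.map (MulAut.conj g).toMonoidHom`,
and Sylow's theorem inside a subgroup stated with them.
-/

namespace Cfsg.Agent.Helper67

variable {G : Type*} [Group G]

/-- The conjugate `g X g⁻¹` of a subgroup. -/
def cj (g : G) (X : Subgroup G) : Subgroup G := X.map (MulAut.conj g).toMonoidHom

theorem cj_def (g : G) (X : Subgroup G) : cj g X = X.map (MulAut.conj g).toMonoidHom := rfl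

theorem mem_cj_iff {g y : G} {X : Subgroup G} : y ∈ cj g X ↔ g⁻¹ * y * g ∈ X := by
  rw [cj_def, Subgroup.mem_map]
  constructor
  · rintro ⟨x, hx, rfl⟩
    have : g⁻¹ * ((MulAut.conj g).toMonoidHom x) * g = x := by
      simp [MulAut.conj_apply, mul_assoc]
    rw [this]; exact hx
  · intro h
    refine ⟨g⁻¹ * y * g, h, ?_⟩
    simp [MulAut.conj_apply, mul_assoc]

theorem conj_mem_cj_iff {g x : G} {X : Subgroup G} : g * x * g⁻¹ ∈ cj g X ↔ x ∈ X := by
  rw [mem_cj_iff]
  have : g⁻¹ * (g * x * g⁻¹) * g = x := by group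
  rw [this]

theorem conj_mem_cj {g x : G} {X : Subgroup G} (hx : x ∈ X) : g * x * g⁻¹ ∈ cj g X :=
  conj_mem_cj_iff.2 hx

theorem cj_one (X : Subgroup G) : cj 1 X = X := by
  ext y
  rw [mem_cj_iff]
  simp

theorem cj_mul (g h : G) (X : Subgroup G) : cj (g * h) X = cj g (cj h X) := by
  ext y
  rw [mem_cj_iff, mem_cj_iff, mem_cj_iff]
  have : (g * h)⁻¹ * y * (g * h) = h⁻¹ * (g⁻¹ * y * g) * h := by group
  rw [this]

theorem cj_inv_cj (g : G) (X : Subgroup G) : cj g⁻¹ (cj g X) = X := by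
  rw [← cj_mul, inv_mul_cancel, cj_one]

theorem cj_cj_inv (g : G) (X : Subgroup G) : cj g (cj g⁻¹ X) = X := by
  rw [← cj_mul, mul_inv_cancel, cj_one]

theorem cj_injective (g : G) {X Y : Subgroup G} (h : cj g X = cj g Y) : X = Y := by
  rw [← cj_inv_cj g X, h, cj_inv_cj]

theorem cj_eq_iff {g : G} {X Y : Subgroup G} : cj g X = Y ↔ X = cj g⁻¹ Y := by
  constructor
  · rintro rfl
    rw [cj_inv_cj]
  · rintro rfl
    rw [cj_cj_inv]

theorem cj_mono {g : G} {X Y : Subgroup G} (h : X ≤ Y) : cj g X ≤ cj g Y :=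
  Subgroup.map_mono h

theorem cj_le_cj_iff {g : G} {X Y : Subgroup G} : cj g X ≤ cj g Y ↔ X ≤ Y := by
  refine ⟨fun h => ?_, cj_mono⟩
  have := cj_mono (g := g⁻¹) h
  rwa [cj_inv_cj, cj_inv_cj] at this

theorem card_cj (g : G) (X : Subgroup G) : Nat.card (cj g X) = Nat.card X :=
  Subgroup.card_map_of_injective (MulAut.conj g).injective

theorem cj_zpowers (g x : G) : cj g (Subgroup.zpowers x) = Subgroup.zpowers (g * x * g⁻¹) := by
  rw [cj_def, MonoidHom.map_zpowers]
  rfl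

theorem isPGroup_cj {p : ℕ} {g : G} {X : Subgroup G} (h : IsPGroup p X) : IsPGroup p (cj g X) :=
  h.map _

/-- An element conjugating a finite subgroup into itself fixes it. -/
theorem cj_eq_self_of_conj_mem [Finite G] {g : G} {X : Subgroup G}
    (h : ∀ x ∈ X, g * x * g⁻¹ ∈ X) : cj g X = X := by
  apply Subgroup.eq_of_le_of_card_ge
  · intro y hy
    rw [mem_cj_iff] at hy
    have := h _ hy
    have e : g * (g⁻¹ * y * g) * g⁻¹ = y := by group
    rwa [e] at this
  · rw [card_cj]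

theorem mem_normalizer_iff_cj {g : G} {X : Subgroup G} :
    g ∈ Subgroup.normalizer (X : Set G) ↔ cj g X = X := by
  constructor
  · intro h
    ext y
    rw [mem_cj_iff]
    have h' := (Subgroup.mem_normalizer_iff.1 (Subgroup.inv_mem _ h)) y
    rw [inv_inv] at h'
    exact h'.symm
  · intro h
    rw [Subgroup.mem_normalizer_iff]
    intro y
    rw [← conj_mem_cj_iff (g := g) (x := y) (X := X), h]

theorem cj_eq_self_of_mem {g : G} {X : Subgroup G} (h : g ∈ X) : cj g X = X :=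
  mem_normalizer_iff_cj.1 (Subgroup.le_normalizer h)

theorem cj_eq_self_of_mem_centralizer {g : G} {X : Subgroup G}
    (h : g ∈ Subgroup.centralizer (X : Set G)) : cj g X = X :=
  mem_normalizer_iff_cj.1 (Subgroup.centralizer_le_normalizer _ h)

theorem cj_pow_eq_self {g : G} {X : Subgroup G} (h : cj g X = X) (n : ℕ) : cj (g ^ n) X = X :=
  mem_normalizer_iff_cj.1 (Subgroup.pow_mem _ (mem_normalizer_iff_cj.2 h) n)

theorem cj_centralizer (g : G) (X : Subgroup G) :
    cj g (Subgroup.centralizer (X : Set G)) = Subgroup.centralizer (cj g X : Set G) := by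
  ext w
  rw [mem_cj_iff, Subgroup.mem_centralizer_iff, Subgroup.mem_centralizer_iff]
  constructor
  · intro h x hx
    have hx' : g⁻¹ * x * g ∈ X := mem_cj_iff.1 hx
    have := h _ hx'
    have e1 : x * w = g * ((g⁻¹ * x * g) * (g⁻¹ * w * g)) * g⁻¹ := by group
    have e2 : w * x = g * ((g⁻¹ * w * g) * (g⁻¹ * x * g)) * g⁻¹ := by group
    rw [e1, e2, this]
  · intro h x hx
    have hx' : g * x * g⁻¹ ∈ cj g X := conj_mem_cj hx
    have := h _ hx'
    have e1 : x * (g⁻¹ * w * g) = g⁻¹ * ((g * x * g⁻¹) * w) * g := by group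
    have e2 : (g⁻¹ * w * g) * x = g⁻¹ * (w * (g * x * g⁻¹)) * g := by group
    rw [e1, e2, this]

/-- An odd power of an element interchanging two subgroups interchanges them. -/
theorem cj_pow_of_swap {l : G} {Y₁ Y₂ : Subgroup G} (h1 : cj l Y₁ = Y₂) (h2 : cj l Y₂ = Y₁)
    {m : ℕ} (hm : Odd m) : cj (l ^ m) Y₁ = Y₂ := by
  obtain ⟨j, rfl⟩ := hm
  have h3 : cj (l ^ 2) Y₂ = Y₂ := by rw [pow_two, cj_mul, h2, h1]
  rw [pow_succ, pow_mul, cj_mul, h1]
  exact cj_pow_eq_self h3 j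

theorem cj_sylow {p : ℕ} (g : G) (P : Sylow p G) : ((g • P : Sylow p G) : Subgroup G) = cj g P := by
  ext y
  rw [mem_cj_iff, Sylow.smul_def, Sylow.pointwise_smul_def,
    Subgroup.mem_pointwise_smul_iff_inv_smul_mem]
  simp [MulAut.smul_def]

/-- Sylow's theorem inside a subgroup: a `p`-subgroup of `N` is conjugate under `N` into any Sylow
`p`-subgroup of `G` lying in `N`. -/
theorem exists_cj_le_sylow_of_le [Finite G] {p : ℕ} [Fact p.Prime] (Q : Sylow p G)
    (N : Subgroup G) (hQ : (Q : Subgroup G) ≤ N) (T : Subgroup G) (hT : IsPGroup p T)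
    (hTN : T ≤ N) : ∃ n ∈ N, cj n T ≤ Q := by
  have hT' : IsPGroup p (T.subgroupOf N) :=
    hT.comap_of_injective N.subtype (Subgroup.subtype_injective N)
  obtain ⟨c, hc⟩ := exists_conj_mem_sylow (Q.subtype hQ) hT'
  refine ⟨c, c.2, ?_⟩
  intro y hy
  rw [mem_cj_iff] at hy
  have h1 : (⟨(c : G)⁻¹ * y * c, hTN hy⟩ : N) ∈ T.subgroupOf N := by
    rw [Subgroup.mem_subgroupOf]; exact hy
  have h2 := hc _ h1
  have h3 : c * (⟨(c : G)⁻¹ * y * c, hTN hy⟩ : N) * c⁻¹ ∈ ((Q.subtype hQ : Sylow p N) : Subgroup N) :=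
    h2
  rw [Sylow.coe_subtype, Subgroup.mem_subgroupOf] at h3
  have e : ((c * (⟨(c : G)⁻¹ * y * c, hTN hy⟩ : N) * c⁻¹ : N) : G) = y := by
    simp only [Subgroup.coe_mul, Subgroup.coe_inv]
    group
  rw [e] at h3
  exact h3

/-- Two Sylow `p`-subgroups of `G` lying in a subgroup `N` are conjugate under `N`. -/
theorem exists_cj_eq_sylow_of_le [Finite G] {p : ℕ} [Fact p.Prime] (P Q : Sylow p G)
    (N : Subgroup G) (hP : (P : Subgroup G) ≤ N) (hQ : (Q : Subgroup G) ≤ N) :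
    ∃ n ∈ N, cj n (Q : Subgroup G) = P := by
  obtain ⟨n, hn, h⟩ := exists_cj_le_sylow_of_le P N hP Q Q.isPGroup' hQ
  refine ⟨n, hn, ?_⟩
  apply Subgroup.eq_of_le_of_card_ge h
  rw [card_cj, Sylow.card_eq_multiplicity, Sylow.card_eq_multiplicity]

end Cfsg.Agent.Helper67
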