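import Cfsg.Agent.Helper4.D4Inv.Defs
import Cfsg.Agent.Helper19.Twist.ClassD4
import Cfsg.Agent.S1031

/-!
# helper67 for helper4 (S2183): piece (NA) `weyl_nA`
-/

set_option autoImplicit false

namespace Cfsg.Agent.Helper67.D4I

open Cfsg Cfsg.Lie Cfsg.Agent.Helper18 Cfsg.Agent.Helper4.D4Inv

variable {K : Type*} [Field K]

theorem d4_simple_tab : chevD4.simple 0 = 18 ∧ chevD4.simple 2 = 13 ∧ chevD4.simple 3 = 12 ∧
    chevD4.rank = 4 ∧ chevD4.nroots = 24 := by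
  decide +kernel

theorem d4_refl_tab_A :
    (chevD4.reflectRoot 3 14 = 15 ∧ chevD4.reflectRoot 2 15 = 17 ∧ chevD4.reflectRoot 0 17 = 22) ∧
    (chevD4.reflectRoot 3 19 = 20 ∧ chevD4.reflectRoot 2 20 = 22 ∧ chevD4.reflectRoot 0 22 = 17) ∧
    (chevD4.reflectRoot 3 16 = 17 ∧ chevD4.reflectRoot 2 17 = 15 ∧ chevD4.reflectRoot 0 15 = 20) ∧
    (chevD4.reflectRoot 3 15 = 14 ∧ chevD4.reflectRoot 2 14 = 16 ∧ chevD4.reflectRoot 0 16 = 21) ∧
    (chevD4.reflectRoot 3 21 = 22 ∧ chevD4.reflectRoot 2 22 = 20 ∧ chevD4.reflectRoot 0 20 = 15) ∧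
    (chevD4.reflectRoot 3 20 = 19 ∧ chevD4.reflectRoot 2 19 = 21 ∧ chevD4.reflectRoot 0 21 = 16) ∧
    (chevD4.reflectRoot 3 17 = 16 ∧ chevD4.reflectRoot 2 16 = 14 ∧ chevD4.reflectRoot 0 14 = 19) ∧
    (chevD4.reflectRoot 3 23 = 23 ∧ chevD4.reflectRoot 2 23 = 23 ∧ chevD4.reflectRoot 0 23 = 23) := by
  decide +kernel

/-- conjugation by the fundamental Weyl element `n_i(1)` in characteristic two -/
theorem nG_conj_D4 [CharP K 2] (i : ℕ) (hi : i < chevD4.rank) (s : ℕ) (hs : s < chevD4.nroots)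
    (t : K) :
    Cfsg.Agent.Helper19.Twist.nG chevD4 K (chevD4.simple i) 1 * xGL chevD4 K s t *
      (Cfsg.Agent.Helper19.Twist.nG chevD4 K (chevD4.simple i) 1)⁻¹ =
        xGL chevD4 K (chevD4.reflectRoot i s) t := by
  have htri := triOK_of_mem chevD4 hD4
  obtain ⟨η, hη, h⟩ := Cfsg.Agent.S1031.result (F := K) chevD4 hD4 i s hi hs
  have hη1 : ((η : ℤ) : K) = 1 := by
    rcases hη with rfl | rfl
    · simp
    · simp [CharTwo.neg_eq]
  rw [mul_inv_eq_iff_eq_mul]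
  apply Units.ext
  simp only [Units.val_mul, xGL_val chevD4 _ htri, Cfsg.Agent.Helper19.Twist.nG,
    nWordGL_val chevD4 hD4]
  have := h t
  rw [hη1, one_mul] at this
  exact this

/-- (NA) the Weyl element `n_A = n₁₈ n₁₃ n₁₂` of `³D₄(q)` -/
theorem weyl_nA [CharP K 2] (q : ℕ) (f : K ≃+* K) (hf : ∀ t, f t = t ^ q) :
    ∃ n ∈ twistedD4 K q, ∀ t : K,
      n * xGL chevD4 K 14 t * n⁻¹ = xGL chevD4 K 22 t ∧
      n * xGL chevD4 K 19 t * n⁻¹ = xGL chevD4 K 17 t ∧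
      n * xGL chevD4 K 16 t * n⁻¹ = xGL chevD4 K 20 t ∧
      n * xGL chevD4 K 15 t * n⁻¹ = xGL chevD4 K 21 t ∧
      n * xGL chevD4 K 21 t * n⁻¹ = xGL chevD4 K 15 t ∧
      n * xGL chevD4 K 20 t * n⁻¹ = xGL chevD4 K 16 t ∧
      n * xGL chevD4 K 17 t * n⁻¹ = xGL chevD4 K 19 t ∧
      n * xGL chevD4 K 23 t * n⁻¹ = xGL chevD4 K 23 t := by
  obtain ⟨s0, s2, s3, hrk, hnr⟩ := d4_simple_tab
  have hmem := Cfsg.Agent.Helper19.Twist.nJD4_mem f hf (1 : K)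
  rw [map_one, map_one] at hmem
  set n18 := Cfsg.Agent.Helper19.Twist.nG chevD4 K 18 1 with hn18
  set n13 := Cfsg.Agent.Helper19.Twist.nG chevD4 K 13 1 with hn13
  set n12 := Cfsg.Agent.Helper19.Twist.nG chevD4 K 12 1 with hn12
  have c0 : ∀ s, s < 24 → ∀ t : K, n18 * xGL chevD4 K s t * n18⁻¹ =
      xGL chevD4 K (chevD4.reflectRoot 0 s) t := by
    intro s hs t
    have := nG_conj_D4 (K := K) 0 (by rw [hrk]; norm_num) s (by rw [hnr]; exact hs) t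
    rw [s0] at this
    exact this
  have c2 : ∀ s, s < 24 → ∀ t : K, n13 * xGL chevD4 K s t * n13⁻¹ =
      xGL chevD4 K (chevD4.reflectRoot 2 s) t := by
    intro s hs t
    have := nG_conj_D4 (K := K) 2 (by rw [hrk]; norm_num) s (by rw [hnr]; exact hs) t
    rw [s2] at this
    exact this
  have c3 : ∀ s, s < 24 → ∀ t : K, n12 * xGL chevD4 K s t * n12⁻¹ =
      xGL chevD4 K (chevD4.reflectRoot 3 s) t := by
    intro s hs t
    have := nG_conj_D4 (K := K) 3 (by rw [hrk]; norm_num) s (by rw [hnr]; exact hs) t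
    rw [s3] at this
    exact this
  have key : ∀ (a b c d : ℕ), a < 24 → b < 24 → c < 24 → chevD4.reflectRoot 3 a = b →
      chevD4.reflectRoot 2 b = c → chevD4.reflectRoot 0 c = d → ∀ t : K,
      n18 * n13 * n12 * xGL chevD4 K a t * (n18 * n13 * n12)⁻¹ = xGL chevD4 K d t := by
    intro a b c d ha hb hc h1 h2 h3 t
    have e : n18 * n13 * n12 * xGL chevD4 K a t * (n18 * n13 * n12)⁻¹ =
        n18 * (n13 * (n12 * xGL chevD4 K a t * n12⁻¹) * n13⁻¹) * n18⁻¹ := by group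
    rw [e, c3 a ha, h1, c2 b hb, h2, c0 c hc, h3]
  obtain ⟨⟨a1, a2, a3⟩, ⟨b1, b2, b3⟩, ⟨e1, e2, e3⟩, ⟨d1, d2, d3⟩, ⟨g1, g2, g3⟩, ⟨k1, k2, k3⟩,
    ⟨l1, l2, l3⟩, ⟨m1, m2, m3⟩⟩ := d4_refl_tab_A
  refine ⟨n18 * n13 * n12, hmem, fun t => ⟨?_, ?_, ?_, ?_, ?_, ?_, ?_, ?_⟩⟩
  · exact key 14 15 17 22 (by norm_num) (by norm_num) (by norm_num) a1 a2 a3 t
  · exact key 19 20 22 17 (by norm_num) (by norm_num) (by norm_num) b1 b2 b3 t
  · exact key 16 17 15 20 (by norm_num) (by norm_num) (by norm_num) e1 e2 e3 t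
  · exact key 15 14 16 21 (by norm_num) (by norm_num) (by norm_num) d1 d2 d3 t
  · exact key 21 22 20 15 (by norm_num) (by norm_num) (by norm_num) g1 g2 g3 t
  · exact key 20 19 21 16 (by norm_num) (by norm_num) (by norm_num) k1 k2 k3 t
  · exact key 17 16 14 19 (by norm_num) (by norm_num) (by norm_num) l1 l2 l3 t
  · exact key 23 23 23 23 (by norm_num) (by norm_num) (by norm_num) m1 m2 m3 t

end Cfsg.Agent.Helper67.D4I
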