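import Cfsg.Agent.Helper4.D4Inv.Defs
import Cfsg.Agent.Helper19.Twist.WeylN
import Cfsg.Agent.Helper19.Poinc.Data
import Cfsg.Agent.Helper18.Core
import Cfsg.Agent.Helper18.Graded
import Cfsg.Agent.S1025
import Cfsg.Agent.S1026
import Cfsg.Agent.S1037
import Cfsg.Agent.S1100

/-!
# helper67 for helper4 (S2183): piece (S3) `not_conj_D4`

`x₂₃(1)` (a long root element) and `x₂₁(1) x₂₀(1) x₁₇(1)` are not conjugate in `D₄(K)`, `char K = 2`:
Bruhat decomposition `h = b n u`; `u` centralizes `x₂₃(1)`, `n` maps it to a root element `x_s(t')`, and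
the `B`-conjugates of `x₂₁(1) x₂₀(1) x₁₇(1)` are of the form
`x₁₇(d₁) x₂₀(d₂) x₂₁(d₀) x₂₂(e) x₂₃(z)` with `d₁, d₀ ≠ 0`, which is never a single root element.
-/

set_option autoImplicit false
set_option maxRecDepth 100000

namespace Cfsg.Agent.Helper67.D4I

open Cfsg Cfsg.Lie Cfsg.Agent.Helper18 Cfsg.Agent.Helper4.D4Inv

variable {K : Type*} [Field K]

theorem htriD4 : triOK chevD4 (hlfOf chevD4) = true := triOK_of_mem chevD4 hD4

theorem posRoots_D4 : chevD4.posRoots = [12, 13, 14, 15, 16, 17, 18, 19, 20, 21, 22, 23] := by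
  decide +kernel

theorem isPos_iff_D4 (r : ℕ) :
    chevD4.IsPosRoot r ↔ r ∈ [12, 13, 14, 15, 16, 17, 18, 19, 20, 21, 22, 23] := by
  rw [← posRoots_D4]
  unfold ChevalleyDatum.posRoots
  simp only [List.mem_filter, List.mem_range, decide_eq_true_eq]
  constructor
  · intro h; exact ⟨h.1, h⟩
  · intro h; exact h.2

theorem isPos_of_range (r : ℕ) (h1 : 12 ≤ r) (h2 : r < 24) : chevD4.IsPosRoot r := by
  rw [isPos_iff_D4]
  interval_cases r <;> simp

theorem range_of_isPos (r : ℕ) (h : chevD4.IsPosRoot r) : 12 ≤ r ∧ r < 24 := by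
  rw [isPos_iff_D4] at h
  simp only [List.mem_cons, List.not_mem_nil, or_false] at h
  omega

theorem nroots_D4 : chevD4.nroots = 24 := by decide +kernel

theorem neg_tab : ∀ r ∈ List.range 24, 12 ≤ r → chevD4.neg r < 12 := by decide +kernel

/-- the commutator terms of a positive root with one of `17, 20, 21, 22, 23` -/
theorem ct_tab : ∀ r ∈ List.range 24, ∀ s ∈ [17, 20, 21, 22, 23], 12 ≤ r → r ≠ s →
    chevD4.commTerms r s = [] ∨
      ∃ q ∈ [22, 23], ∃ c ∈ [(1 : ℤ), -1], chevD4.commTerms r s = [(q, c, 1, 1)] := by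
  decide +kernel

theorem ct_tab5 : ∀ r ∈ [17, 20, 21, 22, 23], ∀ s ∈ [17, 20, 21, 22, 23], r ≠ s →
    chevD4.commTerms r s = [] := by
  decide +kernel

theorem ct_tab23 : ∀ r ∈ List.range 24, 12 ≤ r → r ≠ 23 → chevD4.commTerms r 23 = [] := by
  decide +kernel

/-- the commutator formula in `GL` -/
theorem comm_GL_D4 (r s : ℕ) (hr : r < 24) (hs : s < 24) (h1 : s ≠ r) (h2 : s ≠ chevD4.neg r)
    (t u : K) :
    xGL chevD4 K s u * xGL chevD4 K r t =
      xGL chevD4 K r t * xGL chevD4 K s u * wordGL chevD4 K (chevD4.commWord K r s t u) := by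
  apply Units.ext
  simp only [Units.val_mul, xGL_val chevD4 _ htriD4, wordGL_val chevD4 _ htriD4]
  exact Cfsg.Agent.S1025.result chevD4 hD4 r s (by rw [nroots_D4]; exact hr)
    (by rw [nroots_D4]; exact hs) h1 h2 t u

theorem xGL0_D4 (r : ℕ) : xGL chevD4 K r 0 = 1 := by
  have := xGL_mul_add (F := K) chevD4 hD4 r 0 0
  rw [add_zero] at this
  exact mul_eq_left.mp this

theorem xGL_comm_self (r : ℕ) (t u : K) :
    xGL chevD4 K r u * xGL chevD4 K r t = xGL chevD4 K r t * xGL chevD4 K r u := by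
  rw [xGL_mul_add chevD4 hD4, xGL_mul_add chevD4 hD4, add_comm]

/-- two positive root elements without commutator terms commute -/
theorem rel_comm_D4 (r s : ℕ) (hr : 12 ≤ r) (hr' : r < 24) (hs : 12 ≤ s) (hs' : s < 24)
    (hct : r ≠ s → chevD4.commTerms r s = []) (t u : K) :
    xGL chevD4 K s u * xGL chevD4 K r t = xGL chevD4 K r t * xGL chevD4 K s u := by
  by_cases hrs : r = s
  · subst hrs
    exact xGL_comm_self r t u
  have h2 : s ≠ chevD4.neg r := by
    have := neg_tab r (List.mem_range.mpr hr') hr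
    omega
  rw [comm_GL_D4 r s hr' hs' (Ne.symm hrs) h2 t u]
  unfold ChevalleyDatum.commWord
  rw [hct hrs]
  simp [wordGL]

section char2

variable [CharP K 2]

theorem xGL_sq_D4 (r : ℕ) (t : K) : xGL chevD4 K r t * xGL chevD4 K r t = 1 := by
  rw [xGL_mul_add chevD4 hD4, CharTwo.add_self_eq_zero, xGL0_D4]

theorem xGL_inv_D4 (r : ℕ) (t : K) : (xGL chevD4 K r t)⁻¹ = xGL chevD4 K r t :=
  inv_eq_of_mul_eq_one_right (xGL_sq_D4 r t)

/-- conjugation of a positive root element by another one -/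
theorem cj_D4 (r s : ℕ) (hr : 12 ≤ r) (hr' : r < 24) (hs : 12 ≤ s) (hs' : s < 24) (hrs : r ≠ s)
    (a t : K) :
    xGL chevD4 K r a * xGL chevD4 K s t * (xGL chevD4 K r a)⁻¹ =
      xGL chevD4 K s t * wordGL chevD4 K (chevD4.commWord K r s a t) := by
  have h2 : s ≠ chevD4.neg r := by
    have := neg_tab r (List.mem_range.mpr hr') hr
    omega
  have h := comm_GL_D4 r s hr' hs' (Ne.symm hrs) h2 a t
  calc xGL chevD4 K r a * xGL chevD4 K s t * (xGL chevD4 K r a)⁻¹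
      = (xGL chevD4 K r a)⁻¹ * (xGL chevD4 K s t * xGL chevD4 K r a) := by
        rw [xGL_inv_D4, mul_assoc]
    _ = xGL chevD4 K s t * wordGL chevD4 K (chevD4.commWord K r s a t) := by
        rw [h]
        group

/-- the five-parameter elements -/
noncomputable def N5 (d1 d2 d0 e z : K) : GL chevD4.Idx K :=
  xGL chevD4 K 17 d1 * (xGL chevD4 K 20 d2 * (xGL chevD4 K 21 d0 *
    (xGL chevD4 K 22 e * xGL chevD4 K 23 z)))

omit [CharP K 2] in
/-- the five root subgroups commute pairwise -/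
theorem comm5 (r s : ℕ) (hr : r ∈ [17, 20, 21, 22, 23]) (hs : s ∈ [17, 20, 21, 22, 23]) (t u : K) :
    Commute (xGL chevD4 K r t) (xGL chevD4 K s u) := by
  have hr1 : 12 ≤ r ∧ r < 24 := by
    simp only [List.mem_cons, List.not_mem_nil, or_false] at hr
    omega
  have hs1 : 12 ≤ s ∧ s < 24 := by
    simp only [List.mem_cons, List.not_mem_nil, or_false] at hs
    omega
  exact (rel_comm_D4 r s hr1.1 hr1.2 hs1.1 hs1.2 (ct_tab5 r hr s hs) t u).symm

omit [CharP K 2] in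
theorem N5_mul (d1 d2 d0 e z d1' d2' d0' e' z' : K) :
    N5 d1 d2 d0 e z * N5 d1' d2' d0' e' z' =
      N5 (d1 + d1') (d2 + d2') (d0 + d0') (e + e') (z + z') := by
  unfold N5
  have c := fun (r s : ℕ) (hr : r ∈ [17, 20, 21, 22, 23]) (hs : s ∈ [17, 20, 21, 22, 23])
    (t u : K) => comm5 r s hr hs t u
  set a1 := xGL chevD4 K 17 d1
  set a2 := xGL chevD4 K 20 d2
  set a3 := xGL chevD4 K 21 d0
  set a4 := xGL chevD4 K 22 e
  set a5 := xGL chevD4 K 23 z
  set b1 := xGL chevD4 K 17 d1'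
  set b2 := xGL chevD4 K 20 d2'
  set b3 := xGL chevD4 K 21 d0'
  set b4 := xGL chevD4 K 22 e'
  set b5 := xGL chevD4 K 23 z'
  have h1 : Commute (a2 * (a3 * (a4 * a5))) b1 :=
    (c 20 17 (by simp) (by simp) _ _).mul_left ((c 21 17 (by simp) (by simp) _ _).mul_left
      ((c 22 17 (by simp) (by simp) _ _).mul_left (c 23 17 (by simp) (by simp) _ _)))
  have h2 : Commute (a3 * (a4 * a5)) b2 :=
    (c 21 20 (by simp) (by simp) _ _).mul_left
      ((c 22 20 (by simp) (by simp) _ _).mul_left (c 23 20 (by simp) (by simp) _ _))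
  have h3 : Commute (a4 * a5) b3 :=
    (c 22 21 (by simp) (by simp) _ _).mul_left (c 23 21 (by simp) (by simp) _ _)
  have h4 : Commute a5 b4 := c 23 22 (by simp) (by simp) _ _
  rw [h1.mul_mul_mul_comm, h2.mul_mul_mul_comm, h3.mul_mul_mul_comm, h4.mul_mul_mul_comm]
  simp only [a1, a2, a3, a4, a5, b1, b2, b3, b4, b5, xGL_mul_add chevD4 hD4]

omit [CharP K 2] in
theorem N5_zero : N5 (0 : K) 0 0 0 0 = 1 := by
  unfold N5
  simp only [xGL0_D4, mul_one]

omit [CharP K 2] in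
theorem x17_eq (t : K) : xGL chevD4 K 17 t = N5 t 0 0 0 0 := by
  unfold N5; simp only [xGL0_D4, mul_one]
omit [CharP K 2] in
theorem x20_eq (t : K) : xGL chevD4 K 20 t = N5 0 t 0 0 0 := by
  unfold N5; simp only [xGL0_D4, mul_one, one_mul]
omit [CharP K 2] in
theorem x21_eq (t : K) : xGL chevD4 K 21 t = N5 0 0 t 0 0 := by
  unfold N5; simp only [xGL0_D4, mul_one, one_mul]
omit [CharP K 2] in
theorem x22_eq (t : K) : xGL chevD4 K 22 t = N5 0 0 0 t 0 := by
  unfold N5; simp only [xGL0_D4, mul_one, one_mul]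
omit [CharP K 2] in
theorem x23_eq (t : K) : xGL chevD4 K 23 t = N5 0 0 0 0 t := by
  unfold N5; simp only [xGL0_D4, one_mul]

/-- conjugating one of the five root elements by a positive root element changes it by an element of
`X₂₂ X₂₃` -/
theorem cjS (r s : ℕ) (hr : 12 ≤ r) (hr' : r < 24) (hs : s ∈ [17, 20, 21, 22, 23]) (a t : K) :
    ∃ e'' z'' : K, xGL chevD4 K r a * xGL chevD4 K s t * (xGL chevD4 K r a)⁻¹ =
      xGL chevD4 K s t * N5 0 0 0 e'' z'' := by
  have hs1 : 12 ≤ s ∧ s < 24 := by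
    simp only [List.mem_cons, List.not_mem_nil, or_false] at hs
    omega
  by_cases hrs : r = s
  · subst hrs
    refine ⟨0, 0, ?_⟩
    rw [N5_zero, mul_one, xGL_comm_self r t a, mul_inv_cancel_right]
  rw [cj_D4 r s hr hr' hs1.1 hs1.2 hrs a t]
  unfold ChevalleyDatum.commWord
  rcases ct_tab r (List.mem_range.mpr hr') s hs hr hrs with h | ⟨q, hq, c, -, h⟩
  · refine ⟨0, 0, ?_⟩
    rw [h, N5_zero]
    simp [wordGL]
  · rw [h]
    simp only [List.mem_cons, List.not_mem_nil, or_false] at hq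
    rcases hq with rfl | rfl
    · refine ⟨(c : K) * (-a) ^ 1 * t ^ 1, 0, ?_⟩
      rw [← x22_eq]
      simp [wordGL]
    · refine ⟨0, (c : K) * (-a) ^ 1 * t ^ 1, ?_⟩
      rw [← x23_eq]
      simp [wordGL]

/-- the conjugation property of elements of `B` -/
def Pb (b : GL chevD4.Idx K) : Prop :=
  ∀ d1 d2 d0 e z : K, ∃ d1' d2' d0' e' z' : K, (d1 ≠ 0 → d1' ≠ 0) ∧ (d0 ≠ 0 → d0' ≠ 0) ∧
    b * N5 d1 d2 d0 e z * b⁻¹ = N5 d1' d2' d0' e' z'

omit [CharP K 2] in
theorem Pb_one : Pb (1 : GL chevD4.Idx K) :=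
  fun d1 d2 d0 e z => ⟨d1, d2, d0, e, z, id, id, by simp⟩

omit [CharP K 2] in
theorem Pb_mul (x y : GL chevD4.Idx K) (hx : Pb x) (hy : Pb y) : Pb (x * y) := by
  intro d1 d2 d0 e z
  obtain ⟨a1, a2, a0, ae, az, h1, h1', h1''⟩ := hy d1 d2 d0 e z
  obtain ⟨b1, b2, b0, be, bz, h2, h2', h2''⟩ := hx a1 a2 a0 ae az
  refine ⟨b1, b2, b0, be, bz, fun h => h2 (h1 h), fun h => h2' (h1' h), ?_⟩
  rw [← h2'', ← h1'']
  group

theorem Pb_X (r : ℕ) (hr : 12 ≤ r) (hr' : r < 24) (a : K) : Pb (xGL chevD4 K r a) := by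
  intro d1 d2 d0 e z
  obtain ⟨e1, z1, h1⟩ := cjS r 17 hr hr' (by simp) a d1
  obtain ⟨e2, z2, h2⟩ := cjS r 20 hr hr' (by simp) a d2
  obtain ⟨e3, z3, h3⟩ := cjS r 21 hr hr' (by simp) a d0
  obtain ⟨e4, z4, h4⟩ := cjS r 22 hr hr' (by simp) a e
  obtain ⟨e5, z5, h5⟩ := cjS r 23 hr hr' (by simp) a z
  set g := xGL chevD4 K r a with hg
  have hconj : g * N5 d1 d2 d0 e z * g⁻¹ =
      (g * xGL chevD4 K 17 d1 * g⁻¹) * ((g * xGL chevD4 K 20 d2 * g⁻¹) *
        ((g * xGL chevD4 K 21 d0 * g⁻¹) * ((g * xGL chevD4 K 22 e * g⁻¹) *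
          (g * xGL chevD4 K 23 z * g⁻¹)))) := by
    unfold N5
    group
  rw [hconj, h1, h2, h3, h4, h5, x17_eq, x20_eq, x21_eq, x22_eq, x23_eq]
  simp only [N5_mul, add_zero, zero_add]
  exact ⟨_, _, _, _, _, id, id, rfl⟩

omit [CharP K 2] in
theorem Pb_H (k : GL chevD4.Idx K) (hk : k ∈ chevD4.diagonalSubgroup K) : Pb k := by
  obtain ⟨χ, hχ, -, hc⟩ := diagonalSubgroup_char chevD4 hD4 k hk
  intro d1 d2 d0 e z
  refine ⟨χ 17 * d1, χ 20 * d2, χ 21 * d0, χ 22 * e, χ 23 * z, fun h => mul_ne_zero (hχ 17) h,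
    fun h => mul_ne_zero (hχ 21) h, ?_⟩
  rw [mul_inv_eq_iff_eq_mul]
  unfold N5
  have h24 : chevD4.nroots = 24 := nroots_D4
  rw [← mul_assoc k, hc 17 (by rw [h24]; norm_num), mul_assoc, ← mul_assoc k,
    hc 20 (by rw [h24]; norm_num), mul_assoc, ← mul_assoc k, hc 21 (by rw [h24]; norm_num),
    mul_assoc, ← mul_assoc k, hc 22 (by rw [h24]; norm_num), mul_assoc,
    hc 23 (by rw [h24]; norm_num)]
  simp only [mul_assoc]

/-- the subgroup of elements with the conjugation property -/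
def PbSub : Subgroup (GL chevD4.Idx K) where
  carrier := {b | Pb b ∧ Pb b⁻¹}
  mul_mem' := by
    intro x y hx hy
    change Pb (x * y) ∧ Pb (x * y)⁻¹
    rw [mul_inv_rev]
    exact ⟨Pb_mul _ _ hx.1 hy.1, Pb_mul _ _ hy.2 hx.2⟩
  one_mem' := by
    change Pb (1 : GL chevD4.Idx K) ∧ Pb (1 : GL chevD4.Idx K)⁻¹
    rw [inv_one]
    exact ⟨Pb_one, Pb_one⟩
  inv_mem' := by
    intro x hx
    change Pb x⁻¹ ∧ Pb x⁻¹⁻¹
    rw [inv_inv]
    exact ⟨hx.2, hx.1⟩

theorem Pb_B (b : GL chevD4.Idx K) (hb : b ∈ chevD4.borelSubgroup K) : Pb b := by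
  have hle : chevD4.borelSubgroup K ≤ PbSub := by
    unfold ChevalleyDatum.borelSubgroup
    apply sup_le
    · unfold ChevalleyDatum.posUnipotent
      rw [Subgroup.closure_le]
      rintro g ⟨r, a, hr, hg⟩
      have hg' : g = xGL chevD4 K r a := Units.ext (by rw [hg, xGL_val chevD4 _ htriD4])
      change Pb g ∧ Pb g⁻¹
      rw [hg', xGL_inv_D4]
      obtain ⟨h1, h2⟩ := range_of_isPos r hr
      exact ⟨Pb_X r h1 h2 a, Pb_X r h1 h2 a⟩
    · intro k hk
      exact ⟨Pb_H k hk, Pb_H _ (inv_mem hk)⟩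
  exact (hle hb).1

omit [CharP K 2] in
/-- `x₂₃(t)` is central in `U` -/
theorem U_comm_D4 (u : GL chevD4.Idx K) (hu : u ∈ chevD4.posUnipotent K) (t : K) :
    u * xGL chevD4 K 23 t = xGL chevD4 K 23 t * u := by
  have hle : chevD4.posUnipotent K ≤ Subgroup.centralizer {xGL chevD4 K 23 t} := by
    unfold ChevalleyDatum.posUnipotent
    rw [Subgroup.closure_le]
    rintro g ⟨r, a, hr, hg⟩
    have hg' : g = xGL chevD4 K r a := Units.ext (by rw [hg, xGL_val chevD4 _ htriD4])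
    rw [hg', SetLike.mem_coe, Subgroup.mem_centralizer_iff]
    intro y hy
    rw [Set.mem_singleton_iff] at hy
    rw [hy]
    obtain ⟨h1, h2⟩ := range_of_isPos r hr
    exact rel_comm_D4 r 23 h1 h2 (by norm_num) (by norm_num)
      (ct_tab23 r (List.mem_range.mpr h2) h1) a t
  have := hle hu
  rw [Subgroup.mem_centralizer_iff] at this
  exact (this _ rfl).symm

omit [CharP K 2] in
theorem S1100_U_le_D4 (n : GL chevD4.Idx K) :
    Subgroup.closure {x : GL chevD4.Idx K | ∃ (r : ℕ) (t : K), chevD4.IsPosRoot r ∧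
      (chevD4.rootSubgroup K r).map (MulAut.conj n).toMonoidHom ≤ chevD4.negUnipotent K ∧
      (x : Matrix chevD4.Idx chevD4.Idx K) = chevD4.x K r t} ≤ chevD4.posUnipotent K := by
  apply Subgroup.closure_mono
  rintro x ⟨r, t, hr, -, hx⟩
  exact ⟨r, t, hr, hx⟩

end char2

/-- the parameter function of a five-parameter element -/
def par5 (d1 d2 d0 e z : K) : ℕ → K := fun r =>
  if r = 17 then d1 else if r = 20 then d2 else if r = 21 then d0 else if r = 22 then e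
  else if r = 23 then z else 0

/-- the word of a parameter function -/
noncomputable def W12 (t : ℕ → K) : GL chevD4.Idx K :=
  wordGL chevD4 K (chevD4.posRoots.map fun r => (r, t r))

theorem W12_inj (t t' : ℕ → K) (ht : ∀ r, ¬ chevD4.IsPosRoot r → t r = 0)
    (ht' : ∀ r, ¬ chevD4.IsPosRoot r → t' r = 0) (h : W12 t = W12 t') : t = t' := by
  obtain ⟨g, hgU, hg⟩ := (Cfsg.Agent.S1026.result (F := K) chevD4 hD4).2 t
  have hgW : g = W12 t := Units.ext (by rw [hg, W12, wordGL_val chevD4 _ htriD4])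
  obtain ⟨t0, -, huniq⟩ := (Cfsg.Agent.S1026.result (F := K) chevD4 hD4).1 g hgU
  have h1 := huniq t ⟨ht, hg⟩
  have h2 := huniq t' ⟨ht', by rw [hgW, h, W12, wordGL_val chevD4 _ htriD4]⟩
  exact h1.trans h2.symm

theorem N5_eq_W12 (d1 d2 d0 e z : K) : N5 d1 d2 d0 e z = W12 (par5 d1 d2 d0 e z) := by
  unfold W12 N5
  rw [posRoots_D4]
  simp [wordGL, par5, xGL0_D4]

theorem par5_pos (d1 d2 d0 e z : K) : ∀ r, ¬ chevD4.IsPosRoot r → par5 d1 d2 d0 e z r = 0 := by
  intro r hr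
  rw [isPos_iff_D4] at hr
  simp only [List.mem_cons, List.not_mem_nil, or_false, not_or] at hr
  simp [par5, hr]

theorem xGL_eq_W12 (s : ℕ) (h1 : 12 ≤ s) (h2 : s < 24) (t' : K) :
    xGL chevD4 K s t' = W12 (fun r => if r = s then t' else 0) := by
  unfold W12
  rw [posRoots_D4]
  interval_cases s <;> simp [wordGL, xGL0_D4]

theorem single_pos (s : ℕ) (h1 : 12 ≤ s) (h2 : s < 24) (t' : K) :
    ∀ r, ¬ chevD4.IsPosRoot r → (fun r => if r = s then t' else 0) r = 0 := by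
  intro r hr
  have : r ≠ s := by
    rintro rfl
    exact hr (isPos_of_range r h1 h2)
  simp [this]

/-- conjugation by an element of `N` maps a root element to a root element -/
theorem n_conj_D4 (n : GL chevD4.Idx K) (hn : n ∈ chevD4.monomialSubgroup K) (s : ℕ) (hs : s < 24)
    (t : K) : ∃ s' < 24, ∃ t' : K, n * xGL chevD4 K s t * n⁻¹ = xGL chevD4 K s' t' := by
  set nN : ↥(chevD4.monomialSubgroup K) := ⟨n, hn⟩ with hnN
  have : (HN chevD4 K).Normal := Cfsg.Agent.S1038.result chevD4 hD4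
  have hspec := Cfsg.Agent.Helper19.Twist.theta_spec chevD4 hD4 Cfsg.Agent.Helper19.Poinc.certD4
    (nConjHyp chevD4 hD4) nN
  obtain ⟨hlt, t', h⟩ := Cfsg.Agent.Helper19.Poinc.conj_rep chevD4 hD4
    Cfsg.Agent.Helper19.Poinc.certD4 (nConjHyp chevD4 hD4) _ nN hspec s
    (by rw [nroots_D4]; exact hs) t
  have hlt' : _ < 24 := lt_of_lt_of_eq hlt nroots_D4
  exact ⟨_, hlt', t', h⟩

/-- (S3) `x₂₃(1)` and `x₂₁(1) x₂₀(1) x₁₇(1)` are not conjugate in `D₄(K)` -/
theorem not_conj_D4 [CharP K 2] (h : GL chevD4.Idx K) (hh : h ∈ chevD4.group K)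
    (hc : h * xGL chevD4 K 23 1 * h⁻¹ = xGL chevD4 K 21 1 * xGL chevD4 K 20 1 * xGL chevD4 K 17 1) :
    False := by
  obtain ⟨b, hb, n, hn, u, hu, rfl⟩ := (Cfsg.Agent.S1100.result (F := K) chevD4 hD4).1 h hh
  have huU := S1100_U_le_D4 n hu
  -- the right-hand side as a five-parameter element
  have hrhs : xGL chevD4 K 21 1 * xGL chevD4 K 20 1 * xGL chevD4 K 17 1 = N5 (1 : K) 1 1 0 0 := by
    rw [x21_eq, x20_eq, x17_eq, N5_mul, N5_mul]
    simp only [add_zero, zero_add]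
  rw [hrhs] at hc
  have h1 : n * xGL chevD4 K 23 1 * n⁻¹ = b⁻¹ * N5 (1 : K) 1 1 0 0 * (b⁻¹)⁻¹ := by
    rw [← hc]
    have := U_comm_D4 u huU (1 : K)
    have e : b * n * u * xGL chevD4 K 23 1 * (b * n * u)⁻¹ =
        b * n * (u * xGL chevD4 K 23 1) * u⁻¹ * n⁻¹ * b⁻¹ := by group
    rw [e, this]
    group
  obtain ⟨s, hs, t', h2⟩ := n_conj_D4 n hn 23 (by norm_num) (1 : K)
  obtain ⟨d1', d2', d0', e', z', hd1, hd0, h3⟩ := Pb_B b⁻¹ (inv_mem hb) (1 : K) 1 1 0 0
  have hd1' : d1' ≠ 0 := hd1 one_ne_zero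
  have hd0' : d0' ≠ 0 := hd0 one_ne_zero
  rw [h2, h3] at h1
  -- `x_s(t') = N5 d1' d2' d0' e' z'`
  have hN5U : N5 d1' d2' d0' e' z' ∈ chevD4.posUnipotent K := by
    unfold N5
    have hx : ∀ r, 12 ≤ r → r < 24 → ∀ t : K, xGL chevD4 K r t ∈ chevD4.posUnipotent K := by
      intro r hr1 hr2 t
      exact Subgroup.subset_closure ⟨r, t, isPos_of_range r hr1 hr2, xGL_val chevD4 _ htriD4 r t⟩
    exact mul_mem (hx 17 (by norm_num) (by norm_num) _) (mul_mem (hx 20 (by norm_num) (by norm_num) _)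
      (mul_mem (hx 21 (by norm_num) (by norm_num) _) (mul_mem (hx 22 (by norm_num) (by norm_num) _)
        (hx 23 (by norm_num) (by norm_num) _))))
  by_cases hs12 : s < 12
  · -- a negative root element in `B ∩ V = 1`
    have hV : xGL chevD4 K s t' ∈ chevD4.negUnipotent K := by
      apply Subgroup.subset_closure
      refine ⟨s, t', ?_, xGL_val chevD4 _ htriD4 s t'⟩
      interval_cases s <;> decide +kernel
    have hB : xGL chevD4 K s t' ∈ chevD4.borelSubgroup K := by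
      rw [h1]
      exact (le_sup_left : chevD4.posUnipotent K ≤ chevD4.borelSubgroup K) hN5U
    have h37 := (Cfsg.Agent.S1037.result (F := K) chevD4 hD4).1
    have h5 : xGL chevD4 K s t' ∈ chevD4.borelSubgroup K ⊓ chevD4.negUnipotent K := ⟨hB, hV⟩
    rw [h37, Subgroup.mem_bot, h1] at h5
    have h6 : W12 (par5 d1' d2' d0' e' z') = W12 (par5 (0 : K) 0 0 0 0) := by
      rw [← N5_eq_W12, ← N5_eq_W12, h5, N5_zero]
    have h7 := W12_inj _ _ (par5_pos _ _ _ _ _) (par5_pos _ _ _ _ _) h6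
    have h8 := congrFun h7 17
    simp [par5] at h8
    exact hd1' h8
  · push Not at hs12
    have h6 : W12 (fun r => if r = s then t' else 0) = W12 (par5 d1' d2' d0' e' z') := by
      rw [← N5_eq_W12, ← xGL_eq_W12 s hs12 hs, h1]
    have h7 := W12_inj _ _ (single_pos s hs12 hs t') (par5_pos _ _ _ _ _) h6
    by_cases hs17 : s = 17
    · have h8 := congrFun h7 21
      simp [par5, hs17] at h8
      exact hd0' h8.symm
    · have h8 := congrFun h7 17
      simp [par5, Ne.symm hs17] at h8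
      exact hd1' h8.symm

end Cfsg.Agent.Helper67.D4I
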