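import Mathlib
import Cfsg.Agent.Helper3.E27Defs

/-!
helper67 (for helper3, WANTED #6467 (N1), (N2) of #6444, S3701): two numeric evaluations of
character sums on `(ZMod 3)³`.
-/

set_option autoImplicit false
set_option linter.unusedSectionVars false
set_option linter.unusedVariables false

namespace Cfsg.Agent.Helper67.E27N

open Cfsg.Agent.Helper3.E27 Finset

theorem zeta_rel (ζ : ℂ) (hζ : IsPrimitiveRoot ζ 3) : ζ ^ 2 + ζ + 1 = 0 := by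
  have h3 : ζ ^ 3 = 1 := hζ.pow_eq_one
  have h1 : ζ ≠ 1 := hζ.ne_one (by norm_num)
  have h : (ζ - 1) * (ζ ^ 2 + ζ + 1) = 0 := by
    have : (ζ - 1) * (ζ ^ 2 + ζ + 1) = ζ ^ 3 - 1 := by ring
    rw [this, h3, sub_self]
  rcases mul_eq_zero.1 h with h | h
  · exact absurd (sub_eq_zero.1 h) h1
  · exact h

theorem sum_Vs (f : Vec → ℂ) : ∑ σ ∈ Vs, f σ = f 1 + (f sa + (f sb + f (sa * sb))) := by
  rw [Vs, Finset.sum_insert (by decide), Finset.sum_insert (by decide),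
    Finset.sum_insert (by decide), Finset.sum_singleton]

theorem lam_eq (ζ : ℂ) {u v : Vec} {k : ℕ} (h : (u ⬝ᵥ v).val = k) : lam ζ u v = ζ ^ k := by
  rw [lam, h]

/-- **(N1)** -/
theorem orbit_sums (ζ : ℂ) (hζ : IsPrimitiveRoot ζ 3) :
    ∑ σ ∈ Vs, lam ζ (σ * r 0) (p 0) = 4 ∧ ∑ σ ∈ Vs, lam ζ (σ * r 0) (p 2) = -2 ∧
    ∑ σ ∈ Vs, lam ζ (σ * r 1) (p 0) = -2 ∧ ∑ σ ∈ Vs, lam ζ (σ * r 1) (p 2) = -2 := by
  have hz := zeta_rel ζ hζ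
  have a1 : lam ζ (1 * r 0) (p 0) = ζ ^ 0 := lam_eq ζ (by decide)
  have a2 : lam ζ (sa * r 0) (p 0) = ζ ^ 0 := lam_eq ζ (by decide)
  have a3 : lam ζ (sb * r 0) (p 0) = ζ ^ 0 := lam_eq ζ (by decide)
  have a4 : lam ζ (sa * sb * r 0) (p 0) = ζ ^ 0 := lam_eq ζ (by decide)
  have b1 : lam ζ (1 * r 0) (p 2) = ζ ^ 1 := lam_eq ζ (by decide)
  have b2 : lam ζ (sa * r 0) (p 2) = ζ ^ 1 := lam_eq ζ (by decide)
  have b3 : lam ζ (sb * r 0) (p 2) = ζ ^ 2 := lam_eq ζ (by decide)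
  have b4 : lam ζ (sa * sb * r 0) (p 2) = ζ ^ 2 := lam_eq ζ (by decide)
  have c1 : lam ζ (1 * r 1) (p 0) = ζ ^ 1 := lam_eq ζ (by decide)
  have c2 : lam ζ (sa * r 1) (p 0) = ζ ^ 2 := lam_eq ζ (by decide)
  have c3 : lam ζ (sb * r 1) (p 0) = ζ ^ 2 := lam_eq ζ (by decide)
  have c4 : lam ζ (sa * sb * r 1) (p 0) = ζ ^ 1 := lam_eq ζ (by decide)
  have d1 : lam ζ (1 * r 1) (p 2) = ζ ^ 1 := lam_eq ζ (by decide)
  have d2 : lam ζ (sa * r 1) (p 2) = ζ ^ 1 := lam_eq ζ (by decide)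
  have d3 : lam ζ (sb * r 1) (p 2) = ζ ^ 2 := lam_eq ζ (by decide)
  have d4 : lam ζ (sa * sb * r 1) (p 2) = ζ ^ 2 := lam_eq ζ (by decide)
  refine ⟨?_, ?_, ?_, ?_⟩
  · rw [sum_Vs, a1, a2, a3, a4]; norm_num
  · rw [sum_Vs, b1, b2, b3, b4]; linear_combination 2 * hz
  · rw [sum_Vs, c1, c2, c3, c4]; linear_combination 2 * hz
  · rw [sum_Vs, d1, d2, d3, d4]; linear_combination 2 * hz

set_option maxRecDepth 100000 in
theorem filter_eq : (Finset.univ.filter (fun v : Vec => v 1 = 0 ∧ v 0 ≠ 0 ∧ v 2 ≠ 0)) =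
    {![1, 0, 1], ![1, 0, 2], ![2, 0, 1], ![2, 0, 2]} := by decide

/-- **(N2)** -/
theorem rhs_sum (ζ : ℂ) (hζ : IsPrimitiveRoot ζ 3) :
    ∑ v : Vec, (lam ζ (r 0) v - lam ζ (r 1) v) *
      (if v 1 = 0 ∧ v 0 ≠ 0 ∧ v 2 ≠ 0 then (2916 : ℂ) else 0) = -8748 := by
  have hz := zeta_rel ζ hζ
  have h3 : ζ ^ 3 = 1 := hζ.pow_eq_one
  have e : ∀ v : Vec, (lam ζ (r 0) v - lam ζ (r 1) v) *
      (if v 1 = 0 ∧ v 0 ≠ 0 ∧ v 2 ≠ 0 then (2916 : ℂ) else 0) =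
      if v 1 = 0 ∧ v 0 ≠ 0 ∧ v 2 ≠ 0 then (lam ζ (r 0) v - lam ζ (r 1) v) * 2916 else 0 := by
    intro v
    split_ifs
    · rfl
    · rw [mul_zero]
  rw [Finset.sum_congr rfl (fun v _ => e v), ← Finset.sum_filter, filter_eq,
    Finset.sum_insert (by decide), Finset.sum_insert (by decide), Finset.sum_insert (by decide),
    Finset.sum_singleton]
  have a1 : lam ζ (r 0) ![1, 0, 1] = ζ ^ 1 := lam_eq ζ (by decide)
  have a2 : lam ζ (r 0) ![1, 0, 2] = ζ ^ 2 := lam_eq ζ (by decide)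
  have a3 : lam ζ (r 0) ![2, 0, 1] = ζ ^ 1 := lam_eq ζ (by decide)
  have a4 : lam ζ (r 0) ![2, 0, 2] = ζ ^ 2 := lam_eq ζ (by decide)
  have b1 : lam ζ (r 1) ![1, 0, 1] = ζ ^ 2 := lam_eq ζ (by decide)
  have b2 : lam ζ (r 1) ![1, 0, 2] = ζ ^ 0 := lam_eq ζ (by decide)
  have b3 : lam ζ (r 1) ![2, 0, 1] = ζ ^ 0 := lam_eq ζ (by decide)
  have b4 : lam ζ (r 1) ![2, 0, 2] = ζ ^ 1 := lam_eq ζ (by decide)
  rw [a1, a2, a3, a4, b1, b2, b3, b4]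
  linear_combination 2916 * hz

end Cfsg.Agent.Helper67.E27N
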