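import Cfsg.Agent.Helper38.FP.Defs

/-!
# S2276 (helper38), common tools for the explicit base cases (B6), (B9)
-/

set_option autoImplicit false

namespace Cfsg.Agent.Helper67.FP

open Equiv Cfsg.Agent.Helper38.FP

section words

variable {G : Type*} [Group G]

/-- the word in `a` (letter `true`) and `b` (letter `false`) -/
def wd (a b : G) (l : List Bool) : G := (l.map fun c => cond c a b).prod

theorem wd_mem (a b : G) (l : List Bool) : wd a b l ∈ Subgroup.closure ({a, b} : Set G) := by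
  unfold wd
  apply Subgroup.list_prod_mem
  intro x hx
  rw [List.mem_map] at hx
  obtain ⟨c, _, rfl⟩ := hx
  cases c
  · exact Subgroup.subset_closure (by simp)
  · exact Subgroup.subset_closure (by simp)

/-- a good pair from explicit data -/
theorem good_of_cert (a b : G) (j m : ℕ) (lg ly lz : List Bool)
    (h1 : (a * b) ^ j ≠ 1) (h2 : ((a * b) ^ j) ^ m = 1) (hc : Nat.Coprime 3 m)
    (hg1 : wd a b lg ≠ 1)
    (key : wd a b lg = wd a b lz * (wd a b lg * (wd a b ly * wd a b lg * (wd a b ly)⁻¹) *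
      (wd a b lg)⁻¹ * (wd a b ly * wd a b lg * (wd a b ly)⁻¹)⁻¹) * (wd a b lz)⁻¹) :
    Good 3 a b := by
  have : Fact (Nat.Prime 3) := ⟨Nat.prime_three⟩
  exact ⟨not_isPEl_of_pow (a * b) j m h1 h2 hc,
    not_solvable_closure_of_cert a b _ _ _ (wd_mem a b lg) (wd_mem a b ly) (wd_mem a b lz) hg1 key⟩

end words

section conj

variable {β : Type*} [Fintype β] [DecidableEq β] {p : ℕ}

/-- conjugating a good pair of representatives onto a given pair, with an even conjugator -/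
theorem exists_even_conj (u u₀ w w₀ t : Perm β) (hu : u.cycleType = u₀.cycleType)
    (hw : w.cycleType = w₀.cycleType) (ht : Perm.sign t = -1) (htw : t * w₀ = w₀ * t)
    (hgood : Good p u₀ w₀) : ∃ g : Perm β, Perm.sign g = 1 ∧ Good p u (g * w * g⁻¹) := by
  obtain ⟨a, ha⟩ := isConj_iff.1 ((Perm.isConj_iff_cycleType_eq).2 hu)
  obtain ⟨b, hb⟩ := isConj_iff.1 ((Perm.isConj_iff_cycleType_eq).2 hw)
  have hG : Good p u (a⁻¹ * w₀ * a⁻¹⁻¹) := by
    have h := hgood.conj a⁻¹
    have e : a⁻¹ * u₀ * a⁻¹⁻¹ = u := by rw [← ha]; group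
    rwa [e] at h
  have h1 : (a⁻¹ * b) * w * (a⁻¹ * b)⁻¹ = a⁻¹ * w₀ * a⁻¹⁻¹ := by
    rw [← hb]; group
  have h2 : (a⁻¹ * t * b) * w * (a⁻¹ * t * b)⁻¹ = a⁻¹ * w₀ * a⁻¹⁻¹ := by
    have e : t * w₀ * t⁻¹ = w₀ := by rw [htw, mul_inv_cancel_right]
    calc (a⁻¹ * t * b) * w * (a⁻¹ * t * b)⁻¹ = a⁻¹ * (t * (b * w * b⁻¹) * t⁻¹) * a⁻¹⁻¹ := by group
      _ = a⁻¹ * w₀ * a⁻¹⁻¹ := by rw [hb, e]
  rcases Int.units_eq_one_or (Perm.sign (a⁻¹ * b)) with hs | hs
  · exact ⟨a⁻¹ * b, hs, by rw [h1]; exact hG⟩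
  · refine ⟨a⁻¹ * t * b, ?_, by rw [h2]; exact hG⟩
    have e : Perm.sign (a⁻¹ * t * b) = Perm.sign (a⁻¹ * b) * Perm.sign t := by
      simp only [Perm.sign_mul]
      rw [mul_assoc, mul_comm (Perm.sign t), ← mul_assoc]
    rw [e, hs, ht]
    rfl

/-- cycle types of `3`-elements all of whose cycles are shorter than `9` -/
theorem cycleType_eq_replicate (σ : Perm β) (hσ : IsPEl 3 σ) (h9 : ∀ n ∈ σ.cycleType, n < 9) :
    σ.cycleType = Multiset.replicate (Multiset.card σ.cycleType) 3 := by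
  rw [Multiset.eq_replicate]
  refine ⟨rfl, fun n hn => ?_⟩
  obtain ⟨k, hk⟩ := hσ
  have h1 : n ∣ 3 ^ k := hk ▸ Perm.dvd_of_mem_cycleType hn
  obtain ⟨j, _, rfl⟩ := (Nat.dvd_prime_pow Nat.prime_three).1 h1
  have h2 : 2 ≤ 3 ^ j := Perm.two_le_of_mem_cycleType hn
  have h3 : 3 ^ j < 9 := h9 _ hn
  have hj1 : j ≠ 0 := by
    rintro rfl
    simp at h2
  have hj2 : j < 2 := by
    by_contra hcon
    push Not at hcon
    have : 3 ^ 2 ≤ 3 ^ j := Nat.pow_le_pow_right (by norm_num) hcon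
    omega
  have : j = 1 := by omega
  rw [this, pow_one]

theorem three_mul_card_cycleType (σ : Perm β) (hσ : IsPEl 3 σ) (h9 : ∀ n ∈ σ.cycleType, n < 9) :
    3 * Multiset.card σ.cycleType ≤ Fintype.card β := by
  have h1 := cycleType_eq_replicate σ hσ h9
  have h2 : σ.cycleType.sum = σ.support.card := Perm.sum_cycleType σ
  rw [h1, Multiset.sum_replicate, smul_eq_mul] at h2
  have h3 : σ.support.card ≤ Fintype.card β := Finset.card_le_univ _
  omega

theorem card_cycleType_pos (σ : Perm β) (h1 : σ ≠ 1) : 0 < Multiset.card σ.cycleType := by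
  rw [Multiset.card_pos]
  intro h
  exact h1 (Perm.cycleType_eq_zero.1 h)

end conj

section transport

variable {α β : Type*}

theorem isFull_permCongr (e : α ≃ β) (u : Perm α) (hu : IsFull u) : IsFull (e.permCongr u) := by
  intro x y
  obtain ⟨i, hi⟩ := hu (e.symm x) (e.symm y)
  refine ⟨i, ?_⟩
  have h1 : (e.permCongr u) ^ i = e.permCongr (u ^ i) :=
    (map_zpow e.permCongrHom u i).symm
  rw [h1, Equiv.permCongr_apply, hi, Equiv.apply_symm_apply]

theorem isFull_permCongr_iff (e : α ≃ β) (u : Perm α) : IsFull (e.permCongr u) ↔ IsFull u := by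
  refine ⟨fun h => ?_, isFull_permCongr e u⟩
  have h1 := isFull_permCongr e.symm _ h
  have h2 : e.symm.permCongr (e.permCongr u) = u := by
    ext x
    simp [Equiv.permCongr_apply]
  rwa [h2] at h1

end transport

end Cfsg.Agent.Helper67.FP
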