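import Cfsg.Agent.Helper16.DT.Defs
import Cfsg.Agent.Helper53.DT_EQI

set_option autoImplicit false
set_option linter.unusedSectionVars false
set_option linter.unusedVariables false

namespace Cfsg.Agent.Helper67.FS

open Cfsg Cfsg.Agent.Helper16 Cfsg.Agent.Helper16.DT

universe u

variable {p : ℕ} [Fact p.Prime] {M : Ideal AlgInt} [M.IsMaximal] {G : Type u} [Group G]

/-- (K2g) `Matrix.charpoly_fromBlocks_zero₂₁`, `Polynomial.roots_mul` (monic, nonzero). -/
theorem bfull_fromBlocks {α β : Type*} [Fintype α] [DecidableEq α] [Fintype β] [DecidableEq β]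
    (A : Matrix α α (AlgInt ⧸ M)) (X : Matrix α β (AlgInt ⧸ M)) (D : Matrix β β (AlgInt ⧸ M)) :
    bfull p M (Matrix.fromBlocks A X 0 D) = bfull p M A + bfull p M D := by
  unfold bfull
  rw [Matrix.charpoly_fromBlocks_zero₂₁]
  have hne : A.charpoly * D.charpoly ≠ 0 :=
    mul_ne_zero (Matrix.charpoly_monic A).ne_zero (Matrix.charpoly_monic D).ne_zero
  rw [Polynomial.roots_mul hne, Multiset.map_add, Multiset.sum_add]

/-- (K2g) conjugation invariance. -/
theorem bfull_conj {α β : Type*} [Fintype α] [DecidableEq α] [Fintype β] [DecidableEq β]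
    (A : Matrix α α (AlgInt ⧸ M)) (P : Matrix α β (AlgInt ⧸ M)) (Q : Matrix β α (AlgInt ⧸ M))
    (hPQ : P * Q = 1) (hQP : Q * P = 1) : bfull p M (Q * A * P) = bfull p M A := by
  have hcard := Cfsg.Agent.Helper53.DT.EQI_card_eq hPQ hQP
  have h1 := Matrix.charpoly_mul_comm' Q (A * P)
  have h2 : A * P * Q = A := by rw [Matrix.mul_assoc, hPQ, Matrix.mul_one]
  rw [h2, ← Matrix.mul_assoc, hcard] at h1
  have h3 : (Q * A * P).charpoly = A.charpoly :=
    mul_left_cancel₀ (pow_ne_zero _ Polynomial.X_ne_zero) h1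
  unfold bfull
  rw [h3]

/-- (K2g) the characteristic polynomial of a `1 × 1` matrix is `X - C a`. -/
theorem bfull_unit (a : AlgInt ⧸ M) :
    bfull p M (a • (1 : Matrix Unit Unit (AlgInt ⧸ M))) = teich p M a := by
  have h : (a • (1 : Matrix Unit Unit (AlgInt ⧸ M))).charpoly = Polynomial.X - Polynomial.C a := by
    unfold Matrix.charpoly
    rw [Matrix.det_unique, Matrix.charmatrix_apply_eq]
    simp
  unfold bfull
  rw [h, Polynomial.roots_X_sub_C]
  simp

/-- (K2g) matrices on an empty index type. -/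
theorem bfull_of_isEmpty {α : Type*} [Fintype α] [DecidableEq α] [IsEmpty α]
    (A : Matrix α α (AlgInt ⧸ M)) : bfull p M A = 0 := by
  have h : A.charpoly = 1 := by
    unfold Matrix.charpoly
    exact Matrix.det_isEmpty
  unfold bfull
  rw [h, Polynomial.roots_one]
  simp

end Cfsg.Agent.Helper67.FS
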