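import Mathlib

/-!
# (TR1), (TR2) for S4150: transitivity of the group generated by two permutations

(helper67 for helper30, pieces (TR1) and (TR2) of board post #4465.)
-/

set_option autoImplicit false
set_option linter.unusedVariables false

namespace Cfsg.Agent.Helper67.GenTR

open Equiv Equiv.Perm

/-- If every point can be moved to a fixed point `c` by an element of the subgroup `H`, then `H`
is transitive. -/
theorem isPretransitive_of_forall_exists {α : Type*} (H : Subgroup (Perm α)) (c : α)
    (h : ∀ a : α, ∃ g ∈ H, g a = c) : MulAction.IsPretransitive H α := by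
  refine ⟨fun a b => ?_⟩
  obtain ⟨g, hg, hga⟩ := h a
  obtain ⟨k, hk, hkb⟩ := h b
  refine ⟨⟨k⁻¹ * g, H.mul_mem (H.inv_mem hk) hg⟩, ?_⟩
  show (k⁻¹ * g) a = b
  rw [Perm.mul_apply, hga, ← hkb]
  exact k.symm_apply_apply b

theorem isPretransitive_closure_of_cycles {α : Type*} [Fintype α] [DecidableEq α] (σ τ : Perm α)
    (hσ : σ.IsCycle) (hτ : τ.IsCycle) (hcov : σ.support ∪ τ.support = Finset.univ)
    (hint : (σ.support ∩ τ.support).Nonempty) :
    MulAction.IsPretransitive (Subgroup.closure ({σ, τ} : Set (Perm α))) α := by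
  obtain ⟨c, hc⟩ := hint
  rw [Finset.mem_inter] at hc
  have hσH : σ ∈ Subgroup.closure ({σ, τ} : Set (Perm α)) :=
    Subgroup.subset_closure (Set.mem_insert σ _)
  have hτH : τ ∈ Subgroup.closure ({σ, τ} : Set (Perm α)) :=
    Subgroup.subset_closure (Set.mem_insert_of_mem σ rfl)
  apply isPretransitive_of_forall_exists _ c
  intro a
  have ha : a ∈ σ.support ∪ τ.support := by rw [hcov]; exact Finset.mem_univ a
  rcases Finset.mem_union.mp ha with ha | ha
  · obtain ⟨i, hi⟩ := hσ.sameCycle (mem_support.mp ha) (mem_support.mp hc.1)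
    exact ⟨σ ^ i, Subgroup.zpow_mem _ hσH i, hi⟩
  · obtain ⟨i, hi⟩ := hτ.sameCycle (mem_support.mp ha) (mem_support.mp hc.2)
    exact ⟨τ ^ i, Subgroup.zpow_mem _ hτH i, hi⟩

theorem isPretransitive_closure_of_two_cycles {α : Type*} [Fintype α] [DecidableEq α] {p : ℕ}
    (hp : p.Prime) (σ τ : Perm α) (hσ : σ.cycleType = {p, p}) (hα : Fintype.card α = 2 * p)
    (hτ : τ.IsCycle) (hτc : p < τ.support.card) :
    MulAction.IsPretransitive (Subgroup.closure ({σ, τ} : Set (Perm α))) α := by
  have hσH : σ ∈ Subgroup.closure ({σ, τ} : Set (Perm α)) :=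
    Subgroup.subset_closure (Set.mem_insert σ _)
  have hτH : τ ∈ Subgroup.closure ({σ, τ} : Set (Perm α)) :=
    Subgroup.subset_closure (Set.mem_insert_of_mem σ rfl)
  -- `σ` moves every point
  have hsum : σ.support.card = 2 * p := by
    rw [← sum_cycleType, hσ]
    show ({p, p} : Multiset ℕ).sum = 2 * p
    rw [Multiset.insert_eq_cons, Multiset.sum_cons, Multiset.sum_singleton]
    ring
  have hsupp : σ.support = Finset.univ := by
    apply Finset.eq_univ_of_card
    rw [hsum, hα]
  -- every cycle of `σ` has `p` points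
  have hcyc : ∀ a : α, (σ.cycleOf a).support.card = p := by
    intro a
    have ha : a ∈ σ.support := by rw [hsupp]; exact Finset.mem_univ a
    have h1 : σ.cycleOf a ∈ σ.cycleFactorsFinset := cycleOf_mem_cycleFactorsFinset_iff.mpr ha
    have h2 : (σ.cycleOf a).support.card ∈ σ.cycleType := by
      rw [cycleType_def]
      exact Multiset.mem_map_of_mem (Finset.card ∘ support) h1
    rw [hσ] at h2
    have h3 : (σ.cycleOf a).support.card ∈ ({p, p} : Multiset ℕ) := h2
    rw [Multiset.insert_eq_cons, Multiset.mem_cons, Multiset.mem_singleton, or_self] at h3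
    exact h3
  -- a point of `τ`'s support
  have hτne : τ.support.Nonempty := by
    rw [← Finset.card_pos]
    omega
  obtain ⟨c, hc⟩ := hτne
  apply isPretransitive_of_forall_exists _ c
  intro a
  have ha : a ∈ σ.support := by rw [hsupp]; exact Finset.mem_univ a
  -- the cycle of `a` meets the support of `τ`
  have hmeet : ((σ.cycleOf a).support ∩ τ.support).Nonempty := by
    by_contra hcon
    rw [Finset.not_nonempty_iff_eq_empty, ← Finset.disjoint_iff_inter_eq_empty] at hcon
    have h1 : ((σ.cycleOf a).support ∪ τ.support).card =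
        (σ.cycleOf a).support.card + τ.support.card := Finset.card_union_of_disjoint hcon
    have h2 : ((σ.cycleOf a).support ∪ τ.support).card ≤ Fintype.card α := Finset.card_le_univ _
    rw [h1, hcyc a, hα] at h2
    omega
  obtain ⟨b, hb⟩ := hmeet
  rw [Finset.mem_inter] at hb
  obtain ⟨i, hi⟩ := (mem_support_cycleOf_iff' (mem_support.mp ha)).mp hb.1
  obtain ⟨j, hj⟩ := hτ.sameCycle (mem_support.mp hb.2) (mem_support.mp hc)
  refine ⟨τ ^ j * σ ^ i, Subgroup.mul_mem _ (Subgroup.zpow_mem _ hτH j)
    (Subgroup.zpow_mem _ hσH i), ?_⟩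
  rw [Perm.mul_apply, hi, hj]

end Cfsg.Agent.Helper67.GenTR
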