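import Mathlib
import Cfsg.Agent.Helper67.Cj
import Cfsg.Agent.Helper67.ClassTwo
import Cfsg.Agent.Helper31.CoprimeHyp

set_option autoImplicit false

/-!
Structure of a nonabelian subgroup `P` of order `p ^ 3` of a group `G`, stated inside `G`.
-/

namespace Cfsg.Agent.Helper67.Heis

open Cfsg.Agent.Helper67
open scoped commutatorElement

/-- In a noncommutative group of order `p ^ 3` the centre has order `p` and contains the
commutators.  (Proof as in `Helper87.center_of_card_cube`, repeated here to keep imports light.) -/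
theorem center_of_card_cube' {P : Type*} [Group P] {p : ℕ} [Fact p.Prime]
    (hcard : Nat.card P = p ^ 3) (hnab : ¬ ∀ a b : P, a * b = b * a) :
    Nat.card (Subgroup.center P) = p ∧ ∀ a b : P, ⁅a, b⁆ ∈ Subgroup.center P := by
  have hp : p.Prime := Fact.out
  have : Finite P := Nat.finite_of_card_ne_zero (by rw [hcard]; exact pow_ne_zero _ hp.ne_zero)
  obtain ⟨k, hk0, hk⟩ := IsPGroup.card_center_eq_prime_pow hcard (by norm_num)
  have hZdvd : Nat.card (Subgroup.center P) ∣ p ^ 3 := hcard ▸ Subgroup.card_subgroup_dvd_card _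
  have hk3 : k ≤ 3 := by
    rw [hk] at hZdvd
    exact (Nat.pow_dvd_pow_iff_le_right hp.one_lt).1 hZdvd
  have hk1 : k = 1 := by
    have h3 : k ≠ 3 := by
      rintro rfl
      have htop : Subgroup.center P = ⊤ := by
        rw [← Subgroup.card_eq_iff_eq_top, hk, hcard]
      apply hnab
      intro a b
      have : b ∈ Subgroup.center P := htop ▸ Subgroup.mem_top b
      exact (Subgroup.mem_center_iff.1 this) a
    have h2 : k ≠ 2 := by
      rintro rfl
      have hidx : (Subgroup.center P).index = p := by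
        have h := Subgroup.card_mul_index (Subgroup.center P)
        rw [hk, hcard] at h
        have : p ^ 2 * (Subgroup.center P).index = p ^ 2 * p := by rw [h]; ring
        exact Nat.eq_of_mul_eq_mul_left (pow_pos hp.pos 2) this
      have hcardQ : Nat.card (P ⧸ Subgroup.center P) = p := hidx
      have : IsCyclic (P ⧸ Subgroup.center P) := isCyclic_of_prime_card hcardQ
      apply hnab
      have hc := MonoidHom.isMulCommutative_of_isCyclic_of_ker_le_center
        (QuotientGroup.mk' (Subgroup.center P)) (by rw [QuotientGroup.ker_mk'])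
      exact hc.is_comm.comm
    omega
  subst hk1
  rw [pow_one] at hk
  have hidx : (Subgroup.center P).index = p ^ 2 := by
    have h := Subgroup.card_mul_index (Subgroup.center P)
    rw [hk, hcard] at h
    have : p * (Subgroup.center P).index = p * p ^ 2 := by rw [h]; ring
    exact Nat.eq_of_mul_eq_mul_left hp.pos this
  have hcardQ : Nat.card (P ⧸ Subgroup.center P) = p ^ 2 := hidx
  have hQc : IsMulCommutative (P ⧸ Subgroup.center P) :=
    IsPGroup.isMulCommutative_of_card_eq_prime_sq hcardQ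
  have hcomle : commutator P ≤ Subgroup.center P :=
    Subgroup.Normal.quotient_commutative_iff_commutator_le.1 hQc
  exact ⟨hk, fun a b => hcomle (Subgroup.commutator_mem_commutator (Subgroup.mem_top a) (Subgroup.mem_top b))⟩

variable {G : Type*} [Group G]

/-- The centre of the subgroup `P`, as a subgroup of `G`. -/
def Zc (P : Subgroup G) : Subgroup G := P ⊓ Subgroup.centralizer (P : Set G)

theorem mem_Zc {P : Subgroup G} {z : G} : z ∈ Zc P ↔ z ∈ P ∧ ∀ y ∈ P, y * z = z * y := by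
  constructor
  · intro h
    have h1 : z ∈ P := h.1
    have h2 : z ∈ Subgroup.centralizer (P : Set G) := h.2
    rw [Subgroup.mem_centralizer_iff] at h2
    exact ⟨h1, fun y hy => h2 y hy⟩
  · rintro ⟨h1, h2⟩
    refine ⟨h1, ?_⟩
    show z ∈ Subgroup.centralizer (P : Set G)
    rw [Subgroup.mem_centralizer_iff]
    exact fun y hy => h2 y hy

theorem Zc_le (P : Subgroup G) : Zc P ≤ P := inf_le_left

theorem Zc_eq_map (P : Subgroup G) : Zc P = (Subgroup.center P).map P.subtype := by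
  ext z
  rw [mem_Zc, Subgroup.mem_map]
  constructor
  · rintro ⟨h1, h2⟩
    refine ⟨⟨z, h1⟩, ?_, rfl⟩
    rw [Subgroup.mem_center_iff]
    rintro ⟨y, hy⟩
    exact Subtype.ext (h2 y hy)
  · rintro ⟨⟨w, hw⟩, hc, rfl⟩
    refine ⟨hw, fun y hy => ?_⟩
    have := Subgroup.mem_center_iff.1 hc ⟨y, hy⟩
    exact congrArg Subtype.val this

theorem cj_Zc (h : G) (P : Subgroup G) : cj h (Zc P) = Zc (cj h P) := by
  ext z
  rw [mem_cj_iff, mem_Zc, mem_Zc, mem_cj_iff]
  constructor
  · rintro ⟨h1, h2⟩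
    refine ⟨h1, fun y hy => ?_⟩
    rw [mem_cj_iff] at hy
    have := h2 _ hy
    have e1 : y * z = h * ((h⁻¹ * y * h) * (h⁻¹ * z * h)) * h⁻¹ := by group
    have e2 : z * y = h * ((h⁻¹ * z * h) * (h⁻¹ * y * h)) * h⁻¹ := by group
    rw [e1, e2, this]
  · rintro ⟨h1, h2⟩
    refine ⟨h1, fun y hy => ?_⟩
    have hy' : h * y * h⁻¹ ∈ cj h P := conj_mem_cj hy
    have := h2 _ hy'
    have e1 : y * (h⁻¹ * z * h) = h⁻¹ * ((h * y * h⁻¹) * z) * h := by group
    have e2 : (h⁻¹ * z * h) * y = h⁻¹ * (z * (h * y * h⁻¹)) * h := by group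
    rw [e1, e2, this]

theorem cj_Zc_of_normalizes {h : G} {P : Subgroup G} (hP : cj h P = P) : cj h (Zc P) = Zc P := by
  rw [cj_Zc, hP]

/-- The centralizer of `y` in `P`. -/
def Cn (P : Subgroup G) (y : G) : Subgroup G := P ⊓ Subgroup.centralizer ({y} : Set G)

theorem mem_Cn {P : Subgroup G} {y w : G} : w ∈ Cn P y ↔ w ∈ P ∧ y * w = w * y := by
  constructor
  · intro h
    have h1 : w ∈ P := h.1
    have h2 : w ∈ Subgroup.centralizer ({y} : Set G) := h.2
    rw [Subgroup.mem_centralizer_iff] at h2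
    exact ⟨h1, h2 y rfl⟩
  · rintro ⟨h1, h2⟩
    refine ⟨h1, ?_⟩
    show w ∈ Subgroup.centralizer ({y} : Set G)
    rw [Subgroup.mem_centralizer_iff]
    intro v hv
    rw [Set.mem_singleton_iff] at hv
    subst hv
    exact h2

theorem Cn_le (P : Subgroup G) (y : G) : Cn P y ≤ P := inf_le_left

/-- A subgroup of order `p ^ 2` is abelian. -/
theorem abelian_of_card_sq [Finite G] {p : ℕ} [Fact p.Prime] {A : Subgroup G}
    (hA : Nat.card A = p ^ 2) : ∀ a ∈ A, ∀ b ∈ A, a * b = b * a := by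
  intro a ha b hb
  have := IsPGroup.isMulCommutative_of_card_eq_prime_sq hA
  exact congrArg Subtype.val (mul_comm' (⟨a, ha⟩ : A) ⟨b, hb⟩)

/-- Two subgroups of prime order sharing a nonidentity element are equal. -/
theorem eq_of_card_prime_of_mem [Finite G] {p : ℕ} [Fact p.Prime] {X Y : Subgroup G}
    (hX : Nat.card X = p) (hY : Nat.card Y = p) {x : G} (hxX : x ∈ X) (hxY : x ∈ Y)
    (hx : x ≠ 1) : X = Y := by
  have hp : p.Prime := Fact.out
  have h1 : Nat.card (X ⊓ Y : Subgroup G) = p := by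
    have hdvd : Nat.card (X ⊓ Y : Subgroup G) ∣ p := hX ▸ Subgroup.card_dvd_of_le inf_le_left
    rcases (Nat.dvd_prime hp).1 hdvd with h | h
    · exfalso
      rw [Subgroup.card_eq_one] at h
      have : x ∈ (X ⊓ Y : Subgroup G) := ⟨hxX, hxY⟩
      rw [h, Subgroup.mem_bot] at this
      exact hx this
    · exact h
  have e1 : X ⊓ Y = X := Subgroup.eq_of_le_of_card_ge inf_le_left (by rw [h1, hX])
  have e2 : X ⊓ Y = Y := Subgroup.eq_of_le_of_card_ge inf_le_right (by rw [h1, hY])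
  rw [← e1]; exact e2

section Cube

variable [Finite G] {p : ℕ} [Fact p.Prime] {P : Subgroup G} (hcard : Nat.card P = p ^ 3)
  (hna : ∃ a ∈ P, ∃ b ∈ P, a * b ≠ b * a)

include hcard hna

theorem card_Zc : Nat.card (Zc P) = p := by
  have hna' : ¬ ∀ a b : P, a * b = b * a := by
    obtain ⟨a, ha, b, hb, hab⟩ := hna
    intro h
    exact hab (congrArg Subtype.val (h ⟨a, ha⟩ ⟨b, hb⟩))
  rw [Zc_eq_map, Subgroup.card_map_of_injective (Subgroup.subtype_injective P)]
  exact (center_of_card_cube' hcard hna').1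

theorem comm_mem_Zc {a b : G} (ha : a ∈ P) (hb : b ∈ P) : a * b * a⁻¹ * b⁻¹ ∈ Zc P := by
  have hna' : ¬ ∀ a b : P, a * b = b * a := by
    obtain ⟨a, ha, b, hb, hab⟩ := hna
    intro h
    exact hab (congrArg Subtype.val (h ⟨a, ha⟩ ⟨b, hb⟩))
  have h := (center_of_card_cube' hcard hna').2 ⟨a, ha⟩ ⟨b, hb⟩
  rw [Zc_eq_map, Subgroup.mem_map]
  exact ⟨_, h, rfl⟩

/-- The centralizer in `P` of a noncentral element has order `p ^ 2`. -/
theorem card_Cn {y : G} (hy : y ∈ P) (hyZ : y ∉ Zc P) : Nat.card (Cn P y) = p ^ 2 := by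
  have hp : p.Prime := Fact.out
  have hZ := card_Zc hcard hna
  have hle : Zc P ≤ Cn P y := by
    intro z hz
    rw [mem_Zc] at hz
    rw [mem_Cn]
    exact ⟨hz.1, hz.2 y hy⟩
  have hyC : y ∈ Cn P y := mem_Cn.2 ⟨hy, rfl⟩
  have h1 : p < Nat.card (Cn P y) := by
    by_contra hcon
    push Not at hcon
    have : Zc P = Cn P y := Subgroup.eq_of_le_of_card_ge hle (by rw [hZ]; exact hcon)
    exact hyZ (this ▸ hyC)
  have h2 : Nat.card (Cn P y) < p ^ 3 := by
    by_contra hcon
    push Not at hcon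
    have : Cn P y = P := Subgroup.eq_of_le_of_card_ge (Cn_le P y) (by rw [hcard]; exact hcon)
    apply hyZ
    rw [mem_Zc]
    refine ⟨hy, fun w hw => ?_⟩
    have hw' : w ∈ Cn P y := by rw [this]; exact hw
    exact ((mem_Cn.1 hw').2).symm
  have hdvd : Nat.card (Cn P y) ∣ p ^ 3 := hcard ▸ Subgroup.card_dvd_of_le (Cn_le P y)
  obtain ⟨m, hm, hm'⟩ := (Nat.dvd_prime_pow hp).1 hdvd
  rw [hm'] at h1 h2 ⊢
  have h3 : 1 < m := by
    have : p ^ 1 < p ^ m := by rwa [pow_one]
    exact (Nat.pow_lt_pow_iff_right hp.one_lt).1 this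
  have h4 : m < 3 := (Nat.pow_lt_pow_iff_right hp.one_lt).1 h2
  have : m = 2 := by omega
  rw [this]

/-- A subgroup of order `p ^ 2` of `P` is the centralizer in `P` of each of its noncentral elements. -/
theorem eq_Cn {A : Subgroup G} (hAP : A ≤ P) (hA : Nat.card A = p ^ 2) {a : G} (ha : a ∈ A)
    (haZ : a ∉ Zc P) : A = Cn P a := by
  apply Subgroup.eq_of_le_of_card_ge
  · intro b hb
    rw [mem_Cn]
    exact ⟨hAP hb, abelian_of_card_sq hA a ha b hb⟩
  · rw [card_Cn hcard hna (hAP ha) haZ, hA]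

/-- A subgroup of order `p ^ 2` has an element outside the centre. -/
theorem exists_mem_not_mem_Zc {A : Subgroup G} (hA : Nat.card A = p ^ 2) :
    ∃ a ∈ A, a ∉ Zc P := by
  have hp : p.Prime := Fact.out
  by_contra hcon
  push Not at hcon
  have hle : A ≤ Zc P := hcon
  have := Nat.le_of_dvd hp.pos ((card_Zc hcard hna) ▸ Subgroup.card_dvd_of_le hle)
  rw [hA] at this
  have h2 : p ^ 1 < p ^ 2 := Nat.pow_lt_pow_right hp.one_lt (by norm_num)
  rw [pow_one] at h2
  omega

theorem Zc_le_of_card_sq {A : Subgroup G} (hAP : A ≤ P) (hA : Nat.card A = p ^ 2) : Zc P ≤ A := by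
  obtain ⟨a, ha, haZ⟩ := exists_mem_not_mem_Zc hcard hna hA
  rw [eq_Cn hcard hna hAP hA ha haZ]
  intro z hz
  rw [mem_Zc] at hz
  rw [mem_Cn]
  exact ⟨hz.1, hz.2 a (hAP ha)⟩

theorem conj_mem_of_card_sq {A : Subgroup G} (hAP : A ≤ P) (hA : Nat.card A = p ^ 2) {y a : G}
    (hy : y ∈ P) (ha : a ∈ A) : y * a * y⁻¹ ∈ A := by
  have h1 := Zc_le_of_card_sq hcard hna hAP hA (comm_mem_Zc hcard hna hy (hAP ha))
  have := A.mul_mem h1 ha
  have e : y * a * y⁻¹ * a⁻¹ * a = y * a * y⁻¹ := by group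
  rwa [e] at this

theorem cj_eq_of_card_sq {A : Subgroup G} (hAP : A ≤ P) (hA : Nat.card A = p ^ 2) {y : G}
    (hy : y ∈ P) : cj y A = A :=
  cj_eq_self_of_conj_mem (fun _ ha => conj_mem_of_card_sq hcard hna hAP hA hy ha)

/-- The conjugates of a noncentral element `x` of `P` are the elements `z * x`, `z` central. -/
theorem exists_conj_eq_mul {x z : G} (hx : x ∈ P) (hxZ : x ∉ Zc P) (hz : z ∈ Zc P) :
    ∃ y ∈ P, y * x * y⁻¹ = z * x := by
  have hp : p.Prime := Fact.out
  -- some `y₀ ∈ P` does not commute with `x`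
  obtain ⟨y₀, hy₀, hy₀x⟩ : ∃ y₀ ∈ P, y₀ * x ≠ x * y₀ := by
    by_contra hcon
    push Not at hcon
    exact hxZ (mem_Zc.2 ⟨hx, hcon⟩)
  obtain ⟨z₀, hz₀def⟩ : ∃ z₀, z₀ = y₀ * x * y₀⁻¹ * x⁻¹ := ⟨_, rfl⟩
  have hz₀ : z₀ ∈ Zc P := hz₀def ▸ comm_mem_Zc hcard hna hy₀ hx
  have hz₀1 : z₀ ≠ 1 := by
    intro h
    apply hy₀x
    rw [h] at hz₀def
    have := congrArg (· * (x * y₀)) hz₀def
    simp only [one_mul] at this
    rw [this]; group
  have hz₀c := (mem_Zc.1 hz₀).2
  -- `Zc P` is generated by `z₀`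
  have hgen : Subgroup.zpowers z₀ = Zc P := by
    apply Subgroup.eq_of_le_of_card_ge
    · rw [Subgroup.zpowers_le]; exact hz₀
    · rw [card_Zc hcard hna, Nat.card_zpowers]
      have hdvd : orderOf z₀ ∣ p := by
        have := Subgroup.card_dvd_of_le (Subgroup.zpowers_le.2 hz₀)
        rwa [Nat.card_zpowers, card_Zc hcard hna] at this
      rcases (Nat.dvd_prime hp).1 hdvd with h | h
      · exact absurd (orderOf_eq_one_iff.1 h) hz₀1
      · rw [h]
  rw [← hgen] at hz
  obtain ⟨n, rfl⟩ := (Submonoid.mem_powers_iff _ _).1 (mem_powers_iff_mem_zpowers.2 hz)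
  refine ⟨y₀ ^ n, P.pow_mem hy₀ n, ?_⟩
  have h1 : y₀ * x = z₀ * (x * y₀) := by rw [hz₀def]; group
  have h2 := pow_mul_of_commutator_commute h1 (hz₀c y₀ hy₀).symm n
  rw [h2]; group

end Cube


end Cfsg.Agent.Helper67.Heis
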