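import Mathlib
import Cfsg.Agent.Helper67.Heis

set_option autoImplicit false

/-!
A nonabelian group of order `p ^ 3` has exactly `p + 1` subgroups of order `p ^ 2`.
-/

namespace Cfsg.Agent.Helper67.Heis

open Cfsg.Agent.Helper67

variable {G : Type*} [Group G] [Finite G] {p : ℕ} [Fact p.Prime] {P : Subgroup G}
  (hcard : Nat.card P = p ^ 3) (hna : ∃ a ∈ P, ∃ b ∈ P, a * b ≠ b * a)

include hcard hna

theorem ncard_diff_Zc {B : Subgroup G} (hB : Zc P ≤ B) :
    ((B : Set G) \ (Zc P : Set G)).ncard = Nat.card B - p := by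
  rw [Set.ncard_sdiff (by exact hB) (Set.toFinite _), ← Nat.card_coe_set_eq, ← Nat.card_coe_set_eq]
  have h1 : Nat.card ((Zc P : Subgroup G) : Set G) = p := card_Zc hcard hna
  rw [h1]
  rfl

theorem ncard_card_sq :
    Set.ncard {B : Subgroup G | B ≤ P ∧ Nat.card B = p ^ 2} = p + 1 := by
  classical
  have hp : p.Prime := Fact.out
  obtain ⟨Ω, hΩ⟩ : ∃ Ω : Set (Subgroup G), Ω = {B : Subgroup G | B ≤ P ∧ Nat.card B = p ^ 2} :=
    ⟨_, rfl⟩
  rw [← hΩ]
  have hΩfin : Ω.Finite := Set.toFinite Ω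
  have hSfin : ((P : Set G) \ (Zc P : Set G)).Finite := Set.toFinite _
  have hS : hSfin.toFinset.card = p ^ 3 - p := by
    rw [← Set.ncard_eq_toFinset_card, ncard_diff_Zc hcard hna (Zc_le P), hcard]
  have hmaps : ∀ y ∈ hSfin.toFinset, Cn P y ∈ hΩfin.toFinset := by
    intro y hy
    rw [Set.Finite.mem_toFinset] at hy ⊢
    rw [hΩ]
    exact ⟨Cn_le P y, card_Cn hcard hna hy.1 hy.2⟩
  have key := Finset.card_eq_sum_card_fiberwise hmaps
  have hfib : ∀ B ∈ hΩfin.toFinset,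
      (hSfin.toFinset.filter (fun y => Cn P y = B)).card = p ^ 2 - p := by
    intro B hB
    rw [Set.Finite.mem_toFinset, hΩ] at hB
    obtain ⟨hBP, hBc⟩ := hB
    have hZB := Zc_le_of_card_sq hcard hna hBP hBc
    have hfin' : ((B : Set G) \ (Zc P : Set G)).Finite := Set.toFinite _
    have : hSfin.toFinset.filter (fun y => Cn P y = B) = hfin'.toFinset := by
      ext y
      rw [Finset.mem_filter, Set.Finite.mem_toFinset, Set.Finite.mem_toFinset]
      constructor
      · rintro ⟨⟨hyP, hyZ⟩, hyB⟩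
        refine ⟨?_, hyZ⟩
        rw [← hyB]
        exact mem_Cn.2 ⟨hyP, rfl⟩
      · rintro ⟨hyB, hyZ⟩
        exact ⟨⟨hBP hyB, hyZ⟩, (eq_Cn hcard hna hBP hBc hyB hyZ).symm⟩
    rw [this, ← Set.ncard_eq_toFinset_card, ncard_diff_Zc hcard hna hZB, hBc]
  rw [Finset.sum_const_nat hfib, hS, ← Set.ncard_eq_toFinset_card] at key
  -- arithmetic
  obtain ⟨q, hq⟩ : ∃ q, p ^ 2 = q + p := ⟨p ^ 2 - p, by
    have : p ≤ p ^ 2 := by nlinarith [hp.one_lt]
    omega⟩
  have hq0 : 0 < q := by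
    have : p < p ^ 2 := by nlinarith [hp.one_lt]
    omega
  have h3 : p ^ 3 = p * q + q + p := by
    have : p ^ 3 = p * p ^ 2 := by ring
    rw [this]
    calc p * p ^ 2 = p * (q + p) := by rw [hq]
      _ = p * q + p ^ 2 := by ring
      _ = p * q + (q + p) := by rw [hq]
      _ = p * q + q + p := by ring
  rw [hq, h3, Nat.add_sub_cancel, Nat.add_sub_cancel] at key
  have : (p + 1) * q = Ω.ncard * q := by rw [← key]; ring
  exact (Nat.eq_of_mul_eq_mul_right hq0 this).symm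

end Cfsg.Agent.Helper67.Heis
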