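import Mathlib
import Cfsg.Agent.Helper67.Heis
import Cfsg.Agent.Helper67.Basic
import Cfsg.Agent.S4062

set_option autoImplicit false

/-!
Fusion in a finite group `G` whose Sylow `p`-subgroup `P` is nonabelian of order `p ^ 3` and
exponent `p` (`p` odd), under the hypothesis that `p`-subgroups of the same order are conjugate.
-/

namespace Cfsg.Agent.Helper67.Heis

open Cfsg.Agent.Helper67

variable {G : Type*} [Group G] [Finite G] {p : ℕ} [Fact p.Prime]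
  (hD : ∀ H K : Subgroup G, IsPGroup p H → IsPGroup p K → Nat.card H = Nat.card K →
    ∃ g : G, K = cj g H)
  (P : Sylow p G) (hcard : Nat.card (P : Subgroup G) = p ^ 3)
  (hna : ∃ a ∈ (P : Subgroup G), ∃ b ∈ (P : Subgroup G), a * b ≠ b * a)

include hD hcard hna

/-- `N_G(P)` is transitive on the subgroups of order `p ^ 2` of `P`. -/
theorem exists_normalizer_cj {A A' : Subgroup G} (hAP : A ≤ P) (hA : Nat.card A = p ^ 2)
    (hA'P : A' ≤ P) (hA' : Nat.card A' = p ^ 2) :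
    ∃ h : G, cj h (P : Subgroup G) = P ∧ cj h A = A' := by
  obtain ⟨g, hg⟩ := hD A A' (IsPGroup.of_card hA) (IsPGroup.of_card hA') (by rw [hA, hA'])
  have hP : (P : Subgroup G) ≤ Subgroup.normalizer (A' : Set G) := fun y hy =>
    mem_normalizer_iff_cj.2 (cj_eq_of_card_sq hcard hna hA'P hA' hy)
  have hQ : ((g • P : Sylow p G) : Subgroup G) ≤ Subgroup.normalizer (A' : Set G) := by
    intro y hy
    rw [cj_sylow, mem_cj_iff] at hy
    rw [mem_normalizer_iff_cj, hg]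
    have e : y = g * (g⁻¹ * y * g) * g⁻¹ := by group
    rw [e, cj_mul, cj_mul, cj_inv_cj, cj_eq_of_card_sq hcard hna hAP hA hy]
  obtain ⟨n, hn, hnQ⟩ := exists_cj_eq_sylow_of_le P (g • P) _ hP hQ
  refine ⟨n * g, ?_, ?_⟩
  · rw [cj_mul, ← cj_sylow, hnQ]
  · rw [cj_mul, ← hg]
    exact mem_normalizer_iff_cj.1 hn

/-- `N_G(A)` is transitive on the subgroups of order `p` of a subgroup `A` of order `p ^ 2` of `P`. -/
theorem exists_cj_Zc_eq {A X : Subgroup G} (hAP : A ≤ P) (hA : Nat.card A = p ^ 2)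
    (hXA : X ≤ A) (hX : Nat.card X = p) :
    ∃ l : G, cj l A = A ∧ cj l (Zc (P : Subgroup G)) = X := by
  have hZ := card_Zc hcard hna
  obtain ⟨g, hg⟩ := hD (Zc (P : Subgroup G)) X (IsPGroup.of_card (n := 1) (by rw [hZ, pow_one]))
    (IsPGroup.of_card (n := 1) (by rw [hX, pow_one])) (by rw [hZ, hX])
  have hAab := abelian_of_card_sq hA
  -- `g P g⁻¹` centralizes `X`
  have hQ : ((g • P : Sylow p G) : Subgroup G) ≤ Subgroup.centralizer (X : Set G) := by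
    intro y hy
    rw [cj_sylow, mem_cj_iff] at hy
    rw [Subgroup.mem_centralizer_iff]
    intro x hx
    have hx' : x ∈ cj g (Zc (P : Subgroup G)) := hg ▸ hx
    rw [mem_cj_iff, mem_Zc] at hx'
    have := hx'.2 _ hy
    have e1 : x * y = g * ((g⁻¹ * x * g) * (g⁻¹ * y * g)) * g⁻¹ := by group
    have e2 : y * x = g * ((g⁻¹ * y * g) * (g⁻¹ * x * g)) * g⁻¹ := by group
    rw [e1, e2, this]
  have hAC : A ≤ Subgroup.centralizer (X : Set G) := by
    intro a ha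
    rw [Subgroup.mem_centralizer_iff]
    intro x hx
    exact hAab x (hXA hx) a ha
  obtain ⟨c, hc, hcA⟩ := exists_cj_le_sylow_of_le (g • P) _ hQ A (IsPGroup.of_card hA) hAC
  rw [cj_sylow] at hcA
  -- the subgroup `A₁ = k A k⁻¹` of `P`, `k = g⁻¹ c`
  have hA₁P : cj (g⁻¹ * c) A ≤ P := by
    rw [cj_mul]
    have := cj_mono (g := g⁻¹) hcA
    rwa [cj_inv_cj] at this
  have hkX : cj (g⁻¹ * c) X = Zc (P : Subgroup G) := by
    rw [cj_mul, cj_eq_self_of_mem_centralizer hc, hg, cj_inv_cj]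
  obtain ⟨h, hhP, hhA⟩ := exists_normalizer_cj hD P hcard hna hA₁P (by rw [card_cj, hA]) hAP hA
  have h1 : cj (h * (g⁻¹ * c)) A = A := by rw [cj_mul, hhA]
  have h2 : cj (h * (g⁻¹ * c)) X = Zc (P : Subgroup G) := by
    rw [cj_mul, hkX, cj_Zc_of_normalizes hhP]
  refine ⟨(h * (g⁻¹ * c))⁻¹, ?_, ?_⟩
  · rw [cj_eq_iff] at h1
    exact h1.symm
  · rw [cj_eq_iff] at h2
    exact h2.symm

omit hD in
/-- `P` is transitive on the subgroups of order `p` of `A` other than its centre. -/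
theorem exists_mem_cj_eq {A X X' : Subgroup G}
    (hAP : A ≤ P) (hA : Nat.card A = p ^ 2)
    (hXA : X ≤ A) (hX : Nat.card X = p) (hXZ : X ≠ Zc (P : Subgroup G))
    (hX'A : X' ≤ A) (hX' : Nat.card X' = p) (hX'Z : X' ≠ Zc (P : Subgroup G)) :
    ∃ y ∈ (P : Subgroup G), cj y X = X' := by
  have hp : p.Prime := Fact.out
  have hZ := card_Zc hcard hna
  have hZA := Zc_le_of_card_sq hcard hna hAP hA
  -- a generator of `X`
  obtain ⟨x₀, hx₀X, hx₀1⟩ : ∃ x₀ ∈ X, x₀ ≠ 1 := by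
    by_contra hcon
    push Not at hcon
    have : X = ⊥ := (Subgroup.eq_bot_iff_forall _).2 hcon
    rw [this, Subgroup.card_bot] at hX
    exact hp.one_lt.ne hX
  have hx₀Z : x₀ ∉ Zc (P : Subgroup G) := fun h =>
    hXZ (eq_of_card_prime_of_mem hX hZ hx₀X h hx₀1)
  -- `A = X' Z`
  have hLE : X' ≤ Subgroup.normalizer (Zc (P : Subgroup G) : Set G) := by
    intro x hx
    apply Subgroup.centralizer_le_normalizer
    rw [Subgroup.mem_centralizer_iff]
    intro z hz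
    exact ((mem_Zc.1 hz).2 x (hAP (hX'A hx))).symm
  have hbot : X' ⊓ Zc (P : Subgroup G) = ⊥ := by
    rw [Subgroup.eq_bot_iff_forall]
    intro w hw
    by_contra hw1
    exact hX'Z (eq_of_card_prime_of_mem hX' hZ hw.1 hw.2 hw1)
  have hsup : X' ⊔ Zc (P : Subgroup G) = A := by
    apply Subgroup.eq_of_le_of_card_ge (sup_le hX'A hZA)
    have := Helper31.card_sup_mul_card_inf' X' (Zc (P : Subgroup G)) hLE
    rw [hbot, Subgroup.card_bot, mul_one, hX', hZ] at this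
    rw [this, hA, pow_two]
  have hx₀A : x₀ ∈ (↑(X' ⊔ Zc (P : Subgroup G)) : Set G) := by
    rw [hsup]; exact hXA hx₀X
  rw [Subgroup.coe_mul_of_left_le_normalizer_right _ _ hLE, Set.mem_mul] at hx₀A
  obtain ⟨x', hx', z, hz, hxz⟩ := hx₀A
  have hx'1 : x' ≠ 1 := by
    rintro rfl
    rw [one_mul] at hxz
    exact hx₀Z (hxz ▸ hz)
  obtain ⟨y, hy, hyx⟩ := exists_conj_eq_mul hcard hna (hAP (hXA hx₀X)) hx₀Z
    (Subgroup.inv_mem _ hz)
  have hyx' : y * x₀ * y⁻¹ = x' := by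
    rw [hyx, ← hxz, (mem_Zc.1 hz).2 x' (hAP (hX'A hx'))]
    group
  refine ⟨y, hy, ?_⟩
  apply eq_of_card_prime_of_mem (by rw [card_cj, hX]) hX' (x := x') _ hx' hx'1
  rw [← hyx']
  exact conj_mem_cj hx₀X

/-- Any two distinct subgroups of order `p` of `A` are interchanged by an element of `N_G(A)`. -/
theorem exists_swap {A Y₁ Y₂ : Subgroup G}
    (hAP : A ≤ P) (hA : Nat.card A = p ^ 2)
    (hY₁A : Y₁ ≤ A) (hY₁ : Nat.card Y₁ = p) (hY₂A : Y₂ ≤ A) (hY₂ : Nat.card Y₂ = p)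
    (hne : Y₁ ≠ Y₂) : ∃ l : G, cj l A = A ∧ cj l Y₁ = Y₂ ∧ cj l Y₂ = Y₁ := by
  obtain ⟨l₁, hl₁A, hl₁⟩ := exists_cj_Zc_eq hD P hcard hna hAP hA hY₁A hY₁
  obtain ⟨l₂, hl₂A, hl₂⟩ := exists_cj_Zc_eq hD P hcard hna hAP hA hY₂A hY₂
  have hl₁A' : cj l₁⁻¹ A = A := by
    rw [cj_eq_iff, inv_inv]; exact hl₁A.symm
  have hl₂A' : cj l₂⁻¹ A = A := by
    rw [cj_eq_iff, inv_inv]; exact hl₂A.symm
  have hl₁' : cj l₁⁻¹ Y₁ = Zc (P : Subgroup G) := by
    rw [cj_eq_iff, inv_inv]; exact hl₁.symm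
  have hl₂' : cj l₂⁻¹ Y₂ = Zc (P : Subgroup G) := by
    rw [cj_eq_iff, inv_inv]; exact hl₂.symm
  have h1 : cj l₁⁻¹ Y₂ ≠ Zc (P : Subgroup G) := by
    intro h
    rw [← hl₁'] at h
    exact hne (cj_injective _ h).symm
  have h2 : cj l₂⁻¹ Y₁ ≠ Zc (P : Subgroup G) := by
    intro h
    rw [← hl₂'] at h
    exact hne (cj_injective _ h)
  obtain ⟨y, hy, hy12⟩ := exists_mem_cj_eq P hcard hna hAP hA
    (by rw [← hl₁A']; exact cj_mono hY₂A) (by rw [card_cj, hY₂]) h1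
    (by rw [← hl₂A']; exact cj_mono hY₁A) (by rw [card_cj, hY₁]) h2
  have hyA : cj y A = A := cj_eq_of_card_sq hcard hna hAP hA hy
  have hyZ : cj y (Zc (P : Subgroup G)) = Zc (P : Subgroup G) :=
    cj_Zc_of_normalizes (cj_eq_self_of_mem hy)
  refine ⟨l₂ * y * l₁⁻¹, ?_, ?_, ?_⟩
  · rw [cj_mul, cj_mul, hl₁A', hyA, hl₂A]
  · rw [cj_mul, cj_mul, hl₁', hyZ, hl₂]
  · rw [cj_mul, cj_mul, hy12, cj_cj_inv]

end Cfsg.Agent.Helper67.Heis
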