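import Mathlib
import Cfsg.Agent.Helper67.HeisFusion

set_option autoImplicit false

/-!
An element of `N_G(A)` inverting `A`, for `A` of order `p ^ 2` in a nonabelian Sylow `p`-subgroup
of order `p ^ 3` and exponent `p`, when `p`-subgroups of the same order are conjugate.
-/

namespace Cfsg.Agent.Helper67.Heis

open Cfsg.Agent.Helper67

section Inverted

variable {G : Type*} [Group G]

/-- The elements of an abelian subgroup `A` inverted by `g`. -/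
def Inv (A : Subgroup G) (hAab : ∀ a ∈ A, ∀ b ∈ A, a * b = b * a) (g : G) : Subgroup G where
  carrier := {a | a ∈ A ∧ g * a * g⁻¹ = a⁻¹}
  one_mem' := ⟨A.one_mem, by simp⟩
  mul_mem' := by
    rintro a b ⟨ha, ha'⟩ ⟨hb, hb'⟩
    refine ⟨A.mul_mem ha hb, ?_⟩
    have e : g * (a * b) * g⁻¹ = (g * a * g⁻¹) * (g * b * g⁻¹) := by group
    rw [e, ha', hb', hAab a ha b hb, mul_inv_rev]
  inv_mem' := by
    rintro a ⟨ha, ha'⟩
    refine ⟨A.inv_mem ha, ?_⟩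
    have e : g * a⁻¹ * g⁻¹ = (g * a * g⁻¹)⁻¹ := by group
    rw [e, ha']

theorem mem_Inv {A : Subgroup G} {hAab : ∀ a ∈ A, ∀ b ∈ A, a * b = b * a} {g a : G} :
    a ∈ Inv A hAab g ↔ a ∈ A ∧ g * a * g⁻¹ = a⁻¹ := Iff.rfl

theorem Inv_le {A : Subgroup G} {hAab : ∀ a ∈ A, ∀ b ∈ A, a * b = b * a} {g : G} :
    Inv A hAab g ≤ A := fun _ h => h.1

/-- For `p` odd, an element with `a ^ p = 1` is a power of its square. -/
theorem eq_sq_pow {p : ℕ} (hp2 : Odd p) {a : G} (ha : a ^ p = 1) : a = (a ^ 2) ^ ((p + 1) / 2) := by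
  obtain ⟨j, rfl⟩ := hp2
  have : (2 * j + 1 + 1) / 2 = j + 1 := by omega
  rw [this, ← pow_mul]
  have e : 2 * (j + 1) = (2 * j + 1) + 1 := by ring
  rw [e, pow_succ, ha, one_mul]

/-- If `ι` normalizes the abelian group `A` of odd exponent `p` and `ι ^ 2` centralizes `A`, then `A` is
the product of the centralizer of `ι` in `A` and the subgroup of elements inverted by `ι`. -/
theorem le_Cn_sup_Inv {p : ℕ} (hp2 : Odd p) {A : Subgroup G}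
    (hAab : ∀ a ∈ A, ∀ b ∈ A, a * b = b * a) (hAexp : ∀ a ∈ A, a ^ p = 1) {ι : G}
    (hι : ∀ a ∈ A, ι * a * ι⁻¹ ∈ A) (hι2 : ∀ a ∈ A, ι * (ι * a * ι⁻¹) * ι⁻¹ = a) :
    A ≤ Cn A ι ⊔ Inv A hAab ι := by
  intro a ha
  rw [eq_sq_pow hp2 (hAexp a ha)]
  apply Subgroup.pow_mem
  have ha' := hι a ha
  have h1 : a * (ι * a * ι⁻¹) ∈ Cn A ι := by
    rw [mem_Cn]
    refine ⟨A.mul_mem ha ha', ?_⟩
    have e : ι * (a * (ι * a * ι⁻¹)) = (ι * a * ι⁻¹) * (ι * (ι * a * ι⁻¹) * ι⁻¹) * ι := by group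
    rw [e, hι2 a ha, hAab _ ha' a ha]
  have h2 : a * (ι * a * ι⁻¹)⁻¹ ∈ Inv A hAab ι := by
    rw [mem_Inv]
    refine ⟨A.mul_mem ha (A.inv_mem ha'), ?_⟩
    have e : ι * (a * (ι * a * ι⁻¹)⁻¹) * ι⁻¹ = (ι * a * ι⁻¹) * (ι * (ι * a * ι⁻¹) * ι⁻¹)⁻¹ := by
      group
    rw [e, hι2 a ha, mul_inv_rev, inv_inv]
  have e : a ^ 2 = (a * (ι * a * ι⁻¹)) * (a * (ι * a * ι⁻¹)⁻¹) := by
    rw [mul_assoc, ← mul_assoc (ι * a * ι⁻¹), hAab _ ha' a ha, mul_assoc, mul_inv_cancel, mul_one,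
      pow_two]
  rw [e]
  exact Subgroup.mul_mem _ (Subgroup.mem_sup_left h1) (Subgroup.mem_sup_right h2)

theorem Cn_inf_Inv {p : ℕ} (hp2 : Odd p) {A : Subgroup G}
    (hAab : ∀ a ∈ A, ∀ b ∈ A, a * b = b * a) (hAexp : ∀ a ∈ A, a ^ p = 1) {ι : G} :
    Cn A ι ⊓ Inv A hAab ι = ⊥ := by
  rw [Subgroup.eq_bot_iff_forall]
  rintro a ⟨h1, h2⟩
  have h1' := (mem_Cn.1 h1).2
  have h2' := (mem_Inv.1 h2).2
  rw [h1', mul_assoc, mul_inv_cancel, mul_one] at h2'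
  have h3 : a ^ 2 = 1 := by rw [pow_two]; nth_rewrite 1 [h2']; exact inv_mul_cancel a
  rw [eq_sq_pow hp2 (hAexp a h2.1), h3, one_pow]

end Inverted

section Main

variable {G : Type*} [Group G] [Finite G] {p : ℕ} [Fact p.Prime]
  (hD : ∀ H K : Subgroup G, IsPGroup p H → IsPGroup p K → Nat.card H = Nat.card K →
    ∃ g : G, K = cj g H)
  (P : Sylow p G) (hcard : Nat.card (P : Subgroup G) = p ^ 3)
  (hna : ∃ a ∈ (P : Subgroup G), ∃ b ∈ (P : Subgroup G), a * b ≠ b * a)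
  (hexp : ∀ x ∈ (P : Subgroup G), x ^ p = 1)

include hcard hna hexp

/-- A subgroup of order `p` of `A` other than the centre of `P`. -/
theorem exists_point_ne {A : Subgroup G} (hAP : A ≤ P) (hA : Nat.card A = p ^ 2) :
    ∃ X : Subgroup G, X ≤ A ∧ Nat.card X = p ∧ X ≠ Zc (P : Subgroup G) := by
  obtain ⟨x, hxA, hxZ⟩ := exists_mem_not_mem_Zc hcard hna hA
  have hx1 : x ≠ 1 := fun h => hxZ (h ▸ Subgroup.one_mem _)
  refine ⟨Subgroup.zpowers x, Subgroup.zpowers_le.2 hxA,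
    Helper31.card_zpowers_of_pow_eq_one x (hexp x (hAP hxA)) hx1, ?_⟩
  intro h
  exact hxZ (h ▸ Subgroup.mem_zpowers x)

include hD

/-- An element of `N_G(A)` acting on `A` as an automorphism of order `2`. -/
theorem exists_involutory {A : Subgroup G} (hAP : A ≤ P) (hA : Nat.card A = p ^ 2) :
    ∃ ι : G, cj ι A = A ∧ ι ^ 2 ∈ Subgroup.centralizer (A : Set G) ∧
      ι ∉ Subgroup.centralizer (A : Set G) := by
  classical
  obtain ⟨X, hXA, hX, hXZ⟩ := exists_point_ne P hcard hna hexp hAP hA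
  have hZA := Zc_le_of_card_sq hcard hna hAP hA
  obtain ⟨l, hlA, hl1, hl2⟩ := exists_swap hD P hcard hna hAP hA hZA (card_Zc hcard hna) hXA hX
    (Ne.symm hXZ)
  obtain ⟨m, k, hm, hk, -⟩ := S4062.exists_two_part l
  have htA : cj (l ^ m) A = A := cj_pow_eq_self hlA m
  have htZ : cj (l ^ m) (Zc (P : Subgroup G)) = X := cj_pow_of_swap hl1 hl2 hm
  have htC : l ^ m ∉ Subgroup.centralizer (A : Set G) := by
    intro h
    have h' : l ^ m ∈ Subgroup.centralizer (Zc (P : Subgroup G) : Set G) :=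
      Subgroup.centralizer_le hZA h
    rw [cj_eq_self_of_mem_centralizer h'] at htZ
    exact hXZ htZ.symm
  have hex : ∃ j, (l ^ m) ^ (2 ^ j) ∈ Subgroup.centralizer (A : Set G) :=
    ⟨k, by rw [← hk, pow_orderOf_eq_one]; exact Subgroup.one_mem _⟩
  have hj0 : Nat.find hex ≠ 0 := by
    intro h0
    have := Nat.find_spec hex
    rw [h0, pow_zero, pow_one] at this
    exact htC this
  obtain ⟨j, hj⟩ : ∃ j, Nat.find hex = j + 1 := ⟨Nat.find hex - 1, by omega⟩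
  refine ⟨(l ^ m) ^ (2 ^ j), cj_pow_eq_self htA _, ?_, ?_⟩
  · have := Nat.find_spec hex
    rw [hj, pow_succ, pow_mul] at this
    exact this
  · exact Nat.find_min hex (by omega)

/-- An element of `G` inverting `A`. -/
theorem exists_inverting (hp2 : p ≠ 2) {A : Subgroup G} (hAP : A ≤ P) (hA : Nat.card A = p ^ 2) :
    ∃ ρ₀ : G, ∀ a ∈ A, ρ₀ * a * ρ₀⁻¹ = a⁻¹ := by
  have hp : p.Prime := Fact.out
  have hodd : Odd p := hp.odd_of_ne_two hp2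
  have hAab := abelian_of_card_sq hA
  have hAexp : ∀ a ∈ A, a ^ p = 1 := fun a ha => hexp a (hAP ha)
  obtain ⟨ι, hιA, hι2, hιC⟩ := exists_involutory hD P hcard hna hexp hAP hA
  have hι : ∀ a ∈ A, ι * a * ι⁻¹ ∈ A := by
    intro a ha
    have := conj_mem_cj (g := ι) ha
    rwa [hιA] at this
  have hι2' : ∀ a ∈ A, ι * (ι * a * ι⁻¹) * ι⁻¹ = a := by
    intro a ha
    rw [Subgroup.mem_centralizer_iff] at hι2
    have := hι2 a ha
    have e : ι * (ι * a * ι⁻¹) * ι⁻¹ = (ι ^ 2 * a) * (ι ^ 2)⁻¹ := by rw [pow_two]; group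
    rw [e, ← this, mul_inv_cancel_right]
  have hsup := le_Cn_sup_Inv hodd hAab hAexp hι hι2'
  have hinf := Cn_inf_Inv hodd hAab hAexp (ι := ι)
  have hsup' : Cn A ι ⊔ Inv A hAab ι = A :=
    le_antisymm (sup_le (Cn_le A ι) Inv_le) hsup
  have hLE : Cn A ι ≤ Subgroup.normalizer (Inv A hAab ι : Set G) := by
    intro y hy
    apply Subgroup.centralizer_le_normalizer
    rw [Subgroup.mem_centralizer_iff]
    intro b hb
    exact hAab b (Inv_le hb) y (Cn_le A ι hy)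
  have hmul := Helper31.card_sup_mul_card_inf' _ _ hLE
  rw [hsup', hinf, Subgroup.card_bot, mul_one, hA] at hmul
  by_cases hc : Inv A hAab ι = A
  · refine ⟨ι, fun a ha => ?_⟩
    have : a ∈ Inv A hAab ι := by rw [hc]; exact ha
    exact this.2
  · have hY₁ne : Cn A ι ≠ A := by
      intro h
      apply hιC
      rw [Subgroup.mem_centralizer_iff]
      intro a ha
      have : a ∈ Cn A ι := by rw [h]; exact ha
      exact ((mem_Cn.1 this).2).symm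
    have hdvd : Nat.card (Cn A ι) ∣ p ^ 2 := ⟨_, hmul⟩
    obtain ⟨e, he, hcard₁⟩ := (Nat.dvd_prime_pow hp).1 hdvd
    have he2 : e ≠ 2 := by
      rintro rfl
      exact hY₁ne (Subgroup.eq_of_le_of_card_ge (Cn_le A ι) (by rw [hcard₁, hA]))
    have he0 : e ≠ 0 := by
      rintro rfl
      rw [hcard₁, pow_zero, one_mul] at hmul
      exact hc (Subgroup.eq_of_le_of_card_ge Inv_le (by rw [← hmul, hA]))
    have he1 : e = 1 := by omega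
    subst he1
    rw [pow_one] at hcard₁
    have hcard₂ : Nat.card (Inv A hAab ι) = p := by
      rw [hcard₁, pow_two] at hmul
      exact Nat.eq_of_mul_eq_mul_left hp.pos hmul.symm
    have hne : Cn A ι ≠ Inv A hAab ι := by
      intro h
      rw [← h, inf_idem] at hinf
      rw [hinf, Subgroup.card_bot] at hcard₁
      exact hp.one_lt.ne hcard₁
    obtain ⟨h, hhA, hh1, hh2⟩ := exists_swap hD P hcard hna hAP hA (Cn_le A ι) hcard₁ Inv_le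
      hcard₂ hne
    refine ⟨ι * (h * ι * h⁻¹), ?_⟩
    have key : A ≤ Inv A hAab (ι * (h * ι * h⁻¹)) := by
      refine le_trans hsup (sup_le ?_ ?_)
      · intro a ha
        have ha' : h⁻¹ * a * h ∈ Inv A hAab ι := by
          rw [← mem_cj_iff, hh2]; exact ha
        rw [mem_Inv]
        refine ⟨Cn_le A ι ha, ?_⟩
        have e1 : ι * (h * ι * h⁻¹) * a * (ι * (h * ι * h⁻¹))⁻¹ =
            ι * (h * (ι * (h⁻¹ * a * h) * ι⁻¹) * h⁻¹) * ι⁻¹ := by group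
        have e2 : h * (h⁻¹ * a * h)⁻¹ * h⁻¹ = a⁻¹ := by group
        have e3 : ι * a⁻¹ * ι⁻¹ = (ι * a * ι⁻¹)⁻¹ := by group
        rw [e1, ha'.2, e2, e3, (mem_Cn.1 ha).2, mul_assoc, mul_inv_cancel, mul_one]
      · intro a ha
        have ha' : h⁻¹ * a * h ∈ Cn A ι := by
          rw [← mem_cj_iff, hh1]; exact ha
        rw [mem_Inv]
        refine ⟨Inv_le ha, ?_⟩
        have e1 : ι * (h * ι * h⁻¹) * a * (ι * (h * ι * h⁻¹))⁻¹ =
            ι * (h * (ι * (h⁻¹ * a * h) * ι⁻¹) * h⁻¹) * ι⁻¹ := by group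
        have e2 : h * (h⁻¹ * a * h) * h⁻¹ = a := by group
        rw [e1, (mem_Cn.1 ha').2, mul_assoc (h⁻¹ * a * h), mul_inv_cancel, mul_one, e2]
        exact ha.2
    intro a ha
    exact (key ha).2

/-- An element of `N_G(P)` inverting `A`. -/
theorem exists_normalizing_inverting (hp2 : p ≠ 2) {A : Subgroup G} (hAP : A ≤ P)
    (hA : Nat.card A = p ^ 2) :
    ∃ n : G, cj n (P : Subgroup G) = P ∧ ∀ a ∈ A, n * a * n⁻¹ = a⁻¹ := by
  obtain ⟨ρ₀, hρ₀⟩ := exists_inverting hD P hcard hna hexp hp2 hAP hA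
  have hLE : (P : Subgroup G) ≤
      Subgroup.normalizer (Subgroup.centralizer (A : Set G) : Set G) := by
    intro y hy
    rw [mem_normalizer_iff_cj, cj_centralizer, cj_eq_of_card_sq hcard hna hAP hA hy]
  have hP : (P : Subgroup G) ≤ (P : Subgroup G) ⊔ Subgroup.centralizer (A : Set G) := le_sup_left
  have hQ : ((ρ₀ • P : Sylow p G) : Subgroup G) ≤
      (P : Subgroup G) ⊔ Subgroup.centralizer (A : Set G) := by
    intro y hy
    rw [cj_sylow, mem_cj_iff] at hy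
    have e : y = (ρ₀⁻¹ * y * ρ₀) * ((ρ₀⁻¹ * y * ρ₀)⁻¹ * ρ₀ * (ρ₀⁻¹ * y * ρ₀) * ρ₀⁻¹) := by group
    rw [e]
    refine Subgroup.mul_mem _ (Subgroup.mem_sup_left hy) (Subgroup.mem_sup_right ?_)
    generalize ρ₀⁻¹ * y * ρ₀ = y₀ at hy
    rw [Subgroup.mem_centralizer_iff]
    intro a ha
    have h1 : ρ₀⁻¹ * a * ρ₀ = a⁻¹ := by
      have := hρ₀ a⁻¹ (A.inv_mem ha)
      rw [inv_inv] at this
      calc ρ₀⁻¹ * a * ρ₀ = ρ₀⁻¹ * (ρ₀ * a⁻¹ * ρ₀⁻¹) * ρ₀ := by rw [this]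
        _ = a⁻¹ := by group
    have hb : y₀ * a⁻¹ * y₀⁻¹ ∈ A := conj_mem_of_card_sq hcard hna hAP hA hy (A.inv_mem ha)
    have h2 := hρ₀ _ hb
    have h3 : (y₀⁻¹ * ρ₀ * y₀ * ρ₀⁻¹) * a * (y₀⁻¹ * ρ₀ * y₀ * ρ₀⁻¹)⁻¹ = a := by
      have e1 : (y₀⁻¹ * ρ₀ * y₀ * ρ₀⁻¹) * a * (y₀⁻¹ * ρ₀ * y₀ * ρ₀⁻¹)⁻¹ =
          y₀⁻¹ * (ρ₀ * (y₀ * (ρ₀⁻¹ * a * ρ₀) * y₀⁻¹) * ρ₀⁻¹) * y₀ := by group
      rw [e1, h1, h2]; group
    calc a * (y₀⁻¹ * ρ₀ * y₀ * ρ₀⁻¹)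
        = ((y₀⁻¹ * ρ₀ * y₀ * ρ₀⁻¹) * a * (y₀⁻¹ * ρ₀ * y₀ * ρ₀⁻¹)⁻¹) * (y₀⁻¹ * ρ₀ * y₀ * ρ₀⁻¹) := by
          rw [h3]
      _ = (y₀⁻¹ * ρ₀ * y₀ * ρ₀⁻¹) * a := by group
  obtain ⟨m, hm, hmQ⟩ := exists_cj_eq_sylow_of_le P (ρ₀ • P) _ hP hQ
  have hm' : m ∈ (↑((P : Subgroup G) ⊔ Subgroup.centralizer (A : Set G)) : Set G) := hm
  rw [Subgroup.coe_mul_of_left_le_normalizer_right _ _ hLE, Set.mem_mul] at hm'
  obtain ⟨y, hy, c, hc, rfl⟩ := hm'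
  rw [cj_sylow, cj_mul, cj_eq_iff, cj_eq_self_of_mem (Subgroup.inv_mem _ hy)] at hmQ
  refine ⟨c * ρ₀, by rw [cj_mul]; exact hmQ, fun a ha => ?_⟩
  have hc' : c ∈ Subgroup.centralizer (A : Set G) := hc
  rw [Subgroup.mem_centralizer_iff] at hc'
  have e : c * ρ₀ * a * (c * ρ₀)⁻¹ = c * (ρ₀ * a * ρ₀⁻¹) * c⁻¹ := by group
  rw [e, hρ₀ a ha, ← hc' a⁻¹ (A.inv_mem ha), mul_inv_cancel_right]

/-- A `2`-element `ρ` of `N_G(P)` such that `A` is exactly the set of elements of `P` inverted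
by `ρ`. -/
theorem exists_rho (hp2 : p ≠ 2) {A : Subgroup G} (hAP : A ≤ P) (hA : Nat.card A = p ^ 2) :
    ∃ ρ : G, (∃ k : ℕ, orderOf ρ = 2 ^ k) ∧ cj ρ (P : Subgroup G) = P ∧
      (∀ a ∈ A, ρ * a * ρ⁻¹ = a⁻¹) ∧ ∀ y ∈ (P : Subgroup G), ρ * y * ρ⁻¹ = y⁻¹ → y ∈ A := by
  have hp : p.Prime := Fact.out
  have hodd : Odd p := hp.odd_of_ne_two hp2
  have hAab := abelian_of_card_sq hA
  obtain ⟨n, hnP, hn⟩ := exists_normalizing_inverting hD P hcard hna hexp hp2 hAP hA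
  obtain ⟨m, k, hm, hk, -⟩ := S4062.exists_two_part n
  have hρP : cj (n ^ m) (P : Subgroup G) = P := cj_pow_eq_self hnP m
  have hρ : ∀ a ∈ A, n ^ m * a * (n ^ m)⁻¹ = a⁻¹ := fun a ha => inverts_pow_of_odd (hn a ha) hm
  refine ⟨n ^ m, ⟨k, hk⟩, hρP, hρ, ?_⟩
  generalize n ^ m = ρ at hρP hρ
  -- `ρ` acts trivially on `P / A`
  have htriv : ∀ y ∈ (P : Subgroup G), y⁻¹ * (ρ * y * ρ⁻¹) ∈ A := by
    intro y hy
    obtain ⟨x, hxA, hxZ⟩ := exists_mem_not_mem_Zc hcard hna hA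
    have hy' : ρ * y * ρ⁻¹ ∈ (P : Subgroup G) := by
      have := conj_mem_cj (g := ρ) hy
      rwa [hρP] at this
    rw [eq_Cn hcard hna hAP hA hxA hxZ, mem_Cn]
    refine ⟨Subgroup.mul_mem _ (Subgroup.inv_mem _ hy) hy', ?_⟩
    have hκA : y * x * y⁻¹ * x⁻¹ ∈ A :=
      Zc_le_of_card_sq hcard hna hAP hA (comm_mem_Zc hcard hna hy (hAP hxA))
    have hκ := hρ _ hκA
    have hx := hρ x hxA
    have e1 : ρ * (y * x * y⁻¹ * x⁻¹) * ρ⁻¹ =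
        (ρ * y * ρ⁻¹) * (ρ * x * ρ⁻¹) * (ρ * y * ρ⁻¹)⁻¹ * (ρ * x * ρ⁻¹)⁻¹ := by group
    rw [hκ, hx] at e1
    have h4 : x * (y * x⁻¹ * y⁻¹) = (y * x⁻¹ * y⁻¹) * x :=
      hAab x hxA _ (conj_mem_of_card_sq hcard hna hAP hA hy (A.inv_mem hxA))
    generalize ρ * y * ρ⁻¹ = y' at e1
    have h5 : y' * x⁻¹ * y'⁻¹ = y * x⁻¹ * y⁻¹ := by
      calc y' * x⁻¹ * y'⁻¹ = (y' * x⁻¹ * y'⁻¹ * x⁻¹⁻¹) * x⁻¹ := by group
        _ = (y * x * y⁻¹ * x⁻¹)⁻¹ * x⁻¹ := by rw [e1]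
        _ = (x * (y * x⁻¹ * y⁻¹)) * x⁻¹ := by group
        _ = y * x⁻¹ * y⁻¹ := by rw [h4]; group
    have h6 : (y⁻¹ * y') * x⁻¹ = x⁻¹ * (y⁻¹ * y') := by
      calc (y⁻¹ * y') * x⁻¹ = y⁻¹ * (y' * x⁻¹ * y'⁻¹) * y' := by group
        _ = y⁻¹ * (y * x⁻¹ * y⁻¹) * y' := by rw [h5]
        _ = x⁻¹ * (y⁻¹ * y') := by group
    calc x * (y⁻¹ * y') = x * ((y⁻¹ * y') * x⁻¹) * x := by group
      _ = x * (x⁻¹ * (y⁻¹ * y')) * x := by rw [h6]
      _ = (y⁻¹ * y') * x := by group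
  intro y hy hinv
  have h1 := htriv y hy
  rw [hinv] at h1
  have h2 : y ^ 2 ∈ A := by
    have := A.inv_mem h1
    rwa [mul_inv_rev, inv_inv, ← pow_two] at this
  rw [eq_sq_pow hodd (hexp y hy)]
  exact A.pow_mem h2 _

end Main

end Cfsg.Agent.Helper67.Heis
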