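import Cfsg.Agent.S0561
import Cfsg.Agent.S0581

/-!
Relative (inside a subgroup) versions of S0561 and S0581, requested by helper91 for the
Kegel–Wielandt cluster: pure subtype plumbing.
-/

set_option autoImplicit false

namespace Cfsg.Agent.Helper67.KWRel

open Subgroup Pointwise

variable {G : Type*} [Group G]

theorem card_subgroupOf_eq {A L : Subgroup G} (h : A ≤ L) :
    Nat.card (A.subgroupOf L) = Nat.card A :=
  Nat.card_congr (Subgroup.subgroupOfEquivOfLe h).toEquiv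

/-- S0581 inside a subgroup `C`. -/
theorem s0581_rel [Finite G] (C T U : Subgroup G) (hT : T ≤ C) (hU : U ≤ C)
    (hnil : Group.IsNilpotent T) (hHall : (Nat.card T).Coprime (T.relIndex C))
    (hdiv : ∀ p, p.Prime → p ∣ Nat.card U → p ∣ Nat.card T) :
    ∃ c ∈ C, ∀ u ∈ U, c⁻¹ * u * c ∈ T := by
  have hnil' : Group.IsNilpotent (T.subgroupOf C) :=
    Group.nilpotent_of_mulEquiv (Subgroup.subgroupOfEquivOfLe hT).symm
  have hHall' : (Nat.card (T.subgroupOf C)).Coprime (T.subgroupOf C).index := by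
    rw [card_subgroupOf_eq hT]; exact hHall
  have hdiv' : ∀ p : ℕ, p.Prime → p ∣ Nat.card (U.subgroupOf C) →
      p ∣ Nat.card (T.subgroupOf C) := by
    intro p hp h
    rw [card_subgroupOf_eq hU] at h
    rw [card_subgroupOf_eq hT]
    exact hdiv p hp h
  obtain ⟨x, hx⟩ := Cfsg.Agent.S0581.result (T.subgroupOf C) (U.subgroupOf C) hnil' hHall' hdiv'
  refine ⟨(x : G), x.2, fun u hu => ?_⟩
  have h1 : (⟨u, hU hu⟩ : C) ∈ MulAut.conj x • T.subgroupOf C := hx (by
    rw [Subgroup.mem_subgroupOf]; exact hu)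
  rw [Subgroup.mem_pointwise_smul_iff_inv_smul_mem, MulAut.smul_def, MulAut.conj_inv_apply,
    Subgroup.mem_subgroupOf] at h1
  simpa using h1

/-- S0561 inside a subgroup `L` (with `x = y = 1`). -/
theorem s0561_rel [Finite G] (L H1 K1 A B : Subgroup G) (hsol : Group.IsSolvable L)
    (hH : H1 ≤ L) (hK : K1 ≤ L)
    (hfac : ∀ g ∈ L, ∃ h ∈ H1, ∃ k ∈ K1, g = h * k) (hA : A ≤ H1)
    (hAn : ∀ h ∈ H1, ∀ a ∈ A, h * a * h⁻¹ ∈ A) (hB : B ≤ K1)
    (hBn : ∀ k ∈ K1, ∀ b ∈ B, k * b * k⁻¹ ∈ B)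
    (hAh : (Nat.card A).Coprime (A.relIndex L)) (hBh : (Nat.card B).Coprime (B.relIndex L)) :
    ∃ S : Subgroup G, (S : Set G) = (A : Set G) * (B : Set G) := by
  have := hsol
  have hAL : A ≤ L := hA.trans hH
  have hBL : B ≤ L := hB.trans hK
  have hHK' : ∀ g : L, ∃ h ∈ H1.subgroupOf L, ∃ k ∈ K1.subgroupOf L, g = h * k := by
    intro g
    obtain ⟨h, hh, k, hk, hgk⟩ := hfac g.1 g.2
    exact ⟨⟨h, hH hh⟩, by rw [Subgroup.mem_subgroupOf]; exact hh, ⟨k, hK hk⟩,
      by rw [Subgroup.mem_subgroupOf]; exact hk, Subtype.ext hgk⟩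
  have hA' : A.subgroupOf L ≤ H1.subgroupOf L := fun x hx => hA hx
  have hB' : B.subgroupOf L ≤ K1.subgroupOf L := fun x hx => hB hx
  have hAn' : ((A.subgroupOf L).subgroupOf (H1.subgroupOf L)).Normal := by
    refine ⟨fun a ha h => ?_⟩
    rw [Subgroup.mem_subgroupOf, Subgroup.mem_subgroupOf] at ha ⊢
    have hh : ((h : L) : G) ∈ H1 := h.2
    have := hAn _ hh _ ha
    simpa using this
  have hBn' : ((B.subgroupOf L).subgroupOf (K1.subgroupOf L)).Normal := by
    refine ⟨fun a ha h => ?_⟩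
    rw [Subgroup.mem_subgroupOf, Subgroup.mem_subgroupOf] at ha ⊢
    have hh : ((h : L) : G) ∈ K1 := h.2
    have := hBn _ hh _ ha
    simpa using this
  have hAh' : (Nat.card (A.subgroupOf L)).Coprime (A.subgroupOf L).index := by
    rw [card_subgroupOf_eq hAL]; exact hAh
  have hBh' : (Nat.card (B.subgroupOf L)).Coprime (B.subgroupOf L).index := by
    rw [card_subgroupOf_eq hBL]; exact hBh
  obtain ⟨S', hS'⟩ := Cfsg.Agent.S0561.result (H1.subgroupOf L) (K1.subgroupOf L)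
    (A.subgroupOf L) (B.subgroupOf L) hHK' hA' hAn' hB' hBn' hAh' hBh' 1 1
  rw [map_one, one_smul, one_smul] at hS'
  refine ⟨S'.map L.subtype, ?_⟩
  rw [Subgroup.coe_map, hS', Set.image_mul]
  have h1 : (L.subtype : L → G) '' ((A.subgroupOf L : Subgroup L) : Set L) = (A : Set G) := by
    rw [← Subgroup.coe_map, Subgroup.subgroupOf_map_subtype, inf_eq_left.mpr hAL]
  have h2 : (L.subtype : L → G) '' ((B.subgroupOf L : Subgroup L) : Set L) = (B : Set G) := by
    rw [← Subgroup.coe_map, Subgroup.subgroupOf_map_subtype, inf_eq_left.mpr hBL]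
  rw [h1, h2]

end Cfsg.Agent.Helper67.KWRel
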