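/-
helper67 (for helper73, WANTED #3662 (A)): the Iwasawa piece of local balance for `PSp_{2m}(q)`.
-/
import Cfsg.Agent.Helper73.LBSpA
import Cfsg.Agent.Helper5.PSpSimple
import Cfsg.Agent.Helper5.SpPerfect
import Cfsg.Agent.S0269
import Cfsg.Agent.S0270

set_option autoImplicit false
set_option linter.unusedSectionVars false

namespace Cfsg.Agent.Helper67.LBSp

open Matrix Cfsg.Agent.Helper5.AutSp Cfsg.Agent.Helper14.AutPSp Cfsg.Agent.Helper14.AutPSL
  Cfsg.Agent.Helper73.LBSp Cfsg.Agent.Helper5 Cfsg.Agent.Helper13 MulAction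
open scoped LinearAlgebra.Projectivization

/-- in characteristic two every square of `Sp_{2m}` is a product of commutators -/
theorem sq_mem_commutator_sp {F₀ : Type*} [Field F₀] [CharP F₀ 2] {m : ℕ}
    (s : Matrix.symplecticGroup (Fin m) F₀) :
    s ^ 2 ∈ commutator (Matrix.symplecticGroup (Fin m) F₀) := by
  let φ : Matrix.symplecticGroup (Fin m) F₀ →* Abelianization (Matrix.symplecticGroup (Fin m) F₀) :=
    (powMonoidHom 2).comp Abelianization.of
  have hker : φ.ker = ⊤ := by
    rw [eq_top_iff, ← sympTransvectionSubgroup_eq_top, sympTransvectionSubgroup, Subgroup.closure_le]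
    rintro A ⟨w, c, hA⟩
    have hA' : A = sympTransvectionElt w c := Subtype.ext hA
    rw [SetLike.mem_coe, MonoidHom.mem_ker]
    show (Abelianization.of A) ^ 2 = 1
    rw [← map_pow, hA', pow_two, sympTransvectionElt_mul, CharTwo.add_self_eq_zero,
      sympTransvectionElt_zero, map_one]
  have h1 : s ∈ φ.ker := by rw [hker]; trivial
  rw [MonoidHom.mem_ker] at h1
  have h2 : Abelianization.of (s ^ 2) = 1 := by rw [map_pow]; exact h1
  rwa [← MonoidHom.mem_ker, Abelianization.ker_of] at h2

variable {F : Type*} [Field F] [Fintype F] {m : ℕ}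

/-- `PSp_{2m}(F)` has trivial centre when it is simple -/
theorem center_psp_eq_bot' (hm : 2 ≤ m) (hs : m = 2 → 3 ≤ Fintype.card F) :
    Subgroup.center (Cfsg.PSp m F) = ⊥ := by
  have hsimp : IsSimpleGroup (Cfsg.PSp m F) := Cfsg.Agent.S0270.result m hm hs
  have hperf : commutator (Matrix.symplecticGroup (Fin m) F) = ⊤ := by
    apply Cfsg.Agent.S0269.result m
    rcases Nat.lt_or_ge 2 m with h | h
    · left; omega
    · right; left
      have : m = 2 := by omega
      exact ⟨this, hs this⟩
  rcases (inferInstance : (Subgroup.center (Cfsg.PSp m F)).Normal).eq_bot_or_eq_top with h | h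
  · exact h
  · exfalso
    have hcomm : ∀ x y : Cfsg.PSp m F, x * y = y * x := by
      intro x y
      have hx : x ∈ Subgroup.center (Cfsg.PSp m F) := by rw [h]; trivial
      exact ((Subgroup.mem_center_iff.1 hx) y).symm
    have htriv : ∀ g : Matrix.symplecticGroup (Fin m) F, AutSp.prj g = (1 : Cfsg.PSp m F) := by
      intro g
      have hg : g ∈ commutator (Matrix.symplecticGroup (Fin m) F) := by rw [hperf]; trivial
      rw [commutator_def] at hg
      have h2 : AutSp.prj g ∈ Subgroup.map (AutSp.prj (m := m) (F := F)) (⁅(⊤ : Subgroup (Matrix.symplecticGroup (Fin m) F)),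
          (⊤ : Subgroup (Matrix.symplecticGroup (Fin m) F))⁆) :=
        Subgroup.mem_map_of_mem _ hg
      rw [Subgroup.map_commutator] at h2
      have h3 : ⁅(⊤ : Subgroup (Matrix.symplecticGroup (Fin m) F)).map (AutSp.prj (m := m) (F := F)),
          (⊤ : Subgroup (Matrix.symplecticGroup (Fin m) F)).map (AutSp.prj (m := m) (F := F))⁆ = ⊥ := by
        rw [Subgroup.commutator_eq_bot_iff_le_centralizer]
        intro a _
        rw [Subgroup.mem_centralizer_iff]
        intro b _
        exact hcomm b a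
      rw [h3, Subgroup.mem_bot] at h2
      exact h2
    obtain ⟨x, y, hxy⟩ := hsimp.toNontrivial
    apply hxy
    obtain ⟨a, rfl⟩ := prj_surjective x
    obtain ⟨b, rfl⟩ := prj_surjective y
    rw [htriv a, htriv b]

/-- scalar similitudes of the subfield group act trivially -/
theorem fixHomSp_gspScalar (hm : 2 ≤ m) (σ : F ≃+* F) (a : (fixF σ)ˣ) :
    fixHomSp (m := m) (fixF σ).subtype (gspScalar a) = 1 := by
  rw [← MonoidHom.mem_ker, ker_fixHomSp _ hm, Subgroup.mem_subgroupOf, Cfsg.Geo.mem_scalars_iff]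
  exact ⟨a, gspScalar_coe a⟩

theorem subT_negOne (hm : 2 ≤ m) (σ : F ≃+* F) :
    subT m σ (Cfsg.Agent.S0246.negOne m (fixF σ)) = 1 := by
  show fixHomSp (m := m) (fixF σ).subtype (spIncl (Cfsg.Agent.S0246.negOne m (fixF σ))) = 1
  rw [← MonoidHom.mem_ker, ker_fixHomSp _ hm, Subgroup.mem_subgroupOf, Cfsg.Geo.mem_scalars_iff]
  refine ⟨-1, ?_⟩
  rw [spIncl_coe]
  show (-1 : Matrix (Fin m ⊕ Fin m) (Fin m ⊕ Fin m) (fixF σ)) = _
  simp

theorem subT_range_inf_eq_bot (hm : 2 ≤ m) (hs : m = 2 → 3 ≤ Fintype.card F) (σ : F ≃+* F)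
    {p : ℕ} [Fact p.Prime] (hp : p ≠ ringChar F) (N0 : Subgroup (MulAut (Cfsg.PSp m F)))
    (hnorm : ∀ s n, n ∈ N0 → subT m σ s * n * (subT m σ s)⁻¹ ∈ N0)
    (hcop : (Nat.card N0).Coprime p)
    (hdvd : p ∣ Nat.card ↥(MonoidHom.eqLocus (spField σ : MulAut (Cfsg.PSp m F)).toMonoidHom
      (MonoidHom.id (Cfsg.PSp m F)))) : N0 ⊓ (subT m σ).range = ⊥ := by
  classical
  have hm1 : 1 ≤ m := by omega
  have hpp : p.Prime := Fact.out
  set M : Subgroup (Matrix.symplecticGroup (Fin m) (fixF σ)) := N0.comap (subT m σ) with hM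
  have hMn : M.Normal := by
    refine ⟨fun n hn g => ?_⟩
    show subT m σ (g * n * g⁻¹) ∈ N0
    rw [map_mul, map_mul, map_inv]
    exact hnorm g _ hn
  by_cases hfix : fixedPoints M (ℙ (fixF σ) (Fin m ⊕ Fin m → (fixF σ))) = Set.univ
  · -- `M` consists of `±1`
    rw [eq_bot_iff]
    rintro x ⟨hx, ⟨z, rfl⟩⟩
    rw [Subgroup.mem_bot]
    have hzM : z ∈ M := hx
    have hz' : ∀ q : ℙ (fixF σ) (Fin m ⊕ Fin m → (fixF σ)), z • q = q := by
      intro q
      have hq : q ∈ fixedPoints M (ℙ (fixF σ) (Fin m ⊕ Fin m → (fixF σ))) := by rw [hfix]; trivial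
      exact hq ⟨z, hzM⟩
    rcases eq_one_or_negOne_of_fixes hm1 z hz' with h | h
    · rw [h, map_one]
    · rw [h, subT_negOne hm]
  · exfalso
    have hle : commutator (Matrix.symplecticGroup (Fin m) (fixF σ)) ≤ M :=
      spIwasawa.commutator_le M hfix
    by_cases hp2 : p = 2
    · -- `p = 2`: the characteristic is odd, `Sp₀` is perfect and contains `J` of order `4`
      subst hp2
      have h2F : (2 : F) ≠ 0 := by
        intro h
        have h1 : ringChar F ∣ 2 := (ringChar.spec F 2).1 (by exact_mod_cast h)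
        rcases (Nat.dvd_prime Nat.prime_two).1 h1 with h3 | h3
        · exact CharP.ringChar_ne_one h3
        · exact hp h3.symm
      have h2F0 : (2 : fixF σ) ≠ 0 := by
        intro h
        apply h2F
        have h3 : ((2 : fixF σ) : F) = ((0 : fixF σ) : F) := by rw [h]
        push_cast at h3
        exact h3
      have hperf0 := commutator_sp_eq_top_of_two_le (F := fixF σ) hm h2F0
      have hMtop : M = ⊤ := by rw [eq_top_iff, ← hperf0]; exact hle
      obtain ⟨J0, hJ0⟩ : ∃ J0 : Matrix.symplecticGroup (Fin m) (fixF σ),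
          J0 = SymplecticGroup.symJ (Fin m) (fixF σ) := ⟨_, rfl⟩
      have hxN : subT m σ J0 ∈ N0 := by
        have : J0 ∈ M := by rw [hMtop]; trivial
        exact this
      have hsq : (subT m σ J0) ^ 2 = 1 := by
        rw [← map_pow]
        have : J0 ^ 2 = Cfsg.Agent.S0246.negOne m (fixF σ) := by
          apply Subtype.ext
          rw [pow_two, hJ0]
          exact Matrix.J_squared (Fin m) (fixF σ)
        rw [this, subT_negOne hm]
      have hne : subT m σ J0 ≠ 1 := by
        intro h
        have h1 : spIncl J0 ∈ (fixHomSp (m := m) (fixF σ).subtype).ker := h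
        rw [ker_fixHomSp _ hm, Subgroup.mem_subgroupOf, Cfsg.Geo.mem_scalars_iff] at h1
        obtain ⟨c, hc⟩ := h1
        rw [spIncl_coe, hJ0] at hc
        have h00 := congrFun (congrFun hc (Sum.inl ⟨0, hm1⟩)) (Sum.inl ⟨0, hm1⟩)
        simp [SymplecticGroup.symJ, Matrix.J] at h00
        exact c.ne_zero h00.symm
      have hord : orderOf (subT m σ J0) = 2 := orderOf_eq_prime hsq hne
      have hdiv : 2 ∣ Nat.card N0 := by
        have := Subgroup.orderOf_dvd_natCard N0 hxN
        rwa [hord] at this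
      exact absurd (Nat.Coprime.eq_one_of_dvd hcop.symm hdiv) (by norm_num)
    · -- `p` odd
      have hi : ∀ a : F, σ a = a ↔ a ∈ ((fixF σ).subtype : (fixF σ) →+* F).range := by
        intro a
        rw [← mem_fixF]
        constructor
        · intro h
          exact ⟨⟨a, h⟩, rfl⟩
        · rintro ⟨x, rfl⟩
          exact x.2
      obtain ⟨x, hx⟩ := exists_prime_orderOf_dvd_card' (G := ↥(MonoidHom.eqLocus
        (spField σ : MulAut (Cfsg.PSp m F)).toMonoidHom (MonoidHom.id (Cfsg.PSp m F)))) p hdvd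
      obtain ⟨k, hk⟩ : ∃ k : Cfsg.PSp m F, k = (x : Cfsg.PSp m F) := ⟨_, rfl⟩
      have hkord : orderOf k = p := by rw [hk, Subgroup.orderOf_coe, hx]
      have hkfix : (spField σ : MulAut (Cfsg.PSp m F)) k = k := by
        rw [hk]
        exact x.2
      -- `conj k` lies in the image of the subfield similitude group
      have hmem : MulAut.conj k ∈ (fixHomSp (m := m) (fixF σ).subtype).range := by
        rw [range_fixHomSp (fixF σ).subtype σ hi hm, Subgroup.mem_inf, Subgroup.mem_centralizer_iff]
        constructor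
        · obtain ⟨t, ht⟩ := AutSp.prj_surjective k
          rw [mem_inndiagPSp]
          exact ⟨spIncl t, by rw [gspHom_spIncl, ht]⟩
        · intro y hy
          rw [Set.mem_singleton_iff] at hy
          rw [hy]
          apply MulEquiv.ext
          intro z
          simp only [MulAut.mul_apply, MulAut.conj_apply, map_mul, map_inv, hkfix]
      obtain ⟨g0, hg0⟩ := hmem
      obtain ⟨ν, hν⟩ : ∃ ν, ν = gspMult hm1 g0 := ⟨_, rfl⟩
      have hker : g0 ^ 2 * gspScalar ν⁻¹ ∈ (gspMult (F := fixF σ) hm1).ker := by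
        rw [MonoidHom.mem_ker, map_mul, map_pow, gspMult_scalar, ← hν]
        group
      obtain ⟨s0, hs0⟩ := (Cfsg.Agent.Helper37.SpFour.mem_ker_gspMult hm1 _).1 hker
      have hsub : subT m σ s0 = MulAut.conj (k ^ 2) := by
        show fixHomSp (m := m) (fixF σ).subtype (spIncl s0) = _
        rw [hs0, map_mul, map_pow, hg0, fixHomSp_gspScalar hm, mul_one, map_pow]
      -- squares lie in the commutator subgroup
      have hsq : s0 ^ 2 ∈ commutator (Matrix.symplecticGroup (Fin m) (fixF σ)) := by
        by_cases h2 : (2 : fixF σ) = 0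
        · have : CharP (fixF σ) 2 := CharTwo.of_one_ne_zero_of_two_eq_zero one_ne_zero h2
          exact sq_mem_commutator_sp s0
        · rw [commutator_sp_eq_top_of_two_le (F := fixF σ) hm h2]
          trivial
      have hyN : MulAut.conj (k ^ 4) ∈ N0 := by
        have h1 : s0 ^ 2 ∈ M := hle hsq
        have h2 : subT m σ (s0 ^ 2) ∈ N0 := h1
        rw [map_pow, hsub, ← map_pow, ← pow_mul] at h2
        exact h2
      have hpodd : ¬ p ∣ 4 := by
        intro h
        have h4 : (4 : ℕ) = 2 ^ 2 := by norm_num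
        rw [h4] at h
        have := (Nat.prime_dvd_prime_iff_eq hpp Nat.prime_two).1 (hpp.dvd_of_dvd_pow h)
        exact hp2 this
      have hne : MulAut.conj (k ^ 4) ≠ 1 := by
        intro h
        have hc : k ^ 4 ∈ Subgroup.center (Cfsg.PSp m F) := by
          rw [Subgroup.mem_center_iff]
          intro y
          have := congrArg (fun β : MulAut (Cfsg.PSp m F) => β y) h
          simp only [MulAut.conj_apply, MulAut.one_apply] at this
          calc y * k ^ 4 = k ^ 4 * y * (k ^ 4)⁻¹ * k ^ 4 := by rw [this]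
            _ = k ^ 4 * y := by group
        rw [center_psp_eq_bot' hm hs, Subgroup.mem_bot] at hc
        have := orderOf_dvd_of_pow_eq_one hc
        rw [hkord] at this
        exact hpodd this
      have hpow : (MulAut.conj (k ^ 4)) ^ p = 1 := by
        rw [← map_pow, ← pow_mul, mul_comm, pow_mul, ← hkord, pow_orderOf_eq_one, one_pow, map_one]
      have hord : orderOf (MulAut.conj (k ^ 4)) = p := orderOf_eq_prime hpow hne
      have hdiv : p ∣ Nat.card N0 := by
        have := Subgroup.orderOf_dvd_natCard N0 hyN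
        rwa [hord] at this
      exact hpp.one_lt.ne' (Nat.Coprime.eq_one_of_dvd hcop.symm hdiv)

end Cfsg.Agent.Helper67.LBSp
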