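import Mathlib
import Cfsg.Agent.Helper73.LBUB
import Cfsg.Agent.Helper13.UIwa4

/-!
helper67 (for helper73, WANTED #4763 (U-A)): the simplicity piece of local balance for `PSU_n(q)`.
-/

set_option autoImplicit false
set_option linter.unusedSectionVars false
set_option linter.unusedVariables false

namespace Cfsg.Agent.Helper67.LBU

open Matrix Cfsg.Agent.Helper13 Cfsg.Agent.Helper37.AutU Cfsg.Agent.Helper14.AutPSL
  Cfsg.Agent.Helper14.AutPSU Cfsg.Agent.Helper73.LBU

variable {F : Type*} [Field F] [Fintype F] {F₀ : Type*} [Field F₀] [Fintype F₀] {q q₀ n r : ℕ}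
  {σ τ : F ≃+* F} {i : F₀ →+* F} {τ₀ : F₀ ≃+* F₀}

/-- central elements of the subfield group act trivially -/
theorem subTU_eq_one_of_mem_center {p₀ f : ℕ} (H : Hyp F p₀ f q n) (D : FldData q q₀ σ τ i τ₀ r)
    (z : Cfsg.SU n F₀ q₀) (hz : z ∈ Subgroup.center (Cfsg.SU n F₀ q₀)) : subTU D z = 1 := by
  have hcomm : ∀ A₀ : Cfsg.SU n F₀ q₀,
      subTU D z * fixHomU D (suGU A₀) = fixHomU D (suGU A₀) * subTU D z := by
    intro A₀
    show subTU D z * subTU D A₀ = subTU D A₀ * subTU D z
    rw [← map_mul, ← map_mul, Subgroup.mem_center_iff.mp hz A₀]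
  obtain ⟨k, hk⟩ := Cfsg.Agent.Helper14.LBU.centralizer_subU_le H D _ hcomm
  have hk' : fldHom n F q (σ ^ k) = subTU D z := by
    rw [map_zpow]; exact hk
  have h1 : (pstd (1 : Cfsg.GU n F q) (σ ^ k) : MulAut (Cfsg.PSU n F q)) =
      pstd (guI D (suGU z)) (1 : F ≃+* F) := by
    rw [← fldHom_apply, ← pstdHom_apply, ← subTU_apply]
    exact hk'
  obtain ⟨h2, -⟩ := (pstd_eq_pstd_iff (kerHyp_of_hyp H) _ _ _ _).mp h1
  rw [← hk', h2, map_one]

theorem subTU_range_inf_eq_bot {p₀ f : ℕ} (H : Hyp F p₀ f q n) (D : FldData q q₀ σ τ i τ₀ r)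
    (h32 : ¬ (n = 3 ∧ q₀ = 2)) {p : ℕ} [Fact p.Prime] (hp : p ≠ ringChar F)
    (N0 : Subgroup (MulAut (Cfsg.PSU n F q)))
    (hnorm : ∀ s n', n' ∈ N0 → subTU D s * n' * (subTU D s)⁻¹ ∈ N0)
    (hcop : (Nat.card N0).Coprime p)
    (hdvd : p ∣ Nat.card ↥(MonoidHom.eqLocus (fldHom n F q σ).toMonoidHom
      (MonoidHom.id (Cfsg.PSU n F q)))) : N0 ⊓ (subTU D).range = ⊥ := by
  classical
  have hpp : p.Prime := Fact.out
  have hn3 : 3 ≤ n := H.hn
  have hsimp : IsSimpleGroup (Cfsg.PSU n F₀ q₀) := isSimpleGroup_PSU D.hF₀ H.hn h32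
  have hZ : Subgroup.center (Cfsg.PSU n F q) = ⊥ := center_psu_eq_bot H
  set M : Subgroup (Cfsg.SU n F₀ q₀) := N0.comap (subTU D) with hM
  have hMn : M.Normal := by
    refine ⟨fun m hm g => ?_⟩
    show subTU D (g * m * g⁻¹) ∈ N0
    rw [map_mul, map_mul, map_inv]
    exact hnorm g _ hm
  have hMbarn : (M.map (pr : Cfsg.SU n F₀ q₀ →* Cfsg.PSU n F₀ q₀)).Normal :=
    hMn.map _ pr_surjective
  rcases hMbarn.eq_bot_or_eq_top with hbot | htop
  · -- every element of `M` is central, hence acts trivially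
    rw [eq_bot_iff]
    rintro x ⟨hx, ⟨g, rfl⟩⟩
    rw [Subgroup.mem_bot]
    have hgM : g ∈ M := hx
    have h1 : (pr g : Cfsg.PSU n F₀ q₀) ∈ M.map (pr : Cfsg.SU n F₀ q₀ →* Cfsg.PSU n F₀ q₀) :=
      Subgroup.mem_map_of_mem _ hgM
    rw [hbot, Subgroup.mem_bot, pr_eq_one_iff] at h1
    exact subTU_eq_one_of_mem_center H D g h1
  · exfalso
    -- the whole image of the subfield group lies in `N0`
    have hrange : ∀ t : Cfsg.SU n F₀ q₀, subTU D t ∈ N0 := by
      intro t
      have h1 : (pr t : Cfsg.PSU n F₀ q₀) ∈ M.map (pr : Cfsg.SU n F₀ q₀ →* Cfsg.PSU n F₀ q₀) := by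
        rw [htop]; exact Subgroup.mem_top _
      obtain ⟨m, hm, hmt⟩ := h1
      have h2 : m⁻¹ * t ∈ Subgroup.center (Cfsg.SU n F₀ q₀) := pr_eq_iff.mp hmt
      have h3 : subTU D t = subTU D m := by
        have : t = m * (m⁻¹ * t) := by group
        rw [this, map_mul, subTU_eq_one_of_mem_center H D _ h2, mul_one]
      rw [h3]
      exact hm
    -- it suffices to find an element of order `p` in the image
    have key : ∀ u : Cfsg.SU n F₀ q₀, subTU D u ≠ 1 → (subTU D u) ^ p = 1 → False := by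
      intro u hne hpow
      have hord : orderOf (subTU D u) = p := orderOf_eq_prime hpow hne
      have hdiv : p ∣ Nat.card N0 := by
        have := Subgroup.orderOf_dvd_natCard N0 (hrange u)
        rwa [hord] at this
      exact hpp.one_lt.ne' (Nat.Coprime.eq_one_of_dvd hcop.symm hdiv)
    -- an element of order `p` fixed by the field automorphism
    obtain ⟨x, hx⟩ := exists_prime_orderOf_dvd_card' (G := ↥(MonoidHom.eqLocus
      (fldHom n F q σ).toMonoidHom (MonoidHom.id (Cfsg.PSU n F q)))) p hdvd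
    obtain ⟨k, hk⟩ : ∃ k : Cfsg.PSU n F q, k = (x : Cfsg.PSU n F q) := ⟨_, rfl⟩
    have hkord : orderOf k = p := by rw [hk, Subgroup.orderOf_coe, hx]
    have hkfix : (fldHom n F q σ) k = k := by
      rw [hk]
      exact x.2
    have hconj_inj : ∀ y : Cfsg.PSU n F q, MulAut.conj y = 1 → y = 1 := by
      intro y h
      have hc : y ∈ Subgroup.center (Cfsg.PSU n F q) := by
        rw [Subgroup.mem_center_iff]
        intro w
        have := congrArg (fun β : MulAut (Cfsg.PSU n F q) => β w) h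
        simp only [MulAut.conj_apply, MulAut.one_apply] at this
        calc w * y = y * w * y⁻¹ * y := by rw [this]
          _ = y * w := by group
      rw [hZ, Subgroup.mem_bot] at hc
      exact hc
    -- `conj k` lies in the image of the subfield general unitary group
    have hmem : MulAut.conj k ∈ (fixHomU (n := n) D).range := by
      rw [range_fixHomU H D, Subgroup.mem_inf, Subgroup.mem_centralizer_iff]
      constructor
      · obtain ⟨t, ht⟩ := pr_surjective k
        rw [mem_inndiagPSU]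
        exact ⟨suGU t, by rw [pstdHom_suGU, ht]⟩
      · intro y hy
        rw [Set.mem_singleton_iff] at hy
        rw [hy]
        apply MulEquiv.ext
        intro z
        simp only [MulAut.mul_apply, MulAut.conj_apply, map_mul, map_inv, hkfix]
    obtain ⟨g₀, hg₀⟩ := hmem
    by_cases hpq : p ∣ q₀ + 1
    · -- a diagonal element of order `p`
      have hcard : Nat.card F₀ˣ = (q₀ + 1) * (q₀ - 1) := by
        rw [Nat.card_eq_fintype_card, Fintype.card_units, D.hF₀]
        have := Nat.sq_sub_sq q₀ 1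
        rw [one_pow] at this
        exact this
      have hdvd' : p ∣ Nat.card F₀ˣ := by
        rw [hcard]
        exact Dvd.dvd.mul_right hpq _
      obtain ⟨c, hc⟩ := exists_prime_orderOf_dvd_card' (G := F₀ˣ) p hdvd'
      have hcp : c ^ p = 1 := by rw [← hc, pow_orderOf_eq_one]
      have hc1 : c ≠ 1 := by
        intro h
        rw [h, orderOf_one] at hc
        exact hpp.one_lt.ne hc
      have hcU : c ∈ U1 F₀ q₀ := by
        rw [MonoidHom.mem_ker, powMonoidHom_apply]
        obtain ⟨m, hm⟩ := hpq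
        rw [hm, pow_mul, hcp, one_pow]
      have h0n : 0 < n := by omega
      have h1n : 1 < n := by omega
      have h2n : 2 < n := by omega
      obtain ⟨g, hg⟩ : ∃ g : Cfsg.GU n F₀ q₀, g = dgU ⟨0, h0n⟩ (⟨c, hcU⟩ : U1 F₀ q₀) *
        dgU ⟨1, h1n⟩ (⟨c, hcU⟩ : U1 F₀ q₀)⁻¹ := ⟨_, rfl⟩
      have hgm : gm g = Matrix.diagonal (fun j =>
          (Pi.mulSingle (⟨0, h0n⟩ : Fin n) (c : F₀) : Fin n → F₀) j *
          (Pi.mulSingle (⟨1, h1n⟩ : Fin n) ((c⁻¹ : F₀ˣ) : F₀) : Fin n → F₀) j) := by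
        rw [hg, gm_mul, gm_dgU, gm_dgU, Matrix.diagonal_mul_diagonal]
        rfl
      have h01 : (⟨0, h0n⟩ : Fin n) ≠ ⟨1, h1n⟩ := by
        intro h; have := congrArg Fin.val h; simp at this
      have h02 : (⟨2, h2n⟩ : Fin n) ≠ ⟨0, h0n⟩ := by
        intro h; have := congrArg Fin.val h; simp at this
      have h12 : (⟨2, h2n⟩ : Fin n) ≠ ⟨1, h1n⟩ := by
        intro h; have := congrArg Fin.val h; simp at this
      have hdet : (gm g).det = 1 := by
        rw [hg, gm_mul, Matrix.det_mul, det_gm_dgU, det_gm_dgU]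
        show (c : F₀) * ((c⁻¹ : F₀ˣ) : F₀) = 1
        rw [← Units.val_mul, mul_inv_cancel, Units.val_one]
      obtain ⟨u, hu⟩ := exists_suGU_eq g hdet
      have hsub : subTU D u = fixHomU D g := by
        show fixHomU D (suGU u) = _
        rw [hu]
      have hgp : g ^ p = 1 := by
        apply Subtype.ext
        apply Units.ext
        show (((g ^ p : Cfsg.GU n F₀ q₀) : GL (Fin n) F₀) : Matrix (Fin n) (Fin n) F₀) = 1
        rw [Subgroup.coe_pow, Units.val_pow_eq_pow_val]
        show (gm g) ^ p = 1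
        rw [hgm, Matrix.diagonal_pow, ← Matrix.diagonal_one]
        congr 1
        funext j
        show ((Pi.mulSingle (⟨0, h0n⟩ : Fin n) (c : F₀) : Fin n → F₀) j *
          (Pi.mulSingle (⟨1, h1n⟩ : Fin n) ((c⁻¹ : F₀ˣ) : F₀) : Fin n → F₀) j) ^ p = 1
        have e1 : ((c : F₀)) ^ p = 1 := by
          rw [← Units.val_pow_eq_pow_val, hcp, Units.val_one]
        have e2 : (((c⁻¹ : F₀ˣ) : F₀)) ^ p = 1 := by
          rw [← Units.val_pow_eq_pow_val, inv_pow, hcp, inv_one, Units.val_one]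
        by_cases hj0 : j = ⟨0, h0n⟩
        · subst hj0
          rw [Pi.mulSingle_eq_same, Pi.mulSingle_eq_of_ne h01, mul_one, e1]
        · by_cases hj1 : j = ⟨1, h1n⟩
          · subst hj1
            rw [Pi.mulSingle_eq_same, Pi.mulSingle_eq_of_ne hj0, one_mul, e2]
          · rw [Pi.mulSingle_eq_of_ne hj0, Pi.mulSingle_eq_of_ne hj1, one_mul, one_pow]
      apply key u
      · rw [hsub]
        intro h
        have h1 : g ∈ (fixHomU (n := n) D).ker := h
        rw [ker_fixHomU H D, Subgroup.mem_subgroupOf, Cfsg.Geo.mem_scalars_iff] at h1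
        obtain ⟨c', hc'⟩ := h1
        have hc'' : gm g = (c' : F₀) • (1 : Matrix (Fin n) (Fin n) F₀) := hc'
        have e22 := congrFun (congrFun hc'' ⟨2, h2n⟩) ⟨2, h2n⟩
        have e00 := congrFun (congrFun hc'' ⟨0, h0n⟩) ⟨0, h0n⟩
        rw [hgm, Matrix.diagonal_apply_eq, Matrix.smul_apply, Matrix.one_apply_eq, smul_eq_mul,
          mul_one] at e22 e00
        rw [Pi.mulSingle_eq_of_ne h02, Pi.mulSingle_eq_of_ne h12, mul_one] at e22
        rw [Pi.mulSingle_eq_same, Pi.mulSingle_eq_of_ne h01, mul_one, ← e22] at e00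
        apply hc1
        apply Units.ext
        rw [e00, Units.val_one]
      · rw [hsub, ← map_pow, hgp, map_one]
    · -- the `(q₀+1)`-th power of `g₀` has determinant one
      have hdet : (gm (g₀ ^ (q₀ + 1))).det = 1 := by
        have h1 := Cfsg.Agent.Helper5.det_pow_eq_one D.hF₀ g₀.1 g₀.2
        have h2 : gm (g₀ ^ (q₀ + 1)) = (gm g₀) ^ (q₀ + 1) := by
          show (((g₀ ^ (q₀ + 1) : Cfsg.GU n F₀ q₀) : GL (Fin n) F₀) : Matrix (Fin n) (Fin n) F₀) = _
          rw [Subgroup.coe_pow, Units.val_pow_eq_pow_val]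
        rw [h2, Matrix.det_pow]
        exact h1
      obtain ⟨u, hu⟩ := exists_suGU_eq _ hdet
      have hsub : subTU D u = MulAut.conj (k ^ (q₀ + 1)) := by
        show fixHomU D (suGU u) = _
        rw [hu, map_pow, hg₀, ← map_pow]
      apply key u
      · rw [hsub]
        intro h
        have h1 := hconj_inj _ h
        have h2 := orderOf_dvd_of_pow_eq_one h1
        rw [hkord] at h2
        exact hpq h2
      · rw [hsub, ← map_pow, ← pow_mul, mul_comm, pow_mul, ← hkord, pow_orderOf_eq_one, one_pow,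
          map_one]

end Cfsg.Agent.Helper67.LBU
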