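import Mathlib
import Cfsg.Agent.Helper67.Cyclic

set_option autoImplicit false

namespace Cfsg.Agent.Helper67

/-- If `N` is normal, then `|X ⊔ N : X|` divides `|N|`. -/
theorem relIndex_sup_dvd_card' {G : Type*} [Group G] [Finite G] (X N : Subgroup G) [N.Normal] :
    X.relIndex (X ⊔ N) ∣ Nat.card N := by
  have e1 : Nat.card X * X.relIndex (X ⊔ N) = Nat.card (X ⊔ N : Subgroup G) := by
    have := (X.subgroupOf (X ⊔ N)).card_mul_index
    rwa [Nat.card_congr (Subgroup.subgroupOfEquivOfLe (le_sup_left : X ≤ X ⊔ N)).toEquiv] at this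
  have e2 : Nat.card N * N.relIndex (X ⊔ N) = Nat.card (X ⊔ N : Subgroup G) := by
    have := (N.subgroupOf (X ⊔ N)).card_mul_index
    rwa [Nat.card_congr (Subgroup.subgroupOfEquivOfLe (le_sup_right : N ≤ X ⊔ N)).toEquiv] at this
  have e3 : N.relIndex (X ⊔ N) = N.relIndex X := Subgroup.relIndex_sup_right X N
  obtain ⟨d, hd⟩ : N.relIndex X ∣ Nat.card X := Subgroup.relIndex_dvd_card N X
  have hne : N.relIndex X ≠ 0 := by
    intro h0
    rw [h0, zero_mul] at hd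
    exact Nat.card_pos.ne' hd
  refine ⟨d, ?_⟩
  have : N.relIndex X * (d * X.relIndex (X ⊔ N)) = N.relIndex X * Nat.card N := by
    rw [← mul_assoc, ← hd, e1, ← e2, e3, mul_comm]
  have := Nat.eq_of_mul_eq_mul_left (Nat.pos_of_ne_zero hne) this
  rw [← this, mul_comm]

/-- Lifting an element of `p`-power order of a quotient of a finite group to a `p`-element. -/
theorem exists_lift_pow_prime {G : Type*} [Group G] [Finite G] (N : Subgroup G) [N.Normal]
    {p k : ℕ} (hp : p.Prime) (y : G ⧸ N) (hy : orderOf y = p ^ k) :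
    ∃ x : G, (x : G ⧸ N) = y ∧ ∃ a : ℕ, x ^ (p ^ a) = 1 := by
  rcases Nat.eq_zero_or_pos k with rfl | hk
  · rw [pow_zero, orderOf_eq_one_iff] at hy
    exact ⟨1, by rw [hy]; rfl, 0, one_pow _⟩
  obtain ⟨g, rfl⟩ := QuotientGroup.mk_surjective y
  obtain ⟨a, m, hm, ham⟩ := Nat.exists_eq_pow_mul_and_not_dvd (orderOf_pos g).ne' p hp.one_lt.ne'
  have hcop : Nat.Coprime m (p ^ a) :=
    (Nat.Coprime.pow_left a ((Nat.Prime.coprime_iff_not_dvd hp).2 hm)).symm
  have hdvd : p ^ k ∣ p ^ a := by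
    have h1 : orderOf (g : G ⧸ N) ∣ orderOf g := orderOf_map_dvd (QuotientGroup.mk' N) g
    rw [hy, ham] at h1
    exact (Nat.Coprime.dvd_mul_right (Nat.Coprime.pow_left k
      ((Nat.Prime.coprime_iff_not_dvd hp).2 hm))).1 h1
  have ha : 0 < a := by
    rcases Nat.eq_zero_or_pos a with rfl | ha
    · rw [pow_zero, Nat.dvd_one] at hdvd
      have : 1 < p ^ k := Nat.one_lt_pow hk.ne' hp.one_lt
      omega
    · exact ha
  have hpa : 1 < p ^ a := Nat.one_lt_pow ha.ne' hp.one_lt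
  obtain ⟨m', -, hm'⟩ := Nat.exists_mul_mod_eq_one_of_coprime hcop hpa
  refine ⟨g ^ (m * m'), ?_, a, ?_⟩
  · have hy1 : (g : G ⧸ N) ^ (p ^ a) = 1 := by
      obtain ⟨d, hd⟩ := hdvd
      rw [hd, pow_mul, ← hy, pow_orderOf_eq_one, one_pow]
    rw [QuotientGroup.mk_pow, ← Nat.div_add_mod (m * m') (p ^ a), hm', pow_add, pow_mul, hy1,
      one_pow, one_mul, pow_one]
  · rw [← pow_mul]
    have : m * m' * p ^ a = (p ^ a * m) * m' := by ring
    rw [this, pow_mul, ← ham, pow_orderOf_eq_one, one_pow]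

/-- Frattini-type lifting of normalizing elements: let `N` be a normal `p'`-subgroup, `x` a
`p`-element and `h` an element whose image normalizes `⟨x̄⟩` in `G ⧸ N`. Then some element `w`
normalizing `⟨x⟩` has image `x̄ ^ i * h̄`. -/
theorem exists_normalizing_lift {G : Type*} [Group G] [Finite G] (N : Subgroup G) [N.Normal]
    {p : ℕ} [Fact p.Prime] (hpN : ¬ p ∣ Nat.card N) (x h : G) {a : ℕ} (hx : x ^ (p ^ a) = 1)
    (hh : (h : G ⧸ N) * (x : G ⧸ N) * (h : G ⧸ N)⁻¹ ∈ Subgroup.zpowers (x : G ⧸ N)) :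
    ∃ w : G, w ∈ Subgroup.normalizer ((Subgroup.zpowers x : Subgroup G) : Set G) ∧
      ∃ i : ℤ, (w : G ⧸ N) = (x : G ⧸ N) ^ i * (h : G ⧸ N) := by
  set X := Subgroup.zpowers x with hX
  set L := X ⊔ N with hL
  -- h x h⁻¹ ∈ L
  have hhx : h * x * h⁻¹ ∈ L := by
    obtain ⟨i, hi⟩ := Subgroup.mem_zpowers_iff.1 hh
    have h1 : ((x ^ i : G) : G ⧸ N) = ((h * x * h⁻¹ : G) : G ⧸ N) := by
      simpa using hi
    have h2 : (x ^ i)⁻¹ * (h * x * h⁻¹) ∈ N := QuotientGroup.eq.1 h1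
    have h3 : h * x * h⁻¹ = x ^ i * ((x ^ i)⁻¹ * (h * x * h⁻¹)) := by group
    rw [h3]
    exact L.mul_mem (le_sup_left (a := X) (Subgroup.zpow_mem_zpowers x i)) (le_sup_right (a := X) h2)
  -- X is a p-group
  have hXp : IsPGroup p X := by
    rintro ⟨g, hg⟩
    obtain ⟨i, rfl⟩ := Subgroup.mem_zpowers_iff.1 hg
    refine ⟨a, Subtype.ext ?_⟩
    show (x ^ i) ^ (p ^ a) = 1
    rw [← zpow_natCast, ← zpow_mul, mul_comm, zpow_mul, zpow_natCast, hx, one_zpow]
  -- X as a subgroup of L is a Sylow p-subgroup of L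
  have hX₁p : IsPGroup p (X.subgroupOf L) := hXp.comap_subtype
  have hX₁i : ¬ p ∣ (X.subgroupOf L).index := by
    intro hdvd
    exact hpN (hdvd.trans (relIndex_sup_dvd_card' X N))
  let S : Sylow p L := hX₁p.toSylow hX₁i
  -- the conjugate ⟨h x h⁻¹⟩ inside L
  let x' : L := ⟨h * x * h⁻¹, hhx⟩
  have hT : IsPGroup p (Subgroup.zpowers x') := by
    rintro ⟨g, hg⟩
    obtain ⟨i, rfl⟩ := Subgroup.mem_zpowers_iff.1 hg
    refine ⟨a, Subtype.ext (Subtype.ext ?_)⟩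
    show ((h * x * h⁻¹) ^ i) ^ (p ^ a) = 1
    rw [← zpow_natCast, ← zpow_mul, mul_comm, zpow_mul, zpow_natCast, conj_pow, hx]
    simp
  obtain ⟨c, hc⟩ := exists_conj_mem_sylow S hT
  have hc' : c * x' * c⁻¹ ∈ X.subgroupOf L := hc x' (Subgroup.mem_zpowers x')
  rw [Subgroup.mem_subgroupOf] at hc'
  have hc'' : ((c : G) * h) * x * ((c : G) * h)⁻¹ ∈ X := by
    have : ((c * x' * c⁻¹ : L) : G) = ((c : G) * h) * x * ((c : G) * h)⁻¹ := by
      show (c : G) * (h * x * h⁻¹) * (c : G)⁻¹ = _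
      group
    rwa [this] at hc'
  refine ⟨(c : G) * h, mem_normalizer_zpowers_iff.2 hc'', ?_⟩
  -- image of c lies in ⟨x̄⟩
  have hcL : ((c : G) : G ⧸ N) ∈ Subgroup.zpowers (x : G ⧸ N) := by
    have h1 : ((c : G) : G ⧸ N) ∈ L.map (QuotientGroup.mk' N) := ⟨c, c.2, rfl⟩
    have h2 : L.map (QuotientGroup.mk' N) = Subgroup.zpowers (x : G ⧸ N) := by
      rw [hL, Subgroup.map_sup, hX, MonoidHom.map_zpowers, QuotientGroup.map_mk'_self,
        sup_bot_eq]
      rfl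
    rw [h2] at h1
    exact h1
  obtain ⟨i, hi⟩ := Subgroup.mem_zpowers_iff.1 hcL
  exact ⟨i, by rw [QuotientGroup.mk_mul, hi]⟩

end Cfsg.Agent.Helper67
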