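import Mathlib
import Cfsg.Agent.Helper79.Mult.Defs

set_option autoImplicit false

universe u

namespace Cfsg.Agent.Helper67.Mult

open Cfsg Cfsg.Agent.Helper79.Mult

variable {G : Type u} [Group G] [Finite G]

/-- (CONJ) if `a` has no fixed points on `D` then the coset `D a` is a single `D`-class: `e ↦ e a e⁻¹ a⁻¹` is injective on `D`. -/
theorem exists_conj_of_fpf (D : Subgroup G) [hDn : D.Normal] (a : G)
    (hfpf : ∀ d ∈ D, a * d = d * a → d = 1) :
    ∀ d ∈ D, ∃ e ∈ D, e * a * e⁻¹ = d * a := by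
  let φ : D → D := fun e => ⟨(e : G) * a * (e : G)⁻¹ * a⁻¹, by
    have h1 : a * (e : G)⁻¹ * a⁻¹ ∈ D := hDn.conj_mem _ (D.inv_mem e.2) a
    have h2 : (e : G) * a * (e : G)⁻¹ * a⁻¹ = (e : G) * (a * (e : G)⁻¹ * a⁻¹) := by group
    rw [h2]; exact D.mul_mem e.2 h1⟩
  have hφ : ∀ e : D, ((φ e : D) : G) = (e : G) * a * (e : G)⁻¹ * a⁻¹ := fun e => rfl
  have hinj : Function.Injective φ := by
    intro e f hef
    have h := congrArg Subtype.val hef
    rw [hφ, hφ] at h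
    have h2 : (e : G) * a * (e : G)⁻¹ = (f : G) * a * (f : G)⁻¹ := mul_right_cancel h
    have h3 : a * ((f : G)⁻¹ * e) = ((f : G)⁻¹ * e) * a := by
      calc a * ((f : G)⁻¹ * e) = (f : G)⁻¹ * ((f : G) * a * (f : G)⁻¹) * e := by group
        _ = (f : G)⁻¹ * ((e : G) * a * (e : G)⁻¹) * e := by rw [h2]
        _ = ((f : G)⁻¹ * e) * a := by group
    have h4 := hfpf _ (D.mul_mem (D.inv_mem f.2) e.2) h3
    exact Subtype.ext (inv_mul_eq_one.mp h4).symm
  have hsurj : Function.Surjective φ := Finite.injective_iff_surjective.mp hinj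
  intro d hd
  obtain ⟨e, he⟩ := hsurj ⟨d, hd⟩
  refine ⟨e, e.2, ?_⟩
  have h := congrArg Subtype.val he
  rw [hφ] at h
  have h' : d = (e : G) * a * (e : G)⁻¹ * a⁻¹ := h.symm
  rw [h']; group

end Cfsg.Agent.Helper67.Mult
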