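import Mathlib
import Cfsg.Agent.Helper79.Mult.Defs

set_option autoImplicit false

universe u

namespace Cfsg.Agent.Helper67.Mult

open Cfsg Cfsg.Agent.Helper79.Mult
open scoped commutatorElement

variable {G : Type u} [Group G] [Finite G]

/-- (FIX) every coset of `D` contains an element commuting with `y`. -/
theorem exists_commute_in_coset (p : ℕ) (hp : p.Prime) (D : Subgroup G) [hDn : D.Normal]
    (hD : IsPGroup p D) (hGD : commutator G ≤ D) (y : G) (hy : OffP p y) (g : G) :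
    ∃ d ∈ D, y * (g * d) = (g * d) * y := by
  obtain ⟨q, b, hq, hqp, hyo⟩ := hy
  have : Fact q.Prime := ⟨hq⟩
  have : Fact p.Prime := ⟨hp⟩
  have hmem : ∀ (z : G) (d : D), g⁻¹ * (z * (g * d) * z⁻¹) ∈ D := by
    intro z d
    have h1 : g⁻¹ * z * g * z⁻¹ ∈ D := by
      apply hGD
      have h0 : g⁻¹ * z * g * z⁻¹ = ⁅g⁻¹, z⁆ := by simp [commutatorElement_def]
      rw [h0]
      exact Subgroup.commutator_mem_commutator (Subgroup.mem_top _) (Subgroup.mem_top _)
    have h2 : z * (d : G) * z⁻¹ ∈ D := hDn.conj_mem _ d.2 z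
    have h3 : g⁻¹ * (z * (g * d) * z⁻¹) = (g⁻¹ * z * g * z⁻¹) * (z * (d : G) * z⁻¹) := by group
    rw [h3]; exact D.mul_mem h1 h2
  let act : MulAction (Subgroup.zpowers y) D :=
    { smul := fun z d => ⟨g⁻¹ * ((z : G) * (g * d) * (z : G)⁻¹), hmem z d⟩
      one_smul := fun d => by
        apply Subtype.ext
        show g⁻¹ * ((1 : G) * (g * d) * (1 : G)⁻¹) = d
        group
      mul_smul := fun z w d => by
        apply Subtype.ext
        show g⁻¹ * (((z : G) * (w : G)) * (g * d) * ((z : G) * (w : G))⁻¹) =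
          g⁻¹ * ((z : G) * (g * (g⁻¹ * ((w : G) * (g * d) * (w : G)⁻¹))) * (z : G)⁻¹)
        group }
  have hq_group : IsPGroup q (Subgroup.zpowers y) :=
    IsPGroup.of_card (n := b) (by rw [Nat.card_zpowers, hyo])
  have hcardD : ¬ q ∣ Nat.card D := by
    obtain ⟨k, hk⟩ := IsPGroup.iff_card.mp hD
    rw [hk]
    intro h
    exact hqp ((Nat.prime_dvd_prime_iff_eq hq hp).mp (hq.dvd_of_dvd_pow h))
  obtain ⟨d, hd⟩ := hq_group.nonempty_fixed_point_of_prime_not_dvd_card D hcardD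
  refine ⟨d, d.2, ?_⟩
  have h := hd ⟨y, Subgroup.mem_zpowers y⟩
  have h' : g⁻¹ * (y * (g * d) * y⁻¹) = (d : G) := congrArg Subtype.val h
  have hX : y * (g * d) * y⁻¹ = g * d := inv_mul_eq_iff_eq_mul.mp h'
  exact mul_inv_eq_iff_eq_mul.mp hX

end Cfsg.Agent.Helper67.Mult
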