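/-
helper67: fusion in a nilpotent Hall subgroup `H` of a group `G` all of whose proper subgroups are
solvable of `p`-length one (all `p`) and in which normalizers of nontrivial subgroups of `H` are
proper: if `Q ≤ H` and `g Q g⁻¹ ≤ H` then `g ∈ N_G(H) C_G(Q)`.
-/
import Mathlib
import Cfsg.Prelude.Def_OddOrderLocal
import Cfsg.Agent.Helper67.NilHallKey
import Cfsg.Agent.Helper1.Compl
import Cfsg.Agent.S0581

set_option autoImplicit false

namespace Cfsg.Agent.Helper67.NilHall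

open Pointwise

variable {G : Type*} [Group G]

/-- Transfer of the key lemma to a subgroup `L` of `G`. -/
theorem key_subgroup [Finite G] (L R Q : Subgroup G) (hL : Group.IsSolvable L) (hRL : R ≤ L)
    (hQR : Q ≤ R) (hLQ : L ≤ Subgroup.normalizer (Q : Set G)) (hRn : Group.IsNilpotent R)
    (hHall : (Nat.card R).Coprime (R.relIndex L))
    (hPL : ∀ p : ℕ, p.Prime → Cfsg.PLengthLE p 1 L) :
    ∀ l ∈ L, ∃ m ∈ Subgroup.normalizer (R : Set G), ∃ c ∈ Subgroup.centralizer (Q : Set G),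
      l = m * c := by
  intro l hl
  have hQL : Q ≤ L := hQR.trans hRL
  haveI : (Q.subgroupOf L).Normal := (Subgroup.normal_subgroupOf_iff_le_normalizer hQL).mpr hLQ
  have hRn' : Group.IsNilpotent (R.subgroupOf L) :=
    Group.nilpotent_of_mulEquiv (Subgroup.subgroupOfEquivOfLe hRL).symm
  have hcard : Nat.card (R.subgroupOf L) = Nat.card R :=
    Nat.card_congr (Subgroup.subgroupOfEquivOfLe hRL).toEquiv
  have hHall' : (Nat.card (R.subgroupOf L)).Coprime (R.subgroupOf L).index := by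
    rw [hcard]; exact hHall
  obtain ⟨m, hm, c, hc, hmc⟩ := key (R.subgroupOf L) (Q.subgroupOf L) hRn' hHall'
    (fun x hx => hQR hx) (fun p hp _ => hPL p hp) ⟨l, hl⟩
  refine ⟨m, ?_, c, ?_, ?_⟩
  · rw [← Subgroup.subgroupOf_normalizer_eq hRL] at hm
    exact Subgroup.mem_subgroupOf.mp hm
  · rw [Subgroup.mem_centralizer_iff] at hc ⊢
    intro y hy
    have := hc ⟨y, hQL hy⟩ (Subgroup.mem_subgroupOf.mpr hy)
    exact congrArg Subtype.val this
  · exact congrArg Subtype.val hmc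

/-- Normalizers grow in a nilpotent subgroup. -/
theorem card_lt_inf_normalizer [Finite G] (H Q0 : Subgroup G) (hHn : Group.IsNilpotent H)
    (hQ0H : Q0 ≤ H) (hne : Q0 ≠ H) :
    Nat.card Q0 < Nat.card (H ⊓ Subgroup.normalizer (Q0 : Set G) : Subgroup G) := by
  have hle : Q0 ≤ H ⊓ Subgroup.normalizer (Q0 : Set G) := le_inf hQ0H Subgroup.le_normalizer
  have hlt : Q0.subgroupOf H < ⊤ :=
    lt_top_iff_ne_top.mpr (fun h => hne (le_antisymm hQ0H (Subgroup.subgroupOf_eq_top.mp h)))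
  have h1 := Group.normalizerCondition_of_isNilpotent (G := H) _ hlt
  rw [← Subgroup.subgroupOf_normalizer_eq hQ0H] at h1
  rcases (Nat.card_le_card_of_injective _ (Subgroup.inclusion_injective hle)).lt_or_eq with h | h
  · exact h
  · exfalso
    have heq : Q0 = H ⊓ Subgroup.normalizer (Q0 : Set G) :=
      Subgroup.eq_of_le_of_card_ge hle h.ge
    have h2 : (Subgroup.normalizer (Q0 : Set G)).subgroupOf H = Q0.subgroupOf H := by
      rw [← Subgroup.inf_subgroupOf_right, inf_comm, ← heq]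
    rw [h2] at h1
    exact lt_irrefl _ h1

theorem conj_smul_inf (g : G) (A B : Subgroup G) :
    MulAut.conj g • (A ⊓ B) = MulAut.conj g • A ⊓ MulAut.conj g • B := by
  ext x
  simp only [Subgroup.mem_inf, Subgroup.mem_pointwise_smul_iff_inv_smul_mem]

theorem conj_smul_eq_map (g : G) (A : Subgroup G) :
    MulAut.conj g • A = A.map (MulAut.conj g).toMonoidHom := by
  ext x
  rw [Subgroup.mem_smul_pointwise_iff_exists, Subgroup.mem_map]
  rfl

theorem conj_smul_normalizer (g : G) (A : Subgroup G) :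
    MulAut.conj g • Subgroup.normalizer (A : Set G) =
      Subgroup.normalizer ((MulAut.conj g • A : Subgroup G) : Set G) := by
  rw [conj_smul_eq_map, conj_smul_eq_map, Subgroup.map_equiv_normalizer_eq]


theorem centralizer_le_normalizer' (A : Subgroup G) :
    Subgroup.centralizer (A : Set G) ≤ Subgroup.normalizer (A : Set G) := by
  intro c hc
  rw [Subgroup.mem_normalizer_iff]
  intro y
  constructor
  · intro hy
    have := Subgroup.mem_centralizer_iff.mp hc y hy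
    rw [← this, mul_inv_cancel_right]; exact hy
  · intro hy
    have h1 := Subgroup.mem_centralizer_iff.mp hc _ hy
    have h2 : c * y * c⁻¹ = y := by
      have : c * y * c⁻¹ * c = c * (c * y * c⁻¹) := h1
      have h3 : c * y = c * (c * y * c⁻¹) := by rw [← this]; group
      exact (mul_left_cancel h3).symm
    rw [← h2]; exact hy

/-- Step (i): `N_H(Q₀)` is a Hall subgroup of `N_G(Q₀)`. -/
theorem hall_normalizer [Finite G] (H : Subgroup G) (hHn : Group.IsNilpotent H)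
    (hHall : (Nat.card H).Coprime H.index)
    (hsimp : ∀ Q : Subgroup G, Q ≠ ⊥ → Q ≤ H → Subgroup.normalizer (Q : Set G) ≠ ⊤)
    (hsolv : ∀ L : Subgroup G, L ≠ ⊤ → Group.IsSolvable L)
    (Q0 : Subgroup G) (hQ0H : Q0 ≤ H) (hQ0 : Q0 ≠ ⊥) (hne : Q0 ≠ H)
    (IH : ∀ Q' : Subgroup G, Q' ≤ H → Nat.card Q0 < Nat.card Q' → ∀ g : G,
      MulAut.conj g • Q' ≤ H →
      ∃ n ∈ Subgroup.normalizer (H : Set G), ∃ c ∈ Subgroup.centralizer (Q' : Set G), g = n * c) :
    Cfsg.IsPiHallOf {p | p ∣ Nat.card H} (H ⊓ Subgroup.normalizer (Q0 : Set G))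
      (Subgroup.normalizer (Q0 : Set G)) := by
  set L0 := Subgroup.normalizer (Q0 : Set G) with hL0
  set R0 := H ⊓ L0 with hR0
  have hL0ne : L0 ≠ ⊤ := hsimp Q0 hQ0 hQ0H
  haveI : Group.IsSolvable L0 := hsolv L0 hL0ne
  have hlt : Nat.card Q0 < Nat.card R0 := card_lt_inf_normalizer H Q0 hHn hQ0H hne
  have hR0π : ∀ p : ℕ, p.Prime → p ∣ Nat.card R0 → p ∈ {p | p ∣ Nat.card H} := by
    intro p _ hp
    exact dvd_trans hp (Subgroup.card_dvd_of_le inf_le_left)
  obtain ⟨S1, hS1, -, hRS⟩ := Cfsg.Agent.Helper62.invariant_hall_le (⊥ : Subgroup G) L0 bot_le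
    (by simp) {p | p ∣ Nat.card H} R0 inf_le_right bot_le hR0π
  obtain ⟨a, ha⟩ := Cfsg.Agent.S0581.result H S1 hHn hHall (fun p hp hd => hS1.2.1 p hp hd)
  have h1 : MulAut.conj a⁻¹ • R0 ≤ H := by
    have h : R0 ≤ MulAut.conj a • H := hRS.trans ha
    have h' : MulAut.conj a⁻¹ • R0 ≤ MulAut.conj a⁻¹ • (MulAut.conj a • H) :=
      Subgroup.pointwise_smul_le_pointwise_smul_iff.mpr h
    rwa [← mul_smul, ← map_mul, inv_mul_cancel, map_one, one_smul] at h'
  obtain ⟨n, hn, c, hc, hac⟩ := IH R0 inf_le_left hlt a⁻¹ h1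
  have h2 : MulAut.conj a • H = MulAut.conj c⁻¹ • H := by
    have e : a = c⁻¹ * n⁻¹ := by rw [← inv_inv a, hac]; group
    rw [e, map_mul, mul_smul, Cfsg.Agent.Helper1.conj_smul_eq_of_mem_normalizer (inv_mem hn)]
  have hcL : c⁻¹ ∈ L0 := by
    apply inv_mem
    apply centralizer_le_normalizer' Q0
    exact Subgroup.centralizer_le (show (Q0 : Set G) ⊆ R0 from le_inf hQ0H Subgroup.le_normalizer) hc
  have h3 : S1 ≤ MulAut.conj c⁻¹ • R0 := by
    rw [hR0, conj_smul_inf, Subgroup.conj_smul_eq_self_of_mem hcL, ← h2]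
    exact le_inf ha hS1.1
  have h4 : Nat.card S1 ≤ Nat.card R0 := by
    rw [← Cfsg.Agent.Helper1.card_conj_smul R0 c⁻¹]
    exact Nat.card_le_card_of_injective _ (Subgroup.inclusion_injective h3)
  have h5 : R0 = S1 := Subgroup.eq_of_le_of_card_ge hRS h4
  rw [h5]; exact hS1


/-- Conjugation transports Hall subgroups. -/
theorem isPiHallOf_conj_smul [Finite G] {π : Set ℕ} {A B : Subgroup G} (h : Cfsg.IsPiHallOf π A B)
    (g : G) : Cfsg.IsPiHallOf π (MulAut.conj g • A) (MulAut.conj g • B) := by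
  apply Cfsg.Agent.Helper62.isPiHallOf_of_card_mul
    (Subgroup.pointwise_smul_le_pointwise_smul_iff.mpr h.1) (A.relIndex B)
  · rw [Cfsg.Agent.Helper1.card_conj_smul]; exact h.2.1
  · exact h.2.2
  · rw [Cfsg.Agent.Helper1.card_conj_smul, Cfsg.Agent.Helper1.card_conj_smul]
    exact (Cfsg.Agent.Helper62.isPiHallOf_card_mul_relIndex h).symm

/-- **Fusion in nilpotent Hall subgroups**: if `Q ≤ H` and `g Q g⁻¹ ≤ H` then
`g ∈ N_G(H) C_G(Q)`. -/
theorem fusion_aux [Finite G] (H : Subgroup G) (hHn : Group.IsNilpotent H)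
    (hHall : (Nat.card H).Coprime H.index)
    (hsimp : ∀ Q : Subgroup G, Q ≠ ⊥ → Q ≤ H → Subgroup.normalizer (Q : Set G) ≠ ⊤)
    (hsolv : ∀ L : Subgroup G, L ≠ ⊤ → Group.IsSolvable L)
    (hPL : ∀ p : ℕ, p.Prime → ∀ L : Subgroup G, L ≠ ⊤ → Cfsg.PLengthLE p 1 L) :
    ∀ k : ℕ, ∀ Q : Subgroup G, Q ≤ H → Nat.card H - Nat.card Q = k → ∀ g : G,
      MulAut.conj g • Q ≤ H →
      ∃ n ∈ Subgroup.normalizer (H : Set G), ∃ c ∈ Subgroup.centralizer (Q : Set G),
        g = n * c := by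
  intro k
  induction k using Nat.strong_induction_on with
  | _ k ih =>
  intro Q hQH hk g hg
  by_cases hQ1 : Q = ⊥
  · subst hQ1
    refine ⟨1, one_mem _, g, ?_, by simp⟩
    rw [Subgroup.mem_centralizer_iff]
    intro y hy
    have : y = 1 := by simpa using hy
    rw [this]; simp
  by_cases hQe : Q = H
  · subst hQe
    have h1 : MulAut.conj g • Q = Q :=
      Subgroup.eq_of_le_of_card_ge hg (by rw [Cfsg.Agent.Helper1.card_conj_smul])
    exact ⟨g, Cfsg.Agent.Helper1.mem_normalizer_of_conj_smul_eq h1, 1, one_mem _, by simp⟩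
  have hcardle : ∀ Q' : Subgroup G, Q' ≤ H → Nat.card Q' ≤ Nat.card H := fun Q' h =>
    Nat.card_le_card_of_injective _ (Subgroup.inclusion_injective h)
  have hQlt : Nat.card Q < Nat.card H := by
    rcases (hcardle Q hQH).lt_or_eq with h | h
    · exact h
    · exact absurd (Subgroup.eq_of_le_of_card_ge hQH h.ge) hQe
  have IH : ∀ Q' : Subgroup G, Q' ≤ H → Nat.card Q < Nat.card Q' → ∀ g' : G,
      MulAut.conj g' • Q' ≤ H →
      ∃ n ∈ Subgroup.normalizer (H : Set G), ∃ c ∈ Subgroup.centralizer (Q' : Set G),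
        g' = n * c := by
    intro Q' hQ'H hlt g' hg'
    have := hcardle Q' hQ'H
    exact ih (Nat.card H - Nat.card Q') (by omega) Q' hQ'H rfl g' hg'
  set Q1 : Subgroup G := MulAut.conj g • Q with hQ1def
  have hcQ1 : Nat.card Q1 = Nat.card Q := Cfsg.Agent.Helper1.card_conj_smul Q g
  have hQ1ne : Q1 ≠ ⊥ := by
    intro h
    apply hQ1
    rw [← Subgroup.card_eq_one, ← hcQ1, h]
    simp
  have hQ1neH : Q1 ≠ H := by
    intro h
    rw [h] at hcQ1
    omega
  have IH1 : ∀ Q' : Subgroup G, Q' ≤ H → Nat.card Q1 < Nat.card Q' → ∀ g' : G,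
      MulAut.conj g' • Q' ≤ H →
      ∃ n ∈ Subgroup.normalizer (H : Set G), ∃ c ∈ Subgroup.centralizer (Q' : Set G),
        g' = n * c := by
    rw [hcQ1]; exact IH
  set L : Subgroup G := Subgroup.normalizer (Q : Set G) with hLdef
  set R : Subgroup G := H ⊓ L with hRdef
  set L1 : Subgroup G := Subgroup.normalizer (Q1 : Set G) with hL1def
  set R1 : Subgroup G := H ⊓ L1 with hR1def
  have hR : Cfsg.IsPiHallOf {p | p ∣ Nat.card H} R L :=
    hall_normalizer H hHn hHall hsimp hsolv Q hQH hQ1 hQe IH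
  have hR1 : Cfsg.IsPiHallOf {p | p ∣ Nat.card H} R1 L1 :=
    hall_normalizer H hHn hHall hsimp hsolv Q1 hg hQ1ne hQ1neH IH1
  have hL1 : MulAut.conj g • L = L1 := conj_smul_normalizer g Q
  have hL1ne : L1 ≠ ⊤ := hsimp Q1 hQ1ne hg
  haveI : Group.IsSolvable L1 := hsolv L1 hL1ne
  have hgR : Cfsg.IsPiHallOf {p | p ∣ Nat.card H} (MulAut.conj g • R) L1 := by
    have := isPiHallOf_conj_smul hR g
    rwa [hL1] at this
  obtain ⟨l, hlL1, hl⟩ := Cfsg.Agent.Helper62.isPiHallOf_conj_of_solvable hgR hR1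
  set w : G := l * g with hw
  have hlg : MulAut.conj w • R ≤ H := by
    rw [hw, map_mul, mul_smul, hl]; exact inf_le_left
  have hRlt : Nat.card Q < Nat.card R := card_lt_inf_normalizer H Q hHn hQH hQe
  have hR1lt : Nat.card Q1 < Nat.card R1 := card_lt_inf_normalizer H Q1 hHn hg hQ1neH
  obtain ⟨n, hn, c, hc, hwc⟩ := IH R inf_le_left hRlt w hlg
  have hQR : Q ≤ R := le_inf hQH Subgroup.le_normalizer
  have hQ1R1 : Q1 ≤ R1 := le_inf hg Subgroup.le_normalizer
  -- every element of `L1` lies in `N_G(H) C_G(Q1)`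
  have hB : ∀ l' ∈ L1, ∃ n' ∈ Subgroup.normalizer (H : Set G),
      ∃ c' ∈ Subgroup.centralizer (Q1 : Set G), l' = n' * c' := by
    intro l' hl'
    obtain ⟨m, hm, c1, hc1, hmc⟩ := key_subgroup L1 R1 Q1 (hsolv L1 hL1ne) inf_le_right hQ1R1
      le_rfl (isNilpotent_of_le' inf_le_left hHn) (Cfsg.Agent.Helper62.isPiHallOf_coprime hR1)
      (fun p hp => hPL p hp L1 hL1ne) l' hl'
    have hm' : MulAut.conj m • R1 ≤ H := by
      rw [Cfsg.Agent.Helper1.conj_smul_eq_of_mem_normalizer hm]; exact inf_le_left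
    obtain ⟨n', hn', c2, hc2, hm2⟩ := IH1 R1 inf_le_left hR1lt m hm'
    refine ⟨n', hn', c2 * c1, mul_mem (Subgroup.centralizer_le hQ1R1 hc2) hc1, ?_⟩
    rw [hmc, hm2, mul_assoc]
  obtain ⟨n2, hn2, c2, hc2, hl2⟩ := hB l⁻¹ (inv_mem hlL1)
  have hwQ : MulAut.conj w • Q = Q1 := by
    rw [hw, map_mul, mul_smul]
    exact Cfsg.Agent.Helper1.conj_smul_eq_of_mem_normalizer hlL1
  refine ⟨n2 * n, mul_mem hn2 hn, c * (w⁻¹ * c2 * w), ?_, ?_⟩
  · apply mul_mem (Subgroup.centralizer_le hQR hc)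
    rw [Subgroup.mem_centralizer_iff]
    intro y hy
    have hy1 : w * y * w⁻¹ ∈ Q1 := by
      rw [← hwQ]
      have := Subgroup.smul_mem_pointwise_smul y (MulAut.conj w) Q hy
      simpa [MulAut.smul_def, MulAut.conj_apply] using this
    have h1 := Subgroup.mem_centralizer_iff.mp hc2 _ hy1
    calc y * (w⁻¹ * c2 * w) = w⁻¹ * ((w * y * w⁻¹) * c2) * w := by group
      _ = w⁻¹ * (c2 * (w * y * w⁻¹)) * w := by rw [h1]
      _ = (w⁻¹ * c2 * w) * y := by group
  · have e1 : g = l⁻¹ * w := by rw [hw]; group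
    rw [e1, hl2]
    calc n2 * c2 * w = n2 * (n * c) * (w⁻¹ * c2 * w) := by rw [← hwc]; group
      _ = n2 * n * (c * (w⁻¹ * c2 * w)) := by group


/-- Fusion of elements in a nilpotent Hall subgroup of a minimal simple group of odd order, given
that all proper subgroups have `p`-length one (B-G Theorem 10.6). -/
theorem fusion_of_minSimple [Finite G] (hG : Cfsg.IsMinSimpleOddOrder G)
    (hPL : ∀ (p : ℕ) [Fact p.Prime] (L : Subgroup G), L ≠ ⊤ → Cfsg.PLengthLE p 1 L)
    (H : Subgroup G) (hHn : Group.IsNilpotent H) (hHall : (Nat.card H).Coprime H.index) :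
    ∀ x ∈ H, ∀ g : G, g * x * g⁻¹ ∈ H →
      ∃ n ∈ Subgroup.normalizer (H : Set G), n * x * n⁻¹ = g * x * g⁻¹ := by
  intro x hx g hgx
  by_cases hHtop : H = ⊤
  · refine ⟨g, ?_, rfl⟩
    rw [hHtop, Subgroup.mem_normalizer_iff]
    intro h; simp
  haveI : IsSimpleGroup G := hG.2.1
  have hsimp : ∀ Q : Subgroup G, Q ≠ ⊥ → Q ≤ H → Subgroup.normalizer (Q : Set G) ≠ ⊤ := by
    intro Q hQ hQH hN
    haveI : Q.Normal := Subgroup.normalizer_eq_top_iff.mp hN
    rcases Subgroup.Normal.eq_bot_or_eq_top (H := Q) inferInstance with h | h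
    · exact hQ h
    · exact hHtop (top_le_iff.mp (h ▸ hQH))
  have hsolv : ∀ L : Subgroup G, L ≠ ⊤ → Group.IsSolvable L := hG.2.2.2
  have hPL' : ∀ p : ℕ, p.Prime → ∀ L : Subgroup G, L ≠ ⊤ → Cfsg.PLengthLE p 1 L := by
    intro p hp L hL
    haveI : Fact p.Prime := ⟨hp⟩
    exact hPL p L hL
  have hQH : Subgroup.zpowers x ≤ H := (Subgroup.zpowers_le).mpr hx
  have hg : MulAut.conj g • Subgroup.zpowers x ≤ H := by
    rw [Subgroup.pointwise_smul_subset_iff, Subgroup.zpowers_le,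
      Subgroup.mem_pointwise_smul_iff_inv_smul_mem, inv_inv, MulAut.smul_def, MulAut.conj_apply]
    exact hgx
  obtain ⟨n, hn, c, hc, hnc⟩ := fusion_aux H hHn hHall hsimp hsolv hPL' _ (Subgroup.zpowers x) hQH
    rfl g hg
  refine ⟨n, hn, ?_⟩
  have hcx : x * c = c * x :=
    Subgroup.mem_centralizer_iff.mp hc x (Subgroup.mem_zpowers x)
  rw [hnc]
  calc n * x * n⁻¹ = n * (x * c) * c⁻¹ * n⁻¹ := by group
    _ = n * (c * x) * c⁻¹ * n⁻¹ := by rw [hcx]
    _ = n * c * x * (n * c)⁻¹ := by group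

end Cfsg.Agent.Helper67.NilHall
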