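import Mathlib
import Cfsg.Agent.Helper1.CoprimeSylow
import Cfsg.Agent.Helper31.CoprimeHyp
import Cfsg.Agent.S4023

/-!
# Groups with a nilpotent maximal subgroup (helper67)

Common machinery for "a finite group with a nilpotent maximal subgroup `M` such that ... is solvable":
Sylow subgroups of `M` are Sylow in `G` when the core is trivial, and solvability follows once `G` has
a normal `p`-complement for every prime `p` dividing `|M|`.
-/

set_option autoImplicit false

namespace Cfsg.Agent.Helper67.NilpMax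

universe u

/-- Normalizers grow in `p`-groups (relative form). -/
theorem exists_mem_normalizer_not_mem {G : Type*} [Group G] [Finite G] {p : ℕ} [Fact p.Prime]
    (P₀ Ps : Subgroup G) (hPs : IsPGroup p Ps) (hle : P₀ ≤ Ps) (hne : P₀ ≠ Ps) :
    ∃ x ∈ Ps, x ∉ P₀ ∧ x ∈ Subgroup.normalizer (P₀ : Set G) := by
  have hnil : Group.IsNilpotent Ps := hPs.isNilpotent
  have hH : P₀.subgroupOf Ps < ⊤ := by
    rw [lt_top_iff_ne_top, Ne, Subgroup.subgroupOf_eq_top]
    intro h
    exact hne (le_antisymm hle h)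
  have h1 := Group.normalizerCondition_of_isNilpotent (P₀.subgroupOf Ps) hH
  obtain ⟨x, hxn, hxH⟩ := SetLike.exists_of_lt h1
  refine ⟨x, x.2, ?_, ?_⟩
  · intro hx
    exact hxH (Subgroup.mem_subgroupOf.2 hx)
  · apply S4023.mem_normalizer_of_conj_mem
    intro n hn
    have h2 : (⟨n, hle hn⟩ : Ps) ∈ P₀.subgroupOf Ps := Subgroup.mem_subgroupOf.2 hn
    have h3 := (Subgroup.mem_normalizer_iff.1 hxn _).1 h2
    exact Subgroup.mem_subgroupOf.1 h3

/-- For a nilpotent maximal subgroup `M` with trivial core, each Sylow subgroup of `M` is a Sylow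
subgroup of `G` with normalizer `M`. -/
theorem exists_sylow_le {G : Type*} [Group G] [Finite G] (M : Subgroup G) (hmax : IsCoatom M)
    (hnil : Group.IsNilpotent M) (hcore : M.normalCore = ⊥) (p : ℕ) [Fact p.Prime]
    (hp : p ∣ Nat.card M) :
    ∃ P : Sylow p G, (P : Subgroup G) ≤ M ∧ (P : Subgroup G) ≠ ⊥ ∧
      Subgroup.normalizer ((P : Subgroup G) : Set G) = M ∧
      ∀ C : Subgroup G, C ≤ P → C ≠ ⊥ → M ≤ Subgroup.normalizer (C : Set G) →
        Subgroup.normalizer (C : Set G) = M := by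
  obtain ⟨PM⟩ : Nonempty (Sylow p M) := inferInstance
  obtain ⟨P₀, hP₀def⟩ : ∃ P₀ : Subgroup G, P₀ = (PM : Subgroup M).map M.subtype := ⟨_, rfl⟩
  have hP₀M : P₀ ≤ M := hP₀def ▸ Subgroup.map_subtype_le _
  have hP₀p : IsPGroup p P₀ := hP₀def ▸ PM.isPGroup'.map _
  have hP₀ne : P₀ ≠ ⊥ := by
    rw [hP₀def, Ne, Subgroup.map_eq_bot_iff_of_injective _ M.subtype_injective]
    exact PM.ne_bot_of_dvd_card hp
  have hnormal : ∀ C : Subgroup G, C ≤ M → C ≠ ⊥ → M ≤ Subgroup.normalizer (C : Set G) →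
      Subgroup.normalizer (C : Set G) = M := by
    intro C hCM hC hMN
    rcases hmax.le_iff.1 hMN with h | h
    · exfalso
      have hCn : C.Normal := Subgroup.normalizer_eq_top_iff.1 h
      have : C ≤ M.normalCore := (Subgroup.normal_le_normalCore).2 hCM
      rw [hcore, le_bot_iff] at this
      exact hC this
    · exact h
  have hMN : M ≤ Subgroup.normalizer (P₀ : Set G) := by
    have h1 := Subgroup.le_normalizer_map (H := (PM : Subgroup M)) M.subtype
    rw [Subgroup.normalizer_eq_top, ← MonoidHom.range_eq_map, Subgroup.range_subtype] at h1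
    rw [hP₀def]
    exact h1
  have hN : Subgroup.normalizer (P₀ : Set G) = M := hnormal P₀ hP₀M hP₀ne hMN
  obtain ⟨Ps, hle⟩ := hP₀p.exists_le_sylow
  have heq : P₀ = (Ps : Subgroup G) := by
    by_contra hne
    obtain ⟨x, hxPs, hxP₀, hxn⟩ := exists_mem_normalizer_not_mem P₀ Ps Ps.isPGroup' hle hne
    rw [hN] at hxn
    apply hxP₀
    -- the `p`-element `x` of `M` lies in the normal Sylow subgroup of `M`
    obtain ⟨k, hk⟩ := (IsPGroup.iff_orderOf.1 Ps.isPGroup') ⟨x, hxPs⟩
    rw [Subgroup.orderOf_mk] at hk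
    have hz : IsPGroup p (Subgroup.zpowers (⟨x, hxn⟩ : M)) := by
      apply IsPGroup.of_card (n := k)
      rw [Nat.card_zpowers, Subgroup.orderOf_mk, hk]
    have hsup : IsPGroup p (Subgroup.zpowers (⟨x, hxn⟩ : M) ⊔ (PM : Subgroup M) : Subgroup M) :=
      IsPGroup.to_sup_of_normal_right hz PM.isPGroup'
    have h2 := PM.is_maximal' hsup le_sup_right
    have h3 : (⟨x, hxn⟩ : M) ∈ (PM : Subgroup M) := by
      rw [← h2]
      exact (le_sup_left : Subgroup.zpowers (⟨x, hxn⟩ : M) ≤ _) (Subgroup.mem_zpowers _)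
    rw [hP₀def]
    exact ⟨⟨x, hxn⟩, h3, rfl⟩
  refine ⟨Ps, heq ▸ hP₀M, heq ▸ hP₀ne, heq ▸ hN, ?_⟩
  intro C hCP hC hMC
  exact hnormal C (hCP.trans (heq ▸ hP₀M)) hC hMC

/-- A Sylow `q`-subgroup lies in every normal subgroup of index prime to `q`. -/
theorem sylow_le_of_not_dvd_index {G : Type*} [Group G] [Finite G] {q : ℕ} [Fact q.Prime]
    (Q : Sylow q G) (X : Subgroup G) [X.Normal] (hX : ¬ q ∣ X.index) : (Q : Subgroup G) ≤ X := by
  intro x hx
  obtain ⟨j, hj⟩ := (IsPGroup.iff_orderOf.1 Q.isPGroup') ⟨x, hx⟩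
  rw [Subgroup.orderOf_mk] at hj
  have h1 : orderOf (QuotientGroup.mk' X x) ∣ q ^ j := hj ▸ orderOf_map_dvd _ x
  have h2 : orderOf (QuotientGroup.mk' X x) ∣ X.index := by
    rw [Subgroup.index_eq_card]
    exact orderOf_dvd_natCard _
  have hcop : (q ^ j).Coprime X.index :=
    Nat.Coprime.pow_left _ ((Nat.Prime.coprime_iff_not_dvd Fact.out).2 hX)
  have h3 : orderOf (QuotientGroup.mk' X x) = 1 :=
    Nat.eq_one_of_dvd_coprimes hcop h1 h2
  rw [orderOf_eq_one_iff] at h3
  exact (QuotientGroup.eq_one_iff x).1 h3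

/-- If a nilpotent maximal subgroup `M` contains a Sylow `p`-subgroup of `G` and `G` has a normal
`p`-complement for every prime `p` dividing `|M|`, then `G` is solvable. -/
theorem solvable_of_pcompl_data {G : Type u} [Group G] [Finite G] (M : Subgroup G)
    (hmax : IsCoatom M) (hnil : Group.IsNilpotent M)
    (hdata : ∀ p : ℕ, p.Prime → p ∣ Nat.card M → ∃ (P : Sylow p G) (X : Subgroup G),
      (P : Subgroup G) ≤ M ∧ X.Normal ∧ (Nat.card X).Coprime p ∧ ∃ k, X.index = p ^ k) :
    Group.IsSolvable G := by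
  obtain ⟨K, hKdef⟩ : ∃ K : Subgroup G, K = sInf {X : Subgroup G | X.Normal ∧
      ∃ p : ℕ, p.Prime ∧ p ∣ Nat.card M ∧ ∃ k, X.index = p ^ k} := ⟨_, rfl⟩
  have hKle : ∀ X : Subgroup G, X.Normal → (∃ p : ℕ, p.Prime ∧ p ∣ Nat.card M ∧
      ∃ k, X.index = p ^ k) → K ≤ X := by
    intro X hXn hX
    rw [hKdef]
    exact sInf_le ⟨hXn, hX⟩
  have hKn : K.Normal := by
    constructor
    intro n hn g
    rw [hKdef, Subgroup.mem_sInf] at hn ⊢
    intro X hX
    exact hX.1.conj_mem n (hn X hX) g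
  have hKcop : (Nat.card M).Coprime (Nat.card K) := by
    by_contra hcon
    obtain ⟨p, hp, hpM, hpK⟩ := Nat.Prime.not_coprime_iff_dvd.1 hcon
    obtain ⟨P, X, -, hXn, hXc, k, hk⟩ := hdata p hp hpM
    have h1 : K ≤ X := hKle X hXn ⟨p, hp, hpM, k, hk⟩
    have h2 : p ∣ Nat.card X := dvd_trans hpK (Subgroup.card_dvd_of_le h1)
    exact (Nat.Prime.coprime_iff_not_dvd hp).1 hXc.symm h2
  have hidxprime : ∀ q : ℕ, q.Prime → q ∣ K.index → q ∣ Nat.card M := by
    intro q hq hqK
    by_contra hqM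
    have : Fact q.Prime := ⟨hq⟩
    obtain ⟨Q⟩ : Nonempty (Sylow q G) := inferInstance
    have hQK : (Q : Subgroup G) ≤ K := by
      rw [hKdef]
      apply le_sInf
      rintro X ⟨hXn, p, hp, hpM, k, hk⟩
      have := hXn
      apply sylow_le_of_not_dvd_index Q X
      rw [hk]
      intro h
      have := (Nat.prime_dvd_prime_iff_eq hq hp).1 (hq.dvd_of_dvd_pow h)
      exact hqM (this ▸ hpM)
    exact Q.not_dvd_index (dvd_trans hqK (Subgroup.index_dvd_of_le hQK))
  have hidxdvd : K.index ∣ Nat.card M := by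
    rw [Nat.dvd_iff_prime_pow_dvd_dvd]
    intro p k hp hpk
    rcases Nat.eq_zero_or_pos k with rfl | hk0
    · simp
    · have hpK : p ∣ K.index := dvd_trans (dvd_pow_self p hk0.ne') hpk
      have hpM := hidxprime p hp hpK
      obtain ⟨P, X, hPM, -, -, -⟩ := hdata p hp hpM
      have : Fact p.Prime := ⟨hp⟩
      have h1 : p ^ k ∣ Nat.card G := dvd_trans hpk (Subgroup.index_dvd_card K)
      have h2 : k ≤ (Nat.card G).factorization p :=
        (Nat.Prime.pow_dvd_iff_le_factorization hp Nat.card_pos.ne').1 h1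
      have h3 : p ^ k ∣ Nat.card P := by
        rw [P.card_eq_multiplicity]
        exact pow_dvd_pow p h2
      exact dvd_trans h3 (Subgroup.card_dvd_of_le hPM)
  have hMK : M ⊓ K = ⊥ := disjoint_iff.1 (Subgroup.disjoint_of_coprime_natCard hKcop)
  have hnormK : ∀ X : Subgroup G, X ≤ Subgroup.normalizer (K : Set G) := fun X => by
    rw [Subgroup.normalizer_eq_top]
    exact le_top
  have hcardsup : Nat.card (M ⊔ K : Subgroup G) = Nat.card M * Nat.card K := by
    have h1 := Helper31.card_sup_mul_card_inf' M K (hnormK M)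
    rw [hMK, Subgroup.card_bot, mul_one] at h1
    exact h1
  have hsup : M ⊔ K = ⊤ := by
    apply Subgroup.eq_top_of_le_card
    rw [hcardsup, ← K.card_mul_index, mul_comm]
    exact Nat.mul_le_mul_right _ (Nat.le_of_dvd Nat.card_pos hidxdvd)
  have hKne : K ≠ ⊥ := by
    intro h
    rw [h, sup_bot_eq] at hsup
    exact hmax.1 hsup
  have hKcard : Nat.card K ≠ 1 := by
    rw [Ne, Subgroup.card_eq_one]
    exact hKne
  obtain ⟨q, hq, hqK⟩ := Nat.exists_prime_and_dvd hKcard
  have : Fact q.Prime := ⟨hq⟩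
  have hMsolv : Group.IsSolvable M := inferInstance
  obtain ⟨Q, hQ⟩ := Helper1.exists_invariant_sylow M K (hnormK M) hKcop (Or.inl hMsolv) q
  obtain ⟨Q₀, hQ₀def⟩ : ∃ Q₀ : Subgroup G, Q₀ = (Q : Subgroup K).map K.subtype := ⟨_, rfl⟩
  rw [← hQ₀def] at hQ
  have hQ₀K : Q₀ ≤ K := hQ₀def ▸ Subgroup.map_subtype_le _
  have hQ₀ne : Q₀ ≠ ⊥ := by
    rw [hQ₀def, Ne, Subgroup.map_eq_bot_iff_of_injective _ K.subtype_injective]
    exact Q.ne_bot_of_dvd_card hqK
  have hMQ₀ : M ⊓ Q₀ = ⊥ := le_bot_iff.1 (hMK ▸ inf_le_inf_left M hQ₀K)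
  have hsup2 : M ⊔ Q₀ = ⊤ := by
    rcases hmax.le_iff.1 (le_sup_left : M ≤ M ⊔ Q₀) with h | h
    · exact h
    · exfalso
      have h1 : Q₀ ≤ M := h ▸ le_sup_right
      have h2 : Q₀ ≤ M ⊓ Q₀ := le_inf h1 le_rfl
      rw [hMQ₀, le_bot_iff] at h2
      exact hQ₀ne h2
  have hcardsup2 : Nat.card (M ⊔ Q₀ : Subgroup G) = Nat.card M * Nat.card Q₀ := by
    have h1 := Helper31.card_sup_mul_card_inf' M Q₀ hQ
    rw [hMQ₀, Subgroup.card_bot, mul_one] at h1
    exact h1
  have hQ₀eq : Q₀ = K := by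
    apply Subgroup.eq_of_le_of_card_ge hQ₀K
    have h1 : Nat.card M * Nat.card K = Nat.card M * Nat.card Q₀ := by
      rw [← hcardsup, ← hcardsup2, hsup, hsup2]
    exact (Nat.eq_of_mul_eq_mul_left Nat.card_pos h1).le
  have hKp : IsPGroup q K := by
    have h1 : IsPGroup q Q₀ := hQ₀def ▸ Q.isPGroup'.map _
    rw [hQ₀eq] at h1
    exact h1
  have hKsolv : Group.IsSolvable K := by
    have := hKp.isNilpotent
    infer_instance
  have hquot : Group.IsSolvable (G ⧸ K) := by
    apply Group.isSolvable_of_surjective (f := (QuotientGroup.mk' K).comp M.subtype)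
    intro y
    obtain ⟨g, rfl⟩ := QuotientGroup.mk_surjective y
    have hg : g ∈ M ⊔ K := hsup ▸ Subgroup.mem_top g
    rw [← SetLike.mem_coe, Subgroup.mul_normal] at hg
    obtain ⟨m, hm, k, hk, rfl⟩ := hg
    refine ⟨⟨m, hm⟩, ?_⟩
    show (QuotientGroup.mk m : G ⧸ K) = QuotientGroup.mk (m * k)
    rw [QuotientGroup.eq]
    simpa using hk
  exact (Group.isSolvable_iff_subgroup_quotient K).2 ⟨hKsolv, hquot⟩

/-- The quotient step of the induction: data for `G ⧸ N` when `N ≤ M` is normal. -/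
theorem coatom_map_mk {G : Type*} [Group G] (M N : Subgroup G) [N.Normal] (hmax : IsCoatom M)
    (hNM : N ≤ M) : IsCoatom (M.map (QuotientGroup.mk' N)) := by
  have hf : Function.Surjective (QuotientGroup.mk' N) := QuotientGroup.mk'_surjective N
  constructor
  · intro h
    have := congrArg (Subgroup.comap (QuotientGroup.mk' N)) h
    rw [Subgroup.comap_map_eq, QuotientGroup.ker_mk', Subgroup.comap_top,
      sup_of_le_left hNM] at this
    exact hmax.1 this
  · intro X hX
    have h1 : M ≤ X.comap (QuotientGroup.mk' N) := by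
      rw [← Subgroup.map_le_iff_le_comap]
      exact hX.le
    rcases hmax.le_iff.1 h1 with h | h
    · rw [← Subgroup.map_comap_eq_self_of_surjective hf X, h,
        Subgroup.map_top_of_surjective _ hf]
    · exfalso
      have : X = M.map (QuotientGroup.mk' N) := by
        rw [← Subgroup.map_comap_eq_self_of_surjective hf X, h]
      exact hX.ne' this

/-- Induction scheme: a property `Good` of pairs `(G, M)` inherited by quotients by normal subgroups
inside `M`, which forces solvability when the core of `M` is trivial, forces solvability. -/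
theorem induction_scheme (Good : ∀ (G : Type u) [Group G], Subgroup G → Prop)
    (hquot : ∀ (G : Type u) [Group G] [Finite G] (M N : Subgroup G) [N.Normal], N ≤ M →
      Group.IsNilpotent M → Good G M → Good (G ⧸ N) (M.map (QuotientGroup.mk' N)))
    (hcore : ∀ (G : Type u) [Group G] [Finite G] (M : Subgroup G), IsCoatom M →
      Group.IsNilpotent M → Good G M → M.normalCore = ⊥ → Group.IsSolvable G) :
    ∀ n : ℕ, ∀ (G : Type u) [Group G] [Finite G], Nat.card G = n →
    ∀ M : Subgroup G, IsCoatom M → Group.IsNilpotent M → Good G M → Group.IsSolvable G := by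
  intro n
  induction n using Nat.strong_induction_on with
  | _ n ih =>
  intro G _ _ hn M hmax hnil hgood
  by_cases hc : M.normalCore = ⊥
  · exact hcore G M hmax hnil hgood hc
  · obtain ⟨N, hNdef⟩ : ∃ N, N = M.normalCore := ⟨_, rfl⟩
    have hNn : N.Normal := hNdef ▸ Subgroup.normalCore_normal M
    have hNM : N ≤ M := hNdef ▸ Subgroup.normalCore_le M
    have hNne : N ≠ ⊥ := hNdef ▸ hc
    have hMbar_nil : Group.IsNilpotent (M.map (QuotientGroup.mk' N)) :=
      Group.nilpotent_of_surjective ((QuotientGroup.mk' N).subgroupMap M)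
        ((QuotientGroup.mk' N).subgroupMap_surjective M)
    have hlt : Nat.card (G ⧸ N) < n := by
      have h1 := Subgroup.card_eq_card_quotient_mul_card_subgroup N
      rw [hn] at h1
      have h2 : 1 < Nat.card N := by
        have h3 : Nat.card N ≠ 1 := by
          rw [Ne, Subgroup.card_eq_one]
          exact hNne
        have h4 : 0 < Nat.card N := Nat.card_pos
        omega
      have h5 : 0 < Nat.card (G ⧸ N) := Nat.card_pos
      nlinarith
    have hq : Group.IsSolvable (G ⧸ N) :=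
      ih _ hlt (G ⧸ N) rfl _ (coatom_map_mk M N hmax hNM) hMbar_nil (hquot G M N hNM hnil hgood)
    have hNs : Group.IsSolvable N := by
      have : Group.IsSolvable M := inferInstance
      exact Group.isSolvable_of_isSolvable_injective (f := Subgroup.inclusion hNM)
        (Subgroup.inclusion_injective hNM)
    exact (Group.isSolvable_iff_subgroup_quotient N).2 ⟨hNs, hq⟩

end Cfsg.Agent.Helper67.NilpMax
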