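import Cfsg.Agent.Helper43.O7Orth
import Cfsg.Agent.Helper44.OmegaIndex
import Cfsg.Agent.Helper60.SylWB

/-!
Piece (O7-L2) for helper43 (S2647): the value of `omegaChar (Q7 F) 2` on a permutation isometry.
-/

set_option autoImplicit false

namespace Cfsg.Agent.Helper67.O7

open Matrix Cfsg.Agent.Helper43.O7 Cfsg.Agent.Helper44

variable {F : Type*} [Field F] [Fintype F]

omit [Fintype F] in
theorem Q7_single_sub (i j : Fin 7) (hij : i ≠ j) :
    Q7 F (Pi.single i 1 - Pi.single j 1) = 2 := by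
  rw [Q7_apply]
  have h : ∀ k : Fin 7, (Pi.single i (1 : F) - Pi.single j (1 : F) : Fin 7 → F) k *
      (Pi.single i (1 : F) - Pi.single j (1 : F) : Fin 7 → F) k
      = (if k = i then 1 else 0) + (if k = j then 1 else 0) := by
    intro k
    simp only [Pi.sub_apply, Pi.single_apply]
    by_cases hki : k = i
    · have hkj : k ≠ j := fun h => hij (hki.symm.trans h)
      rw [if_pos hki, if_neg hkj]
      ring
    · by_cases hkj : k = j
      · rw [if_neg hki, if_pos hkj]
        ring
      · rw [if_neg hki, if_neg hkj]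
        ring
  rw [Finset.sum_congr rfl (fun k _ => h k), Finset.sum_add_distrib]
  simp
  norm_num

theorem polar_Q7_single_sub (i j : Fin 7) (x : Fin 7 → F) :
    QuadraticMap.polar ⇑(Q7 F) (Pi.single i 1 - Pi.single j 1) x = 2 * (x i - x j) := by
  unfold Q7
  rw [Cfsg.Agent.Helper60.Syl.polar_wss]
  have h : ∀ k : Fin 7, 2 * (1 : F) *
      ((Pi.single i (1 : F) - Pi.single j (1 : F) : Fin 7 → F) k * x k)
      = 2 * ((if k = i then x k else 0) - (if k = j then x k else 0)) := by
    intro k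
    simp only [Pi.sub_apply, Pi.single_apply]
    split_ifs <;> ring
  rw [Finset.sum_congr rfl (fun k _ => h k), ← Finset.mul_sum, Finset.sum_sub_distrib]
  simp

theorem pm_swap_eq_reflT (h2 : (2 : F) ≠ 0) (i j : Fin 7) (hij : i ≠ j) :
    pm F (Equiv.swap i j) = reflT (Q7 F) (Pi.single i 1 - Pi.single j 1) := by
  have hQ : Q7 F (Pi.single i 1 - Pi.single j 1) ≠ 0 := by
    rw [Q7_single_sub i j hij]; exact h2
  rw [reflT_of_ne (Q7 F) _ hQ]
  apply isometryGroup_ext
  intro x
  rw [pm_mulVec, refl_mulVec, polar_Q7_single_sub, Q7_single_sub i j hij, ← mul_assoc,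
    inv_mul_cancel₀ h2, one_mul]
  funext k
  simp only [Equiv.swap_inv, Pi.sub_apply, Pi.smul_apply, Pi.single_apply, smul_eq_mul]
  by_cases hki : k = i
  · have hkj : k ≠ j := fun h => hij (hki.symm.trans h)
    subst hki
    rw [Equiv.swap_apply_left, if_pos rfl, if_neg hkj]
    ring
  · by_cases hkj : k = j
    · subst hkj
      rw [Equiv.swap_apply_right, if_neg hki, if_pos rfl]
      ring
    · rw [Equiv.swap_apply_of_ne_of_ne hki hkj, if_neg hki, if_neg hkj]
      ring

theorem theta_swap (h2 : (2 : F) ≠ 0) (hns : ¬ IsSquare (2 : F)) (i j : Fin 7) (hij : i ≠ j) :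
    omegaChar (Q7 F) (2 : F) (pm F (Equiv.swap i j)) = (-1, -1) := by
  have hQ : Q7 F (Pi.single i 1 - Pi.single j 1) ≠ 0 := by
    rw [Q7_single_sub i j hij]; exact h2
  rw [pm_swap_eq_reflT h2 i j hij, omegaChar, MonoidHom.prod_apply,
    parityChar_reflT (Q7 F) h2 hns _ hQ,
    (signChar_reflT (Q7 F) h2 hns _ hQ).2 (by rw [Q7_single_sub i j hij]; exact hns)]

/-- L2 -/
theorem theta_pm (h2 : (2 : F) ≠ 0) (hns : ¬ IsSquare (2 : F)) (σ : Equiv.Perm (Fin 7)) :
    omegaChar (Q7 F) (2 : F) (pm F σ) = (Equiv.Perm.sign σ, Equiv.Perm.sign σ) := by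
  induction σ using Equiv.Perm.swap_induction_on with
  | one => rw [map_one, map_one]; rfl
  | swap_mul f x y hxy ih =>
    rw [map_mul, map_mul, ih, theta_swap h2 hns x y hxy, Equiv.Perm.sign_mul,
      Equiv.Perm.sign_swap hxy]
    rfl

end Cfsg.Agent.Helper67.O7
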