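import Mathlib
import Cfsg.Agent.Helper99.O9.Defs

set_option autoImplicit false
set_option linter.unusedSectionVars false
set_option linter.unusedVariables false

namespace Cfsg.Agent.Helper67.O9

open Matrix QuadraticMap Cfsg.Agent.Helper44 Cfsg.Agent.Helper44.QType Cfsg.Agent.Helper99.O9

universe u

variable {F : Type u} [Field F]

theorem negOne_commute {ι : Type} [Fintype ι] [DecidableEq ι] (Q : QuadraticForm F (ι → F))
    (g : ↥(Cfsg.isometryGroup F ⇑Q)) : Commute (Helper99.O9.negOne Q) g := by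
  apply Subtype.ext
  apply Units.ext
  simp only [Subgroup.coe_mul, Units.val_mul, Helper99.O9.negOne_coe]
  rw [neg_mul, mul_neg, one_mul, mul_one]

theorem negOne_mul_self {ι : Type} [Fintype ι] [DecidableEq ι] (Q : QuadraticForm F (ι → F)) :
    Helper99.O9.negOne Q * Helper99.O9.negOne Q = 1 := by
  apply Subtype.ext
  apply Units.ext
  simp only [Subgroup.coe_mul, Units.val_mul, Helper99.O9.negOne_coe, Subgroup.coe_one, Units.val_one]
  rw [neg_mul, mul_neg, one_mul, neg_neg]

theorem negOne_ne_one [Fintype F] (hF : Odd (Fintype.card F)) {ι : Type} [Fintype ι]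
    [DecidableEq ι] [Nonempty ι] (Q : QuadraticForm F (ι → F)) : Helper99.O9.negOne Q ≠ 1 := by
  intro h
  have h1 : ((Helper99.O9.negOne Q : GL ι F) : Matrix ι ι F) = ((1 : ↥(Cfsg.isometryGroup F ⇑Q)) : GL ι F) := by
    rw [h]
  rw [Helper99.O9.negOne_coe, Subgroup.coe_one, Units.val_one] at h1
  obtain ⟨i⟩ := ‹Nonempty ι›
  have h2 := congrFun (congrFun h1 i) i
  simp only [Matrix.neg_apply, Matrix.one_apply_eq] at h2
  have hchar : ringChar F ≠ 2 := by
    intro hc
    have := FiniteField.even_card_iff_char_two.mp hc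
    rcases hF with ⟨k, hk⟩
    omega
  have h20 : (2 : F) ≠ 0 := Ring.two_ne_zero hchar
  apply h20
  have : (2 : F) = 1 - (-1) := by ring
  rw [this, h2]; ring

theorem orderOf_negOne [Fintype F] (hF : Odd (Fintype.card F)) {ι : Type} [Fintype ι]
    [DecidableEq ι] [Nonempty ι] (Q : QuadraticForm F (ι → F)) : orderOf (Helper99.O9.negOne Q) = 2 := by
  have : Fact (Nat.Prime 2) := ⟨Nat.prime_two⟩
  refine orderOf_eq_prime ?_ (negOne_ne_one hF Q)
  rw [pow_two, negOne_mul_self]

/-- (NEGO) -/
theorem neg_ord_of_odd [Fintype F] (hF : Odd (Fintype.card F)) {P : OPair F} (ho : Odd P.ord)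
    (hd : 1 ≤ P.dim) : P.neg.ord = 2 * P.ord := by
  have hne : Nonempty P.ι := by
    rw [OPair.dim_def] at hd
    exact Fintype.card_pos_iff.mp hd
  have hneg : P.neg.ord = orderOf (Helper99.O9.negOne P.Q * P.g) := rfl
  rw [hneg, OPair.ord_def]
  rw [OPair.ord_def] at ho
  have hcop : Nat.Coprime (orderOf (Helper99.O9.negOne P.Q)) (orderOf P.g) := by
    rw [orderOf_negOne hF]
    exact (Nat.coprime_two_left).mpr ho
  rw [(negOne_commute P.Q P.g).orderOf_mul_eq_mul_orderOf_of_coprime hcop, orderOf_negOne hF]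

end Cfsg.Agent.Helper67.O9
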