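import Mathlib
import Cfsg.Agent.Helper99.O9.Defs
import Cfsg.Agent.Helper67.O9NEGO

set_option autoImplicit false
set_option linter.unusedSectionVars false
set_option linter.unusedVariables false

namespace Cfsg.Agent.Helper67.O9

open Matrix QuadraticMap Cfsg.Agent.Helper44 Cfsg.Agent.Helper44.QType Cfsg.Agent.Helper99.O9

universe u

variable {F : Type u} [Field F] [Fintype F]

/-- (NEGE) -/
theorem neg_ord_of_even {P : OPair F} (ho : Even P.ord) : P.neg.ord ∣ P.ord := by
  have hneg : P.neg.ord = orderOf (Helper99.O9.negOne P.Q * P.g) := rfl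
  rw [hneg]
  apply orderOf_dvd_of_pow_eq_one
  rw [(negOne_commute P.Q P.g).mul_pow, OPair.ord_def, pow_orderOf_eq_one, mul_one]
  rw [OPair.ord_def] at ho
  obtain ⟨k, hk⟩ := ho
  rw [hk, ← two_mul, pow_mul, pow_two, negOne_mul_self, one_pow]

end Cfsg.Agent.Helper67.O9
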