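import Mathlib
import Cfsg.Agent.Helper99.O9.Defs
import Cfsg.Agent.Helper67.O9NEGO

set_option autoImplicit false
set_option linter.unusedSectionVars false
set_option linter.unusedVariables false

namespace Cfsg.Agent.Helper67.O9

open Matrix QuadraticMap Cfsg.Agent.Helper44 Cfsg.Agent.Helper44.QType Cfsg.Agent.Helper99.O9

universe u

variable {F : Type u} [Field F] [Fintype F]

/-- (NEGI) -/
theorem neg_inOm {P : OPair F} (hn : P.NegOm) (hP : P.InOm) : P.neg.InOm := by
  rw [OPair.negOm_def] at hn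
  obtain ⟨z, hz, hz1⟩ := hn
  have hzn : z = Helper99.O9.negOne P.Q := by
    apply Subtype.ext
    apply Units.ext
    rw [hz1, Helper99.O9.negOne_coe]
  rw [OPair.inOm_def] at hP
  show (Helper99.O9.negOne P.Q * P.g) ∈ Cfsg.Omega F ⇑P.Q
  rw [← hzn]
  exact mul_mem hz hP

end Cfsg.Agent.Helper67.O9
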