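import Mathlib
import Cfsg.Agent.Helper99.O9.Defs
import Cfsg.Agent.Helper67.O9NEGO

set_option autoImplicit false
set_option linter.unusedSectionVars false
set_option linter.unusedVariables false

namespace Cfsg.Agent.Helper67.O9

open Matrix QuadraticMap Cfsg.Agent.Helper44 Cfsg.Agent.Helper44.QType Cfsg.Agent.Helper99.O9

universe u

variable {F : Type u} [Field F]

theorem isoTransport_refl_id {ι : Type} [Fintype ι] [DecidableEq ι] (Q : (ι → F) → F)
    (hC : ∀ w, Q (LinearEquiv.refl F (ι → F) w) = Q w) (g : Cfsg.isometryGroup F Q) :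
    isoTransport Q Q (LinearEquiv.refl F (ι → F)) hC g = g := by
  apply isometryGroup_ext
  intro v
  rw [isoTransport_mulVec]
  rfl

/-- (NEGN) -/
theorem neg_neg_sim [Fintype F] (P : OPair F) : P.neg.neg.Sim P := by
  rw [OPair.sim_def]
  have h2 : Helper99.O9.negOne P.Q * (Helper99.O9.negOne P.Q * P.g) = P.g := by
    rw [← mul_assoc, negOne_mul_self, one_mul]
  have hC : ∀ w, P.Q (LinearEquiv.refl F (P.ι → F) w) = P.Q w := fun w => by
    rw [LinearEquiv.refl_apply]
  have key : isoTransport ⇑P.Q ⇑P.Q (LinearEquiv.refl F (P.ι → F)) hC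
      (Helper99.O9.negOne P.Q * (Helper99.O9.negOne P.Q * P.g)) = P.g := by
    rw [isoTransport_refl_id, h2]
  exact ⟨LinearEquiv.refl F (P.ι → F), hC, key⟩

end Cfsg.Agent.Helper67.O9
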