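import Mathlib
import Cfsg.Agent.Helper62.Ore.Defs

/-!
# S2444 (helper62), piece (CDAT): Claim C, triangular form

Greedy construction of the basis `p` and of `d j = Δ (p j)`, as sequences `ℕ → P` built by
induction on the number of vectors already constructed (using `LinearIndepOn` on `Set.Iio k`).
-/

set_option autoImplicit false

namespace Cfsg.Agent.Helper67.Ore

open Polynomial Module Cfsg.Agent.Helper62.Ore

variable {F : Type*} [Field F] {V : Type*} [AddCommGroup V] [Module F V]

/-- updating a function outside a set does not change the image of the set -/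
theorem CDAT_image_update {P : Type*} (p : ℕ → P) (k : ℕ) (x : P) {S : Set ℕ} (hS : k ∉ S) :
    Function.update p k x '' S = p '' S :=
  Set.image_congr (fun a ha => Function.update_of_ne (fun h => hS (by rw [← h]; exact ha)) _ _)

/-- fewer vectors than the dimension do not span -/
theorem CDAT_span_ne_top {P : Type*} [AddCommGroup P] [Module F P] [FiniteDimensional F P]
    (p : ℕ → P) {k : ℕ} (hk : k < finrank F P) :
    Submodule.span F (p '' Set.Iio k) ≠ ⊤ := by
  classical
  intro h
  have h1 : p '' Set.Iio k = (((Finset.range k).image p : Finset P) : Set P) := by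
    rw [Finset.coe_image, Finset.coe_range]
  have h2 : finrank F (Submodule.span F (((Finset.range k).image p : Finset P) : Set P)) ≤
      ((Finset.range k).image p).card := finrank_span_finset_le_card _
  rw [← h1, h, finrank_top] at h2
  have h3 : ((Finset.range k).image p).card ≤ k := by
    calc ((Finset.range k).image p).card ≤ (Finset.range k).card := Finset.card_image_le
      _ = k := Finset.card_range k
  omega

/-- the new pair `(p_k, d_k)` of the greedy construction -/
theorem CDAT_next {P : Type*} [AddCommGroup P] [Module F P] [FiniteDimensional F P]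
    (R : P ≃ₗ[F] P) (p : ℕ → P) {k : ℕ} (hk : k < finrank F P) :
    ∃ pk dk : P, pk ∉ Submodule.span F (p '' Set.Iio k) ∧
      dk ∈ Submodule.span F (p '' Set.Iio k) ∧ (k = 0 → R dk = 0) ∧
      (∀ m, k = m + 1 → ∃ c : F, R dk = p m + c • pk) := by
  set Pk := Submodule.span F (p '' Set.Iio k) with hPk
  obtain ⟨v, hv⟩ : ∃ v : P, v ∉ Pk := by
    by_contra hcon
    push Not at hcon
    exact CDAT_span_ne_top p hk (eq_top_iff.2 fun x _ => hcon x)
  rcases Nat.eq_zero_or_pos k with h0 | hpos
  · refine ⟨v, 0, hv, Pk.zero_mem, fun _ => map_zero R, ?_⟩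
    intro m hm
    omega
  · obtain ⟨m, rfl⟩ : ∃ m, k = m + 1 := ⟨k - 1, by omega⟩
    have hq : p m ∈ Pk := Submodule.subset_span ⟨m, Set.mem_Iio.2 (Nat.lt_succ_self m), rfl⟩
    by_cases hA : ∃ dd ∈ Pk, R dd ∉ Pk
    · obtain ⟨dd, hdd, hRdd⟩ := hA
      refine ⟨R dd - p m, dd, ?_, hdd, fun h => by omega, ?_⟩
      · intro h
        apply hRdd
        have : R dd = (R dd - p m) + p m := by abel
        rw [this]
        exact Pk.add_mem h hq
      · intro m' hm'
        have : m' = m := by omega
        subst this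
        exact ⟨1, by rw [one_smul]; abel⟩
    · push Not at hA
      -- `R` restricts to an injective, hence surjective, endomorphism of `Pk`
      let Rr : ↥Pk →ₗ[F] ↥Pk := (R : P →ₗ[F] P).restrict (fun x hx => hA x hx)
      have hinj : Function.Injective Rr := by
        intro x y hxy
        have : R (x : P) = R (y : P) := congrArg Subtype.val hxy
        exact Subtype.ext (R.injective this)
      have hsurj : Function.Surjective Rr := LinearMap.surjective_of_injective hinj
      obtain ⟨dd, hdd⟩ := hsurj ⟨p m, hq⟩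
      have hRdd : R (dd : P) = p m := congrArg Subtype.val hdd
      refine ⟨v, (dd : P), hv, dd.2, fun h => by omega, ?_⟩
      intro m' hm'
      have : m' = m := by omega
      subst this
      exact ⟨0, by rw [zero_smul, add_zero, hRdd]⟩

/-- the greedy construction, as sequences indexed by `ℕ` -/
theorem CDAT_seq {P : Type*} [AddCommGroup P] [Module F P] [FiniteDimensional F P]
    (R : P ≃ₗ[F] P) : ∀ k : ℕ, k ≤ finrank F P → ∃ p d : ℕ → P,
      LinearIndepOn F p (Set.Iio k) ∧
      (∀ j < k, d j ∈ Submodule.span F (p '' {i | i < j})) ∧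
      (∀ j < k, R (d j) ∈ Submodule.span F (p '' {i | i ≤ j ∧ j ≤ i + 1})) ∧
      (∀ j < k, 0 < j → R (d j) ∉ Submodule.span F (p '' {i | i ≤ j ∧ i + 1 ≠ j})) := by
  intro k
  induction k with
  | zero =>
    intro _
    refine ⟨fun _ => 0, fun _ => 0, ?_, fun j hj => absurd hj (Nat.not_lt_zero j),
      fun j hj => absurd hj (Nat.not_lt_zero j), fun j hj => absurd hj (Nat.not_lt_zero j)⟩
    have : Set.Iio 0 = (∅ : Set ℕ) := by
      ext i
      simp
    rw [this]
    exact linearIndepOn_empty F _
  | succ k ih =>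
    intro hk
    obtain ⟨p, d, hLI, h1, h2, h3⟩ := ih (Nat.le_of_succ_le hk)
    obtain ⟨pk, dk, hpk, hdk, hR0, hRm⟩ := CDAT_next R p (Nat.lt_of_succ_le hk)
    have hIio : ∀ {S : Set ℕ}, (∀ i ∈ S, i < k) → Function.update p k pk '' S = p '' S :=
      fun {S} hS => CDAT_image_update p k pk (fun h => lt_irrefl k (hS k h))
    have hpk' : Function.update p k pk k = pk := Function.update_self k pk p
    have hLI' : LinearIndepOn F (Function.update p k pk) (Set.Iio (k + 1)) := by
      have hins : Set.Iio (k + 1) = insert k (Set.Iio k) := by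
        ext i
        simp only [Set.mem_Iio, Set.mem_insert_iff]
        omega
      rw [hins]
      apply LinearIndepOn.insert
      · apply hLI.congr
        intro i hi
        exact (Function.update_of_ne (ne_of_lt (Set.mem_Iio.1 hi)) _ _).symm
      · rw [hpk', hIio (S := Set.Iio k) (fun i hi => Set.mem_Iio.1 hi)]
        exact hpk
    refine ⟨Function.update p k pk, Function.update d k dk, hLI', ?_, ?_, ?_⟩
    · intro j hj
      rcases Nat.lt_succ_iff_lt_or_eq.1 hj with hjk | rfl
      · rw [Function.update_of_ne (ne_of_lt hjk), hIio (S := {i | i < j}) (fun i hi => lt_trans hi hjk)]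
        exact h1 j hjk
      · rw [Function.update_self, hIio (S := {i | i < j}) (fun i hi => hi)]
        exact hdk
    · intro j hj
      rcases Nat.lt_succ_iff_lt_or_eq.1 hj with hjk | rfl
      · rw [Function.update_of_ne (ne_of_lt hjk),
          hIio (S := {i | i ≤ j ∧ j ≤ i + 1}) (fun i hi => lt_of_le_of_lt hi.1 hjk)]
        exact h2 j hjk
      · rw [Function.update_self]
        rcases Nat.eq_zero_or_pos j with h0 | hpos
        · rw [hR0 h0]
          exact Submodule.zero_mem _
        · obtain ⟨m, rfl⟩ : ∃ m, j = m + 1 := ⟨j - 1, by omega⟩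
          obtain ⟨c, hc⟩ := hRm m rfl
          rw [hc]
          apply Submodule.add_mem
          · apply Submodule.subset_span
            refine ⟨m, ⟨Nat.le_succ m, le_refl _⟩, ?_⟩
            exact Function.update_of_ne (Nat.ne_of_lt (Nat.lt_succ_self m)) _ _
          · apply Submodule.smul_mem
            apply Submodule.subset_span
            exact ⟨m + 1, ⟨le_refl _, Nat.le_succ _⟩, hpk'⟩
    · intro j hj hj0
      rcases Nat.lt_succ_iff_lt_or_eq.1 hj with hjk | rfl
      · rw [Function.update_of_ne (ne_of_lt hjk),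
          hIio (S := {i | i ≤ j ∧ i + 1 ≠ j}) (fun i hi => lt_of_le_of_lt hi.1 hjk)]
        exact h3 j hjk hj0
      · rw [Function.update_self]
        obtain ⟨m, rfl⟩ : ∃ m, j = m + 1 := ⟨j - 1, by omega⟩
        obtain ⟨c, hc⟩ := hRm m rfl
        rw [hc]
        intro hmem
        set T : Set ℕ := {i | i ≤ m + 1 ∧ i + 1 ≠ m + 1} with hT
        have hkT : (m + 1) ∈ T := ⟨le_refl _, by omega⟩
        have hmT : m ∉ T := fun h => h.2 rfl
        have hpkT : pk ∈ Submodule.span F (Function.update p (m + 1) pk '' T) :=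
          Submodule.subset_span ⟨m + 1, hkT, hpk'⟩
        have hpm : Function.update p (m + 1) pk m = p m :=
          Function.update_of_ne (Nat.ne_of_lt (Nat.lt_succ_self m)) _ _
        have hmem' : Function.update p (m + 1) pk m ∈
            Submodule.span F (Function.update p (m + 1) pk '' T) := by
          rw [hpm]
          have : p m = (p m + c • pk) - c • pk := by abel
          rw [this]
          exact Submodule.sub_mem _ hmem (Submodule.smul_mem _ c hpkT)
        have hsub : insert m T ⊆ Set.Iio (m + 1 + 1) := by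
          intro i hi
          rcases hi with rfl | hi
          · exact Set.mem_Iio.2 (by omega)
          · exact Set.mem_Iio.2 (Nat.lt_succ_of_le hi.1)
        have hLIT : LinearIndepOn F (Function.update p (m + 1) pk) T :=
          hLI'.mono (fun i hi => hsub (Set.mem_insert_of_mem m hi))
        exact (hLIT.notMem_span_iff.2 ⟨hLI'.mono hsub, hmT⟩) hmem'

/-- (CDAT) Claim C, triangular form (`Δ` strictly upper triangular, `R Δ` upper bidiagonal). -/
theorem claimC_datum {P : Type*} [AddCommGroup P] [Module F P] [FiniteDimensional F P]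
    {l : ℕ} (hl : finrank F P = l) (R : P ≃ₗ[F] P) :
    ∃ (p : Fin l → P) (Δ : Module.End F P), LinearIndependent F p ∧
      (∀ j, Δ (p j) ∈ Submodule.span F (p '' {i | i < j})) ∧
      (∀ j, R (Δ (p j)) ∈ Submodule.span F (p '' {i | i ≤ j ∧ (j : ℕ) ≤ (i : ℕ) + 1})) ∧
      (∀ j : Fin l, 0 < (j : ℕ) →
        R (Δ (p j)) ∉ Submodule.span F (p '' {i | i ≤ j ∧ (i : ℕ) + 1 ≠ j})) := by
  obtain ⟨p, d, hLI, h1, h2, h3⟩ := CDAT_seq R l (le_of_eq hl.symm)
  have hLIf : LinearIndependent F (fun i : Fin l => p i) := by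
    have := hLI.linearIndependent.comp (fun i : Fin l => (⟨(i : ℕ), Set.mem_Iio.2 i.2⟩ : Set.Iio l))
      (fun a b hab => Fin.ext (congrArg Subtype.val hab))
    exact this
  have hsp : Submodule.span F (Set.range (fun i : Fin l => p i)) = ⊤ :=
    hLIf.span_eq_top_of_card_eq_finrank' (by rw [Fintype.card_fin, hl])
  let b : Basis (Fin l) F P := Basis.mk hLIf (le_of_eq hsp.symm)
  have hb : ∀ i : Fin l, b i = p i := fun i => Basis.mk_apply hLIf (le_of_eq hsp.symm) i
  let Δ : Module.End F P := b.constr F (fun i : Fin l => d i)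
  have hΔ : ∀ j : Fin l, Δ (p j) = d j := fun j => by
    rw [← hb j]
    exact b.constr_basis F _ j
  refine ⟨fun i : Fin l => p i, Δ, hLIf, ?_, ?_, ?_⟩
  · intro j
    show Δ (p j) ∈ _
    rw [hΔ]
    refine Submodule.span_mono ?_ (h1 j j.2)
    rintro _ ⟨i, hi, rfl⟩
    exact ⟨⟨i, lt_trans hi j.2⟩, Fin.lt_def.2 hi, rfl⟩
  · intro j
    show R (Δ (p j)) ∈ _
    rw [hΔ]
    refine Submodule.span_mono ?_ (h2 j j.2)
    rintro _ ⟨i, ⟨hi1, hi2⟩, rfl⟩
    exact ⟨⟨i, lt_of_le_of_lt hi1 j.2⟩, ⟨Fin.le_def.2 hi1, hi2⟩, rfl⟩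
  · intro j hj
    show R (Δ (p j)) ∉ _
    rw [hΔ]
    intro hmem
    apply h3 j j.2 hj
    refine Submodule.span_mono ?_ hmem
    rintro _ ⟨i, ⟨hi1, hi2⟩, rfl⟩
    exact ⟨(i : ℕ), ⟨Fin.le_def.1 hi1, hi2⟩, rfl⟩

end Cfsg.Agent.Helper67.Ore
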