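import Mathlib

set_option autoImplicit false

namespace Cfsg.Agent.Helper67

/-- A `p`-subgroup `S` normalizing a nontrivial `p`-subgroup `D` of a finite group centralizes a
non-identity element of `D`. -/
theorem exists_ne_one_fixed_of_pgroup_normalizes {G : Type*} [Group G] [Finite G] {p : ℕ}
    [Fact p.Prime] (S D : Subgroup G) (hS : IsPGroup p S) (hD : IsPGroup p D) (hDne : D ≠ ⊥)
    (hnorm : ∀ s ∈ S, ∀ d ∈ D, s * d * s⁻¹ ∈ D) :
    ∃ d ∈ D, d ≠ 1 ∧ ∀ s ∈ S, s * d * s⁻¹ = d := by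
  let S' : Subgroup (ConjAct G) := S.map ConjAct.toConjAct.toMonoidHom
  have hS' : IsPGroup p S' := hS.map _
  let Dsub : SubMulAction S' G :=
    { carrier := D
      smul_mem' := by
        rintro ⟨_, s, hs, rfl⟩ d hd
        show ConjAct.toConjAct s • d ∈ D
        rw [ConjAct.toConjAct_smul]
        exact hnorm s hs d hd }
  have hcard : p ∣ Nat.card Dsub := by
    obtain ⟨k, hk⟩ := IsPGroup.iff_card.1 hD
    have hk0 : k ≠ 0 := by
      rintro rfl
      rw [pow_zero, Subgroup.card_eq_one] at hk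
      exact hDne hk
    have : Nat.card Dsub = Nat.card D := rfl
    rw [this, hk]
    exact dvd_pow_self p hk0
  have hone : (⟨1, D.one_mem⟩ : Dsub) ∈ MulAction.fixedPoints S' Dsub := by
    rintro ⟨_, s, hs, rfl⟩
    apply Subtype.ext
    show ConjAct.toConjAct s • (1 : G) = 1
    rw [ConjAct.toConjAct_smul]; group
  obtain ⟨⟨d, hd⟩, hdfix, hdne⟩ :=
    hS'.exists_fixed_point_of_prime_dvd_card_of_fixed_point Dsub hcard hone
  refine ⟨d, hd, fun h => hdne (Subtype.ext h.symm), fun s hs => ?_⟩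
  have := hdfix ⟨ConjAct.toConjAct s, s, hs, rfl⟩
  have h2 : ConjAct.toConjAct s • d = d := congrArg Subtype.val this
  rwa [ConjAct.toConjAct_smul] at h2

end Cfsg.Agent.Helper67
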