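import Cfsg.Agent.Helper8.G24S
import Cfsg.Agent.Helper5.SpCard

/-!
# S3664 (helper86), piece (LA): centralizers of elements of order `7` in `Sp(6,3)`
have exponent dividing `28`

An element of order `7` generates a Sylow `7`-subgroup, so it is enough to treat one explicit
element `x0`.  It has a cyclic vector, hence every matrix commuting with it is a polynomial
`f(x0)`; in characteristic `3` we get `f(x0)^27 = f(x0^27) = f(x0⁻¹)`, which is the symplectic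
inverse of `f(x0)`.
-/

set_option autoImplicit false

namespace Cfsg.Agent.Helper67.PG63

open Matrix Polynomial

section generic

variable {n R : Type*} [Fintype n] [DecidableEq n] [CommRing R]

/-- a matrix commuting with a matrix `X` having a cyclic vector is a polynomial in `X` -/
theorem eq_aeval_of_cyclic {d : ℕ} (X A : Matrix n n R) (hAX : A * X = X * A)
    (B : Matrix n (Fin (d + 1)) R) (B' : Matrix (Fin (d + 1)) n R)
    (hstep : ∀ j : Fin d, (fun r => B r j.succ) = X *ᵥ (fun r => B r j.castSucc))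
    (hBB' : B * B' = 1) :
    ∃ f : Polynomial R, A = Polynomial.aeval X f := by
  set e : n → R := fun r => B r 0 with he
  have hcol : ∀ (j : ℕ) (hj : j < d + 1), (fun r => B r ⟨j, hj⟩) = (X ^ j) *ᵥ e := by
    intro j
    induction j with
    | zero => intro hj; simp [he]
    | succ j ih =>
      intro hj
      have h1 := hstep ⟨j, by omega⟩
      have h2 := ih (by omega)
      have e1 : (⟨j, by omega⟩ : Fin d).succ = ⟨j + 1, hj⟩ := rfl
      have e2 : (⟨j, by omega⟩ : Fin d).castSucc = ⟨j, by omega⟩ := rfl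
      rw [e1, e2, h2] at h1
      rw [h1, Matrix.mulVec_mulVec, ← pow_succ']
  set c : Fin (d + 1) → R := B' *ᵥ (A *ᵥ e) with hc
  set f : Polynomial R := ∑ j : Fin (d + 1), Polynomial.monomial (j : ℕ) (c j) with hf
  have hP : Polynomial.aeval X f = ∑ j : Fin (d + 1), c j • X ^ (j : ℕ) := by
    rw [hf, map_sum]
    refine Finset.sum_congr rfl fun j _ => ?_
    rw [Polynomial.aeval_monomial, Algebra.algebraMap_eq_smul_one, smul_mul_assoc, one_mul]
  refine ⟨f, ?_⟩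
  have hPe : (Polynomial.aeval X f) *ᵥ e = A *ᵥ e := by
    have h1 : (Polynomial.aeval X f) *ᵥ e = B *ᵥ c := by
      rw [hP, Matrix.sum_mulVec]
      funext r
      rw [Finset.sum_apply, Matrix.mulVec, dotProduct]
      refine Finset.sum_congr rfl fun j _ => ?_
      rw [Matrix.smul_mulVec, ← hcol j j.2, Pi.smul_apply, smul_eq_mul, mul_comm]
    rw [h1, hc, Matrix.mulVec_mulVec, hBB', Matrix.one_mulVec]
  have hcomm : (Polynomial.aeval X f) * X = X * (Polynomial.aeval X f) := by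
    have : Commute (Polynomial.aeval X f) X := by
      rw [hP]
      exact Commute.sum_left _ _ _ fun j _ =>
        (Commute.pow_left (Commute.refl X) _).smul_left _
    exact this.eq
  set D : Matrix n n R := A - Polynomial.aeval X f with hD
  have hDX : D * X = X * D := by
    rw [hD, Matrix.sub_mul, Matrix.mul_sub, hAX, hcomm]
  have hDe : D *ᵥ e = 0 := by
    rw [hD, Matrix.sub_mulVec, hPe, sub_self]
  have hDpow : ∀ j : ℕ, D * X ^ j = X ^ j * D := by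
    intro j
    have : Commute D X := hDX
    exact (this.pow_right j).eq
  have hDB : D * B = 0 := by
    ext r j
    have h1 : (D * B) r j = (D *ᵥ (fun r => B r j)) r := rfl
    rw [h1, show j = ⟨(j : ℕ), j.2⟩ from rfl, hcol j j.2, Matrix.mulVec_mulVec, hDpow,
      ← Matrix.mulVec_mulVec, hDe, Matrix.mulVec_zero]
    rfl
  have hD0 : D = 0 := by
    calc D = D * (B * B') := by rw [hBB', Matrix.mul_one]
      _ = (D * B) * B' := (Matrix.mul_assoc _ _ _).symm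
      _ = 0 := by rw [hDB, Matrix.zero_mul]
  exact sub_eq_zero.1 (hD ▸ hD0)

/-- Frobenius: `f(X)^27 = f(X^27)` over `ZMod 3` -/
theorem aeval_pow_27 (X : Matrix n n (ZMod 3)) (f : Polynomial (ZMod 3)) :
    (Polynomial.aeval X f) ^ 27 = Polynomial.aeval (X ^ 27) f := by
  have h3 : ∀ Y : Matrix n n (ZMod 3),
      (Polynomial.aeval Y f) ^ 3 = Polynomial.aeval (Y ^ 3) f := by
    intro Y
    rw [← map_pow, ← ZMod.expand_card, Polynomial.expand_aeval]
  rw [show (27 : ℕ) = 3 * 3 * 3 from rfl, pow_mul, pow_mul, h3, h3, h3, ← pow_mul, ← pow_mul]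

end generic

section sympl

variable {l R : Type*} [Fintype l] [DecidableEq l] [CommRing R]

/-- the symplectic adjoint `Y ↦ -J Yᵀ J` -/
def sAdj (Y : Matrix (l ⊕ l) (l ⊕ l) R) : Matrix (l ⊕ l) (l ⊕ l) R :=
  (-Matrix.J l R) * Yᵀ * Matrix.J l R

theorem sAdj_one : sAdj (1 : Matrix (l ⊕ l) (l ⊕ l) R) = 1 := by
  unfold sAdj
  rw [Matrix.transpose_one, Matrix.mul_one, Matrix.neg_mul, Matrix.J_squared, neg_neg]

theorem sAdj_mul (Y Z : Matrix (l ⊕ l) (l ⊕ l) R) : sAdj (Y * Z) = sAdj Z * sAdj Y := by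
  unfold sAdj
  have hJ : Matrix.J l R * (-Matrix.J l R) = 1 := by
    rw [Matrix.mul_neg, Matrix.J_squared, neg_neg]
  rw [Matrix.transpose_mul]
  calc -Matrix.J l R * (Zᵀ * Yᵀ) * Matrix.J l R
      = -Matrix.J l R * Zᵀ * 1 * Yᵀ * Matrix.J l R := by
        rw [Matrix.mul_one]; simp only [Matrix.mul_assoc]
    _ = -Matrix.J l R * Zᵀ * Matrix.J l R * (-Matrix.J l R * Yᵀ * Matrix.J l R) := by
        rw [← hJ]; simp only [Matrix.mul_assoc]

theorem sAdj_pow (Y : Matrix (l ⊕ l) (l ⊕ l) R) (k : ℕ) : sAdj (Y ^ k) = sAdj Y ^ k := by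
  induction k with
  | zero => rw [pow_zero, pow_zero, sAdj_one]
  | succ k ih => rw [pow_succ, sAdj_mul, ih, pow_succ']

theorem sAdj_aeval (Y : Matrix (l ⊕ l) (l ⊕ l) R) (f : Polynomial R) :
    sAdj (Polynomial.aeval Y f) = Polynomial.aeval (sAdj Y) f := by
  rw [Polynomial.aeval_eq_sum_range, Polynomial.aeval_eq_sum_range]
  simp only [← sAdj_pow]
  unfold sAdj
  rw [Matrix.transpose_sum, Matrix.mul_sum, Matrix.sum_mul]
  refine Finset.sum_congr rfl fun i _ => ?_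
  rw [Matrix.transpose_smul, Matrix.mul_smul, Matrix.smul_mul]

theorem coe_inv_eq_sAdj (h : Matrix.symplecticGroup l R) :
    ((h⁻¹ : Matrix.symplecticGroup l R) : Matrix (l ⊕ l) (l ⊕ l) R) = sAdj (h : Matrix _ _ R) :=
  rfl

end sympl

namespace LA

/-- `6 × 6` matrices over `ZMod 3`, indexed as for the symplectic group -/
abbrev M6 : Type := Matrix (Fin 3 ⊕ Fin 3) (Fin 3 ⊕ Fin 3) (ZMod 3)

/-- an explicit element of order `7` -/
def X0 : M6 :=
  Matrix.fromBlocks !![0, 1, 2; 1, 2, 0; 2, 1, 2] !![1, 2, 1; 0, 2, 0; 1, 2, 2]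
    !![2, 2, 1; 2, 1, 1; 1, 0, 1] !![0, 2, 0; 2, 2, 0; 1, 1, 2]

/-- `X0 ^ 2` -/
def X2 : M6 :=
  Matrix.fromBlocks !![0, 2, 2; 0, 1, 1; 1, 1, 1] !![1, 1, 0; 2, 1, 1; 1, 0, 1]
    !![2, 0, 2; 2, 2, 1; 2, 2, 2] !![1, 2, 1; 1, 1, 1; 0, 1, 1]

/-- `X0 ^ 3` -/
def X3 : M6 :=
  Matrix.fromBlocks !![1, 0, 0; 1, 2, 0; 0, 0, 0] !![1, 0, 1; 1, 2, 1; 0, 0, 2]
    !![2, 2, 0; 0, 1, 0; 0, 0, 1] !![0, 0, 2; 0, 0, 0; 1, 0, 2]

/-- `X0 ^ 6` -/
def X6 : M6 :=
  Matrix.fromBlocks !![0, 2, 1; 2, 2, 1; 0, 0, 2] !![2, 0, 2; 1, 1, 1; 2, 0, 1]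
    !![1, 1, 2; 1, 2, 0; 2, 2, 2] !![0, 1, 2; 1, 2, 1; 2, 0, 2]

/-- the matrix with columns `X0 ^ j e`, `e` the first basis vector -/
def Bm : Matrix (Fin 3 ⊕ Fin 3) (Fin (5 + 1)) (ZMod 3) :=
  Matrix.of (Sum.elim ![![1, 0, 0, 1, 0, 1], ![0, 1, 0, 1, 0, 2], ![0, 2, 1, 0, 2, 1]]
    ![![0, 2, 2, 2, 1, 1], ![0, 2, 2, 0, 1, 0], ![0, 1, 2, 0, 0, 1]])

/-- the inverse of `Bm` -/
def Bi : Matrix (Fin (5 + 1)) (Fin 3 ⊕ Fin 3) (ZMod 3) :=
  Matrix.of fun i => Sum.elim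
    ((![![1, 2, 1], ![0, 1, 0], ![0, 0, 1], ![0, 2, 1], ![0, 1, 1], ![0, 2, 1]] :
      Fin 6 → Fin 3 → ZMod 3) i)
    ((![![0, 1, 0], ![1, 2, 0], ![0, 1, 2], ![1, 0, 0], ![1, 1, 2], ![2, 2, 0]] :
      Fin 6 → Fin 3 → ZMod 3) i)

theorem X0_mem : X0 ∈ Matrix.symplecticGroup (Fin 3) (ZMod 3) := by
  rw [SymplecticGroup.mem_iff]
  decide +kernel

/-- `X0` as an element of the symplectic group -/
def x0 : Matrix.symplecticGroup (Fin 3) (ZMod 3) := ⟨X0, X0_mem⟩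

theorem X0_pow7 : X0 ^ 7 = 1 := by
  have h2 : X0 * X0 = X2 := by decide +kernel
  have h3 : X2 * X0 = X3 := by decide +kernel
  have h6 : X3 * X3 = X6 := by decide +kernel
  have h7 : X6 * X0 = 1 := by decide +kernel
  calc X0 ^ 7 = ((X0 * X0) * X0) * ((X0 * X0) * X0) * X0 := by
        simp only [pow_succ, pow_zero, one_mul, mul_assoc]
    _ = 1 := by rw [h2, h3, h6, h7]

theorem X0_ne_one : X0 ≠ 1 := by decide +kernel

theorem orderOf_x0 : orderOf x0 = 7 := by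
  have : Fact (Nat.Prime 7) := ⟨by norm_num⟩
  apply orderOf_eq_prime
  · apply Subtype.ext
    rw [SubmonoidClass.coe_pow]
    exact X0_pow7
  · intro h
    exact X0_ne_one (congrArg Subtype.val h)

theorem Bm_step : ∀ j : Fin 5,
    (fun r => Bm r j.succ) = X0 *ᵥ (fun r => Bm r j.castSucc) := by
  decide +kernel

theorem Bm_Bi : Bm * Bi = 1 := by decide +kernel

theorem cent_x0 (h : Matrix.symplecticGroup (Fin 3) (ZMod 3)) (hc : h * x0 = x0 * h) :
    h ^ 28 = 1 := by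
  have hc' : (h : M6) * X0 = X0 * (h : M6) := congrArg Subtype.val hc
  obtain ⟨f, hf⟩ := eq_aeval_of_cyclic X0 (h : M6) hc' Bm Bi Bm_step Bm_Bi
  have h27 : ((h ^ 27 : Matrix.symplecticGroup (Fin 3) (ZMod 3)) : M6)
      = Polynomial.aeval (X0 ^ 27) f := by
    rw [SubmonoidClass.coe_pow, hf, aeval_pow_27]
  have hx : x0 ^ 27 = x0⁻¹ := by
    apply eq_inv_of_mul_eq_one_left
    rw [← pow_succ]
    have h7 : x0 ^ 7 = 1 := by rw [← orderOf_x0]; exact pow_orderOf_eq_one x0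
    rw [show 27 + 1 = 7 * 4 from rfl, pow_mul, h7, one_pow]
  have hx27 : X0 ^ 27 = ((x0⁻¹ : Matrix.symplecticGroup (Fin 3) (ZMod 3)) : M6) := by
    rw [← hx, SubmonoidClass.coe_pow]
    rfl
  have hinv : ((h⁻¹ : Matrix.symplecticGroup (Fin 3) (ZMod 3)) : M6)
      = Polynomial.aeval ((x0⁻¹ : Matrix.symplecticGroup (Fin 3) (ZMod 3)) : M6) f := by
    rw [coe_inv_eq_sAdj, hf, sAdj_aeval, coe_inv_eq_sAdj]
    rfl
  have hh : h ^ 27 = h⁻¹ := Subtype.ext (by rw [h27, hx27, hinv])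
  calc h ^ 28 = h ^ 27 * h := pow_succ h 27
    _ = 1 := by rw [hh, inv_mul_cancel]

end LA

/-- (LA) centralizers of elements of order `7` in `Sp(6,3)` have exponent dividing `28` -/
theorem cent7 (x g : Matrix.symplecticGroup (Fin 3) (ZMod 3)) (hx : orderOf x = 7)
    (hc : g * x = x * g) : g ^ 28 = 1 := by
  have : Fact (Nat.Prime 7) := ⟨by norm_num⟩
  have hcard : ¬ 7 ^ 2 ∣ Nat.card (Matrix.symplecticGroup (Fin 3) (ZMod 3)) := by
    rw [Cfsg.Agent.Helper5.card_sp, ZMod.card]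
    decide
  obtain ⟨k, hk⟩ := Cfsg.Agent.Helper8.G24.exists_conj_zpowers 7 x LA.x0 hx LA.orderOf_x0 hcard
  have hmem : k * LA.x0 * k⁻¹ ∈ Subgroup.zpowers x := hk ▸ Subgroup.mem_zpowers _
  obtain ⟨i, hi⟩ := Subgroup.mem_zpowers_iff.1 hmem
  have hcomm : g * (k * LA.x0 * k⁻¹) = (k * LA.x0 * k⁻¹) * g := by
    rw [← hi]
    exact ((show Commute g x from hc).zpow_right i).eq
  have h1 : (k⁻¹ * g * k) * LA.x0 = LA.x0 * (k⁻¹ * g * k) := by
    calc k⁻¹ * g * k * LA.x0 = k⁻¹ * (g * (k * LA.x0 * k⁻¹)) * k := by group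
      _ = k⁻¹ * ((k * LA.x0 * k⁻¹) * g) * k := by rw [hcomm]
      _ = LA.x0 * (k⁻¹ * g * k) := by group
  have h28 := LA.cent_x0 _ h1
  have hg : g = k * (k⁻¹ * g * k) * k⁻¹ := by group
  rw [hg, conj_pow, h28, mul_one, mul_inv_cancel]


end Cfsg.Agent.Helper67.PG63
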