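import Cfsg.Agent.Helper86.PG63.Defs
import Cfsg.Agent.Helper6.Sz1

/-!
# S3664 (helper86), piece (N3): the entrywise Frobenius preserves `Sz(8)`
-/

set_option autoImplicit false

namespace Cfsg.Agent.Helper67.PG63

open Cfsg Cfsg.Agent.Helper86.PG63 Cfsg.Agent.Helper6

/-- the Frobenius on ovoid parameters -/
def frobOpt (o : Option (F8 × F8)) : Option (F8 × F8) :=
  o.map fun p => (frobF8 p.1, frobF8 p.2)

theorem frobF8_surj (x : F8) : ∃ y : F8, frobF8 y = x :=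
  ⟨frobF8 (frobF8 x), frobF8_cube x⟩

theorem frobOpt_surj (o : Option (F8 × F8)) : ∃ o0, frobOpt o0 = o := by
  rcases o with _ | ⟨x, y⟩
  · exact ⟨none, rfl⟩
  · obtain ⟨x0, hx0⟩ := frobF8_surj x
    obtain ⟨y0, hy0⟩ := frobF8_surj y
    refine ⟨some (x0, y0), ?_⟩
    simp [frobOpt, hx0, hy0]

theorem ovF_frob : ∀ x y : F8,
    ovF F8 1 (x * x) (y * y) = ovF F8 1 x y * ovF F8 1 x y := by
  unfold ovF
  decide

theorem ovVecOpt_frobOpt (o : Option (F8 × F8)) :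
    ovVecOpt F8 1 (frobOpt o) = frobF8 ∘ ovVecOpt F8 1 o := by
  rcases o with _ | ⟨x, y⟩
  · funext i
    fin_cases i <;> simp [frobOpt, ovVecOpt]
  · funext i
    fin_cases i
    · simp [frobOpt, ovVecOpt, ovVec, frobF8_apply, ovF_frob]
    · simp [frobOpt, ovVecOpt, ovVec, frobF8_apply]
    · simp [frobOpt, ovVecOpt, ovVec, frobF8_apply]
    · simp [frobOpt, ovVecOpt, ovVec]

/-- (N3) the Frobenius preserves `Sz(8)` -/
theorem frobSL_mem (g : SL4) (hg : g ∈ SzG) : frobSL g ∈ SzG := by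
  apply mem_Sz_of_forall
  intro o
  obtain ⟨o0, rfl⟩ := frobOpt_surj o
  obtain ⟨o0', h⟩ := smul_mem_of_mem_Sz hg o0
  obtain ⟨c, _, hmv⟩ := exists_of_smul_ovPt g h
  refine ⟨frobOpt o0', smul_ovPt _ _ _ (frobF8 c) ?_⟩
  rw [ovVecOpt_frobOpt, ovVecOpt_frobOpt]
  have hcoe : ((frobSL g : SL4) : Matrix (Fin 4) (Fin 4) F8)
      = (g : Matrix (Fin 4) (Fin 4) F8).map frobF8 := rfl
  rw [hcoe]
  funext i
  rw [← RingHom.map_mulVec, hmv]
  simp [Pi.smul_apply]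

end Cfsg.Agent.Helper67.PG63
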