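import Cfsg.Agent.Helper88.PSp4Hyp

/-!
helper67 (for helper88, WANTED #5347 (Qe2)): the element `w = (1 + x + y + xy)/2` of `SL₂(F)`
normalizing the quaternion group `Q₈ = ⟨x, y⟩`.
-/

set_option autoImplicit false
set_option linter.unusedSectionVars false
set_option linter.unusedVariables false

namespace Cfsg.Agent.Helper67.PSp4

open Matrix Equiv Cfsg.Agent.Helper42 Cfsg.Agent.Helper85 Cfsg.Agent.Helper84
  Cfsg.Agent.Helper88.PSp4F

section ring

variable {R : Type*} [Ring R]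

theorem quat_wx {X Y : R} (hX : X * X = -1) (hY : Y * Y = -1) (hYX : Y * X = -(X * Y)) :
    (1 + X) * (1 + Y) * X = Y * ((1 + X) * (1 + Y)) := by
  have hXX' : ∀ Z : R, X * (X * Z) = -Z := by
    intro Z; rw [← mul_assoc, hX, neg_mul, one_mul]
  have hYY' : ∀ Z : R, Y * (Y * Z) = -Z := by
    intro Z; rw [← mul_assoc, hY, neg_mul, one_mul]
  have hYX' : ∀ Z : R, Y * (X * Z) = -(X * (Y * Z)) := by
    intro Z; rw [← mul_assoc, hYX, neg_mul, mul_assoc]
  simp only [mul_add, add_mul, mul_one, one_mul, mul_assoc, hX, hXX', hY, hYX, hYX',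
    mul_neg, neg_neg]
  abel

theorem quat_wy {X Y : R} (hX : X * X = -1) (hY : Y * Y = -1) (hYX : Y * X = -(X * Y)) :
    (1 + X) * (1 + Y) * Y = X * Y * ((1 + X) * (1 + Y)) := by
  have hXX' : ∀ Z : R, X * (X * Z) = -Z := by
    intro Z; rw [← mul_assoc, hX, neg_mul, one_mul]
  have hYY' : ∀ Z : R, Y * (Y * Z) = -Z := by
    intro Z; rw [← mul_assoc, hY, neg_mul, one_mul]
  have hYX' : ∀ Z : R, Y * (X * Z) = -(X * (Y * Z)) := by
    intro Z; rw [← mul_assoc, hYX, neg_mul, mul_assoc]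
  simp only [mul_add, add_mul, mul_one, one_mul, mul_assoc, hX, hXX', hY, hYX, hYX',
    mul_neg, neg_neg]
  abel

end ring

section group

variable {G : Type*} [Group G]

/-- the eight elements of a quaternion group are permuted by an element `w` cycling
`x → y → xy → x` -/
theorem quat_conj_mem {w x y z : G} (hz : ∀ g : G, g * z = z * g) (hzz : z * z = 1)
    (hx : x * x = z) (hy : y * y = z) (hyx : y * x = z * (x * y))
    (hwx : w * x * w⁻¹ = y) (hwy : w * y * w⁻¹ = x * y) (g : G)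
    (hg : g = 1 ∨ g = z ∨ g = x ∨ g = z * x ∨ g = y ∨ g = z * y ∨ g = x * y ∨ g = z * (x * y)) :
    (w * g * w⁻¹ = 1 ∨ w * g * w⁻¹ = z ∨ w * g * w⁻¹ = x ∨ w * g * w⁻¹ = z * x ∨ w * g * w⁻¹ = y ∨
      w * g * w⁻¹ = z * y ∨ w * g * w⁻¹ = x * y ∨ w * g * w⁻¹ = z * (x * y)) ∧
    (w⁻¹ * g * w = 1 ∨ w⁻¹ * g * w = z ∨ w⁻¹ * g * w = x ∨ w⁻¹ * g * w = z * x ∨ w⁻¹ * g * w = y ∨
      w⁻¹ * g * w = z * y ∨ w⁻¹ * g * w = x * y ∨ w⁻¹ * g * w = z * (x * y)) := by
  have hwz : ∀ q : G, w * (z * q) * w⁻¹ = z * (w * q * w⁻¹) := by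
    intro q
    rw [← mul_assoc w z q, hz w, mul_assoc, mul_assoc, mul_assoc]
  have hwz' : ∀ q : G, w⁻¹ * (z * q) * w = z * (w⁻¹ * q * w) := by
    intro q
    rw [← mul_assoc w⁻¹ z q, hz w⁻¹, mul_assoc, mul_assoc, mul_assoc]
  have hwxy : w * (x * y) * w⁻¹ = x := by
    have h1 : w * (x * y) * w⁻¹ = (w * x * w⁻¹) * (w * y * w⁻¹) := by group
    rw [h1, hwx, hwy, ← mul_assoc, hyx, mul_assoc, mul_assoc, hy, hz x, ← mul_assoc, hzz,
      one_mul]
  have hix : w⁻¹ * x * w = x * y := by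
    calc w⁻¹ * x * w = w⁻¹ * (w * (x * y) * w⁻¹) * w := by rw [hwxy]
      _ = x * y := by group
  have hiy : w⁻¹ * y * w = x := by
    calc w⁻¹ * y * w = w⁻¹ * (w * x * w⁻¹) * w := by rw [hwx]
      _ = x := by group
  have hixy : w⁻¹ * (x * y) * w = y := by
    calc w⁻¹ * (x * y) * w = w⁻¹ * (w * y * w⁻¹) * w := by rw [hwy]
      _ = y := by group
  have hw1 : w * 1 * w⁻¹ = 1 := by group
  have hi1 : w⁻¹ * 1 * w = 1 := by group
  have hwzz : w * z * w⁻¹ = z := by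
    rw [hz w, mul_assoc, mul_inv_cancel, mul_one]
  have hizz : w⁻¹ * z * w = z := by
    rw [hz w⁻¹, mul_assoc, inv_mul_cancel, mul_one]
  rcases hg with rfl | rfl | rfl | rfl | rfl | rfl | rfl | rfl
  · rw [hw1, hi1]; exact ⟨Or.inl rfl, Or.inl rfl⟩
  · rw [hwzz, hizz]; exact ⟨Or.inr (Or.inl rfl), Or.inr (Or.inl rfl)⟩
  · rw [hwx, hix]
    exact ⟨Or.inr (Or.inr (Or.inr (Or.inr (Or.inl rfl)))),
      Or.inr (Or.inr (Or.inr (Or.inr (Or.inr (Or.inr (Or.inl rfl))))))⟩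
  · rw [hwz, hwz', hwx, hix]
    exact ⟨Or.inr (Or.inr (Or.inr (Or.inr (Or.inr (Or.inl rfl))))),
      Or.inr (Or.inr (Or.inr (Or.inr (Or.inr (Or.inr (Or.inr rfl))))))⟩
  · rw [hwy, hiy]
    exact ⟨Or.inr (Or.inr (Or.inr (Or.inr (Or.inr (Or.inr (Or.inl rfl)))))),
      Or.inr (Or.inr (Or.inl rfl))⟩
  · rw [hwz, hwz', hwy, hiy]
    exact ⟨Or.inr (Or.inr (Or.inr (Or.inr (Or.inr (Or.inr (Or.inr rfl)))))),
      Or.inr (Or.inr (Or.inr (Or.inl rfl)))⟩
  · rw [hwxy, hixy]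
    exact ⟨Or.inr (Or.inr (Or.inl rfl)), Or.inr (Or.inr (Or.inr (Or.inr (Or.inl rfl))))⟩
  · rw [hwz, hwz', hwxy, hixy]
    exact ⟨Or.inr (Or.inr (Or.inr (Or.inl rfl))),
      Or.inr (Or.inr (Or.inr (Or.inr (Or.inr (Or.inl rfl)))))⟩

end group

variable {F : Type*} [Field F]

theorem negOneSL_val : (negOneSL F).1 = -1 := by
  show Matrix.scalar (Fin 2) (-1 : F) = -1
  ext i j
  fin_cases i <;> fin_cases j <;> simp

theorem negOneSL_comm (g : SL2 F) : g * negOneSL F = negOneSL F * g :=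
  Subgroup.mem_center_iff.mp negOneSL_mem_center g

/-- `det (1 + X) = 2` for `X ∈ SL₂` with `X² = -1` -/
theorem det_one_add_of_sq (x : SL2 F) (hx : x * x = negOneSL F) : (1 + x.1).det = 2 := by
  have hXX : x.1 * x.1 = -1 := by
    have := congrArg Subtype.val hx
    rw [negOneSL_val] at this
    exact this
  have hdet : x.1.det = 1 := x.2
  rw [Matrix.det_fin_two] at hdet
  have e1 := congrFun (congrFun hXX 0) 0
  have e2 := congrFun (congrFun hXX 0) 1
  rw [Matrix.mul_apply, Fin.sum_univ_two] at e1 e2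
  simp only [Matrix.neg_apply, Matrix.one_apply_eq, Matrix.one_apply_ne, ne_eq, Fin.isValue,
    zero_ne_one, not_false_eq_true, neg_zero] at e1 e2
  have htr : x.1 0 0 + x.1 1 1 = 0 := by
    linear_combination (-(x.1 0 0 + x.1 1 1) + x.1 1 1) * hdet + x.1 1 1 * e1 - x.1 1 0 * e2
  rw [Matrix.det_fin_two]
  simp only [Matrix.add_apply, Matrix.one_apply_eq, Matrix.one_apply_ne, ne_eq, Fin.isValue,
    zero_ne_one, one_ne_zero, not_false_eq_true, zero_add]
  linear_combination hdet + htr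

/-- (Qe2) -/
theorem exists_omData (h2 : (2 : F) ≠ 0) {Q : Subgroup (SL2 F)} {x y : SL2 F} (h : Q8Data Q x y) :
    ∃ w : SL2 F, OmData x y w ∧ w ∈ Subgroup.normalizer (Q : Set (SL2 F)) := by
  have hXX : x.1 * x.1 = -1 := by
    have := congrArg Subtype.val h.hx
    rw [negOneSL_val] at this
    exact this
  have hYY : y.1 * y.1 = -1 := by
    have := congrArg Subtype.val h.hy
    rw [negOneSL_val] at this
    exact this
  have hYX : y.1 * x.1 = -(x.1 * y.1) := by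
    have := congrArg Subtype.val h.hxy
    have h1 : (negOneSL F * (x * y)).1 = (negOneSL F).1 * (x.1 * y.1) := rfl
    rw [h1, negOneSL_val, neg_mul, one_mul] at this
    exact this
  have hdet : ((2 : F)⁻¹ • ((1 + x.1) * (1 + y.1)) : Matrix (Fin 2) (Fin 2) F).det = 1 := by
    rw [Matrix.det_smul, Matrix.det_mul, det_one_add_of_sq x h.hx, det_one_add_of_sq y h.hy,
      Fintype.card_fin]
    field_simp
  obtain ⟨w, hw⟩ : ∃ w : SL2 F, w.1 = (2 : F)⁻¹ • ((1 + x.1) * (1 + y.1)) := ⟨⟨_, hdet⟩, rfl⟩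
  have hwx : w * x * w⁻¹ = y := by
    rw [mul_inv_eq_iff_eq_mul]
    apply Subtype.ext
    show w.1 * x.1 = y.1 * w.1
    rw [hw, Matrix.smul_mul, Matrix.mul_smul, quat_wx hXX hYY hYX]
  have hwy : w * y * w⁻¹ = x * y := by
    rw [mul_inv_eq_iff_eq_mul]
    apply Subtype.ext
    show w.1 * y.1 = (x.1 * y.1) * w.1
    rw [hw, Matrix.smul_mul, Matrix.mul_smul, quat_wy hXX hYY hYX]
  refine ⟨w, ⟨hw, hwx, hwy⟩, ?_⟩
  have key := fun g hg => quat_conj_mem (w := w) (x := x) (y := y) (z := negOneSL F) negOneSL_comm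
    negOneSL_mul_self h.hx h.hy h.hxy hwx hwy g hg
  rw [Subgroup.mem_normalizer_iff]
  intro g
  constructor
  · intro hg
    rw [h.mem] at hg
    rw [h.mem]
    exact (key g hg).1
  · intro hg
    rw [h.mem] at hg
    have h1 := (key _ hg).2
    have h3 : w⁻¹ * (w * g * w⁻¹) * w = g := by group
    rw [h3] at h1
    rw [h.mem]
    exact h1

end Cfsg.Agent.Helper67.PSp4
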