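import Cfsg.Agent.Helper88.PSp4Hyp
import Cfsg.Agent.Helper67.PSp4Qe2

/-!
helper67 (for helper88, WANTED #5347 (E4)): two elements `u₁, u₂` of order dividing 4 in `Sp₄(F)`
normalizing `E = Q₈ ∘ D₈`, with product `ι(w,w) · t₀ · tw`.
-/

set_option autoImplicit false
set_option linter.unusedSectionVars false
set_option linter.unusedVariables false
set_option linter.unusedSimpArgs false

namespace Cfsg.Agent.Helper67.PSp4

open Matrix Equiv Cfsg.Agent.Helper42 Cfsg.Agent.Helper85 Cfsg.Agent.Helper84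
  Cfsg.Agent.Helper88.PSp4F

section ring

variable {R : Type*} [Ring R]

/-- the relations between `I = ι(x,x)`, `J = ι(y,y)`, `T = t₀`, `W = tw` -/
structure E4Rel (I J T W : R) : Prop where
  II : I * I = -1
  JJ : J * J = -1
  JI : J * I = -(I * J)
  TT : T * T = 1
  WW : W * W = 1
  WT : W * T = -(T * W)
  TI : T * I = I * T
  WI : W * I = I * W
  TJ : T * J = J * T
  WJ : W * J = J * W

namespace E4Rel

variable {I J T W : R} (h : E4Rel I J T W)
include h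

theorem II' (Z : R) : I * (I * Z) = -Z := by rw [← mul_assoc, h.II, neg_mul, one_mul]
theorem JJ' (Z : R) : J * (J * Z) = -Z := by rw [← mul_assoc, h.JJ, neg_mul, one_mul]
theorem JI' (Z : R) : J * (I * Z) = -(I * (J * Z)) := by rw [← mul_assoc, h.JI, neg_mul, mul_assoc]
theorem TT' (Z : R) : T * (T * Z) = Z := by rw [← mul_assoc, h.TT, one_mul]
theorem WW' (Z : R) : W * (W * Z) = Z := by rw [← mul_assoc, h.WW, one_mul]
theorem WT' (Z : R) : W * (T * Z) = -(T * (W * Z)) := by rw [← mul_assoc, h.WT, neg_mul, mul_assoc]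
theorem TI' (Z : R) : T * (I * Z) = I * (T * Z) := by rw [← mul_assoc, h.TI, mul_assoc]
theorem WI' (Z : R) : W * (I * Z) = I * (W * Z) := by rw [← mul_assoc, h.WI, mul_assoc]
theorem TJ' (Z : R) : T * (J * Z) = J * (T * Z) := by rw [← mul_assoc, h.TJ, mul_assoc]
theorem WJ' (Z : R) : W * (J * Z) = J * (W * Z) := by rw [← mul_assoc, h.WJ, mul_assoc]

/-- the relations with `I` and `J` exchanged -/
theorem swap : E4Rel J I T W where
  II := h.JJ
  JJ := h.II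
  JI := by rw [h.JI, neg_neg]
  TT := h.TT
  WW := h.WW
  WT := h.WT
  TI := h.TJ
  WI := h.WJ
  TJ := h.TI
  WJ := h.WI

theorem m1_I : (1 + I) * (1 + T * W) * I = I * ((1 + I) * (1 + T * W)) := by
  simp only [mul_add, add_mul, mul_one, one_mul, mul_assoc, h.II, h.II', h.JJ, h.JJ', h.JI, h.JI',
    h.TT, h.TT', h.WW, h.WW', h.WT, h.WT', h.TI, h.TI', h.WI, h.WI', h.TJ, h.TJ', h.WJ, h.WJ',
    mul_neg, neg_mul, neg_neg]

theorem m1_J : (1 + I) * (1 + T * W) * J = (I * J) * ((1 + I) * (1 + T * W)) := by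
  simp only [mul_add, add_mul, mul_one, one_mul, mul_assoc, h.II, h.II', h.JJ, h.JJ', h.JI, h.JI',
    h.TT, h.TT', h.WW, h.WW', h.WT, h.WT', h.TI, h.TI', h.WI, h.WI', h.TJ, h.TJ', h.WJ, h.WJ',
    mul_neg, neg_mul, neg_neg]
  abel

theorem m1_T : (1 + I) * (1 + T * W) * T = (-W) * ((1 + I) * (1 + T * W)) := by
  simp only [mul_add, add_mul, mul_one, one_mul, mul_assoc, h.II, h.II', h.JJ, h.JJ', h.JI, h.JI',
    h.TT, h.TT', h.WW, h.WW', h.WT, h.WT', h.TI, h.TI', h.WI, h.WI', h.TJ, h.TJ', h.WJ, h.WJ',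
    mul_neg, neg_mul, neg_neg]
  abel

theorem m1_W : (1 + I) * (1 + T * W) * W = T * ((1 + I) * (1 + T * W)) := by
  simp only [mul_add, add_mul, mul_one, one_mul, mul_assoc, h.II, h.II', h.JJ, h.JJ', h.JI, h.JI',
    h.TT, h.TT', h.WW, h.WW', h.WT, h.WT', h.TI, h.TI', h.WI, h.WI', h.TJ, h.TJ', h.WJ, h.WJ',
    mul_neg, neg_mul, neg_neg]
  abel

theorem m1_sq : (1 + I) * (1 + T * W) * ((1 + I) * (1 + T * W)) =
    I * (T * W) + I * (T * W) + (I * (T * W) + I * (T * W)) := by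
  simp only [mul_add, add_mul, mul_one, one_mul, mul_assoc, h.II, h.II', h.JJ, h.JJ', h.JI, h.JI',
    h.TT, h.TT', h.WW, h.WW', h.WT, h.WT', h.TI, h.TI', h.WI, h.WI', h.TJ, h.TJ', h.WJ, h.WJ',
    mul_neg, neg_mul, neg_neg]
  abel

theorem m1_m2 : (1 + I) * (1 + T * W) * ((1 + J) * (1 + T * W)) =
    (1 + I) * (1 + J) * (T * W) + (1 + I) * (1 + J) * (T * W) := by
  simp only [mul_add, add_mul, mul_one, one_mul, mul_assoc, h.II, h.II', h.JJ, h.JJ', h.JI, h.JI',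
    h.TT, h.TT', h.WW, h.WW', h.WT, h.WT', h.TI, h.TI', h.WI, h.WI', h.TJ, h.TJ', h.WJ, h.WJ',
    mul_neg, neg_mul, neg_neg]
  abel

theorem f_sq : T * W * (T * W) = -1 := by
  simp only [mul_assoc, h.TT, h.TT', h.WW, h.WW', h.WT, h.WT', mul_neg, neg_mul, neg_neg]

theorem If_sq : I * (T * W) * (I * (T * W)) = 1 := by
  simp only [mul_add, add_mul, mul_one, one_mul, mul_assoc, h.II, h.II', h.JJ, h.JJ', h.JI, h.JI',
    h.TT, h.TT', h.WW, h.WW', h.WT, h.WT', h.TI, h.TI', h.WI, h.WI', h.TJ, h.TJ', h.WJ, h.WJ',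
    mul_neg, neg_mul, neg_neg]

end E4Rel

/-- `(1 + A) Ω (1 + Aᵀ) = 2 Ω` for a symplectic `A` with `A² = -1` (abstract form, `B = Aᵀ`) -/
theorem symp_one_add {A Ω B : R} (hs : A * Ω * B = Ω) (hA : A * A = -1) :
    (1 + A) * Ω * (1 + B) = Ω + Ω := by
  have h1 : Ω * B = -(A * Ω) := by
    have h2 : A * (A * Ω * B) = A * Ω := by rw [hs]
    rw [← mul_assoc, ← mul_assoc, hA, neg_mul, neg_mul, one_mul] at h2
    rw [← h2, neg_neg]
  have h3 : A * Ω * B = Ω := hs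
  simp only [mul_add, add_mul, mul_one, one_mul, h1, h3]
  abel

end ring

variable {F : Type*} [Field F]

local notation "M4" => Matrix (Fin 2 ⊕ Fin 2) (Fin 2 ⊕ Fin 2) F

/-- the diagonal embedding of `2 × 2` matrices into `4 × 4` matrices (in helper42's coordinates) -/
def dM (A : Matrix (Fin 2) (Fin 2) F) : M4 :=
  fromBlocks (A 0 0 • (1 : Matrix (Fin 2) (Fin 2) F)) (A 0 1 • (1 : Matrix (Fin 2) (Fin 2) F))
    (A 1 0 • (1 : Matrix (Fin 2) (Fin 2) F)) (A 1 1 • (1 : Matrix (Fin 2) (Fin 2) F))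

theorem io_val (a : SL2 F) : (io a a).1 = dM a.1 := by
  show bMat ![a, a] = dM a.1
  unfold bMat dM
  congr 1 <;>
  · ext i j
    fin_cases i <;> fin_cases j <;> simp [Matrix.diagonal, Matrix.one_apply]

theorem dM_one : dM (1 : Matrix (Fin 2) (Fin 2) F) = 1 := by
  unfold dM
  rw [← fromBlocks_one]
  congr 1 <;> simp

theorem dM_add (A B : Matrix (Fin 2) (Fin 2) F) : dM (A + B) = dM A + dM B := by
  unfold dM
  rw [fromBlocks_add]
  congr 1 <;> simp [add_smul]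

theorem dM_smul (c : F) (A : Matrix (Fin 2) (Fin 2) F) : dM (c • A) = c • dM A := by
  unfold dM
  rw [fromBlocks_smul]
  congr 1 <;> simp [smul_smul]

theorem dM_mul (A B : Matrix (Fin 2) (Fin 2) F) : dM (A * B) = dM A * dM B := by
  unfold dM
  rw [fromBlocks_multiply]
  simp only [Matrix.smul_mul, Matrix.mul_smul, Matrix.one_mul, smul_smul, ← add_smul,
    Matrix.mul_apply, Fin.sum_univ_two]
  congr 2 <;> ring

theorem nI_mul_val (g : Sp4 F) : (nI F * g).1 = -g.1 := by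
  show (-1 : M4) * g.1 = -g.1
  rw [neg_mul, one_mul]

/-- the half of `(1 + A)(1 + C)` is symplectic when `A`, `C` are symplectic of square `-1` -/
theorem symp_half (h2 : (2 : F) ≠ 0) {A C : M4} (hA : A ∈ symplecticGroup (Fin 2) F)
    (hC : C ∈ symplecticGroup (Fin 2) F) (hAA : A * A = -1) (hCC : C * C = -1) :
    (2 : F)⁻¹ • ((1 + A) * (1 + C)) ∈ symplecticGroup (Fin 2) F := by
  rw [SymplecticGroup.mem_iff] at hA hC ⊢
  have e1 := symp_one_add hA hAA
  have e2 := symp_one_add hC hCC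
  rw [Matrix.transpose_smul, Matrix.transpose_mul, Matrix.transpose_add, Matrix.transpose_add,
    Matrix.transpose_one, Matrix.smul_mul, Matrix.smul_mul, Matrix.mul_smul, smul_smul]
  have e3 : (1 + A) * (1 + C) * J (Fin 2) F * ((1 + Cᵀ) * (1 + Aᵀ)) =
      (1 + A) * ((1 + C) * J (Fin 2) F * (1 + Cᵀ)) * (1 + Aᵀ) := by
    simp only [mul_assoc]
  rw [e3, e2, mul_add (1 + A) (J (Fin 2) F) (J (Fin 2) F),
    add_mul ((1 + A) * J (Fin 2) F) ((1 + A) * J (Fin 2) F) (1 + Aᵀ), e1,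
    ← two_smul F (J (Fin 2) F), ← two_smul F, smul_smul, smul_smul]
  have : (2 : F)⁻¹ * 2⁻¹ * 2 * 2 = 1 := by field_simp
  rw [this, one_smul]

theorem half_add_self (h2 : (2 : F) ≠ 0) (X : M4) : (2 : F)⁻¹ • (X + X) = X := by
  rw [← two_smul F X, smul_smul, inv_mul_cancel₀ h2, one_smul]

/-- the relations hold for the matrices of `ι(x,x)`, `ι(y,y)`, `t₀`, `tw` -/
theorem e4Rel_of_q8 {Q : Subgroup (SL2 F)} {x y : SL2 F} (h : Q8Data Q x y) :
    E4Rel (io x x).1 (io y y).1 (t0 F).1 (tw : Sp4 F).1 := by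
  have hII : io x x * io x x = nI F := by rw [io_mul, h.hx, io_neg_neg]
  have hJJ : io y y * io y y = nI F := by rw [io_mul, h.hy, io_neg_neg]
  have hJI : io y y * io x x = nI F * (io x x * io y y) := by
    rw [io_mul, io_mul, h.hxy, ← io_neg_neg, io_mul]
  have hWT : (tw : Sp4 F) * t0 F = nI F * (t0 F * tw) := by
    have := tw_t0_tw (F := F)
    rw [mul_inv_eq_iff_eq_mul] at this
    rw [this, mul_assoc]
  have hTI : ∀ a : SL2 F, t0 F * io a a = io a a * t0 F := by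
    intro a
    unfold t0
    rw [io_mul, io_mul, negOneSL_comm a, one_mul, mul_one]
  have hWI : ∀ a : SL2 F, (tw : Sp4 F) * io a a = io a a * tw := fun a => tw_io a a
  refine ⟨?_, ?_, ?_, ?_, ?_, ?_, ?_, ?_, ?_, ?_⟩
  · exact congrArg Subtype.val hII
  · exact congrArg Subtype.val hJJ
  · have := congrArg Subtype.val hJI
    rw [nI_mul_val] at this
    exact this
  · exact congrArg Subtype.val (t0_mul_t0 (F := F))
  · exact congrArg Subtype.val (tw_mul_tw (F := F))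
  · have := congrArg Subtype.val hWT
    rw [nI_mul_val] at this
    exact this
  · exact congrArg Subtype.val (hTI x)
  · exact congrArg Subtype.val (hWI x)
  · exact congrArg Subtype.val (hTI y)
  · exact congrArg Subtype.val (hWI y)

theorem io_mem_EQ {Q : Subgroup (SL2 F)} {a : SL2 F} (ha : a ∈ Q) : io a a ∈ EQ Q :=
  Subgroup.mem_sup_left (Subgroup.mem_map_of_mem (dgh F) ha)

theorem t0_mem_EQ (Q : Subgroup (SL2 F)) : t0 F ∈ EQ Q :=
  Subgroup.mem_sup_right (Subgroup.subset_closure (by simp))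

theorem tw_mem_EQ (Q : Subgroup (SL2 F)) : (tw : Sp4 F) ∈ EQ Q :=
  Subgroup.mem_sup_right (Subgroup.subset_closure (by simp))

/-- an element of order dividing 4 mapping the generators of `E` into `E` normalizes `E` -/
theorem mem_normalizer_EQ {Q : Subgroup (SL2 F)} {x y : SL2 F} (h : Q8Data Q x y) (u : Sp4 F)
    (hu4 : u ^ 4 = 1) (hx : u * io x x * u⁻¹ ∈ EQ Q) (hy : u * io y y * u⁻¹ ∈ EQ Q)
    (ht : u * t0 F * u⁻¹ ∈ EQ Q) (hw : u * tw * u⁻¹ ∈ EQ Q) :
    u ∈ Subgroup.normalizer ((EQ Q : Subgroup (Sp4 F)) : Set (Sp4 F)) := by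
  obtain ⟨K, hKdef⟩ : ∃ K : Subgroup (Sp4 F), K = (EQ Q).comap (MulAut.conj u).toMonoidHom :=
    ⟨_, rfl⟩
  have hKmem : ∀ g : Sp4 F, g ∈ K ↔ u * g * u⁻¹ ∈ EQ Q := by
    intro g
    rw [hKdef]
    rfl
  have hK : EQ Q ≤ K := by
    show Q.map (dgh F) ⊔ Subgroup.closure {t0 F, tw} ≤ K
    apply sup_le
    · rw [Subgroup.map_le_iff_le_comap]
      intro q hq
      rw [h.mem] at hq
      have hxH : x ∈ K.comap (dgh F) := (hKmem _).2 hx
      have hyH : y ∈ K.comap (dgh F) := (hKmem _).2 hy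
      have hnH : negOneSL F ∈ K.comap (dgh F) := by
        rw [← h.hx]
        exact Subgroup.mul_mem _ hxH hxH
      rcases hq with rfl | rfl | rfl | rfl | rfl | rfl | rfl | rfl
      · exact Subgroup.one_mem _
      · exact hnH
      · exact hxH
      · exact Subgroup.mul_mem _ hnH hxH
      · exact hyH
      · exact Subgroup.mul_mem _ hnH hyH
      · exact Subgroup.mul_mem _ hxH hyH
      · exact Subgroup.mul_mem _ hnH (Subgroup.mul_mem _ hxH hyH)
    · rw [Subgroup.closure_le]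
      intro g hg
      rcases hg with rfl | hg
      · exact (hKmem _).2 ht
      · rw [Set.mem_singleton_iff] at hg
        rw [hg]
        exact (hKmem _).2 hw
  rw [Subgroup.mem_normalizer_iff]
  intro g
  constructor
  · intro hg
    exact (hKmem g).1 (hK hg)
  · intro hg
    have h1 := (hKmem _).1 (hK hg)
    have h2 := (hKmem _).1 (hK h1)
    have h3 := (hKmem _).1 (hK h2)
    have h4 : u * (u * (u * (u * g * u⁻¹) * u⁻¹) * u⁻¹) * u⁻¹ = g := by
      have e4 : u ^ 4 = u * u * u * u := by rw [pow_succ, pow_succ, pow_succ, pow_one]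
      have e : u * (u * (u * (u * g * u⁻¹) * u⁻¹) * u⁻¹) * u⁻¹ = u ^ 4 * g * (u ^ 4)⁻¹ := by
        rw [e4]; group
      rw [e, hu4, one_mul, inv_one, mul_one]
    rw [← h4]
    exact h3

/-- (E4) -/
theorem exists_u (h2 : (2 : F) ≠ 0) {Q : Subgroup (SL2 F)} {x y w : SL2 F} (h : Q8Data Q x y)
    (hw : OmData x y w) :
    ∃ u₁ u₂ : Sp4 F, u₁ ∈ Subgroup.normalizer ((EQ Q : Subgroup (Sp4 F)) : Set (Sp4 F)) ∧
      u₂ ∈ Subgroup.normalizer ((EQ Q : Subgroup (Sp4 F)) : Set (Sp4 F)) ∧ u₁ ^ 4 = 1 ∧ u₂ ^ 4 = 1 ∧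
      u₁ * u₂ = io w w * (t0 F * tw) := by
  have hR := e4Rel_of_q8 h
  have hR' := hR.swap
  have hxQ : x ∈ Q := (h.mem x).2 (Or.inr (Or.inr (Or.inl rfl)))
  have hyQ : y ∈ Q := (h.mem y).2 (Or.inr (Or.inr (Or.inr (Or.inr (Or.inl rfl)))))
  have hnQ : negOneSL F ∈ Q := (h.mem _).2 (Or.inr (Or.inl rfl))
  have hnE : nI F ∈ EQ Q := by
    rw [← io_neg_neg]
    exact io_mem_EQ hnQ
  have hfmem : (t0 F).1 * (tw : Sp4 F).1 ∈ symplecticGroup (Fin 2) F := (t0 F * tw).2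
  have hu1 := symp_half h2 (io x x).2 hfmem hR.II hR.f_sq
  have hu2 := symp_half h2 (io y y).2 hfmem hR.JJ hR.f_sq
  obtain ⟨u1, hu1v⟩ : ∃ u1 : Sp4 F, u1.1 =
      (2 : F)⁻¹ • ((1 + (io x x).1) * (1 + (t0 F).1 * (tw : Sp4 F).1)) := ⟨⟨_, hu1⟩, rfl⟩
  obtain ⟨u2, hu2v⟩ : ∃ u2 : Sp4 F, u2.1 =
      (2 : F)⁻¹ • ((1 + (io y y).1) * (1 + (t0 F).1 * (tw : Sp4 F).1)) := ⟨⟨_, hu2⟩, rfl⟩
  -- commutation of `u₁` with the generators
  have c1I : u1 * io x x = io x x * u1 := by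
    apply Subtype.ext
    show u1.1 * (io x x).1 = (io x x).1 * u1.1
    rw [hu1v, Matrix.smul_mul, Matrix.mul_smul, hR.m1_I]
  have c1J : u1 * io y y = (io x x * io y y) * u1 := by
    apply Subtype.ext
    show u1.1 * (io y y).1 = ((io x x).1 * (io y y).1) * u1.1
    rw [hu1v, Matrix.smul_mul, Matrix.mul_smul, hR.m1_J]
  have c1T : u1 * t0 F = (nI F * tw) * u1 := by
    apply Subtype.ext
    show u1.1 * (t0 F).1 = (nI F * tw).1 * u1.1
    rw [nI_mul_val, hu1v, Matrix.smul_mul, Matrix.mul_smul, hR.m1_T]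
  have c1W : u1 * tw = t0 F * u1 := by
    apply Subtype.ext
    show u1.1 * (tw : Sp4 F).1 = (t0 F).1 * u1.1
    rw [hu1v, Matrix.smul_mul, Matrix.mul_smul, hR.m1_W]
  have c2J : u2 * io y y = io y y * u2 := by
    apply Subtype.ext
    show u2.1 * (io y y).1 = (io y y).1 * u2.1
    rw [hu2v, Matrix.smul_mul, Matrix.mul_smul, hR'.m1_I]
  have c2I : u2 * io x x = (io y y * io x x) * u2 := by
    apply Subtype.ext
    show u2.1 * (io x x).1 = ((io y y).1 * (io x x).1) * u2.1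
    rw [hu2v, Matrix.smul_mul, Matrix.mul_smul, hR'.m1_J]
  have c2T : u2 * t0 F = (nI F * tw) * u2 := by
    apply Subtype.ext
    show u2.1 * (t0 F).1 = (nI F * tw).1 * u2.1
    rw [nI_mul_val, hu2v, Matrix.smul_mul, Matrix.mul_smul, hR'.m1_T]
  have c2W : u2 * tw = t0 F * u2 := by
    apply Subtype.ext
    show u2.1 * (tw : Sp4 F).1 = (t0 F).1 * u2.1
    rw [hu2v, Matrix.smul_mul, Matrix.mul_smul, hR'.m1_W]
  -- the fourth powers
  have hpow : ∀ (u : Sp4 F) (A : M4),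
      u.1 = (2 : F)⁻¹ • ((1 + A) * (1 + (t0 F).1 * (tw : Sp4 F).1)) →
      (1 + A) * (1 + (t0 F).1 * (tw : Sp4 F).1) * ((1 + A) * (1 + (t0 F).1 * (tw : Sp4 F).1)) =
        A * ((t0 F).1 * (tw : Sp4 F).1) + A * ((t0 F).1 * (tw : Sp4 F).1) +
          (A * ((t0 F).1 * (tw : Sp4 F).1) + A * ((t0 F).1 * (tw : Sp4 F).1)) →
      A * ((t0 F).1 * (tw : Sp4 F).1) * (A * ((t0 F).1 * (tw : Sp4 F).1)) = 1 → u ^ 4 = 1 := by
    intro u A huv hsq hIf
    have e : u ^ 4 = (u * u) * (u * u) := by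
      rw [pow_succ, pow_succ, pow_succ, pow_one, mul_assoc]
    rw [e]
    apply Subtype.ext
    show (u.1 * u.1) * (u.1 * u.1) = 1
    have e2 : u.1 * u.1 = A * ((t0 F).1 * (tw : Sp4 F).1) := by
      rw [huv, Matrix.smul_mul, Matrix.mul_smul, hsq, half_add_self h2, half_add_self h2]
    rw [e2, hIf]
  refine ⟨u1, u2, ?_, ?_, ?_, ?_, ?_⟩
  · apply mem_normalizer_EQ h u1 (hpow u1 _ hu1v hR.m1_sq hR.If_sq)
    · rw [c1I, mul_assoc, mul_inv_cancel, mul_one]
      exact io_mem_EQ hxQ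
    · rw [c1J, mul_assoc, mul_inv_cancel, mul_one]
      exact Subgroup.mul_mem _ (io_mem_EQ hxQ) (io_mem_EQ hyQ)
    · rw [c1T, mul_assoc, mul_inv_cancel, mul_one]
      exact Subgroup.mul_mem _ hnE (tw_mem_EQ Q)
    · rw [c1W, mul_assoc, mul_inv_cancel, mul_one]
      exact t0_mem_EQ Q
  · apply mem_normalizer_EQ h u2 (hpow u2 _ hu2v hR'.m1_sq hR'.If_sq)
    · rw [c2I, mul_assoc, mul_inv_cancel, mul_one]
      exact Subgroup.mul_mem _ (io_mem_EQ hyQ) (io_mem_EQ hxQ)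
    · rw [c2J, mul_assoc, mul_inv_cancel, mul_one]
      exact io_mem_EQ hyQ
    · rw [c2T, mul_assoc, mul_inv_cancel, mul_one]
      exact Subgroup.mul_mem _ hnE (tw_mem_EQ Q)
    · rw [c2W, mul_assoc, mul_inv_cancel, mul_one]
      exact t0_mem_EQ Q
  · exact hpow u1 _ hu1v hR.m1_sq hR.If_sq
  · exact hpow u2 _ hu2v hR'.m1_sq hR'.If_sq
  · apply Subtype.ext
    show u1.1 * u2.1 = (io w w).1 * ((t0 F).1 * (tw : Sp4 F).1)
    rw [hu1v, hu2v, Matrix.smul_mul, Matrix.mul_smul, hR.m1_m2, half_add_self h2, io_val w, hw.val,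
      dM_smul, dM_mul, dM_add, dM_add, dM_one, ← io_val x, ← io_val y, Matrix.smul_mul]

end Cfsg.Agent.Helper67.PSp4
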