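import Mathlib

/-!
# S5045 (helper83), piece (CORE): two general lemmas on `a, e, c` with `t = e * c` of odd order
-/

set_option autoImplicit false

namespace Cfsg.Agent.Helper67.RInv

variable {G : Type*} [Group G]

/-- `e` inverts `t = e * c` -/
theorem CORE_inv_t {e c : G} (he : e * e = 1) (hc : c * c = 1) :
    e * (e * c) * e⁻¹ = (e * c)⁻¹ := by
  have hei : e⁻¹ = e := inv_eq_of_mul_eq_one_right he
  have hci : c⁻¹ = c := inv_eq_of_mul_eq_one_right hc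
  rw [mul_inv_rev, hei, hci, ← mul_assoc, he, one_mul]

theorem CORE_gen_zpow {e t : G} (het : e * t * e⁻¹ = t⁻¹) (j : ℤ) :
    e * t ^ j * e⁻¹ = t ^ (-j) := by
  rw [← conj_zpow, het, inv_zpow, zpow_neg]

theorem CORE_r {e t : G} (het : e * t * e⁻¹ = t⁻¹) (j : ℤ) :
    t ^ j * e * t ^ (-j) = t ^ (2 * j) * e := by
  have h1 := CORE_gen_zpow het (-j)
  rw [neg_neg] at h1
  calc t ^ j * e * t ^ (-j) = t ^ j * (e * t ^ (-j) * e⁻¹) * e := by group
    _ = t ^ j * t ^ j * e := by rw [h1]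
    _ = t ^ (2 * j) * e := by rw [← zpow_add, two_mul]

/-- involutions `x, r` with `(x r)^4 = 1`: `x` commutes with `r x r` -/
theorem CORE_comm_of_pow_four {x r : G} (hx : x * x = 1) (hr : r * r = 1)
    (h4 : (x * r) ^ 4 = 1) : x * (r * x * r) = (r * x * r) * x := by
  have h : x * r * x * r * (x * r * x * r) = 1 := by
    rw [← h4]
    simp only [pow_succ, pow_zero, one_mul, mul_assoc]
  have hxi : x⁻¹ = x := inv_eq_of_mul_eq_one_right hx
  have hri : r⁻¹ = r := inv_eq_of_mul_eq_one_right hr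
  have h2 : (x * r * x * r)⁻¹ = x * r * x * r := inv_eq_of_mul_eq_one_right h
  rw [mul_inv_rev, mul_inv_rev, mul_inv_rev, hxi, hri] at h2
  simpa [mul_assoc] using h2.symm

/-- `a` commutes with all its conjugates under powers of `t` -/
theorem CORE_comm_conj {a e t : G} (ha : a * a = 1) (he : e * e = 1) (hae : a * e = e * a)
    (het : e * t * e⁻¹ = t⁻¹) {n : ℕ} (hn : Odd n) (htn : t ^ n = 1)
    (hH : ∀ j : ℤ, (a * (t ^ j * e * t ^ (-j))) ^ 4 = 1) (k : ℤ) :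
    a * (t ^ k * a * (t ^ k)⁻¹) = (t ^ k * a * (t ^ k)⁻¹) * a := by
  obtain ⟨m, hm⟩ := hn
  have hei : e⁻¹ = e := inv_eq_of_mul_eq_one_right he
  -- the even case
  have heven : ∀ j : ℤ, a * (t ^ (2 * j) * a * (t ^ (2 * j))⁻¹) =
      (t ^ (2 * j) * a * (t ^ (2 * j))⁻¹) * a := by
    intro j
    have hr : (t ^ j * e * t ^ (-j)) * (t ^ j * e * t ^ (-j)) = 1 := by
      calc (t ^ j * e * t ^ (-j)) * (t ^ j * e * t ^ (-j)) = t ^ j * (e * e) * t ^ (-j) := by group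
        _ = 1 := by rw [he]; group
    have hcomm := CORE_comm_of_pow_four ha hr (hH j)
    have hr1 : t ^ j * e * t ^ (-j) = t ^ (2 * j) * e := CORE_r het j
    have hr2 : t ^ j * e * t ^ (-j) = e * (t ^ (2 * j))⁻¹ := by
      have h1 : (t ^ j * e * t ^ (-j))⁻¹ = t ^ j * e * t ^ (-j) := inv_eq_of_mul_eq_one_right hr
      rw [← h1, hr1, mul_inv_rev, hei]
    have hrar : (t ^ j * e * t ^ (-j)) * a * (t ^ j * e * t ^ (-j)) =
        t ^ (2 * j) * a * (t ^ (2 * j))⁻¹ := by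
      calc (t ^ j * e * t ^ (-j)) * a * (t ^ j * e * t ^ (-j))
          = t ^ (2 * j) * e * a * (e * (t ^ (2 * j))⁻¹) := by rw [← hr1, ← hr2]
        _ = t ^ (2 * j) * ((e * a) * e) * (t ^ (2 * j))⁻¹ := by simp only [mul_assoc]
        _ = t ^ (2 * j) * a * (t ^ (2 * j))⁻¹ := by rw [← hae, mul_assoc a, he, mul_one]
    rw [hrar] at hcomm
    exact hcomm
  have hk : t ^ (2 * (k * ((m : ℤ) + 1))) = t ^ k := by
    have h1 : (2 * (k * ((m : ℤ) + 1))) = k * ((n : ℕ) : ℤ) + k := by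
      rw [hm]; push_cast; ring
    rw [h1, zpow_add, zpow_mul', zpow_natCast, htn, one_zpow, one_mul]
  have := heven (k * ((m : ℤ) + 1))
  rw [hk] at this
  exact this

theorem CORE_comm_conj' {a e t : G} (ha : a * a = 1) (he : e * e = 1) (hae : a * e = e * a)
    (het : e * t * e⁻¹ = t⁻¹) {n : ℕ} (hn : Odd n) (htn : t ^ n = 1)
    (hH : ∀ j : ℤ, (a * (t ^ j * e * t ^ (-j))) ^ 4 = 1) (i j : ℤ) :
    Commute (t ^ i * a * (t ^ i)⁻¹) (t ^ j * a * (t ^ j)⁻¹) := by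
  have h := CORE_comm_conj ha he hae het hn htn hH (j - i)
  have h1 : t ^ i * a * (t ^ i)⁻¹ * (t ^ j * a * (t ^ j)⁻¹) =
      t ^ i * (a * (t ^ (j - i) * a * (t ^ (j - i))⁻¹)) * (t ^ i)⁻¹ := by group
  have h2 : t ^ j * a * (t ^ j)⁻¹ * (t ^ i * a * (t ^ i)⁻¹) =
      t ^ i * ((t ^ (j - i) * a * (t ^ (j - i))⁻¹) * a) * (t ^ i)⁻¹ := by group
  show _ = _
  rw [h1, h2, h]

/-- the general form of `core_pow` -/
theorem CORE_gen_pow {a e t : G} (ha : a * a = 1) (he : e * e = 1) (hae : a * e = e * a)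
    (het : e * t * e⁻¹ = t⁻¹) {n : ℕ} (hn : Odd n) (htn : t ^ n = 1)
    (hH : ∀ j : ℤ, (a * (t ^ j * e * t ^ (-j))) ^ 4 = 1) : (a * t) ^ (2 * n) = 1 := by
  have hcc := CORE_comm_conj' ha he hae het hn htn hH
  have key : ∀ k : ℕ, ((a * t) ^ k * (t ^ (k : ℤ))⁻¹) * ((a * t) ^ k * (t ^ (k : ℤ))⁻¹) = 1 ∧
      ∀ j : ℤ, Commute ((a * t) ^ k * (t ^ (k : ℤ))⁻¹) (t ^ j * a * (t ^ j)⁻¹) := by
    intro k
    induction k with
    | zero => simp
    | succ k ih =>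
      have hstep : (a * t) ^ (k + 1) * (t ^ ((k + 1 : ℕ) : ℤ))⁻¹ =
          ((a * t) ^ k * (t ^ (k : ℤ))⁻¹) * (t ^ (k : ℤ) * a * (t ^ (k : ℤ))⁻¹) := by
        rw [pow_succ]
        generalize (a * t) ^ k = w
        push_cast
        rw [zpow_add_one]
        group
      rw [hstep]
      constructor
      · have hxx : (t ^ (k : ℤ) * a * (t ^ (k : ℤ))⁻¹) * (t ^ (k : ℤ) * a * (t ^ (k : ℤ))⁻¹) = 1 := by
          calc (t ^ (k : ℤ) * a * (t ^ (k : ℤ))⁻¹) * (t ^ (k : ℤ) * a * (t ^ (k : ℤ))⁻¹)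
              = t ^ (k : ℤ) * (a * a) * (t ^ (k : ℤ))⁻¹ := by group
            _ = 1 := by rw [ha]; group
        rw [(ih.2 k).symm.mul_mul_mul_comm, ih.1, hxx, one_mul]
      · intro j
        exact (ih.2 j).mul_left (hcc k j)
  have hn2 := (key n).1
  rw [zpow_natCast, htn, inv_one, mul_one] at hn2
  rw [pow_mul', pow_two]
  exact hn2

/-- the general form of `core_not_comm` -/
theorem CORE_gen_not_comm {a e t : G} (he : e * e = 1) (hae : a * e = e * a)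
    (het : e * t * e⁻¹ = t⁻¹) {n : ℕ} (hn : Odd n) (htn : t ^ n = 1)
    (hH : ∀ j : ℤ, (a * (t ^ j * e * t ^ (-j))) ^ 4 = 1) (h2 : (a * t) ^ 2 = 1) : t = 1 := by
  obtain ⟨m, hm⟩ := hn
  have hei : e⁻¹ = e := inv_eq_of_mul_eq_one_right he
  have hat : a * t * a = t⁻¹ := by
    have h : a * t * (a * t) = 1 := by rw [← pow_two]; exact h2
    apply eq_inv_of_mul_eq_one_left
    rw [← h]
    simp only [mul_assoc]
  have hrm : t ^ (m : ℤ) * e * t ^ (-(m : ℤ)) = e * t := by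
    rw [CORE_r het]
    have h1 : t ^ (2 * (m : ℤ)) = t⁻¹ := by
      apply eq_inv_of_mul_eq_one_left
      rw [← zpow_add_one]
      have h3 : (2 * (m : ℤ) + 1) = ((n : ℕ) : ℤ) := by rw [hm]; push_cast; ring
      rw [h3, zpow_natCast, htn]
    rw [h1, ← het, hei, mul_assoc, he, mul_one]
  have h4 := hH m
  rw [hrm] at h4
  have hsq : (a * (e * t)) ^ 2 = t ^ 2 := by
    rw [pow_two, pow_two]
    calc a * (e * t) * (a * (e * t)) = (a * e) * t * a * e * t := by simp only [mul_assoc]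
      _ = e * (a * t * a) * e * t := by rw [hae]; simp only [mul_assoc]
      _ = e * t⁻¹ * e⁻¹ * t := by rw [hat, hei]
      _ = (e * t * e⁻¹)⁻¹ * t := by
          rw [mul_inv_rev, mul_inv_rev, inv_inv]; simp only [mul_assoc]
      _ = t * t := by rw [het, inv_inv]
  have ht4 : t ^ 4 = 1 := by
    have h5 : (a * (e * t)) ^ 4 = ((a * (e * t)) ^ 2) ^ 2 := by rw [← pow_mul]
    rw [h5, hsq, ← pow_mul] at h4
    exact h4
  have hd4 : orderOf t ∣ 2 ^ 2 := orderOf_dvd_of_pow_eq_one ht4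
  have hdn : orderOf t ∣ n := orderOf_dvd_of_pow_eq_one htn
  have hodd : Odd (orderOf t) := Odd.of_dvd_nat ⟨m, hm⟩ hdn
  have h1 : orderOf t = 1 :=
    Nat.Coprime.eq_one_of_dvd (Nat.Coprime.pow_right _ (Nat.coprime_two_right.2 hodd)) hd4
  exact orderOf_eq_one_iff.1 h1

theorem core_pow {a e c : G} (ha : a * a = 1) (he : e * e = 1) (hc : c * c = 1)
    (hae : a * e = e * a) (hodd : Odd (orderOf (e * c)))
    (hH : ∀ j : ℤ, (a * ((e * c) ^ j * e * (e * c) ^ (-j))) ^ 4 = 1) :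
    (a * e * c) ^ (2 * orderOf (e * c)) = 1 := by
  rw [mul_assoc]
  exact CORE_gen_pow ha he hae (CORE_inv_t he hc) hodd (pow_orderOf_eq_one _) hH

theorem core_not_comm {a e c : G} (ha : a * a = 1) (he : e * e = 1) (hc : c * c = 1)
    (hae : a * e = e * a) (hodd : Odd (orderOf (e * c)))
    (hH : ∀ j : ℤ, (a * ((e * c) ^ j * e * (e * c) ^ (-j))) ^ 4 = 1) (hne : e ≠ c) :
    (a * e * c) ^ 2 ≠ 1 := by
  intro h2
  rw [mul_assoc] at h2
  have h1 := CORE_gen_not_comm he hae (CORE_inv_t he hc) hodd (pow_orderOf_eq_one _) hH h2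
  apply hne
  have hci : c⁻¹ = c := inv_eq_of_mul_eq_one_right hc
  rw [← hci]
  exact eq_inv_of_mul_eq_one_left h1

end Cfsg.Agent.Helper67.RInv
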