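import Mathlib
import Cfsg.Prelude.Def_RootSubgroups
import Cfsg.Agent.Helper83.RInv.Defs

/-!
# S5045 (helper83), piece (IN): `closure (Wset D) ∩ D = Wset D`
-/

set_option autoImplicit false
open Cfsg

namespace Cfsg.Agent.Helper67.RInv

open Cfsg.Agent.Helper83.RInv

variable {G : Type*} [Group G]

theorem closure_Wset_inter {D : Set G} (hD : Cfsg.IsRootInvolutionSet D)
    (hN : (Subgroup.closure (Wset D)).Normal) (hP : IsPGroup 2 ↥(Subgroup.closure (Wset D))) :
    (Subgroup.closure (Wset D) : Set G) ∩ D = Wset D := by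
  apply Set.Subset.antisymm
  · rintro d ⟨hdN, hdD⟩
    have key : ∀ b, ¬ Cfsg.OddAdj D d b := by
      rintro b ⟨-, hbD, hne, hodd⟩
      have hbi := inv_eq_of_mem hD hbD
      have hmem : (d * b) ^ 2 ∈ Subgroup.closure (Wset D) := by
        have h1 : (d * b) ^ 2 = d * (b * d * b⁻¹) := by
          rw [hbi, pow_two]
          simp only [mul_assoc]
        rw [h1]
        exact Subgroup.mul_mem _ hdN (hN.conj_mem d hdN b)
      obtain ⟨k, hk⟩ := hP ⟨(d * b) ^ 2, hmem⟩
      have hk' : ((d * b) ^ 2) ^ (2 ^ k) = 1 := by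
        have h2 := congrArg Subtype.val hk
        simpa using h2
      rw [← pow_mul] at hk'
      have hdvd : orderOf (d * b) ∣ 2 * 2 ^ k := orderOf_dvd_of_pow_eq_one hk'
      have h1 : orderOf (d * b) = 1 := by
        refine Nat.Coprime.eq_one_of_dvd ?_ hdvd
        rw [← pow_succ']
        exact Nat.Coprime.pow_right _ (Nat.coprime_two_right.2 hodd)
      have hdb : d * b = 1 := orderOf_eq_one_iff.1 h1
      apply hne
      rw [← hbi]
      exact eq_inv_of_mul_eq_one_left hdb
    exact ⟨hdD, fun b => ⟨key b, fun h => key b (oddAdj_symm h)⟩⟩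
  · intro w hw
    exact ⟨Subgroup.subset_closure hw, hw.1⟩

end Cfsg.Agent.Helper67.RInv
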