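import Cfsg.Agent.Helper70.Syl5

/-!
helper67, for helper95 (S4346), piece (Eleven2): the Sylow `11`-analysis of a simple group of order
`198 * 2 ^ a`, `a ≤ 4`, in which elements of order `11` are self-centralizing (that hypothesis is
piece (Eleven1)).  The wrapper with helper95's exact signature is `Cfsg/Agent/Helper95/S22/Eleven2.lean`.
-/

set_option autoImplicit false
set_option linter.unusedSectionVars false

namespace Cfsg.Agent.Helper67.S22E2

variable {G : Type*} [Group G] [Finite G]

/-- auxiliary: `v_p (p * m) = 1` when `p ∤ m` -/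
theorem factorization_prime_mul_e2 (p m : ℕ) (hp : p.Prime) (hm : ¬ p ∣ m) :
    (p * m).factorization p = 1 := by
  have hm0 : m ≠ 0 := fun h => hm (h ▸ dvd_zero p)
  rw [Nat.factorization_mul hp.ne_zero hm0]
  simp [hp.factorization, Nat.factorization_eq_zero_of_not_dvd hm]

/-- auxiliary: the centralizer of a cyclic subgroup is the centralizer of its generator -/
theorem centralizer_eq_of_forall_mem_zpowers_e2 (H : Subgroup G) (y : G) (hy : y ∈ H)
    (hgen : ∀ x ∈ H, x ∈ Subgroup.zpowers y) :
    Subgroup.centralizer (H : Set G) = Subgroup.centralizer ({y} : Set G) := by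
  ext x
  rw [Subgroup.mem_centralizer_iff, Subgroup.mem_centralizer_iff]
  constructor
  · intro h z hz
    rw [Set.mem_singleton_iff] at hz
    subst hz
    exact h z hy
  · intro h z hz
    obtain ⟨i, rfl⟩ := Subgroup.mem_zpowers_iff.mp (hgen z hz)
    have hc : Commute y x := h y (Set.mem_singleton y)
    exact (hc.zpow_left i).eq

/-- auxiliary: the analysis for one Sylow `11`-subgroup -/
theorem sylow_eleven_aux_e2 [IsSimpleGroup G] [hp : Fact (Nat.Prime 11)]
    (a : ℕ) (ha : a ≤ 4) (hG : Nat.card G = 198 * 2 ^ a)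
    (hcent : ∀ y : G, orderOf y = 11 → Nat.card (Subgroup.centralizer ({y} : Set G)) = 11)
    (Q : Sylow 11 G) :
    a = 4 ∧ Nat.card (Q : Subgroup G) = 11 ∧
      (Subgroup.centralizer ((Q : Subgroup G) : Set G)).relIndex
        (Subgroup.normalizer ((Q : Subgroup G) : Set G)) = 2 := by
  classical
  have h11m : ¬ 11 ∣ 18 * 2 ^ a := by
    interval_cases a <;> norm_num
  have hQ : Nat.card (Q : Subgroup G) = 11 := by
    rw [Q.card_eq_multiplicity, hG, show 198 * 2 ^ a = 11 * (18 * 2 ^ a) by ring,
      factorization_prime_mul_e2 11 _ hp.out h11m, pow_one]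
  set C := Subgroup.centralizer ((Q : Subgroup G) : Set G) with hC
  set N := Subgroup.normalizer ((Q : Subgroup G) : Set G) with hN
  have hCN : C ≤ N := Subgroup.centralizer_le_normalizer _
  have hcyc : IsCyclic (Q : Subgroup G) := isCyclic_of_prime_card (p := 11) hQ
  obtain ⟨g, hg⟩ := IsCyclic.exists_generator (α := (Q : Subgroup G))
  have hog : orderOf (g : G) = 11 := by
    rw [Subgroup.orderOf_coe, orderOf_eq_card_of_forall_mem_zpowers hg, hQ]
  have hCy : C = Subgroup.centralizer ({(g : G)} : Set G) := by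
    apply centralizer_eq_of_forall_mem_zpowers_e2 (Q : Subgroup G) (g : G) g.2
    intro x hx
    obtain ⟨i, hi⟩ := Subgroup.mem_zpowers_iff.mp (hg ⟨x, hx⟩)
    refine Subgroup.mem_zpowers_iff.mpr ⟨i, ?_⟩
    rw [← Subgroup.coe_zpow, hi]
  have hCcard : Nat.card C = 11 := by
    rw [hCy]
    exact hcent (g : G) hog
  -- the index `e = |N : C|` divides `10`
  have key := Subgroup.card_dvd_of_injective _
    (QuotientGroup.kerLift_injective (Q : Subgroup G).normalizerMonoidHom)
  rw [Subgroup.normalizerMonoidHom_ker, ← Subgroup.index, ← Subgroup.relIndex] at key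
  rw [IsCyclic.card_mulAut, hQ, Nat.totient_prime hp.out] at key
  have hNcard : Nat.card N = 11 * C.relIndex N := by
    have h1 := Subgroup.card_mul_index (C.subgroupOf N)
    rw [Nat.card_congr (Subgroup.subgroupOfEquivOfLe hCN).toEquiv, hCcard] at h1
    rw [← h1]
    rfl
  have hNdvd : Nat.card N ∣ Nat.card G := Subgroup.card_subgroup_dvd_card N
  have he18 : C.relIndex N ∣ 18 * 2 ^ a := by
    rw [hNcard, hG, show 198 * 2 ^ a = 11 * (18 * 2 ^ a) by ring] at hNdvd
    exact Nat.dvd_of_mul_dvd_mul_left (by norm_num) hNdvd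
  have he2 : C.relIndex N ∣ 2 := by
    have h1 : C.relIndex N ∣ Nat.gcd (11 - 1) (18 * 2 ^ a) := Nat.dvd_gcd key he18
    have h2 : Nat.gcd (11 - 1) (18 * 2 ^ a) = 2 := by
      interval_cases a <;> decide
    rwa [h2] at h1
  have he : C.relIndex N = 1 ∨ C.relIndex N = 2 := by
    have := (Nat.dvd_prime Nat.prime_two).mp he2
    exact this
  rcases he with he | he
  · exfalso
    have hNC : N ≤ C := by
      rw [← Subgroup.relIndex_eq_one]; exact he
    have hcomp := MonoidHom.ker_transferSylow_isComplement' Q hNC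
    exact Cfsg.Agent.Helper70.Syl.false_of_isComplement' _ _ (MonoidHom.normal_ker _) hcomp
      (by rw [hQ]; norm_num)
      (by rw [hQ, hG]; interval_cases a <;> norm_num)
  · refine ⟨?_, hQ, he⟩
    have hidx : N.index = Nat.card (Sylow 11 G) := (Q.card_eq_index_normalizer).symm
    have hmod := card_sylow_modEq_one 11 G
    have h1 := Subgroup.card_mul_index N
    rw [hNcard, he, hG, hidx] at h1
    have h3 : Nat.card (Sylow 11 G) = 9 * 2 ^ a := by
      have : 11 * 2 * Nat.card (Sylow 11 G) = 11 * 2 * (9 * 2 ^ a) := by rw [h1]; ring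
      exact Nat.eq_of_mul_eq_mul_left (by norm_num) this
    rw [h3] at hmod
    interval_cases a
    · exact absurd hmod (by decide)
    · exact absurd hmod (by decide)
    · exact absurd hmod (by decide)
    · exact absurd hmod (by decide)
    · rfl

/-- the Sylow `11`-analysis: `|G| = 3168` and `|N(Q) : C(Q)| = 2` -/
theorem sylow_eleven_of_cent [IsSimpleGroup G] [Fact (Nat.Prime 11)]
    (a : ℕ) (ha : a ≤ 4) (hG : Nat.card G = 198 * 2 ^ a)
    (hcent : ∀ y : G, orderOf y = 11 → Nat.card (Subgroup.centralizer ({y} : Set G)) = 11) :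
    Nat.card G = 3168 ∧ ∀ Q : Sylow 11 G, Nat.card (Q : Subgroup G) = 11 ∧
      (Subgroup.centralizer ((Q : Subgroup G) : Set G)).relIndex
        (Subgroup.normalizer ((Q : Subgroup G) : Set G)) = 2 := by
  obtain ⟨Q₀⟩ : Nonempty (Sylow 11 G) := inferInstance
  have h4 : a = 4 := (sylow_eleven_aux_e2 a ha hG hcent Q₀).1
  refine ⟨by rw [hG, h4]; norm_num, fun Q => ?_⟩
  exact (sylow_eleven_aux_e2 a ha hG hcent Q).2

end Cfsg.Agent.Helper67.S22E2
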