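import Mathlib
import Cfsg.Agent.Helper62.S6.Defs
import Cfsg.Agent.Helper67.S6C4a
import Cfsg.Agent.Helper10.S6R1
import Cfsg.Agent.Helper10.S6R4c
import Cfsg.Agent.Helper65.S6R2a
import Cfsg.Agent.Helper65.S6R4b
import Cfsg.Agent.Helper65.S6R5

/-!
# S3333 (helper62), piece (C4a), verbatim: `case_C4_iso`

The skeleton statement itself, assembled from `case_C4_iso_core` and the landed pieces
(R1) helper10, (R2a) helper65, (R4b) helper65, (R4c) helper10, (R5) helper65.
`simple_normalClosure_C4a` is the skeleton's own proof of `simple_normalClosure`, with the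
pieces cited from their landed files.
-/

set_option autoImplicit false
open Cfsg

namespace Cfsg.Agent.Helper67.S6

open Cfsg.Agent.Helper62.S6 Cfsg.Agent.Helper62.D8

universe u

variable {G : Type u} [Group G] [Finite G]
variable {S : Subgroup G} {x y t f : G}

/-- (R4) the normal closure of `S` is simple (the skeleton's proof). -/
theorem simple_normalClosure_C4a (h : Cfg S x y t f) (hn : ¬ S.Normal) :
    IsSimpleGroup ↥(Subgroup.normalClosure (S : Set G)) := by
  have hSL : S ≤ Subgroup.normalClosure (S : Set G) := Subgroup.le_normalClosure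
  have : Nontrivial ↥(Subgroup.normalClosure (S : Set G)) := by
    obtain ⟨v, hv, hv1⟩ : ∃ v ∈ S, v ≠ 1 := by
      by_contra hcon
      push Not at hcon
      have : S = ⊥ := by
        rw [eq_bot_iff]
        intro v hv
        exact Subgroup.mem_bot.mpr (hcon v hv)
      have hc := h.card
      rw [this, Subgroup.card_bot] at hc
      omega
    exact ⟨⟨⟨v, hSL hv⟩, 1, fun hc => hv1 (congrArg Subtype.val hc)⟩⟩
  refine ⟨fun K hKn => ?_⟩
  by_cases hKb : K = ⊥
  · exact Or.inl hKb
  right
  set K' : Subgroup G := K.map (Subgroup.normalClosure (S : Set G)).subtype with hK'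
  have hK'L : K' ≤ Subgroup.normalClosure (S : Set G) := by
    rintro _ ⟨k, -, rfl⟩
    exact k.2
  have hLK' : Subgroup.normalClosure (S : Set G) ≤ Subgroup.normalizer (K' : Set G) := by
    intro l hl
    rw [Subgroup.mem_normalizer_iff]
    intro g
    constructor
    · rintro ⟨k, hk, rfl⟩
      exact ⟨⟨l, hl⟩ * k * ⟨l, hl⟩⁻¹, hKn.conj_mem k hk ⟨l, hl⟩, rfl⟩
    · rintro ⟨k, hk, hkg⟩
      refine ⟨⟨l, hl⟩⁻¹ * k * ⟨l, hl⟩, ?_, ?_⟩
      · have := hKn.conj_mem k hk ⟨l, hl⟩⁻¹
        simpa using this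
      · have : ((Subgroup.normalClosure (S : Set G)).subtype k : G) = l * g * l⁻¹ := hkg
        simp only [map_mul, map_inv, Subgroup.subtype_apply] at this ⊢
        rw [this]; group
  have hK'b : K' ≠ ⊥ := by
    intro hc
    apply hKb
    rw [eq_bot_iff]
    intro k hk
    have : (k : G) ∈ K' := ⟨k, hk, rfl⟩
    rw [hc, Subgroup.mem_bot] at this
    exact Subgroup.mem_bot.mpr (Subtype.ext this)
  have h3 : 3 ∣ Nat.card K' := by
    by_contra h3
    exact hK'b (Cfsg.Agent.Helper10.S6.three_prime_eq_bot h K' (hSL.trans hLK') h3)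
  obtain ⟨v, hvK, hvS, hv1⟩ := Cfsg.Agent.Helper65.S6.exists_mem_inf h _ hSL K' hK'L hLK' h3
  by_cases hSK : S ≤ K'
  · have hL := Cfsg.Agent.Helper65.S6.normalClosure_le_of_normalizes h K' hLK' hSK
    rw [eq_top_iff]
    intro l _
    obtain ⟨k, hk, hkl⟩ := hL l.2
    have : k = l := Subtype.ext hkl
    rwa [← this]
  · exact absurd
      (Cfsg.Agent.Helper10.S6.normal_of_inf_order_three h K' hK'L hLK' v hvK hvS hv1 hSK) hn

/-- (C4a) `N ∩ L = S⟨f⟩`: `L ≅ A₆` by S3341.  VERBATIM skeleton statement. -/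
theorem case_C4_iso (h : Cfg S x y t f) (hn : ¬ S.Normal)
    (hf : f ∈ Subgroup.normalClosure (S : Set G)) (ht : t ∉ Subgroup.normalClosure (S : Set G)) :
    Nonempty (↥(Subgroup.normalClosure (S : Set G)) ≃* alternatingGroup (Fin 6)) :=
  case_C4_iso_core h hf ht (simple_normalClosure_C4a h hn)
    (Cfsg.Agent.Helper65.S6.transfer h _ Subgroup.le_normalClosure)

end Cfsg.Agent.Helper67.S6
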