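import Mathlib
import Cfsg.Agent.Helper2.SC3R.Defs

set_option autoImplicit false

namespace Cfsg.Agent.Helper67.SC3R

open Cfsg.Agent.Helper62.SC3 Cfsg.Agent.Helper2.SC3R

universe u v

variable {G : Type u} [Group G]

/-- a normal Hall subgroup consists of the elements killed by its order -/
theorem CHAR_mem_iff {M : Type v} [Group M] [Finite M] (L : Subgroup M) [L.Normal]
    (hco : (Nat.card L).Coprime L.index) (m : M) : m ∈ L ↔ m ^ Nat.card L = 1 := by
  constructor
  · intro hm
    have h := pow_card_eq_one' (x := (⟨m, hm⟩ : L))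
    exact congrArg Subtype.val h
  · intro hm
    have h1 : ((m : M ⧸ L)) ^ Nat.card L = 1 := by
      rw [← QuotientGroup.mk_pow, hm]; rfl
    have h2 : ((m : M ⧸ L)) ^ L.index = 1 := pow_card_eq_one'
    have h3 := pow_gcd_eq_one.mpr ⟨h1, h2⟩
    rw [Nat.Coprime.gcd_eq_one hco, pow_one] at h3
    exact (QuotientGroup.eq_one_iff m).mp h3

/-- (CHAR) a normal Hall subgroup of a normal subgroup is normal. -/
theorem map_normal_of_coprime [Finite G] (M : Subgroup G) [M.Normal] (L : Subgroup M) [L.Normal]
    (hco : (Nat.card L).Coprime L.index) : (L.map M.subtype).Normal := by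
  have hchar : L.Characteristic := by
    rw [Subgroup.characteristic_iff_map_le]
    intro φ
    rintro _ ⟨m, hm, rfl⟩
    have hm' : m ∈ L := hm
    have hm1 := (CHAR_mem_iff L hco m).mp hm'
    refine (CHAR_mem_iff L hco _).mpr ?_
    show (φ m) ^ Nat.card L = 1
    rw [← map_pow, hm1, map_one]
  exact ConjAct.normal_of_characteristic_of_normal

end Cfsg.Agent.Helper67.SC3R
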