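import Mathlib
import Cfsg.Agent.Helper87.AutSystem
import Cfsg.Agent.Helper85.SS.Chain

/-!
# (X1b) for S5287: a saturated fusion system without a chain on a homocyclic group of rank 2

(helper67 for helper85, piece (X1b) of board post #4432.)  `exists_bad_homocyclic_of` takes the
output of piece (X1a) (an automorphism of `C_{p^n} × C_{p^n}` of order prime to `p` fixing no
subgroup of order `p`) as a hypothesis.
-/

set_option autoImplicit false
set_option linter.unusedSectionVars false
set_option linter.unusedVariables false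
set_option linter.style.haveILetI false

namespace Cfsg.Agent.Helper67.SSX1b

open Cfsg Cfsg.FusionSystem Cfsg.Agent.Helper87 Cfsg.Agent.Helper85.SS

variable {Ω : Type*} [Group Ω]

/-- In a group, an element `w` of a cyclic subgroup `zpowers x` with `w ^ p = 1` (where `p` divides
the order of `x`) is a power of `x ^ (orderOf x / p)`. -/
theorem mem_zpowers_pow_of_pow_eq_one {G : Type*} [Group G] {x w : G} {p : ℕ} (hp : 0 < p)
    (hfin : IsOfFinOrder x) (hdvd : p ∣ orderOf x) (hw : w ∈ Subgroup.zpowers x) (hwp : w ^ p = 1) :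
    w ∈ Subgroup.zpowers (x ^ (orderOf x / p)) := by
  obtain ⟨k, hk⟩ := (Submonoid.mem_powers_iff _ _).mp
    ((hfin.mem_powers_iff_mem_zpowers).mpr hw)
  have h1 : x ^ (k * p) = 1 := by rw [pow_mul, hk, hwp]
  have h2 : orderOf x ∣ k * p := orderOf_dvd_of_pow_eq_one h1
  have h3 : orderOf x / p * p = orderOf x := Nat.div_mul_cancel hdvd
  rw [← h3] at h2
  have h4 : orderOf x / p ∣ k := Nat.dvd_of_mul_dvd_mul_right hp h2
  obtain ⟨c, hc⟩ := h4
  refine ⟨(c : ℤ), ?_⟩
  show (x ^ (orderOf x / p)) ^ (c : ℤ) = w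
  rw [zpow_natCast, ← pow_mul, ← hc, hk]

theorem exists_bad_homocyclic_of {S : Subgroup Ω} [Finite S] (p : ℕ) [Fact p.Prime] (n : ℕ)
    (hn : 0 < n)
    (e : ↥S ≃* Multiplicative (ZMod (p ^ n)) × Multiplicative (ZMod (p ^ n)))
    (hX1a : ∃ M : MulAut (Multiplicative (ZMod (p ^ n)) × Multiplicative (ZMod (p ^ n))),
      (orderOf M).Coprime p ∧
      ∀ y : Multiplicative (ZMod (p ^ n)) × Multiplicative (ZMod (p ^ n)), orderOf y = p →
        M y ∉ Subgroup.zpowers y) :
    ∃ F : FusionSystem S, F.IsSaturated p ∧ ¬ HasChain F := by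
  classical
  have hp : p.Prime := Fact.out
  obtain ⟨M, hMcop, hM⟩ := hX1a
  haveI : NeZero (p ^ n) := ⟨(pow_pos hp.pos n).ne'⟩
  -- the transported automorphism
  set M' : MulAut S := MulAut.congr e.symm M with hM'
  have hM'apply : ∀ x : S, M' x = e.symm (M (e x)) := fun x => rfl
  have hordM' : orderOf M' = orderOf M := MulEquiv.orderOf_eq (MulAut.congr e.symm) M
  -- `S` is abelian
  have hcomm : ∀ a b : S, a * b = b * a := by
    intro a b
    apply e.injective
    rw [map_mul, map_mul, mul_comm]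
  -- `S` is a `p`-group
  have hcardA : Nat.card (Multiplicative (ZMod (p ^ n))) = p ^ n := by
    rw [Nat.card_congr (Multiplicative.toAdd (α := ZMod (p ^ n))), Nat.card_eq_fintype_card]
    exact ZMod.card (p ^ n)
  have hcardS : Nat.card S = p ^ (n + n) := by
    rw [Nat.card_congr e.toEquiv, Nat.card_prod, hcardA, pow_add]
  have hT : IsPGroup p S := IsPGroup.of_card hcardS
  set K : Subgroup (MulAut S) := Subgroup.zpowers M' with hKdef
  have hK : Inn S ≤ K := by
    rintro _ ⟨g, rfl⟩
    have : (MulAut.conj g : MulAut S) = 1 := by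
      ext x
      rw [MulAut.conj_apply, MulAut.one_apply, hcomm g x, mul_inv_cancel_right]
    rw [this]
    exact K.one_mem
  refine ⟨autSystem S K hK, ?_, ?_⟩
  · -- saturated
    apply isSaturated_autSystem hT K hK
    rintro κ hκ ⟨k, hk⟩
    have h1 : orderOf κ ∣ p ^ k := orderOf_dvd_of_pow_eq_one hk
    have h2 : orderOf κ ∣ orderOf M' := orderOf_dvd_of_mem_zpowers hκ
    rw [hordM'] at h2
    have h3 : orderOf κ ∣ Nat.gcd (p ^ k) (orderOf M) := Nat.dvd_gcd h1 h2
    have h4 : Nat.gcd (p ^ k) (orderOf M) = 1 := Nat.Coprime.pow_left k hMcop.symm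
    rw [h4, Nat.dvd_one] at h3
    have h5 : κ = 1 := orderOf_eq_one_iff.mp h3
    rw [h5]
    exact (Inn S).one_mem
  · -- no chain
    intro hchain
    have hSbot : ¬ S ≤ ⊥ := by
      intro hle
      have h1 : S = ⊥ := le_bot_iff.mp hle
      have h2 : Nat.card S = 1 := by rw [h1]; exact Subgroup.card_bot
      rw [hcardS] at h2
      have h3 : 1 < p ^ (n + n) := Nat.one_lt_pow (by omega) hp.one_lt
      omega
    obtain ⟨T, T', x, hxS, hTZ, hT'Z, hscT, hscT', hT'⟩ := hchain.exists_step ⊥ hSbot
    have hTbot : T = ⊥ := le_bot_iff.mp hTZ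
    rw [hTbot, bot_sup_eq] at hT'
    have hx1 : x ≠ 1 := by
      intro h
      apply hT'Z
      rw [hT', h, Subgroup.zpowers_one_eq_bot]
    -- `x` has order divisible by `p`
    have hfinx : IsOfFinOrder x := by
      have h0 : IsOfFinOrder (⟨x, hxS⟩ : S) := isOfFinOrder_of_finite _
      obtain ⟨k, hk0, hk⟩ := isOfFinOrder_iff_pow_eq_one.mp h0
      refine isOfFinOrder_iff_pow_eq_one.mpr ⟨k, hk0, ?_⟩
      have := congrArg Subtype.val hk
      simpa using this
    have hox : p ∣ orderOf x := by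
      obtain ⟨k, hk⟩ := hT ⟨x, hxS⟩
      have hk' : x ^ p ^ k = 1 := by
        have := congrArg Subtype.val hk
        simpa using this
      have h1 : orderOf x ∣ p ^ k := orderOf_dvd_of_pow_eq_one hk'
      obtain ⟨c, -, hc⟩ := (Nat.dvd_prime_pow hp).mp h1
      rcases Nat.eq_zero_or_pos c with h0 | h0
      · rw [h0, pow_zero] at hc
        exact absurd (orderOf_eq_one_iff.mp hc) hx1
      · rw [hc]
        exact dvd_pow_self p h0.ne'
    set y : Ω := x ^ (orderOf x / p) with hy
    have hoy : orderOf y = p := by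
      have hne : orderOf x / p ≠ 0 := by
        have hpos : 0 < orderOf x := hfinx.orderOf_pos
        exact (Nat.div_pos (Nat.le_of_dvd hpos hox) hp.pos).ne'
      rw [hy, orderOf_pow_of_dvd hne (Nat.div_dvd_of_dvd hox), Nat.div_div_self hox
        hfinx.orderOf_pos.ne']
    have hyS : y ∈ S := S.pow_mem hxS _
    have hyT' : y ∈ T' := by
      rw [hT', hy]
      exact Subgroup.pow_mem _ (Subgroup.mem_zpowers x) _
    have hRT' : Subgroup.zpowers y ≤ T' := (Subgroup.zpowers_le).mpr hyT'
    have hRS : Subgroup.zpowers y ≤ S := (Subgroup.zpowers_le).mpr hyS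
    -- the restriction of `M'` to `⟨y⟩` is a map of the system
    have hφ : autRestrict hRS M' ∈ (autSystem S K hK).Hom (Subgroup.zpowers y) :=
      ⟨hRS, M', Subgroup.mem_zpowers M', rfl⟩
    have himg := hscT'.2 (Subgroup.zpowers y) hRT' _ hφ ⟨y, Subgroup.mem_zpowers y⟩
    rw [autRestrict_apply] at himg
    -- so `M' y ∈ ⟨x⟩`, of order dividing `p`, hence in `⟨y⟩`
    set yS : S := ⟨y, hyS⟩ with hySdef
    have hoyS : orderOf yS = p := by
      rw [← hoy, ← Subgroup.orderOf_coe]
    have hwp : ((M' yS : S) : Ω) ^ p = 1 := by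
      have h1 : (M' yS) ^ p = 1 := by
        rw [← map_pow, ← hoyS, pow_orderOf_eq_one, map_one]
      have := congrArg Subtype.val h1
      simpa using this
    rw [hT'] at himg
    have hmem : ((M' yS : S) : Ω) ∈ Subgroup.zpowers y :=
      mem_zpowers_pow_of_pow_eq_one hp.pos hfinx hox himg hwp
    obtain ⟨c, hc⟩ := hmem
    have hc' : M' yS = yS ^ c := by
      apply Subtype.ext
      rw [Subgroup.coe_zpow]
      exact hc.symm
    -- transport to the model
    have hoy0 : orderOf (e yS) = p := by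
      rw [MulEquiv.orderOf_eq, hoyS]
    apply hM (e yS) hoy0
    have h1 : M (e yS) = e (M' yS) := by
      rw [hM'apply, MulEquiv.apply_symm_apply]
    rw [h1, hc', map_zpow]
    exact ⟨c, rfl⟩

end Cfsg.Agent.Helper67.SSX1b
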