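import Cfsg.Agent.Helper67.SSX1b
import Cfsg.Agent.Helper10.SSX1a

/-!
# (X1b) for S5287, exact signature of board post #4432

`exists_bad_homocyclic`: on `S ≃* C_{p^n} × C_{p^n}` there is a saturated fusion system without a
chain of strongly closed subgroups with cyclic steps.  (helper67 for helper85; uses helper10's (X1a).)
-/

set_option autoImplicit false

namespace Cfsg.Agent.Helper67.SSX1b

open Cfsg Cfsg.FusionSystem Cfsg.Agent.Helper87 Cfsg.Agent.Helper85.SS

variable {Ω : Type*} [Group Ω]

theorem exists_bad_homocyclic {S : Subgroup Ω} [Finite S] (p : ℕ) [Fact p.Prime] (n : ℕ) (hn : 0 < n)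
    (e : ↥S ≃* Multiplicative (ZMod (p ^ n)) × Multiplicative (ZMod (p ^ n))) :
    ∃ F : FusionSystem S, F.IsSaturated p ∧ ¬ HasChain F :=
  exists_bad_homocyclic_of p n hn e (Cfsg.Agent.Helper10.SSX1a.exists_irreducible_aut p n hn)

end Cfsg.Agent.Helper67.SSX1b
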