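import Mathlib
import Cfsg.Agent.Helper84.SU3P.Defs

/-!
# S2289 (helper84), piece (PHI): the homomorphism from `SL₂(K₀)` given by the `SL₂`-relators
-/

set_option autoImplicit false

namespace Cfsg.Agent.Helper67.SU3P

open Matrix Polynomial Cfsg.Agent.Helper84.RU3 Cfsg.Agent.Helper96.SLPres
  Cfsg.Agent.Helper96.StemSLTwo Cfsg.Agent.Helper96.StPres Cfsg.Agent.Helper84.SU3P

section A

variable {D : Type*} [Group D] {K₀ : Type*} [Field K₀]

/-- (PHI) the homomorphism from `SL₂(K₀)` given by the `SL₂`-relators -/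
theorem exists_phi (d : SLP K₀) (w hL y2 t : D)
    (hrel : ∀ r ∈ d.rels, FreeGroup.lift ![w, hL, y2] r = 1)
    (ht : FreeGroup.lift ![w, hL, y2] d.ww = t) :
    ∃ φ : SL2 K₀ →* D, φ (uMat K₀ 1) = w ∧ φ (dMat d.z d.hz0) = hL ∧ φ (WU 1) = t ∧
      ∀ i, φ (d.pi (PresentedGroup.of i)) = ![w, hL, y2] i := by
  have hrel' : ∀ r ∈ (↑d.rels : Set (FreeGroup (Fin 3))), FreeGroup.lift ![w, hL, y2] r = 1 :=
    fun r hr => hrel r (Finset.mem_coe.1 hr)
  let ψ : PresentedGroup (↑d.rels : Set (FreeGroup (Fin 3))) →* D :=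
    PresentedGroup.toGroup hrel'
  let e : PresentedGroup (↑d.rels : Set (FreeGroup (Fin 3))) ≃* SL2 K₀ :=
    MulEquiv.ofBijective d.pi d.bij
  have key : ∀ x, (ψ.comp e.symm.toMonoidHom) (d.pi x) = ψ x := by
    intro x
    show ψ (e.symm (d.pi x)) = ψ x
    have : e.symm (d.pi x) = x := e.symm_apply_apply x
    rw [this]
  refine ⟨ψ.comp e.symm.toMonoidHom, ?_, ?_, ?_, ?_⟩
  · rw [← d.pi_u, key]
    exact PresentedGroup.toGroup.of hrel'
  · rw [← d.pi_h, key]
    exact PresentedGroup.toGroup.of hrel'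
  · rw [← d.pi_w, key]
    exact ht
  · intro i
    rw [key]
    exact PresentedGroup.toGroup.of hrel'

end A

end Cfsg.Agent.Helper67.SU3P
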