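import Mathlib
import Cfsg.Agent.Helper84.SU3P.Defs
import Cfsg.Agent.Helper79.SU3P_GC
import Cfsg.Agent.Helper53.SU3P_BAS

/-!
# S2289 (helper84), piece (RTH): the good set is stable under the torus, in coordinates
-/

set_option autoImplicit false

namespace Cfsg.Agent.Helper67.SU3P

open Matrix Polynomial Cfsg.Agent.Helper84.RU3 Cfsg.Agent.Helper96.SLPres
  Cfsg.Agent.Helper96.StemSLTwo Cfsg.Agent.Helper96.StPres Cfsg.Agent.Helper84.SU3P

section Dd

variable {K : Type*} [Field K] (bar : K →+* K) (hb : ∀ x, bar (bar x) = x)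
  {D : Type*} [Group D]

/-- the image of a product -/
theorem RTH_mt_mul (π : D →* SUJ bar) (x y : D) :
    mt bar (π (x * y)) = mt bar (π x) * mt bar (π y) := by
  rw [map_mul, mt_mul]

/-- the image of an inverse is a left inverse of the image -/
theorem RTH_mt_inv_mul (π : D →* SUJ bar) (x : D) : mt bar (π x⁻¹) * mt bar (π x) = 1 := by
  rw [map_inv, mt_inv_mul]

/-- the image of an inverse is a right inverse of the image -/
theorem RTH_mt_mul_inv (π : D →* SUJ bar) (x : D) : mt bar (π x) * mt bar (π x⁻¹) = 1 := by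
  rw [map_inv, mt_mul_inv]

include hb

/-- (RTH) the good set is stable under the torus, in coordinates -/
theorem rule_H (π : D →* SUJ bar) (U' H' : Subgroup D) (t : D)
    (hnorm : ∀ h' ∈ H', ∀ x ∈ U', h' * x * h'⁻¹ ∈ U')
    (htH : ∀ h' ∈ H', t * h' * t⁻¹ ∈ H')
    (hπH' : ∀ l : K, l ≠ 0 → ∃ h' ∈ H', mt bar (π h') = hM bar l)
    (a b l : K) (hl : l ≠ 0)
    (hP : ∀ x ∈ U', mt bar (π x) = uM bar a b → Good (U' ⊔ H') t x) :
    ∀ x ∈ U', mt bar (π x) = uM bar (a * bar l ^ 2 / l) (l * bar l * b) → Good (U' ⊔ H') t x := by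
  intro x hx hπx
  obtain ⟨h', hh', hπh'⟩ := hπH' l hl
  have hBAS := (Cfsg.Agent.Helper53.SU3P.basic_identities bar hb).2.2.2.2.1 a b l hl
  -- `x₀ = h'⁻¹ x h'`
  have hx₀ : h'⁻¹ * x * h' ∈ U' := by
    have := hnorm h'⁻¹ (H'.inv_mem hh') x hx
    rwa [inv_inv] at this
  have hπx₀ : mt bar (π (h'⁻¹ * x * h')) = uM bar a b := by
    rw [RTH_mt_mul, RTH_mt_mul, hπx, hπh', mul_assoc, ← hBAS, ← mul_assoc, ← hπh',
      RTH_mt_inv_mul, one_mul]
  have hg := hP _ hx₀ hπx₀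
  have := Cfsg.Agent.Helper79.SU3P.good_conj U' H' t htH _ h' hh' hg
  have e : h' * (h'⁻¹ * x * h') * h'⁻¹ = x := by group
  rwa [e] at this

end Dd

end Cfsg.Agent.Helper67.SU3P
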