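import Mathlib
import Cfsg.Agent.Helper84.SU3P.Defs
import Cfsg.Agent.Helper79.SU3P_GC
import Cfsg.Agent.Helper79.SU3P_GM
import Cfsg.Agent.Helper53.SU3P_BAS
import Cfsg.Agent.Helper32.SU3P_BUR
import Cfsg.Agent.Helper32.SU3P_NB
import Cfsg.Agent.Helper93.SU3P_BUL
import Cfsg.Agent.Helper67.SU3P_RTH

/-!
# S2289 (helper84), piece (RTR): the propagation rule, in coordinates
-/

set_option autoImplicit false

namespace Cfsg.Agent.Helper67.SU3P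

open Matrix Polynomial Cfsg.Agent.Helper84.RU3 Cfsg.Agent.Helper96.SLPres
  Cfsg.Agent.Helper96.StemSLTwo Cfsg.Agent.Helper96.StPres Cfsg.Agent.Helper84.SU3P

section Dd

variable {K : Type*} [Field K] (bar : K →+* K) (hb : ∀ x, bar (bar x) = x)
  {D : Type*} [Group D]

/-- elements of `U' ⊔ H'` are products when `H'` normalises `U'` -/
theorem RTR_mem_sup (U' H' : Subgroup D) (hnorm : ∀ h' ∈ H', ∀ x ∈ U', h' * x * h'⁻¹ ∈ U') :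
    ∀ g ∈ U' ⊔ H', ∃ x ∈ U', ∃ h ∈ H', g = x * h := by
  let S : Subgroup D :=
    { carrier := {g | ∃ x ∈ U', ∃ h ∈ H', g = x * h}
      one_mem' := ⟨1, U'.one_mem, 1, H'.one_mem, (mul_one 1).symm⟩
      mul_mem' := by
        rintro _ _ ⟨x, hx, h, hh, rfl⟩ ⟨x', hx', h', hh', rfl⟩
        refine ⟨x * (h * x' * h⁻¹), U'.mul_mem hx (hnorm h hh x' hx'), h * h', H'.mul_mem hh hh', ?_⟩
        group
      inv_mem' := by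
        rintro _ ⟨x, hx, h, hh, rfl⟩
        refine ⟨h⁻¹ * x⁻¹ * h⁻¹⁻¹, hnorm h⁻¹ (H'.inv_mem hh) x⁻¹ (U'.inv_mem hx), h⁻¹,
          H'.inv_mem hh, ?_⟩
        group }
  have hU : U' ≤ S := fun x hx => ⟨x, hx, 1, H'.one_mem, (mul_one x).symm⟩
  have hH : H' ≤ S := fun h hh => ⟨1, U'.one_mem, h, hh, (one_mul h).symm⟩
  intro g hg
  exact (sup_le hU hH) hg

/-- `u(a,b) h(l)` is upper triangular -/
theorem RTR_upper (a b l : K) :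
    (uM bar a b * hM bar l) 1 0 = 0 ∧ (uM bar a b * hM bar l) 2 0 = 0 ∧
      (uM bar a b * hM bar l) 2 1 = 0 := by
  refine ⟨?_, ?_, ?_⟩ <;> simp [uM, hM, Matrix.mul_apply, Fin.sum_univ_three]

/-- the image of an element of `U' ⊔ H'` is `u(a,b) h(l)` -/
theorem RTR_image (π : D →* SUJ bar) (U' H' : Subgroup D)
    (hnorm : ∀ h' ∈ H', ∀ x ∈ U', h' * x * h'⁻¹ ∈ U')
    (hπU : ∀ x ∈ U', ∃ a b : K, mt bar (π x) = uM bar a b)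
    (hπH : ∀ h' ∈ H', ∃ l : K, l ≠ 0 ∧ mt bar (π h') = hM bar l) :
    ∀ g ∈ U' ⊔ H', ∃ x ∈ U', ∃ h ∈ H', g = x * h ∧ ∃ a b l : K, l ≠ 0 ∧
      mt bar (π x) = uM bar a b ∧ mt bar (π h) = hM bar l ∧
      mt bar (π g) = uM bar a b * hM bar l := by
  intro g hg
  obtain ⟨x, hx, h, hh, rfl⟩ := RTR_mem_sup U' H' hnorm g hg
  obtain ⟨a, b, hab⟩ := hπU x hx
  obtain ⟨l, hl, hhl⟩ := hπH h hh
  exact ⟨x, hx, h, hh, rfl, a, b, l, hl, hab, hhl, by rw [RTH_mt_mul, hab, hhl]⟩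

include hb

/-- the image of `t⁻¹` -/
theorem RTR_mt_t_inv (π : D →* SUJ bar) (t : D) {ε : K} (hε : ε ≠ 0)
    (hπt : mt bar (π t) = tM ε) : mt bar (π t⁻¹) = tM (-ε) := by
  have h1 := ((Cfsg.Agent.Helper53.SU3P.basic_identities bar hb).2.2.2.2.2.1 ε hε).1
  calc mt bar (π t⁻¹) = mt bar (π t⁻¹) * (tM ε * tM (-ε)) := by rw [h1, mul_one]
    _ = (mt bar (π t⁻¹) * mt bar (π t)) * tM (-ε) := by rw [hπt, mul_assoc]
    _ = tM (-ε) := by rw [RTH_mt_inv_mul, one_mul]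

/-- the image of `t x t⁻¹` -/
theorem RTR_mt_conj (π : D →* SUJ bar) (t : D) {ε : K} (hε : ε ≠ 0)
    (hπt : mt bar (π t) = tM ε) (x : D) (a b : K) (hx : mt bar (π x) = uM bar a b) :
    mt bar (π (t * x * t⁻¹)) = tM ε * uM bar a b * tM (-ε) := by
  rw [RTH_mt_mul, RTH_mt_mul, hπt, hx, RTR_mt_t_inv bar hb π t hε hπt]

/-- a good element of `U'` with `b ≠ 0` has `t x t⁻¹ ∈ B t B` -/
theorem RTR_good_cell (π : D →* SUJ bar) (U' H' : Subgroup D) (t : D) {ε : K} (hε : ε ≠ 0)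
    (hεb : bar ε = -ε)
    (hnorm : ∀ h' ∈ H', ∀ x ∈ U', h' * x * h'⁻¹ ∈ U')
    (hπU : ∀ x ∈ U', ∃ a b : K, mt bar (π x) = uM bar a b)
    (hπH : ∀ h' ∈ H', ∃ l : K, l ≠ 0 ∧ mt bar (π h') = hM bar l)
    (hπt : mt bar (π t) = tM ε) (x : D) (a b : K) (hx : mt bar (π x) = uM bar a b) (hb0 : b ≠ 0)
    (hg : Good (U' ⊔ H') t x) :
    ∃ b₁ ∈ U' ⊔ H', ∃ b₂ ∈ U' ⊔ H', t * x * t⁻¹ = b₁ * t * b₂ := by
  rcases hg with hB | h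
  · exfalso
    obtain ⟨x', _, h', _, _, a', b', l', _, _, _, him⟩ :=
      RTR_image bar π U' H' hnorm hπU hπH _ hB
    apply hb0
    apply Cfsg.Agent.Helper32.SU3P.not_upper bar hb hε hεb (a := a) (mt bar (π (t * x * t⁻¹)))
    · rw [him]
      exact (RTR_upper bar a' b' l').2.1
    · exact (RTR_mt_conj bar hb π t hε hπt x a b hx).symm
  · exact h

/-- (RTR) the propagation rule, in coordinates -/
theorem rule_R (π : D →* SUJ bar) (U' H' : Subgroup D) (t : D) {ε : K} (hε : ε ≠ 0)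
    (hεb : bar ε = -ε)
    (hnorm : ∀ h' ∈ H', ∀ x ∈ U', h' * x * h'⁻¹ ∈ U')
    (htH : ∀ h' ∈ H', t * h' * t⁻¹ ∈ H') (ht2 : t ^ 2 ∈ H')
    (hπU : ∀ x ∈ U', ∃ a b : K, mt bar (π x) = uM bar a b)
    (hπH : ∀ h' ∈ H', ∃ l : K, l ≠ 0 ∧ mt bar (π h') = hM bar l)
    (hπt : mt bar (π t) = tM ε)
    (a b s : K) (hab : b + bar b + a * bar a = 0) (hb0 : b ≠ 0) (hs0 : s ≠ 0) (hsb : bar s = -s)
    (hZ : ∃ z ∈ U', mt bar (π z) = uM bar 0 s ∧ Good (U' ⊔ H') t z)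
    (hP : ∀ x ∈ U', mt bar (π x) = uM bar a b → Good (U' ⊔ H') t x)
    (hP' : ∀ x ∈ U', mt bar (π x) = uM bar (a / (ε * bar b)) (-(b + s) / (ε ^ 2 * b * s)) →
      Good (U' ⊔ H') t x) :
    ∀ x ∈ U', mt bar (π x) = uM bar a (b + s) → Good (U' ⊔ H') t x := by
  intro x hx hπx
  obtain ⟨z, hz, hπz, hgz⟩ := hZ
  have hBAS := Cfsg.Agent.Helper53.SU3P.basic_identities bar hb
  have hmul := hBAS.1
  have hconjH := hBAS.2.2.2.2.1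
  -- the image of `z⁻¹`
  have hzz : uM bar 0 s * uM bar 0 (-s) = 1 := by
    have := hBAS.2.1 0 s (by rw [hsb, map_zero]; ring)
    rwa [neg_zero, hsb] at this
  have hπzi : mt bar (π z⁻¹) = uM bar 0 (-s) := by
    calc mt bar (π z⁻¹) = mt bar (π z⁻¹) * (uM bar 0 s * uM bar 0 (-s)) := by rw [hzz, mul_one]
      _ = (mt bar (π z⁻¹) * mt bar (π z)) * uM bar 0 (-s) := by rw [hπz, mul_assoc]
      _ = uM bar 0 (-s) := by rw [RTH_mt_inv_mul, one_mul]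
  -- `x₁ = x z⁻¹`
  have hx₁ : x * z⁻¹ ∈ U' := U'.mul_mem hx (U'.inv_mem hz)
  have hπx₁ : mt bar (π (x * z⁻¹)) = uM bar a b := by
    rw [RTH_mt_mul, hπx, hπzi, hmul]
    congr 1
    · ring
    · rw [mul_zero]; ring
  have hgx₁ := hP _ hx₁ hπx₁
  -- Bruhat cells
  obtain ⟨b₁, hb₁, b₂, hb₂, hcx⟩ :=
    RTR_good_cell bar hb π U' H' t hε hεb hnorm hπU hπH hπt _ a b hπx₁ hb0 hgx₁
  obtain ⟨b₃, hb₃, b₄, hb₄, hcz⟩ :=
    RTR_good_cell bar hb π U' H' t hε hεb hnorm hπU hπH hπt _ 0 s hπz hs0 hgz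
  obtain ⟨x₁', _, h₁', _, _, a₁, c₁, l₁, _, _, _, him₁⟩ :=
    RTR_image bar π U' H' hnorm hπU hπH b₁ hb₁
  obtain ⟨x₂, hx₂, h₂, hh₂, rfl, a₂, c₂, l₂, hl₂, hπx₂, hπh₂, him₂⟩ :=
    RTR_image bar π U' H' hnorm hπU hπH b₂ hb₂
  obtain ⟨x₃, hx₃, h₃, hh₃, rfl, a₃, c₃, l₃, hl₃, hπx₃, hπh₃, him₃⟩ :=
    RTR_image bar π U' H' hnorm hπU hπH b₃ hb₃
  obtain ⟨x₄, _, h₄, _, _, a₄, c₄, l₄, _, _, _, him₄⟩ :=
    RTR_image bar π U' H' hnorm hπU hπH b₄ hb₄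
  -- the right factor of `t x₁ t⁻¹`
  have hR : a₂ = a / (ε * bar b) * bar l₂ ^ 2 / l₂ ∧ c₂ = l₂ * bar l₂ * (-1 / (ε ^ 2 * b)) := by
    apply Cfsg.Agent.Helper32.SU3P.bruhat_right bar hb hε hεb hab hb0 (mt bar (π b₁))
      ⟨by rw [him₁]; exact (RTR_upper bar a₁ c₁ l₁).2.1,
        by rw [him₁]; exact (RTR_upper bar a₁ c₁ l₁).2.2⟩ a₂ c₂ l₂ hl₂
    rw [← RTR_mt_conj bar hb π t hε hπt _ a b hπx₁, hcx, RTH_mt_mul, RTH_mt_mul, hπt, him₂]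
  -- the left factor of `t z t⁻¹`
  have hL : a₃ = 0 / (ε * s) ∧ c₃ = -1 / (ε ^ 2 * s) := by
    apply Cfsg.Agent.Helper93.SU3P.bruhat_left bar hε hεb (a := 0) (b := s)
      (by rw [hsb, map_zero]; ring) hs0 (mt bar (π b₄))
      ⟨by rw [him₄]; exact (RTR_upper bar a₄ c₄ l₄).1,
        by rw [him₄]; exact (RTR_upper bar a₄ c₄ l₄).2.1⟩ a₃ c₃ l₃ hl₃
    rw [← RTR_mt_conj bar hb π t hε hπt _ 0 s hπz, hcz, RTH_mt_mul, RTH_mt_mul, hπt, him₃]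
  -- `y = h₂⁻¹ x₂ h₂ x₃`
  have hy : h₂⁻¹ * x₂ * h₂ * x₃ ∈ U' := by
    refine U'.mul_mem ?_ hx₃
    have := hnorm h₂⁻¹ (H'.inv_mem hh₂) x₂ hx₂
    rwa [inv_inv] at this
  have hπy : mt bar (π (h₂⁻¹ * x₂ * h₂ * x₃)) =
      uM bar (a / (ε * bar b)) (-(b + s) / (ε ^ 2 * b * s)) := by
    have e1 : uM bar a₂ c₂ * hM bar l₂ = hM bar l₂ * uM bar (a / (ε * bar b)) (-1 / (ε ^ 2 * b)) := by
      rw [hR.1, hR.2]
      exact (hconjH _ _ l₂ hl₂).symm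
    rw [RTH_mt_mul, RTH_mt_mul, RTH_mt_mul, hπx₂, hπx₃, mul_assoc (mt bar (π h₂⁻¹)), hπh₂, e1,
      ← mul_assoc, ← hπh₂, RTH_mt_inv_mul, one_mul, hmul, hL.1, hL.2]
    congr 1
    · rw [zero_div, add_zero]
    · rw [zero_div, mul_zero, sub_zero]
      field_simp
      ring
  have hgy := hP' _ hy hπy
  -- `x' = h₂ y h₂⁻¹`
  have hgx' := Cfsg.Agent.Helper79.SU3P.good_conj U' H' t htH _ h₂ hh₂ hgy
  have hx' : h₂ * (h₂⁻¹ * x₂ * h₂ * x₃) * h₂⁻¹ ∈ U' := hnorm h₂ hh₂ _ hy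
  have hprod : x₂ * h₂ * (x₃ * h₃) = h₂ * (h₂⁻¹ * x₂ * h₂ * x₃) * h₂⁻¹ * (h₂ * h₃) := by group
  have := Cfsg.Agent.Helper79.SU3P.good_mul U' H' t htH ht2 (x * z⁻¹) z b₁ (x₂ * h₂) (x₃ * h₃) b₄
    (h₂ * (h₂⁻¹ * x₂ * h₂ * x₃) * h₂⁻¹) (h₂ * h₃) hb₁ hb₄ hcx hcz hx' (H'.mul_mem hh₂ hh₃) hprod hgx'
  have e : x * z⁻¹ * z = x := by group
  rwa [e] at this

end Dd

end Cfsg.Agent.Helper67.SU3P
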