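import Mathlib
import Cfsg.Agent.Helper71.SchDefs

/-!
helper67 (for helper71, WANTED #5897 (A2c), S4394): the case `|P₀ : Z| = p ^ 2` of a Schmidt-type
automorphism: `p ≠ 3`, and for `p = 2` the noncentral elements are not involutions.
-/

set_option autoImplicit false
set_option linter.unusedSectionVars false
set_option linter.unusedVariables false

namespace Cfsg.Agent.Helper67.Sch

open scoped commutatorElement
open Cfsg Cfsg.Agent.Helper71.Sch

section general

variable {P₀ : Type*} [Group P₀]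

/-- iterating an automorphism on an element moved by a fixed central element -/
theorem pow_apply_of_fixed (φ : MulAut P₀) {b z : P₀} (hb : φ b = b * z) (hz : φ z = z) (k : ℕ) :
    (φ ^ k) b = b * z ^ k := by
  induction k with
  | zero => simp
  | succ k ih =>
    rw [pow_succ', MulAut.mul_apply, ih, map_mul, map_pow, hb, hz, pow_succ', mul_assoc]

/-- (Lemma A) an element fixed modulo the centre is central. -/
theorem mem_center_of_fixed_mod [Finite P₀] {p q : ℕ} [Fact p.Prime]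
    (hP : IsPGroup p P₀) (φ : MulAut P₀) (hφ : SchAut p q φ)
    (hfix : ∀ a : P₀, φ a = a ↔ a ∈ Subgroup.center P₀)
    (b : P₀) (hb : b⁻¹ * φ b ∈ Subgroup.center P₀) : b ∈ Subgroup.center P₀ := by
  set z := b⁻¹ * φ b with hz
  have hzfix : φ z = z := (hfix z).2 hb
  have hbz : φ b = b * z := by rw [hz, mul_inv_cancel_left]
  have h1 := pow_apply_of_fixed φ hbz hzfix q
  rw [hφ.pow_q, MulAut.one_apply] at h1
  have hzq : z ^ q = 1 := by
    have : b * z ^ q = b * 1 := by rw [← h1, mul_one]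
    exact mul_left_cancel this
  obtain ⟨k, hk⟩ := hP z
  have hcop : Nat.Coprime (p ^ k) q :=
    Nat.Coprime.pow_left k ((Nat.coprime_primes (Fact.out : p.Prime) hφ.q_prime).2 (Ne.symm hφ.q_ne))
  have hz1 : z = 1 := by
    have h2 : orderOf z ∣ Nat.gcd (p ^ k) q := Nat.dvd_gcd (orderOf_dvd_of_pow_eq_one hk)
      (orderOf_dvd_of_pow_eq_one hzq)
    rw [hcop.gcd_eq_one, Nat.dvd_one, orderOf_eq_one_iff] at h2
    exact h2
  rw [hz1, mul_one] at hbz
  exact (hfix b).1 hbz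

/-- (Lemma B) `q ∣ p ^ 2 - 1`. -/
theorem q_dvd_of_card [Finite P₀] {p q : ℕ} [Fact p.Prime]
    (hP : IsPGroup p P₀) (φ : MulAut P₀) (hφ : SchAut p q φ)
    (hfix : ∀ a : P₀, φ a = a ↔ a ∈ Subgroup.center P₀)
    (hcard : Nat.card P₀ = p ^ 2 * Nat.card (Subgroup.center P₀)) :
    q ∣ p ^ 2 - 1 := by
  have : Fact q.Prime := ⟨hφ.q_prime⟩
  have hord : orderOf φ = q := by
    have h1 : orderOf φ ∣ q := orderOf_dvd_of_pow_eq_one hφ.pow_q
    rcases (Nat.dvd_prime hφ.q_prime).1 h1 with h | h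
    · exact absurd (orderOf_eq_one_iff.1 h) hφ.ne_one
    · exact h
  have hQ : IsPGroup q (Subgroup.zpowers φ) := by
    apply IsPGroup.of_card (n := 1)
    rw [Nat.card_zpowers, hord, pow_one]
  have h1 := hQ.card_modEq_card_fixedPoints P₀
  have h2 : Nat.card (MulAction.fixedPoints (Subgroup.zpowers φ) P₀) =
      Nat.card (Subgroup.center P₀) := by
    apply Nat.card_congr
    apply Equiv.setCongr
    ext a
    simp only [MulAction.mem_fixedPoints, SetLike.mem_coe]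
    constructor
    · intro h
      exact (hfix a).1 (h ⟨φ, Subgroup.mem_zpowers φ⟩)
    · intro ha
      rintro ⟨ψ, hψ⟩
      obtain ⟨k, rfl⟩ := Subgroup.mem_zpowers_iff.1 hψ
      change (φ ^ k) a = a
      have hfa : φ a = a := (hfix a).2 ha
      have hmem : φ ^ k ∈ MulAction.stabilizer (MulAut P₀) a :=
        Subgroup.zpow_mem _ (MulAction.mem_stabilizer_iff.2 hfa) k
      exact MulAction.mem_stabilizer_iff.1 hmem
  rw [h2, hcard] at h1
  obtain ⟨k, hk⟩ := (hP.to_subgroup (Subgroup.center P₀)).exists_card_eq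
  have hcop : Nat.Coprime q (Nat.card (Subgroup.center P₀)) := by
    rw [hk]
    exact Nat.Coprime.pow_right k ((Nat.coprime_primes hφ.q_prime (Fact.out : p.Prime)).2 hφ.q_ne)
  have hp1 : 1 ≤ p ^ 2 := Nat.one_le_pow _ _ (Fact.out : p.Prime).pos
  have h3 : q ∣ p ^ 2 * Nat.card (Subgroup.center P₀) - Nat.card (Subgroup.center P₀) :=
    (Nat.modEq_iff_dvd' (by nlinarith)).1 h1.symm
  have h4 : p ^ 2 * Nat.card (Subgroup.center P₀) - Nat.card (Subgroup.center P₀) =
      (p ^ 2 - 1) * Nat.card (Subgroup.center P₀) := by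
    rw [Nat.sub_mul, one_mul]
  rw [h4] at h3
  exact hcop.dvd_of_dvd_mul_right h3

/-- the centre is proper when `|P₀| = p² |Z|`. -/
theorem exists_not_mem_center [Finite P₀] {p : ℕ} [Fact p.Prime]
    (hcard : Nat.card P₀ = p ^ 2 * Nat.card (Subgroup.center P₀)) :
    ∃ a : P₀, a ∉ Subgroup.center P₀ := by
  by_contra h
  simp only [not_exists, not_not] at h
  have htop : Subgroup.center P₀ = ⊤ := (Subgroup.eq_top_iff' _).2 h
  rw [htop, Subgroup.card_top] at hcard
  have hpos : 0 < Nat.card P₀ := Nat.card_pos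
  have hp1 : 1 < p ^ 2 := Nat.one_lt_pow (by norm_num) (Fact.out : p.Prime).one_lt
  nlinarith

/-- the case `p = 3` is impossible. -/
theorem p_ne_three [Finite P₀] {p q : ℕ} [Fact p.Prime]
    (hP : IsPGroup p P₀) (φ : MulAut P₀) (hφ : SchAut p q φ)
    (hfix : ∀ a : P₀, φ a = a ↔ a ∈ Subgroup.center P₀)
    (hcomm : ∀ x y : P₀, ⁅x, y⁆ ∈ Subgroup.center P₀)
    (hcard : Nat.card P₀ = p ^ 2 * Nat.card (Subgroup.center P₀)) :
    p ≠ 3 := by
  rintro rfl
  have hq := q_dvd_of_card hP φ hφ hfix hcard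
  have hq2 : q = 2 := by
    have h8 : q ∣ 2 ^ 3 := by simpa using hq
    have h2 : q ∣ 2 := hφ.q_prime.dvd_of_dvd_pow h8
    exact (Nat.prime_dvd_prime_iff_eq hφ.q_prime Nat.prime_two).1 h2
  have hφ2 : ∀ a : P₀, φ (φ a) = a := by
    intro a
    have := hφ.pow_q
    rw [hq2, pow_two] at this
    have h := congrArg (fun ψ : MulAut P₀ => ψ a) this
    simpa [MulAut.mul_apply] using h
  obtain ⟨a, ha⟩ := exists_not_mem_center (p := 3) hcard
  -- `b = a φ(a)` is fixed modulo the centre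
  have hb : a * φ a ∈ Subgroup.center P₀ := by
    apply mem_center_of_fixed_mod hP φ hφ hfix
    have : (a * φ a)⁻¹ * φ (a * φ a) = ⁅(φ a)⁻¹, a⁻¹⁆ := by
      rw [map_mul, hφ2, commutatorElement_def]
      group
    rw [this]
    exact hcomm _ _
  -- the centralizer of `a` is a proper invariant subgroup containing `a`
  have hne : Subgroup.centralizer ({a} : Set P₀) ≠ ⊤ := by
    intro h
    rw [Subgroup.centralizer_eq_top_iff_subset] at h
    exact ha (h (Set.mem_singleton a))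
  have hinv : ∀ c ∈ Subgroup.centralizer ({a} : Set P₀), φ c ∈ Subgroup.centralizer ({a} : Set P₀) := by
    intro c hc
    rw [Subgroup.mem_centralizer_singleton_iff] at hc ⊢
    -- hc : c * a = a * c  (or the symmetric form)
    have h1 : φ c * φ a = φ a * φ c := by rw [← map_mul, ← map_mul, hc]
    have hbc : (a * φ a) * φ c = φ c * (a * φ a) := (Subgroup.mem_center_iff.1 hb (φ c)).symm
    -- a * φ a * φ c = φ c * a * φ a, and φ a * φ c = φ c * φ a
    have h2 : a * φ c * φ a = φ c * a * φ a := by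
      calc a * φ c * φ a = a * (φ c * φ a) := by rw [mul_assoc]
        _ = a * (φ a * φ c) := by rw [h1]
        _ = (a * φ a) * φ c := by rw [mul_assoc]
        _ = φ c * (a * φ a) := hbc
        _ = φ c * a * φ a := by rw [mul_assoc]
    exact (mul_right_cancel h2).symm
  have hfa : φ a = a :=
    hφ.min _ hne hinv a (Subgroup.mem_centralizer_singleton_iff.2 rfl)
  exact ha ((hfix a).1 hfa)

/-- central elements of order at most two -/
def Omega (P₀ : Type*) [Group P₀] : Subgroup P₀ where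
  carrier := {z | z ∈ Subgroup.center P₀ ∧ z ^ 2 = 1}
  one_mem' := ⟨Subgroup.one_mem _, one_pow 2⟩
  mul_mem' := by
    rintro a b ⟨ha, ha2⟩ ⟨hb, hb2⟩
    refine ⟨Subgroup.mul_mem _ ha hb, ?_⟩
    have hc : Commute a b := Subgroup.mem_center_iff.1 hb a
    rw [hc.mul_pow, ha2, hb2, one_mul]
  inv_mem' := by
    rintro a ⟨ha, ha2⟩
    exact ⟨Subgroup.inv_mem _ ha, by rw [inv_pow, ha2, inv_one]⟩

theorem mem_Omega {z : P₀} : z ∈ Omega P₀ ↔ z ∈ Subgroup.center P₀ ∧ z ^ 2 = 1 := Iff.rfl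

instance Omega_normal : (Omega P₀).Normal := ⟨fun z hz g => by
  have : g * z * g⁻¹ = z := by rw [Subgroup.mem_center_iff.1 hz.1 g, mul_inv_cancel_right]
  rw [this]; exact hz⟩

/-- in class two with central squares, commutators have order at most two -/
theorem comm_sq_eq_one (hcomm : ∀ x y : P₀, ⁅x, y⁆ ∈ Subgroup.center P₀)
    (hsq : ∀ x : P₀, x ^ 2 ∈ Subgroup.center P₀) (x y : P₀) : ⁅x, y⁆ ^ 2 = 1 := by
  have hc : x * ⁅x, y⁆ = ⁅x, y⁆ * x := Subgroup.mem_center_iff.1 (hcomm x y) x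
  have hx2 : y * x ^ 2 = x ^ 2 * y := Subgroup.mem_center_iff.1 (hsq x) y
  calc ⁅x, y⁆ ^ 2 = ⁅x, y⁆ * x * (y * x⁻¹ * y⁻¹) := by
        rw [pow_two]; nth_rewrite 2 [commutatorElement_def]; group
    _ = x * ⁅x, y⁆ * (y * x⁻¹ * y⁻¹) := by rw [hc]
    _ = x * x * y * (x * x)⁻¹ * y⁻¹ := by rw [commutatorElement_def]; group
    _ = 1 := by rw [← pow_two, ← hx2, mul_inv_cancel_right, mul_inv_cancel]

theorem comm_mem_Omega (hcomm : ∀ x y : P₀, ⁅x, y⁆ ∈ Subgroup.center P₀)
    (hsq : ∀ x : P₀, x ^ 2 ∈ Subgroup.center P₀) (x y : P₀) : ⁅x, y⁆ ∈ Omega P₀ :=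
  ⟨hcomm x y, comm_sq_eq_one hcomm hsq x y⟩

theorem quot_comm (hcomm : ∀ x y : P₀, ⁅x, y⁆ ∈ Subgroup.center P₀)
    (hsq : ∀ x : P₀, x ^ 2 ∈ Subgroup.center P₀) (a b : P₀ ⧸ Omega P₀) : a * b = b * a := by
  induction a using QuotientGroup.induction_on with
  | H x =>
    induction b using QuotientGroup.induction_on with
    | H y =>
      rw [← QuotientGroup.mk_mul, ← QuotientGroup.mk_mul, QuotientGroup.eq]
      have : (x * y)⁻¹ * (y * x) = ⁅y⁻¹, x⁻¹⁆ := by rw [commutatorElement_def]; group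
      rw [this]
      exact comm_mem_Omega hcomm hsq _ _

/-- rearranging a product of six factors in a group in which everything commutes -/
theorem mul6_comm {A : Type*} [Group A] (h : ∀ a b : A, a * b = b * a) (a₀ a₁ a₂ b₀ b₁ b₂ : A) :
    a₀ * b₀ * (a₁ * b₁) * (a₂ * b₂) = a₀ * a₁ * a₂ * (b₀ * b₁ * b₂) := by
  calc a₀ * b₀ * (a₁ * b₁) * (a₂ * b₂) = a₀ * (b₀ * a₁) * b₁ * (a₂ * b₂) := by group
    _ = a₀ * (a₁ * b₀) * b₁ * (a₂ * b₂) := by rw [h b₀ a₁]
    _ = a₀ * a₁ * (b₀ * b₁ * a₂) * b₂ := by group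
    _ = a₀ * a₁ * (a₂ * (b₀ * b₁)) * b₂ := by rw [h (b₀ * b₁) a₂]
    _ = a₀ * a₁ * a₂ * (b₀ * b₁ * b₂) := by group

/-- the kernel of the norm map `x ↦ x φ(x) φ²(x)` modulo `Omega`. -/
def normKer (φ : MulAut P₀) (hA : ∀ a b : P₀ ⧸ Omega P₀, a * b = b * a) : Subgroup P₀ where
  carrier := {x | x * φ x * φ (φ x) ∈ Omega P₀}
  one_mem' := by
    change (1 : P₀) * φ 1 * φ (φ 1) ∈ Omega P₀
    simp
  mul_mem' := by
    intro x y hx hy
    change x * φ x * φ (φ x) ∈ Omega P₀ at hx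
    change y * φ y * φ (φ y) ∈ Omega P₀ at hy
    change x * y * φ (x * y) * φ (φ (x * y)) ∈ Omega P₀
    rw [← QuotientGroup.eq_one_iff] at hx hy ⊢
    simp only [map_mul, QuotientGroup.mk_mul] at hx hy ⊢
    rw [mul6_comm hA, hx, hy, one_mul]
  inv_mem' := by
    intro x hx
    change x * φ x * φ (φ x) ∈ Omega P₀ at hx
    change x⁻¹ * φ x⁻¹ * φ (φ x⁻¹) ∈ Omega P₀
    rw [← QuotientGroup.eq_one_iff] at hx ⊢
    simp only [map_inv, QuotientGroup.mk_mul, QuotientGroup.mk_inv] at hx ⊢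
    have h1 : (↑x : P₀ ⧸ Omega P₀)⁻¹ * (↑(φ x))⁻¹ * (↑(φ (φ x)))⁻¹ =
        ((↑(φ (φ x)) : P₀ ⧸ Omega P₀) * ↑(φ x) * ↑x)⁻¹ := by group
    have h2 : (↑(φ (φ x)) : P₀ ⧸ Omega P₀) * ↑(φ x) * ↑x = ↑x * ↑(φ x) * ↑(φ (φ x)) := by
      rw [hA (↑(φ (φ x))) (↑(φ x)), hA (↑(φ x) * ↑(φ (φ x))) (↑x), mul_assoc]
    rw [h1, h2, hx, inv_one]

theorem mem_normKer (φ : MulAut P₀) (hA : ∀ a b : P₀ ⧸ Omega P₀, a * b = b * a) {x : P₀} :
    x ∈ normKer φ hA ↔ x * φ x * φ (φ x) ∈ Omega P₀ := Iff.rfl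

/-- for `p = 2`, `q = 3`: no noncentral involutions. -/
theorem no_involution [Finite P₀] {p q : ℕ} [Fact p.Prime]
    (hP : IsPGroup p P₀) (φ : MulAut P₀) (hφ : SchAut p q φ)
    (hfix : ∀ a : P₀, φ a = a ↔ a ∈ Subgroup.center P₀)
    (hcomm : ∀ x y : P₀, ⁅x, y⁆ ∈ Subgroup.center P₀)
    (hsq : ∀ x : P₀, x ^ 2 ∈ Subgroup.center P₀)
    (hφ3 : ∀ a : P₀, φ (φ (φ a)) = a)
    (u : P₀) (hu : u ∉ Subgroup.center P₀) (hu2 : u ^ 2 = 1) : False := by
  have hA := quot_comm hcomm hsq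
  -- the norm kernel is invariant
  have hMinv : ∀ a ∈ normKer φ hA, φ a ∈ normKer φ hA := by
    intro x hx
    rw [mem_normKer] at hx ⊢
    rw [hφ3]
    rw [← QuotientGroup.eq_one_iff] at hx ⊢
    simp only [QuotientGroup.mk_mul] at hx ⊢
    rw [hA, ← mul_assoc]
    exact hx
  -- it contains all `x⁻¹ φ(x)`
  have hMD : ∀ x : P₀, x⁻¹ * φ x ∈ normKer φ hA := by
    intro x
    rw [mem_normKer]
    have : x⁻¹ * φ x * φ (x⁻¹ * φ x) * φ (φ (x⁻¹ * φ x)) = 1 := by
      simp only [map_mul, map_inv, hφ3]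
      group
    rw [this]
    exact Subgroup.one_mem _
  -- hence it is everything
  have hMtop : normKer φ hA = ⊤ := by
    by_contra hM
    have h1 := hφ.min _ hM hMinv
    apply hu
    apply mem_center_of_fixed_mod hP φ hφ hfix
    exact (hfix _).1 (h1 _ (hMD u))
  have huM : u ∈ normKer φ hA := by rw [hMtop]; trivial
  rw [mem_normKer] at huM
  obtain ⟨hnZ, hn2⟩ := huM
  set v := φ u with hv
  set w := φ v with hw
  set n := u * v * w with hn
  have hv2 : v ^ 2 = 1 := by rw [hv, ← map_pow, hu2, map_one]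
  have hw2 : w ^ 2 = 1 := by rw [hw, ← map_pow, hv2, map_one]
  have hφw : φ w = u := hφ3 u
  -- `u` and `v` commute
  have hw' : w = (u * v)⁻¹ * n := by rw [hn]; group
  have hnc : ∀ g : P₀, g * n = n * g := Subgroup.mem_center_iff.1 hnZ
  have huv2 : (u * v)⁻¹ * (u * v)⁻¹ = 1 := by
    have h1 : w ^ 2 = (u * v)⁻¹ * (u * v)⁻¹ * n ^ 2 := by
      rw [hw', pow_two, pow_two]
      calc (u * v)⁻¹ * n * ((u * v)⁻¹ * n) = (u * v)⁻¹ * (n * (u * v)⁻¹) * n := by group
        _ = (u * v)⁻¹ * ((u * v)⁻¹ * n) * n := by rw [← hnc (u * v)⁻¹]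
        _ = (u * v)⁻¹ * (u * v)⁻¹ * (n * n) := by group
    rw [hw2, hn2, mul_one] at h1
    exact h1.symm
  have huinv : u⁻¹ = u := by
    rw [inv_eq_iff_mul_eq_one, ← pow_two, hu2]
  have hvinv : v⁻¹ = v := by
    rw [inv_eq_iff_mul_eq_one, ← pow_two, hv2]
  have huv : u * v = v * u := by
    have h1 : (u * v)⁻¹ = u * v := by
      have := huv2
      rw [mul_eq_one_iff_eq_inv, inv_inv] at this
      exact this
    rw [mul_inv_rev, huinv, hvinv] at h1
    exact h1.symm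
  have hvw : v * w = w * v := by
    have := congrArg φ huv
    rwa [map_mul, map_mul] at this
  have hwu : w * u = u * w := by
    have := congrArg φ hvw
    rwa [map_mul, map_mul, hφw] at this
  -- the centralizer of `{u, v, w}` is invariant and contains `u`
  have hCinv : ∀ g ∈ Subgroup.centralizer ({u, v, w} : Set P₀),
      φ g ∈ Subgroup.centralizer ({u, v, w} : Set P₀) := by
    intro g hg
    rw [Subgroup.mem_centralizer_iff] at hg ⊢
    intro h hh
    simp only [Set.mem_insert_iff, Set.mem_singleton_iff] at hh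
    rcases hh with rfl | rfl | rfl
    · have := congrArg φ (hg w (by simp))
      rwa [map_mul, map_mul, hφw] at this
    · have := congrArg φ (hg u (by simp))
      rwa [map_mul, map_mul] at this
    · have := congrArg φ (hg v (by simp))
      rwa [map_mul, map_mul] at this
  have huC : u ∈ Subgroup.centralizer ({u, v, w} : Set P₀) := by
    rw [Subgroup.mem_centralizer_iff]
    intro h hh
    simp only [Set.mem_insert_iff, Set.mem_singleton_iff] at hh
    rcases hh with rfl | rfl | rfl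
    · rfl
    · exact huv.symm
    · exact hwu
  by_cases hC : Subgroup.centralizer ({u, v, w} : Set P₀) = ⊤
  · rw [Subgroup.centralizer_eq_top_iff_subset] at hC
    exact hu (hC (by simp))
  · exact hu ((hfix u).1 (hφ.min _ hC hCinv u huC))

end general

/-- **(A2c)** the case `|P₀ : Z| = p ^ 2` (exact stub signature). -/
theorem small_of_schAut {P₀ : Type*} [Group P₀] [Finite P₀] {p q : ℕ} [Fact p.Prime]
    (hP : IsPGroup p P₀) (φ : MulAut P₀) (hφ : SchAut p q φ)
    (hfix : ∀ a : P₀, φ a = a ↔ a ∈ Subgroup.center P₀)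
    (hcomm : ∀ x y : P₀, ⁅x, y⁆ ∈ Subgroup.center P₀)
    (hpow : ∀ x : P₀, x ^ p ∈ Subgroup.center P₀)
    (hcard : Nat.card P₀ = p ^ 2 * Nat.card (Subgroup.center P₀)) :
    p ≠ 3 ∧ (p = 2 → ∀ u : P₀, u ∉ Subgroup.center P₀ → u ^ 2 ≠ 1) := by
  refine ⟨p_ne_three hP φ hφ hfix hcomm hcard, ?_⟩
  rintro rfl u hu hu2
  have hq := q_dvd_of_card hP φ hφ hfix hcard
  have hq3 : q = 3 := by
    have h3 : q ∣ 3 := by simpa using hq
    exact (Nat.prime_dvd_prime_iff_eq hφ.q_prime Nat.prime_three).1 h3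
  have hφ3 : ∀ a : P₀, φ (φ (φ a)) = a := by
    intro a
    have := hφ.pow_q
    rw [hq3, pow_succ, pow_two] at this
    have h := congrArg (fun ψ : MulAut P₀ => ψ a) this
    simpa [MulAut.mul_apply] using h
  exact no_involution hP φ hφ hfix hcomm hpow hφ3 u hu hu2

end Cfsg.Agent.Helper67.Sch
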