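import Cfsg.Agent.Helper11.Spec5.Defs

/-!
# S2512 (helper11), piece (T2a): `pair_order`
-/

set_option autoImplicit false

namespace Cfsg.Agent.Helper67.Spec5

open Matrix Polynomial Cfsg.Agent.Helper43.SpReg Cfsg.Agent.Helper11.Spec5 Cfsg.Agent.S0246

section gen

variable {F : Type*} [Field F]

/-- reflecting a polynomial: `P(y) x^N = (reflect N P)(x)` for mutually inverse `x, y` -/
theorem T2a_reflect {R : Type*} [Ring R] [Algebra F R] (x y : R) (hyx : y * x = 1)
    (N : ℕ) (P : F[X]) (hP : P.natDegree ≤ N) :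
    aeval y P * x ^ N = aeval x (reflect N P) := by
  refine induction_with_natDegree_le (fun P => aeval y P * x ^ N = aeval x (reflect N P)) N
    ?_ ?_ ?_ P hP
  · simp
  · intro k r _ hk
    have hpow : y ^ k * x ^ N = x ^ (N - k) := by
      have h1 : ∀ j : ℕ, y ^ j * x ^ j = 1 := by
        intro j
        induction j with
        | zero => simp
        | succ j ih =>
          rw [pow_succ, pow_succ', mul_assoc, ← mul_assoc y, hyx, one_mul, ih]
      conv_lhs => rw [← Nat.add_sub_cancel' hk, pow_add, ← mul_assoc, h1, one_mul]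
    simp only [reflect_C_mul_X_pow, revAt_le hk, map_mul, aeval_C, map_pow, aeval_X]
    rw [mul_assoc, hpow]
  · intro p q _ _ hp hq
    simp only [map_add, add_mul, reflect_add, hp, hq]

end gen

section sp

variable {F : Type*} [Field F] {n : ℕ}

theorem T2a_adj_pow (s : Mat n F) (k : ℕ) : adj (s ^ k) = (adj s) ^ k := by
  induction k with
  | zero => simp [adj_one]
  | succ k ih => rw [pow_succ, adj_mul, ih, ← pow_succ']

theorem T2a_adj_aeval (s : Mat n F) (P : F[X]) : adj (aeval s P) = aeval (adj s) P := by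
  induction P using Polynomial.induction_on' with
  | add p q hp hq => rw [map_add, map_add, adj_add, hp, hq]
  | monomial k a =>
    rw [← C_mul_X_pow_eq_monomial, map_mul, map_mul, aeval_C, aeval_C, map_pow, map_pow, aeval_X,
      aeval_X, Algebra.algebraMap_eq_smul_one, smul_mul_assoc, one_mul, smul_mul_assoc, one_mul,
      adj_smul, T2a_adj_pow]

/-- a matrix whose image is totally isotropic has rank at most `n` -/
theorem T2a_rank_le (A : Mat n F) (hA : adj A * A = 0) : A.rank ≤ n := by
  have h1 : Aᵀ * (Matrix.J (Fin n) F * A) = 0 := by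
    have h2 : Matrix.J (Fin n) F * (adj A * A) = 0 := by rw [hA, mul_zero]
    unfold adj at h2
    have hJ := Matrix.J_squared (Fin n) F
    have h3 : Matrix.J (Fin n) F * (-(Matrix.J (Fin n) F) * Aᵀ * Matrix.J (Fin n) F * A) =
        -(Matrix.J (Fin n) F * Matrix.J (Fin n) F) * (Aᵀ * (Matrix.J (Fin n) F * A)) := by
      simp only [mul_neg, neg_mul, mul_assoc]
    rw [h3, hJ, neg_neg, one_mul] at h2
    exact h2
  have h4 := Matrix.rank_add_rank_le_card_of_mul_eq_zero h1
  rw [Matrix.rank_transpose, Matrix.rank_mul_eq_right_of_isUnit_det _ _ (Matrix.isUnit_det_J _ _),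
    Fintype.card_sum, Fintype.card_fin] at h4
  omega

/-- degree comparison from the isotropy of `im f(s)` -/
theorem T2a_deg_le (s : Mat n F) (hs : s ∈ symplecticGroup (Fin n) F) (f h : F[X])
    (hf0 : f ≠ 0) (hmin : minpoly F s = f * h)
    (hfi : adj (aeval s f) * aeval s f = 0) : h.natDegree ≤ f.natDegree := by
  have hσs : adj s * s = 1 := adj_mul_self_of_mem hs
  have hrefl := T2a_reflect (F := F) s (adj s) hσs f.natDegree f le_rfl
  rw [T2a_adj_aeval] at hfi
  have hcomm : s ^ f.natDegree * aeval s f = aeval s f * s ^ f.natDegree := by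
    rw [← aeval_X_pow (R := F) s, ← map_mul, ← map_mul, mul_comm]
  have h1 : aeval s (reflect f.natDegree f) * aeval s f = 0 := by
    rw [← hrefl, mul_assoc, hcomm, ← mul_assoc, hfi, zero_mul]
  rw [← map_mul] at h1
  have h2 : minpoly F s ∣ reflect f.natDegree f * f := minpoly.dvd F s h1
  rw [hmin, mul_comm f h] at h2
  have h3 : h ∣ reflect f.natDegree f := (mul_dvd_mul_iff_right hf0).1 h2
  have h4 : reflect f.natDegree f ≠ 0 := by
    have : f.reverse ≠ 0 := fun hc => hf0 (reverse_eq_zero.1 hc)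
    exact this
  calc h.natDegree ≤ (reflect f.natDegree f).natDegree := natDegree_le_of_dvd h3 h4
    _ ≤ f.natDegree := reverse_natDegree_le f

theorem T2a_finrank_ker (A : Mat n F) :
    Module.finrank F (LinearMap.ker (Matrix.toLin' A)) + A.rank = 2 * n := by
  have h := LinearMap.finrank_range_add_finrank_ker (Matrix.toLin' A)
  rw [Matrix.toLin'_apply'] at h ⊢
  have h2 : A.rank = Module.finrank F (LinearMap.range A.mulVecLin) := rfl
  rw [Module.finrank_fintype_fun_eq_card, Fintype.card_sum, Fintype.card_fin] at h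
  omega

end sp

section main

variable {F : Type*} [Field F] [Fintype F] {n : ℕ}

theorem pair_order (hn : 1 ≤ n) (s : Mat n F) (hs : s ∈ symplecticGroup (Fin n) F) (m : ℕ)
    (hm : (m : F) ≠ 0) (hsm : s ^ m = 1) (f h : F[X]) (hf : Irreducible f) (hh : Irreducible h)
    (hcop : IsCoprime f h) (hmin : minpoly F s = f * h)
    (hfi : adj (aeval s f) * aeval s f = 0) (hhi : adj (aeval s h) * aeval s h = 0) :
    ∃ d : ℕ, f.natDegree = d ∧ h.natDegree = d ∧
      Module.finrank F (LinearMap.ker (Matrix.toLin' (aeval s f))) = n ∧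
      Module.finrank F (LinearMap.ker (Matrix.toLin' (aeval s h))) = n ∧
      s ^ (Fintype.card F ^ d - 1) = 1 := by
  have hle1 : h.natDegree ≤ f.natDegree := T2a_deg_le s hs f h hf.ne_zero hmin hfi
  have hle2 : f.natDegree ≤ h.natDegree :=
    T2a_deg_le s hs h f hh.ne_zero (by rw [hmin, mul_comm]) hhi
  have hdeg : h.natDegree = f.natDegree := le_antisymm hle1 hle2
  -- the dimensions
  have hrA := T2a_rank_le _ hfi
  have hrB := T2a_rank_le _ hhi
  have hkA := T2a_finrank_ker (aeval s f)
  have hkB := T2a_finrank_ker (aeval s h)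
  have hdisj : Disjoint (LinearMap.ker (Matrix.toLin' (aeval s f)))
      (LinearMap.ker (Matrix.toLin' (aeval s h))) := by
    rw [Submodule.disjoint_def]
    intro v hvA hvB
    rw [LinearMap.mem_ker, Matrix.toLin'_apply] at hvA hvB
    obtain ⟨a, b, hab⟩ := hcop
    have h1 : aeval s (a * f + b * h) = 1 := by rw [hab, map_one]
    have h2 : (aeval s (a * f + b * h)).mulVec v = 0 := by
      rw [map_add, map_mul, map_mul, Matrix.add_mulVec, ← Matrix.mulVec_mulVec,
        ← Matrix.mulVec_mulVec, hvA, hvB, Matrix.mulVec_zero, Matrix.mulVec_zero, add_zero]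
    rw [h1, Matrix.one_mulVec] at h2
    exact h2
  have hsum := Submodule.finrank_add_finrank_le_of_disjoint hdisj
  rw [Module.finrank_fintype_fun_eq_card, Fintype.card_sum, Fintype.card_fin] at hsum
  refine ⟨f.natDegree, rfl, hdeg, by omega, by omega, ?_⟩
  -- the order
  have hq : Nat.card F = Fintype.card F := Nat.card_eq_fintype_card
  have hfd : f ∣ X ^ (Nat.card F) ^ f.natDegree - X :=
    hf.natDegree_dvd_iff_dvd_X_pow_card_pow_sub_X.1 dvd_rfl
  have hhd : h ∣ X ^ (Nat.card F) ^ f.natDegree - X :=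
    hh.natDegree_dvd_iff_dvd_X_pow_card_pow_sub_X.1 (by rw [hdeg])
  have hfh : f * h ∣ X ^ (Nat.card F) ^ f.natDegree - X := hcop.mul_dvd hfd hhd
  rw [← hmin, hq] at hfh
  obtain ⟨g, hg⟩ := hfh
  have h0 : aeval s (X ^ (Fintype.card F) ^ f.natDegree - X : F[X]) = 0 := by
    rw [hg, map_mul, minpoly.aeval, zero_mul]
  rw [map_sub, map_pow, aeval_X, sub_eq_zero] at h0
  have hpos : 0 < Fintype.card F ^ f.natDegree := pow_pos Fintype.card_pos _
  have hσs : adj s * s = 1 := adj_mul_self_of_mem hs
  have hsσ : s * adj s = 1 := mul_eq_one_comm.1 hσs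
  have h3 : s ^ (Fintype.card F ^ f.natDegree - 1) * s = s := by
    rw [← pow_succ, Nat.sub_add_cancel hpos, h0]
  calc s ^ (Fintype.card F ^ f.natDegree - 1)
      = s ^ (Fintype.card F ^ f.natDegree - 1) * (s * adj s) := by rw [hsσ, mul_one]
    _ = (s ^ (Fintype.card F ^ f.natDegree - 1) * s) * adj s := by rw [mul_assoc]
    _ = s * adj s := by rw [h3]
    _ = 1 := hsσ

end main

end Cfsg.Agent.Helper67.Spec5
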