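import Mathlib
import Cfsg.Prelude.Def_KGroupFacts
import Cfsg.Agent.Helper96.UceCover
import Cfsg.Agent.Helper5.SLn

/-!
helper67 (for helper96, WANTED #6285 (G2), S2086): the Schur multiplier of `PSL_n(F)` from the
central closedness of `SL_n(F)`.
-/

set_option autoImplicit false
set_option linter.unusedSectionVars false
set_option linter.unusedVariables false

namespace Cfsg.Agent.Helper67.StLiftG2

open Matrix

universe u

theorem card_center_SL {F : Type u} [Field F] [Fintype F] (n : ℕ) (hn : 0 < n) :
    Nat.card (Subgroup.center (SpecialLinearGroup (Fin n) F)) =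
      Nat.gcd n (Fintype.card F - 1) := by
  have : NeZero n := ⟨hn.ne'⟩
  rw [Nat.card_congr (Matrix.SpecialLinearGroup.center_equiv_rootsOfUnity' (0 : Fin n)).toEquiv,
    Fintype.card_fin, rootsOfUnity_eq_ker, IsCyclic.card_powMonoidHom_ker, Nat.card_units,
    Nat.card_eq_fintype_card, Nat.gcd_comm]

theorem isCyclic_center_SL {F : Type u} [Field F] [Fintype F] (n : ℕ) (hn : 0 < n) :
    IsCyclic (Subgroup.center (SpecialLinearGroup (Fin n) F)) := by
  have : NeZero n := ⟨hn.ne'⟩
  have : NeZero (Fintype.card (Fin n)) := ⟨by rw [Fintype.card_fin]; exact hn.ne'⟩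
  exact isCyclic_of_surjective
    (Matrix.SpecialLinearGroup.center_equiv_rootsOfUnity' (0 : Fin n)).symm
    (Matrix.SpecialLinearGroup.center_equiv_rootsOfUnity' (0 : Fin n)).symm.surjective

theorem psl_multiplier_of_section {F : Type u} [Field F] [Fintype F] (n : ℕ) (hn : 3 ≤ n)
    (huniv : ∀ (E : Type u) [Group E] (p : E →* SpecialLinearGroup (Fin n) F),
      Function.Surjective p → p.ker ≤ Subgroup.center E →
      ∃ s : SpecialLinearGroup (Fin n) F →* E, p.comp s = MonoidHom.id _) :
    Cfsg.HasCyclicSchurMultiplier (ProjectiveSpecialLinearGroup (Fin n) F)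
      (Nat.gcd n (Fintype.card F - 1)) := by
  classical
  have : NeZero (Nat.gcd n (Fintype.card F - 1)) :=
    ⟨(Nat.gcd_pos_of_pos_left _ (by omega)).ne'⟩
  have hker : (QuotientGroup.mk' (Subgroup.center (SpecialLinearGroup (Fin n) F))).ker =
      Subgroup.center (SpecialLinearGroup (Fin n) F) := QuotientGroup.ker_mk' _
  refine Cfsg.Agent.Helper96.UceCover.hasCyclicSchurMultiplier_of_universal
    (QuotientGroup.mk' (Subgroup.center (SpecialLinearGroup (Fin n) F)))
    (QuotientGroup.mk'_surjective _) (by rw [hker]) ?_ _ ?_ ?_ huniv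
  · exact Cfsg.Agent.Helper5.commutator_SL_eq_top_of_three_le (by rw [Fintype.card_fin]; exact hn)
  · rw [hker]; exact isCyclic_center_SL n (by omega)
  · rw [hker]; exact card_center_SL n (by omega)

end Cfsg.Agent.Helper67.StLiftG2
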