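import Mathlib
import Cfsg.Agent.Helper96.StN.Defs
import Cfsg.Agent.Helper5.SLn

/-!
helper67 (for helper96, WANTED #6044 (F), S2401): the presented-group side of the Steinberg
presentation of `SL_n(K)`: the presented group satisfies the abstract Steinberg relations, maps
onto `SL_n(K)`, and the abstract injectivity theorem finishes.
-/

set_option autoImplicit false
set_option linter.unusedSectionVars false
set_option linter.unusedVariables false

namespace Cfsg.Agent.Helper67.StNF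

open Matrix Cfsg.Agent.Helper96.StN

universe u

/-- the relators of S2401 -/
def slRels (n : ℕ) (K : Type u) [Field K] :
    Set (FreeGroup ({ij : Fin n × Fin n // ij.1 ≠ ij.2} × K)) :=
  {g : FreeGroup ({ij : Fin n × Fin n // ij.1 ≠ ij.2} × K) | ∃ (a : {ij : Fin n × Fin n // ij.1 ≠ ij.2}) (t u : K),
            g = FreeGroup.of (a, t) * FreeGroup.of (a, u) * (FreeGroup.of (a, t + u))⁻¹} ∪
          {g | ∃ (a b : {ij : Fin n × Fin n // ij.1 ≠ ij.2}) (t u : K), a.1.1 ≠ b.1.2 ∧ a.1.2 ≠ b.1.1 ∧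
            g = FreeGroup.of (a, t) * FreeGroup.of (b, u) * (FreeGroup.of (a, t))⁻¹ * (FreeGroup.of (b, u))⁻¹} ∪
          {g | ∃ (a b : {ij : Fin n × Fin n // ij.1 ≠ ij.2}) (h : a.1.1 ≠ b.1.2) (t u : K), a.1.2 = b.1.1 ∧
            g = FreeGroup.of (a, t) * FreeGroup.of (b, u) * (FreeGroup.of (a, t))⁻¹ * (FreeGroup.of (b, u))⁻¹ *
              (FreeGroup.of (⟨(a.1.1, b.1.2), h⟩, t * u))⁻¹}

section

variable {K : Type u} [Field K] {n : ℕ}

/-- the generator family of the presented group, extended by `1` on the diagonal -/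
noncomputable def PX (n : ℕ) (K : Type u) [Field K] :
    Fin n → Fin n → K → PresentedGroup (slRels n K) :=
  fun i j t => if h : i ≠ j then PresentedGroup.of (⟨(i, j), h⟩, t) else 1

theorem PX_of_ne {i j : Fin n} (h : i ≠ j) (t : K) :
    PX n K i j t = PresentedGroup.of (⟨(i, j), h⟩, t) := dif_pos h

theorem of_eq_PX (a : {ij : Fin n × Fin n // ij.1 ≠ ij.2}) (t : K) :
    (PresentedGroup.of (a, t) : PresentedGroup (slRels n K)) = PX n K a.1.1 a.1.2 t := by
  rw [PX_of_ne a.2]

theorem rel_add (a : {ij : Fin n × Fin n // ij.1 ≠ ij.2}) (t u : K) :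
    (PresentedGroup.of (a, t) : PresentedGroup (slRels n K)) * PresentedGroup.of (a, u) =
      PresentedGroup.of (a, t + u) := by
  have hmem : FreeGroup.of (a, t) * FreeGroup.of (a, u) * (FreeGroup.of (a, t + u))⁻¹ ∈
      slRels n K := Or.inl (Or.inl ⟨a, t, u, rfl⟩)
  have h := PresentedGroup.one_of_mem hmem
  rw [map_mul, map_mul, map_inv] at h
  exact mul_inv_eq_one.1 h

theorem rel_comm (a b : {ij : Fin n × Fin n // ij.1 ≠ ij.2}) (t u : K)
    (h1 : a.1.1 ≠ b.1.2) (h2 : a.1.2 ≠ b.1.1) :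
    (PresentedGroup.of (a, t) : PresentedGroup (slRels n K)) * PresentedGroup.of (b, u) =
      PresentedGroup.of (b, u) * PresentedGroup.of (a, t) := by
  have hmem : FreeGroup.of (a, t) * FreeGroup.of (b, u) * (FreeGroup.of (a, t))⁻¹ *
      (FreeGroup.of (b, u))⁻¹ ∈ slRels n K := Or.inl (Or.inr ⟨a, b, t, u, h1, h2, rfl⟩)
  have h := PresentedGroup.one_of_mem hmem
  rw [map_mul, map_mul, map_mul, map_inv, map_inv] at h
  have h' := mul_inv_eq_one.1 h
  exact mul_inv_eq_iff_eq_mul.1 h'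

theorem rel_mul (a b : {ij : Fin n × Fin n // ij.1 ≠ ij.2}) (h : a.1.1 ≠ b.1.2) (t u : K)
    (hab : a.1.2 = b.1.1) :
    (PresentedGroup.of (a, t) : PresentedGroup (slRels n K)) * PresentedGroup.of (b, u) *
      (PresentedGroup.of (a, t))⁻¹ * (PresentedGroup.of (b, u))⁻¹ =
      PresentedGroup.of (⟨(a.1.1, b.1.2), h⟩, t * u) := by
  have hmem : FreeGroup.of (a, t) * FreeGroup.of (b, u) * (FreeGroup.of (a, t))⁻¹ *
      (FreeGroup.of (b, u))⁻¹ * (FreeGroup.of (⟨(a.1.1, b.1.2), h⟩, t * u))⁻¹ ∈ slRels n K :=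
    Or.inr ⟨a, b, h, t, u, hab, rfl⟩
  have h := PresentedGroup.one_of_mem hmem
  rw [map_mul, map_mul, map_mul, map_mul, map_inv, map_inv, map_inv] at h
  exact mul_inv_eq_one.1 h

theorem stRel_PX : StRel (PX n K) where
  add i j hij t u := by
    rw [PX_of_ne hij, PX_of_ne hij, PX_of_ne hij, rel_add]
  comm i j k l hij hkl hjk hil t u := by
    rw [PX_of_ne hij, PX_of_ne hkl]
    exact rel_comm ⟨(i, j), hij⟩ ⟨(k, l), hkl⟩ t u hil hjk
  mul i j l hij hjl hil t u := by
    rw [PX_of_ne hij, PX_of_ne hjl, PX_of_ne hil]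
    exact rel_mul ⟨(i, j), hij⟩ ⟨(j, l), hjl⟩ hil t u rfl

theorem closure_PX :
    Subgroup.closure {g : PresentedGroup (slRels n K) | ∃ i j, i ≠ j ∧ ∃ t, g = PX n K i j t} = ⊤ := by
  rw [eq_top_iff, ← PresentedGroup.closure_range_of]
  apply Subgroup.closure_mono
  rintro _ ⟨⟨a, t⟩, rfl⟩
  exact ⟨a.1.1, a.1.2, a.2, t, of_eq_PX a t⟩

/-- the transvection family, extended by `1` on the diagonal -/
noncomputable def XT (n : ℕ) (K : Type u) [Field K] :
    Fin n → Fin n → K → SpecialLinearGroup (Fin n) K :=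
  fun i j t => if h : i ≠ j then SpecialLinearGroup.transvection h t else 1

theorem XT_of_ne {i j : Fin n} (h : i ≠ j) (t : K) :
    XT n K i j t = SpecialLinearGroup.transvection h t := dif_pos h

theorem lift_rels (hM : StRel (XT n K)) :
    ∀ r ∈ slRels n K, FreeGroup.lift
      (fun p : {ij : Fin n × Fin n // ij.1 ≠ ij.2} × K => XT n K p.1.1.1 p.1.1.2 p.2) r = 1 := by
  rintro r ((⟨a, t, u, rfl⟩ | ⟨a, b, t, u, h1, h2, rfl⟩) | ⟨a, b, h, t, u, hab, rfl⟩)
  · simp only [map_mul, map_inv, FreeGroup.lift_apply_of]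
    rw [hM.add _ _ a.2, mul_inv_cancel]
  · simp only [map_mul, map_inv, FreeGroup.lift_apply_of]
    rw [hM.comm _ _ _ _ a.2 b.2 h2 h1]
    group
  · simp only [map_mul, map_inv, FreeGroup.lift_apply_of]
    have hb2 : a.1.2 ≠ b.1.2 := hab ▸ b.2
    rw [← hab, hM.mul _ _ _ a.2 hb2 h, mul_inv_cancel]

end

/-- (F), with the matrix-side relations (M) as a hypothesis. -/
theorem presentation_of_injective' {K : Type u} [Field K] (n : ℕ) (hn : 3 ≤ n)
    (hM : StRel (fun (i j : Fin n) (t : K) =>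
      if h : i ≠ j then SpecialLinearGroup.transvection h t else 1))
    (hinj : ∀ (D : Type u) [Group D] (X : Fin n → Fin n → K → D), StRel X →
      Subgroup.closure {g | ∃ i j, i ≠ j ∧ ∃ t, g = X i j t} = ⊤ →
      ∀ φ : D →* SpecialLinearGroup (Fin n) K,
        (∀ i j (h : i ≠ j) t, φ (X i j t) = SpecialLinearGroup.transvection h t) →
        Function.Injective φ) :
    ∃ e : PresentedGroup (slRels n K) ≃* Matrix.SpecialLinearGroup (Fin n) K,
      ∀ (a : {ij : Fin n × Fin n // ij.1 ≠ ij.2}) (t : K),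
        ((e (PresentedGroup.of (a, t)) : Matrix (Fin n) (Fin n) K)) =
          Matrix.transvection a.1.1 a.1.2 t := by
  have hM' : StRel (XT n K) := hM
  set φ : PresentedGroup (slRels n K) →* SpecialLinearGroup (Fin n) K :=
    PresentedGroup.toGroup (lift_rels hM') with hφdef
  have hφof : ∀ (a : {ij : Fin n × Fin n // ij.1 ≠ ij.2}) (t : K),
      φ (PresentedGroup.of (a, t)) = SpecialLinearGroup.transvection a.2 t := by
    intro a t
    rw [hφdef, PresentedGroup.toGroup.of]
    exact XT_of_ne a.2 t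
  have hφX : ∀ i j (h : i ≠ j) t, φ (PX n K i j t) = SpecialLinearGroup.transvection h t := by
    intro i j h t
    rw [PX_of_ne h, hφof]
  have hi : Function.Injective φ := hinj _ (PX n K) stRel_PX closure_PX φ hφX
  have hs : Function.Surjective φ := by
    have : Nontrivial (Fin n) := Fin.nontrivial_iff_two_le.2 (by omega)
    rw [← MonoidHom.range_eq_top, eq_top_iff, ← Cfsg.Agent.Helper5.closure_transvection_eq_top,
      Subgroup.closure_le]
    rintro _ ⟨i, j, hij, a, rfl⟩
    exact ⟨PX n K i j a, hφX i j hij a⟩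
  have hb : Function.Bijective φ := ⟨hi, hs⟩
  refine ⟨MulEquiv.ofBijective φ hb, fun a t => ?_⟩
  rw [MulEquiv.ofBijective_apply, hφof]
  rfl

end Cfsg.Agent.Helper67.StNF
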