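/-
helper67 (for helper42, WANTED #4228 (W)): Weisner's theorem, interval form.
-/
import Mathlib

set_option autoImplicit false

namespace Cfsg.Agent.Helper67.StVal

open Finset

theorem weisner_Icc {L : Type*} [Lattice L] [LocallyFiniteOrder L] [DecidableEq L] {a b s : L}
    (has : a < s) (hsb : s ≤ b) :
    ∑ x ∈ (Icc a b).filter (fun x => x ⊔ s = b), IncidenceAlgebra.mu ℤ a x = 0 := by
  classical
  have h1 : ∀ x ∈ Icc a b, (if x ⊔ s = b then (1 : ℤ) else 0) =
      ∑ z ∈ Icc s b, if x ≤ z then IncidenceAlgebra.mu ℤ z b else 0 := by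
    intro x _
    rw [← IncidenceAlgebra.sum_Icc_mu_left (x ⊔ s) b, ← Finset.sum_filter]
    apply Finset.sum_congr _ (fun _ _ => rfl)
    ext z
    simp only [mem_Icc, mem_filter, sup_le_iff]
    tauto
  calc ∑ x ∈ (Icc a b).filter (fun x => x ⊔ s = b), IncidenceAlgebra.mu ℤ a x
      = ∑ x ∈ Icc a b, IncidenceAlgebra.mu ℤ a x * (if x ⊔ s = b then (1 : ℤ) else 0) := by
        rw [Finset.sum_filter]
        apply Finset.sum_congr rfl
        intro x _
        split_ifs <;> simp
    _ = ∑ x ∈ Icc a b, IncidenceAlgebra.mu ℤ a x *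
          ∑ z ∈ Icc s b, if x ≤ z then IncidenceAlgebra.mu ℤ z b else 0 := by
        apply Finset.sum_congr rfl
        intro x hx
        rw [h1 x hx]
    _ = ∑ x ∈ Icc a b, ∑ z ∈ Icc s b,
          if x ≤ z then IncidenceAlgebra.mu ℤ a x * IncidenceAlgebra.mu ℤ z b else 0 := by
        apply Finset.sum_congr rfl
        intro x _
        rw [Finset.mul_sum]
        apply Finset.sum_congr rfl
        intro z _
        rw [mul_ite, mul_zero]
    _ = ∑ z ∈ Icc s b, ∑ x ∈ Icc a b,
          if x ≤ z then IncidenceAlgebra.mu ℤ a x * IncidenceAlgebra.mu ℤ z b else 0 := Finset.sum_comm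
    _ = ∑ z ∈ Icc s b, (∑ x ∈ Icc a z, IncidenceAlgebra.mu ℤ a x) * IncidenceAlgebra.mu ℤ z b := by
        apply Finset.sum_congr rfl
        intro z hz
        rw [Finset.sum_mul, ← Finset.sum_filter]
        apply Finset.sum_congr _ (fun _ _ => rfl)
        ext x
        simp only [mem_Icc, mem_filter]
        have hzb := (mem_Icc.1 hz).2
        constructor
        · rintro ⟨⟨h1, _⟩, h3⟩
          exact ⟨h1, h3⟩
        · rintro ⟨h1, h3⟩
          exact ⟨⟨h1, h3.trans hzb⟩, h3⟩
    _ = 0 := by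
        apply Finset.sum_eq_zero
        intro z hz
        rw [IncidenceAlgebra.sum_Icc_mu_right, if_neg, zero_mul]
        exact (has.trans_le (mem_Icc.1 hz).1).ne

end Cfsg.Agent.Helper67.StVal
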