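import Mathlib
import Cfsg.Agent.Helper21.THDefs2
import Cfsg.Agent.Helper21.THMin
import Cfsg.Agent.Helper67.THE3
import Cfsg.Agent.Helper79.THN2a
import Cfsg.Agent.Helper38.THN2d

/-!
helper67 (for helper21, WANTED #5557 (E2), (E3)): the exact stub signatures of `YCfg.fix_cent` and `YCfg.hyp_cent`
(S3797), from `fix_cent_of`, `hyp_cent_of` and the landed pieces (N2a) (helper79), (N2d) (helper38).
-/

set_option autoImplicit false

namespace Cfsg.Agent.Helper67.TH

open Subgroup Cfsg Cfsg.Agent.Helper21.TH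
open scoped commutatorElement

universe u

variable {G : Type u} [Group G] [Finite G]

/-- (E2) uses (W2), (N2d) -/
theorem fix_cent {P V X D U R Y : Subgroup G} (h : YCfg P V X D U R Y) :
    U ⊓ centralizer (X : Set G) ≤ centralizer (Y : Set G) :=
  fix_cent_of h (Cfsg.Agent.Helper38.TH.inverted_gen h.z.m)

/-- (E3) uses (W2), (N2a), (N2d) -/
theorem hyp_cent {P V X D U R Y : Subgroup G} (h : YCfg P V X D U R Y)
    (hfix : U ⊓ centralizer (X : Set G) ≤ centralizer (Y : Set G))
    {H H' : Subgroup G} (hH : IsHyp X D H) (hH' : IsHyp X D H') (hne : H ≠ H') :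
    U ⊓ centralizer (H : Set G) ≤
      centralizer ((⁅Y, U ⊓ centralizer (H' : Set G)⁆ : Subgroup G) : Set G) :=
  hyp_cent_of h hfix hH hH' (Cfsg.Agent.Helper79.TH.isHyp_exists_mem_not_mem hH hH' hne)
    (fun {_} hx hxH {_} hu => Cfsg.Agent.Helper38.TH.hyp_decomp h.z.m hH' hx hxH hu)

end Cfsg.Agent.Helper67.TH
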