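import Mathlib
import Cfsg.Agent.Helper95.TIC.Defs

/-!
# S4064 (helper95), piece (B7): a non-trivial abelian normal subgroup forces a normal block

Also proves (B3), (B4) (needed here) under the prefixed names `B7_eq_of_mem`, `B7_conj`.
-/

set_option autoImplicit false

namespace Cfsg.Agent.Helper67.TICent

open Subgroup Cfsg.Agent.Helper95.TICent

variable {G : Type*} [Group G]

/-- half of (B3) -/
theorem B7_le_of_mem {M₁ M₂ : Subgroup G} (h₁ : IsBlock M₁) (h₂ : IsBlock M₂) {x : G}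
    (hx1 : x ≠ 1) (hx₁ : x ∈ M₁) (hx₂ : x ∈ M₂) : M₂ ≤ M₁ := by
  have hnt : Nontrivial ↥M₂ := (Subgroup.nontrivial_iff_ne_bot M₂).2 h₂.ne_bot
  have hnil : Group.IsNilpotent ↥M₂ := h₂.nil
  have hc : center ↥M₂ ≠ ⊥ := Group.IsNilpotent.center_ne_bot ↥M₂
  obtain ⟨z', hz'⟩ := (Subgroup.ne_bot_iff_exists_ne_one).1 hc
  obtain ⟨z, hz⟩ := z'
  have hz1 : z ≠ 1 := fun h => hz' (Subtype.ext h)
  have hzG : (z : G) ≠ 1 := fun h => hz1 (Subtype.ext h)
  have hcomm : ∀ m ∈ M₂, m * (z : G) = (z : G) * m := by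
    intro m hm
    have := (Subgroup.mem_center_iff.1 hz) ⟨m, hm⟩
    exact congrArg Subtype.val this
  -- `z ∈ C(x) ≤ M₁`
  have hzM₁ : (z : G) ∈ M₁ := by
    apply h₁.cent x hx₁ hx1
    rw [Subgroup.mem_centralizer_singleton_iff]
    exact (hcomm x hx₂).symm
  intro m hm
  exact h₁.mem_of_commute hzM₁ hzG (hcomm m hm)

/-- (B3) two blocks sharing a non-identity element are equal -/
theorem B7_eq_of_mem {M₁ M₂ : Subgroup G} (h₁ : IsBlock M₁) (h₂ : IsBlock M₂) {x : G}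
    (hx1 : x ≠ 1) (hx₁ : x ∈ M₁) (hx₂ : x ∈ M₂) : M₁ = M₂ :=
  le_antisymm (B7_le_of_mem h₂ h₁ hx1 hx₂ hx₁) (B7_le_of_mem h₁ h₂ hx1 hx₁ hx₂)

/-- (B4) conjugates of blocks are blocks -/
theorem B7_conj {M : Subgroup G} (hM : IsBlock M) (g : G) :
    IsBlock (M.map (MulAut.conj g).toMonoidHom) := by
  refine ⟨?_, ?_, ?_⟩
  · intro h
    exact hM.ne_bot ((Subgroup.map_eq_bot_iff_of_injective M (MulAut.conj g).injective).1 h)
  · have := hM.nil
    exact Group.nilpotent_of_mulEquiv (M.equivMapOfInjective (MulAut.conj g).toMonoidHom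
      (MulAut.conj g).injective)
  · intro x hx hx1 k hk
    rw [Subgroup.mem_map_equiv, MulAut.conj_symm_apply] at hx ⊢
    rw [Subgroup.mem_centralizer_singleton_iff] at hk
    have hy1 : g⁻¹ * x * g ≠ 1 := by
      intro h
      apply hx1
      calc x = g * (g⁻¹ * x * g) * g⁻¹ := by group
        _ = 1 := by rw [h]; group
    apply hM.cent _ hx hy1
    rw [Subgroup.mem_centralizer_singleton_iff]
    calc g⁻¹ * k * g * (g⁻¹ * x * g) = g⁻¹ * (k * x) * g := by group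
      _ = g⁻¹ * (x * k) * g := by rw [hk]
      _ = g⁻¹ * x * g * (g⁻¹ * k * g) := by group

/-- a block meeting its conjugate non-trivially is equal to it -/
theorem B7_map_eq_of_mem {M : Subgroup G} (hM : IsBlock M) (g : G) {k : G} (hk : k ∈ M)
    (hk1 : k ≠ 1) (hgk : g * k * g⁻¹ ∈ M) : M.map (MulAut.conj g).toMonoidHom = M := by
  have h1 : g * k * g⁻¹ ≠ 1 := by
    intro h
    apply hk1
    calc k = g⁻¹ * (g * k * g⁻¹) * g := by group
      _ = 1 := by rw [h]; group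
  have h2 : g * k * g⁻¹ ∈ M.map (MulAut.conj g).toMonoidHom :=
    ⟨k, hk, by simp [MulAut.conj_apply]⟩
  exact B7_eq_of_mem (B7_conj hM g) hM h1 h2 hgk

/-- (B7) A non-trivial abelian normal subgroup forces a normal block. -/
theorem exists_normal_block (hex : ∀ x : G, x ≠ 1 → ∃ M : Subgroup G, IsBlock M ∧ x ∈ M)
    (K : Subgroup G) [K.Normal] (hK1 : K ≠ ⊥) (hKab : ∀ a ∈ K, ∀ b ∈ K, a * b = b * a) :
    ∃ M : Subgroup G, IsBlock M ∧ M.Normal := by
  obtain ⟨y', hy'⟩ := (Subgroup.ne_bot_iff_exists_ne_one).1 hK1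
  obtain ⟨y, hyK⟩ := y'
  have hy1 : y ≠ 1 := fun h => hy' (Subtype.ext h)
  obtain ⟨M, hM, hyM⟩ := hex y hy1
  have hKM : K ≤ M := by
    intro a ha
    exact hM.mem_of_commute hyM hy1 (hKab a ha y hyK)
  refine ⟨M, hM, ⟨?_⟩⟩
  intro n hn g
  have hgy : g * y * g⁻¹ ∈ M := hKM (‹K.Normal›.conj_mem y hyK g)
  have hmap := B7_map_eq_of_mem hM g hyM hy1 hgy
  rw [← hmap]
  exact ⟨n, hn, by simp [MulAut.conj_apply]⟩

end Cfsg.Agent.Helper67.TICent
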