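import Mathlib
import Cfsg.Agent.Helper95.TIC.Defs
import Cfsg.Agent.Helper67.TIC_B7

/-!
# S4064 (helper95), piece (F3): a proper self-normalizing block is a Frobenius complement

Also proves (B5) under the prefixed name `F3_ti`.
-/

set_option autoImplicit false

namespace Cfsg.Agent.Helper67.TICent

open Subgroup Cfsg.Agent.Helper95.TICent

variable {G : Type*} [Group G]

/-- a block meeting its conjugate by `g` non-trivially is normalized by `g` -/
theorem F3_mem_normalizer {M : Subgroup G} (hM : IsBlock M) (g : G) {k : G} (hk : k ∈ M)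
    (hk1 : k ≠ 1) (hgk : g * k * g⁻¹ ∈ M) : g ∈ normalizer (M : Set G) := by
  rw [mem_normalizer_iff_map_conj_eq]
  exact B7_map_eq_of_mem hM g hk hk1 hgk

/-- (B5) blocks are T.I. subgroups -/
theorem F3_ti {M : Subgroup G} (hM : IsBlock M) : Cfsg.IsTISubset (M : Set G) := by
  intro g hg x hx hgx
  by_contra hx1
  exact hg (F3_mem_normalizer hM g hx hx1 hgx)

/-- (F3) A proper self-normalizing block is a Frobenius complement (B5). -/
theorem IsBlock.isFrobeniusComplement {M : Subgroup G} (hM : IsBlock M) (hMtop : M ≠ ⊤)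
    (hN : normalizer (M : Set G) ≤ M) : Cfsg.IsFrobeniusComplement M := by
  refine ⟨hM.ne_bot, hMtop, ?_⟩
  intro g hg
  rw [eq_bot_iff]
  intro x hx
  rw [mem_inf] at hx
  obtain ⟨hxM, hxg⟩ := hx
  rw [Subgroup.mem_smul_pointwise_iff_exists] at hxg
  obtain ⟨k, hk, hkx⟩ := hxg
  rw [MulAut.smul_def, MulAut.conj_apply] at hkx
  rw [mem_bot]
  by_contra hx1
  have hk1 : k ≠ 1 := by
    intro h
    apply hx1
    rw [← hkx, h]
    group
  apply hg
  apply hN
  apply F3_mem_normalizer hM g hk hk1
  rw [hkx]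
  exact hxM

end Cfsg.Agent.Helper67.TICent
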