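import Mathlib
import Cfsg.Agent.Helper95.TIC.Defs
import Cfsg.Agent.Helper95.TIC.SE5

/-!
# S4064 (helper95), pieces (ZST), (Z3P): two-point and three-point stabilizers on `G ⧸ N`
-/

set_option autoImplicit false

namespace Cfsg.Agent.Helper67.TICent

open Subgroup Cfsg Cfsg.Agent.Helper75 Cfsg.Agent.Helper21 Cfsg.Agent.Helper4
  Cfsg.Agent.Helper95.TICent

universe u

variable {G : Type u} [Group G]

/-- (ZST) The stabilizer of the two points `N`, `u N` is `D_u`. -/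
theorem BData.stabilizer_inf (c : BData G) (u : G) :
    MulAction.stabilizer G ((1 : G) : G ⧸ c.N) ⊓ MulAction.stabilizer G ((u : G) : G ⧸ c.N)
      = c.Dsub u := by
  have h1 : MulAction.stabilizer G ((1 : G) : G ⧸ c.N) = c.N := MulAction.stabilizer_quotient c.N
  have h2 : ((u : G) : G ⧸ c.N) = u • ((1 : G) : G ⧸ c.N) := by
    rw [MulAction.Quotient.smul_mk, smul_eq_mul, mul_one]
  rw [h2, MulAction.stabilizer_smul_eq_stabilizer_map_conj, h1]
  rfl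

/-- the normalized case of (Z3P): the first two points are `N` and `u N` -/
theorem Z3P_base (c : BData G) [Finite G] (hw : 2 ≤ caE c.A) {u : G} (hu : orderOf u = 2)
    (huN : u ∉ c.N) (g : G) (r : G ⧸ c.N) (hr0 : r ≠ ((1 : G) : G ⧸ c.N))
    (hr1 : r ≠ ((u : G) : G ⧸ c.N)) (hg0 : g • ((1 : G) : G ⧸ c.N) = ((1 : G) : G ⧸ c.N))
    (hg1 : g • ((u : G) : G ⧸ c.N) = ((u : G) : G ⧸ c.N)) (hgr : g • r = r) : g = 1 := by
  have hgD : g ∈ c.Dsub u := by
    rw [← BData.stabilizer_inf c u, mem_inf]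
    exact ⟨hg0, hg1⟩
  have hgN : g ∈ c.N := (c.mem_Dsub.mp hgD).1
  obtain ⟨k, rfl⟩ := QuotientGroup.mk_surjective r
  have hkN : k ∉ c.N := fun h => hr0 ((mk_eq_one_iff' c.N k).2 h)
  obtain ⟨v, hv2, hkv, hvN⟩ := IsStronglyEmbedded.exists_invol_coset c.stronglyEmbedded hkN
  obtain ⟨x, hxA, hxv⟩ := c.exists_coset hu huN hv2 hvN hw
  -- `k N = x u N`
  have hk : ((k : G) : G ⧸ c.N) = ((x * u : G) : G ⧸ c.N) := by
    rw [QuotientGroup.eq]
    have : k⁻¹ * (x * u) = (k⁻¹ * v) * ((x * u)⁻¹ * v)⁻¹ := by group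
    rw [this]
    exact c.N.mul_mem hkv (c.N.inv_mem hxv)
  rw [hk] at hgr hr1
  have hx1 : x ≠ 1 := by
    intro h
    apply hr1
    rw [h, one_mul]
  have hxN : x ∈ c.N := c.A_le_N hxA
  -- `x⁻¹ g⁻¹ x ∈ D_u`
  rw [smul_mk_eq_iff] at hgr
  have h3 : x⁻¹ * g⁻¹ * x ∈ c.Dsub u := by
    rw [c.mem_Dsub]
    refine ⟨c.N.mul_mem (c.N.mul_mem (c.N.inv_mem hxN) (c.N.inv_mem hgN)) hxN, ?_⟩
    have : u⁻¹ * (x⁻¹ * g⁻¹ * x) * u = (x * u)⁻¹ * g⁻¹ * (x * u) := by group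
    rw [this]
    exact hgr
  -- `g (x⁻¹ g⁻¹ x) ∈ D_u ∩ A`
  have h4 : g * (x⁻¹ * g⁻¹ * x) ∈ c.Dsub u := (c.Dsub u).mul_mem hgD h3
  have h5 : g * (x⁻¹ * g⁻¹ * x) ∈ c.A := by
    have : g * (x⁻¹ * g⁻¹ * x) = (g * x⁻¹ * g⁻¹) * x := by group
    rw [this]
    exact c.A.mul_mem (c.conj_mem_A hgN (c.A.inv_mem hxA)) hxA
  have h6 := c.Dsub_inf_A hu huN h4 h5
  -- so `x` commutes with `g`
  have h7 : x * g = g * x := by
    have : g * x = x * (g * (x⁻¹ * g⁻¹ * x))⁻¹ * g := by group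
    rw [this, h6, inv_one, mul_one]
  by_contra hg1'
  exact hx1 (c.eq_one_of_commute_Dsub hu huN hgD hg1' hxA h7)

/-- (Z3P) Three-point stabilizers are trivial. -/
theorem BData.three_point (c : BData G) [Finite G] (hw : 2 ≤ caE c.A)
    (h2 : MulAction.IsMultiplyPretransitive G (G ⧸ c.N) 2) :
    ∀ g : G, ∀ p q r : G ⧸ c.N, p ≠ q → q ≠ r → p ≠ r → g • p = p → g • q = q → g • r = r →
      g = 1 := by
  intro g p q r hpq hqr hpr hgp hgq hgr
  obtain ⟨u, hu, huN⟩ := c.exists_u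
  have h01 : ((1 : G) : G ⧸ c.N) ≠ ((u : G) : G ⧸ c.N) := by
    intro h
    apply huN
    exact (mk_eq_one_iff' c.N u).1 h.symm
  rw [MulAction.is_two_pretransitive_iff] at h2
  obtain ⟨h, hhp, hhq⟩ := h2 hpq h01
  have key : h * g * h⁻¹ = 1 := by
    apply Z3P_base c hw hu huN (h * g * h⁻¹) (h • r)
    · intro h'
      apply hpr
      rw [← hhp] at h'
      exact (smul_left_cancel h h').symm
    · intro h'
      apply hqr
      rw [← hhq] at h'
      exact (smul_left_cancel h h').symm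
    · rw [← hhp, mul_smul, mul_smul, inv_smul_smul, hgp]
    · rw [← hhq, mul_smul, mul_smul, inv_smul_smul, hgq]
    · rw [mul_smul, mul_smul, inv_smul_smul, hgr]
  calc g = h⁻¹ * (h * g * h⁻¹) * h := by group
    _ = 1 := by rw [key]; group

end Cfsg.Agent.Helper67.TICent
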