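/-
helper67 (for helper95, WANTED #3963 (C1c)): a coprime operator group acting on a section of a normal
subgroup with the "all-or-nothing" fixed point property is `FCLike`.
-/
import Mathlib
import Cfsg.Agent.Helper95.FrobCompl6

set_option autoImplicit false

namespace Cfsg.Agent.Helper67.TIHall

open Subgroup Cfsg.Agent.Helper95.FrobCompl

theorem conj_pow_eq_mul_pow {G : Type*} [Group G] (h a e : G) (he : h * a * h⁻¹ = a * e)
    (hc : h * e = e * h) (j : ℕ) : h ^ j * a * (h ^ j)⁻¹ = a * e ^ j := by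
  induction j with
  | zero => simp
  | succ j ih =>
    have hcj : h * e ^ j * h⁻¹ = e ^ j := by
      have : Commute h (e ^ j) := (show Commute h e from hc).pow_right j
      rw [this.eq, mul_inv_cancel_right]
    calc h ^ (j + 1) * a * (h ^ (j + 1))⁻¹ = h * (h ^ j * a * (h ^ j)⁻¹) * h⁻¹ := by
          rw [pow_succ']; group
      _ = h * (a * e ^ j) * h⁻¹ := by rw [ih]
      _ = (h * a * h⁻¹) * (h * e ^ j * h⁻¹) := by group
      _ = a * e ^ (j + 1) := by rw [he, hcj, pow_succ', mul_assoc]

variable {G : Type*} [Group G] [Finite G]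

theorem fclike_of_section (H A : Subgroup G) [A.Normal]
    (hcop : (Nat.card A).Coprime (Nat.card H))
    (hder : H ≤ centralizer ((⁅A, A⁆ : Subgroup G) : Set G))
    (hfix : ∀ h ∈ H, h ≠ 1 → ∀ a ∈ A, a * h = h * a → ∀ k ∈ H, a * k = k * a)
    (hnc : ¬ H ≤ centralizer (A : Set G)) : Cfsg.Agent.Helper95.FrobCompl.FCLike H := by
  classical
  obtain ⟨E, hE⟩ : ∃ E : Subgroup G, E = A ⊓ centralizer (H : Set G) := ⟨_, rfl⟩
  obtain ⟨E', hE'⟩ : ∃ E' : Subgroup A, E' = E.subgroupOf A := ⟨_, rfl⟩
  have hmemE : ∀ x : G, x ∈ E ↔ x ∈ A ∧ ∀ k ∈ H, x * k = k * x := by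
    intro x
    rw [hE, Subgroup.mem_inf, Subgroup.mem_centralizer_iff]
    constructor
    · rintro ⟨h1, h2⟩
      exact ⟨h1, fun k hk => (h2 k hk).symm⟩
    · rintro ⟨h1, h2⟩
      exact ⟨h1, fun k hk => (h2 k hk).symm⟩
  have hderE : ⁅A, A⁆ ≤ E := by
    rw [hE]
    exact le_inf (Subgroup.commutator_le_left A A) (Subgroup.le_centralizer_iff.mp hder)
  have hE'n : E'.Normal := by
    refine ⟨fun e he a => ?_⟩
    rw [hE', Subgroup.mem_subgroupOf] at he ⊢
    have h1 : (a : G) * e * (a : G)⁻¹ * (e : G)⁻¹ ∈ ⁅A, A⁆ :=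
      Subgroup.commutator_mem_commutator a.2 e.2
    have h2 : ((a * e * a⁻¹ : A) : G) = ((a : G) * e * (a : G)⁻¹ * (e : G)⁻¹) * e := by
      simp
    rw [h2]
    exact E.mul_mem (hderE h1) he
  -- `H` fixes `E` elementwise
  have hfixE : ∀ h : H, ∀ e : A, e ∈ E' → (MulAut.conjNormal (h : G) e : A) = e := by
    intro h e he
    rw [hE', Subgroup.mem_subgroupOf, hmemE] at he
    apply Subtype.ext
    rw [MulAut.conjNormal_apply]
    have := he.2 h h.2
    calc (h : G) * e * (h : G)⁻¹ = (e * h) * (h : G)⁻¹ := by rw [this]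
      _ = e := by group
  have hstab : ∀ h : H, E'.map ((MulAut.conjNormal (h : G) : A ≃* A) : A →* A) = E' := by
    intro h
    ext x
    constructor
    · rintro ⟨e, he, rfl⟩
      show (MulAut.conjNormal (h : G) e : A) ∈ E'
      rw [hfixE h e he]
      exact he
    · intro hx
      exact ⟨x, hx, hfixE h x hx⟩
  let ρFun : H → (A ⧸ E') ≃* (A ⧸ E') := fun h =>
    QuotientGroup.congr E' E' (MulAut.conjNormal (h : G) : A ≃* A) (hstab h)
  have hρFun : ∀ (h : H) (a : A), ρFun h (QuotientGroup.mk a) = QuotientGroup.mk (MulAut.conjNormal (h : G) a) :=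
    fun h a => QuotientGroup.congr_mk _ _ _ _ _
  let ρ : H →* MulAut (A ⧸ E') :=
    { toFun := ρFun
      map_one' := by
        ext x
        induction x using QuotientGroup.induction_on with
        | H x => rw [hρFun, OneMemClass.coe_one, map_one]; rfl
      map_mul' := by
        intro g h
        ext x
        induction x using QuotientGroup.induction_on with
        | H x =>
          rw [MulAut.mul_apply, hρFun, hρFun, hρFun, Subgroup.coe_mul, map_mul]
          rfl }
  have hρ : ∀ (h : H) (a : A), ρ h (QuotientGroup.mk a) = QuotientGroup.mk (MulAut.conjNormal (h : G) a) :=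
    hρFun
  -- fixed-point-freeness
  have hfpf0 : ∀ h : H, h ≠ 1 → ∀ x : A ⧸ E', ρ h x = x → x = 1 := by
    intro h hh1 x hx
    induction x using QuotientGroup.induction_on with
    | H a =>
      rw [hρ] at hx
      have h1 : a⁻¹ * (MulAut.conjNormal (h : G) a : A) ∈ E' := QuotientGroup.eq.mp hx.symm
      rw [hE', Subgroup.mem_subgroupOf, hmemE] at h1
      obtain ⟨e, he⟩ : ∃ e : G, e = (a : G)⁻¹ * ((h : G) * a * (h : G)⁻¹) := ⟨_, rfl⟩
      have h1' : e ∈ A ∧ ∀ k ∈ H, e * k = k * e := by
        rw [he]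
        have : ((a⁻¹ * (MulAut.conjNormal (h : G) a : A) : A) : G) =
            (a : G)⁻¹ * ((h : G) * a * (h : G)⁻¹) := by
          rw [Subgroup.coe_mul, MulAut.conjNormal_apply]; rfl
        rw [← this]
        exact h1
      have hae : (h : G) * a * (h : G)⁻¹ = a * e := by rw [he]; group
      have hce : (h : G) * e = e * h := (h1'.2 h h.2).symm
      have hpow := conj_pow_eq_mul_pow (h : G) a e hae hce (orderOf (h : G))
      rw [pow_orderOf_eq_one, one_mul, inv_one, mul_one] at hpow
      have hej : e ^ orderOf (h : G) = 1 := by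
        have : (a : G) * e ^ orderOf (h : G) = a * 1 := by rw [mul_one]; exact hpow.symm
        exact mul_left_cancel this
      have he1 : e = 1 := by
        have hd1 : orderOf e ∣ Nat.card H := by
          have := orderOf_dvd_of_pow_eq_one hej
          exact this.trans (Subgroup.orderOf_dvd_natCard H h.2)
        have hd2 : orderOf e ∣ Nat.card A := Subgroup.orderOf_dvd_natCard A h1'.1
        have := Nat.eq_one_of_dvd_coprimes hcop hd2 hd1
        exact orderOf_eq_one_iff.mp this
      have hcomm : (a : G) * h = h * a := by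
        rw [he1, mul_one] at hae
        calc (a : G) * h = ((h : G) * a * (h : G)⁻¹) * h := by rw [hae]
          _ = h * a := by group
      have haE : (a : G) ∈ E := by
        rw [hmemE]
        exact ⟨a.2, hfix h h.2 (fun h0 => hh1 (Subtype.ext h0)) a a.2 hcomm⟩
      rw [QuotientGroup.eq_one_iff, hE', Subgroup.mem_subgroupOf]
      exact haE
  -- the section is nontrivial
  have hnt : Nontrivial (A ⧸ E') := by
    have : ∃ h ∈ H, h ∉ centralizer (A : Set G) := by
      by_contra hcon
      push Not at hcon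
      exact hnc hcon
    obtain ⟨h, hhH, hh⟩ := this
    rw [Subgroup.mem_centralizer_iff] at hh
    push Not at hh
    obtain ⟨a, haA, hah⟩ := hh
    refine ⟨⟨QuotientGroup.mk (⟨a, haA⟩ : A), 1, fun h0 => ?_⟩⟩
    rw [QuotientGroup.eq_one_iff, hE', Subgroup.mem_subgroupOf, hmemE] at h0
    exact hah (h0.2 h hhH)
  have hinj : Function.Injective ρ := by
    rw [injective_iff_map_eq_one]
    intro h hh
    by_contra hh1
    obtain ⟨k, hk⟩ := exists_ne (1 : A ⧸ E')
    apply hk
    apply hfpf0 h hh1 k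
    rw [hh]
    rfl
  have hfpf : ∀ φ ∈ ρ.range, φ ≠ 1 → ∀ k : A ⧸ E', φ k = k → k = 1 := by
    rintro _ ⟨h, rfl⟩ hφ k hk
    apply hfpf0 h _ k hk
    intro h0
    apply hφ
    rw [h0, map_one]
  have hΓ := fclike_of_fpf ρ.range hfpf
  exact FCLike.of_equiv (MonoidHom.ofInjective hinj) hΓ

end Cfsg.Agent.Helper67.TIHall
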