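import Cfsg.Agent.Helper78.Residue
import Cfsg.Agent.Helper78.IdemRank
import Mathlib.RingTheory.IntegralDomain
import Mathlib.RingTheory.RootsOfUnity.Complex
import Mathlib.GroupTheory.SpecificGroups.Cyclic
import Mathlib.Algebra.CharP.Lemmas
import Mathlib.Algebra.CharP.Reduced
import Mathlib.Algebra.Group.Submonoid.Membership

/-!
# Teichmueller lift of a linear character of a finite group to characteristic zero

(helper67 for helper78, piece (RC-TL).)  Every homomorphism `ν : H →* kˣ` from a finite group to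
the units of the residue field `k = ResField M` of the local ring at a `p`-modular ideal `M` lifts
to a homomorphism `lam : H →* ℂˣ` with values in the local ring, reducing to `ν`, and trivial
wherever `ν` is.
-/

set_option autoImplicit false
set_option linter.unusedSectionVars false
set_option linter.unusedVariables false
set_option linter.style.haveILetI false

namespace Cfsg.Agent.Helper67.Teich

open Cfsg Cfsg.Agent.Helper77 Cfsg.Agent.Helper78

variable {M : Ideal AlgInt} {p : ℕ}

theorem resMap_pow [hMp : M.IsPrime] {z : ℂ} (hz : MemLocalRing M z) (n : ℕ) :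
    resMap M (z ^ n) = resMap M z ^ n := by
  induction n with
  | zero => rw [pow_zero, pow_zero, resMap_one]
  | succ n ih =>
    rw [pow_succ, pow_succ, resMap_mul (Helper77.memLocalRing_pow M hz n) hz, ih]

theorem memLocalIdeal_sub_of_resMap_eq [hMp : M.IsPrime] {z w : ℂ} (hz : MemLocalRing M z)
    (hw : MemLocalRing M w) (h : resMap M z = resMap M w) : MemLocalIdeal M (z - w) := by
  rw [resMap_of_mem hz, resMap_of_mem hw] at h
  exact Ideal.Quotient.eq.mp h

theorem memLocalIdeal_pow_sub_one [hMp : M.IsPrime] {x : ℂ} (hx : MemLocalRing M x)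
    (h : MemLocalIdeal M (x - 1)) (j : ℕ) : MemLocalIdeal M (x ^ j - 1) := by
  induction j with
  | zero => simpa using Helper77.memLocalIdeal_zero M
  | succ j ih =>
    have h1 : x ^ (j + 1) - 1 = x ^ j * (x - 1) + (x ^ j - 1) := by ring
    rw [h1]
    exact Helper77.memLocalIdeal_add M
      (Helper77.memLocalIdeal_mul_left M (Helper77.memLocalRing_pow M hx j) h) ih

/-- A nontrivial root of unity of order prime to `p` is not congruent to `1` modulo the local
ideal. -/
theorem not_memLocalIdeal_sub_one_of_pow_eq_one (hM : IsPModular p M) {m : ℕ} (hm : 0 < m)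
    (hpm : ¬ p ∣ m) {η₀ : ℂ} (h1 : η₀ ^ m = 1) (hne : η₀ ≠ 1) :
    ¬ MemLocalIdeal M (η₀ - 1) := by
  haveI hMp : M.IsPrime := Helper77.isPrime_of_isPModular hM
  intro hmem
  have hfin : IsOfFinOrder η₀ := isOfFinOrder_iff_pow_eq_one.mpr ⟨m, hm, h1⟩
  have ho_pos : 0 < orderOf η₀ := hfin.orderOf_pos
  have ho_dvd : orderOf η₀ ∣ m := orderOf_dvd_of_pow_eq_one h1
  have ho_ne : orderOf η₀ ≠ 1 := fun h => hne (orderOf_eq_one_iff.mp h)
  set o := orderOf η₀ with ho
  have hℓ : (o.minFac).Prime := Nat.minFac_prime ho_ne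
  have hℓo : o.minFac ∣ o := Nat.minFac_dvd o
  have hℓp : o.minFac ≠ p := by
    intro h
    exact hpm (h ▸ (hℓo.trans ho_dvd))
  have hprim0 : IsPrimitiveRoot η₀ o := IsPrimitiveRoot.orderOf η₀
  have hη : IsPrimitiveRoot (η₀ ^ (o / o.minFac)) o.minFac :=
    hprim0.pow ho_pos (Nat.div_mul_cancel hℓo).symm
  have hη₀R : MemLocalRing M η₀ :=
    Helper77.memLocalRing_of_isIntegral M (hprim0.isIntegral ho_pos)
  exact not_memLocalIdeal_primitiveRoot_sub_one hM hℓ hℓp hη
    (memLocalIdeal_pow_sub_one hη₀R hmem _)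

/-- **Teichmueller lift.**  A linear character of a finite group over the residue field lifts to
a complex linear character with values in the local ring. -/
theorem exists_monoidHom_lift [hMp : M.IsPrime] (hM : IsPModular p M) {H : Type*} [Group H]
    [Finite H] (ν : H →* (ResField M)ˣ) :
    ∃ lam : H →* ℂˣ, (∀ h : H, ν h = 1 → lam h = 1) ∧
      ∀ h : H, MemLocalRing M ((lam h : ℂˣ) : ℂ) ∧
        resMap M ((lam h : ℂˣ) : ℂ) = ((ν h : (ResField M)ˣ) : ResField M) := by
  classical
  haveI hchar : CharP (ResField M) p := resField_charP hM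
  haveI hpfact : Fact p.Prime := ⟨hM.1⟩
  -- the image of `ν` is a finite cyclic group
  haveI hfinR : Finite ν.range := Finite.of_surjective ν.rangeRestrict ν.rangeRestrict_surjective
  haveI hcyc : IsCyclic ν.range := isCyclic_subgroup_units ν.range
  obtain ⟨ξ, hξ⟩ := IsCyclic.exists_generator (α := ν.range)
  set m := orderOf ξ with hm
  have hmpos : 0 < m := orderOf_pos ξ
  haveI : NeZero m := ⟨hmpos.ne'⟩
  -- the generator as an element of the field
  set x : ResField M := ((ξ : (ResField M)ˣ) : ResField M) with hx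
  have hxpow : ∀ e : ℕ, x ^ e = (((ξ ^ e : ν.range) : (ResField M)ˣ) : ResField M) := by
    intro e
    rw [hx, Subgroup.coe_pow, Units.val_pow_eq_pow_val]
  have hxm : x ^ m = 1 := by
    rw [hxpow, hm, pow_orderOf_eq_one]
    rfl
  -- `p ∤ m`
  have hpm : ¬ p ∣ m := by
    intro hdvd
    obtain ⟨c, hc⟩ := hdvd
    have h1 : x ^ (p ^ 1 * c) = 1 := by rw [pow_one, ← hc]; exact hxm
    haveI hexp : ExpChar (ResField M) p := ExpChar.prime hM.1
    have h2 : x ^ c = 1 := (ExpChar.pow_prime_pow_mul_eq_one_iff p 1 c x).mp h1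
    have h3 : ξ ^ c = 1 := by
      apply Subtype.ext
      apply Units.ext
      rw [← hxpow, h2]
      rfl
    have h4 : m ∣ c := orderOf_dvd_of_pow_eq_one h3
    have hcpos : 0 < c := by
      rcases Nat.eq_zero_or_pos c with h0 | h0
      · rw [h0, mul_zero] at hc; omega
      · exact h0
    have h5 : m ≤ c := Nat.le_of_dvd hcpos h4
    have h6 : 2 * c ≤ p * c := Nat.mul_le_mul_right c hM.1.two_le
    omega
  -- a complex primitive `m`-th root of unity and its reduction
  set ζ : ℂ := Complex.exp (2 * Real.pi * Complex.I / m) with hζdef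
  have hζ : IsPrimitiveRoot ζ m := Complex.isPrimitiveRoot_exp m hmpos.ne'
  have hζR : MemLocalRing M ζ := Helper77.memLocalRing_of_isIntegral M (hζ.isIntegral hmpos)
  have h1R : MemLocalRing M (1 : ℂ) := (localRing M).one_mem
  have hζbar : IsPrimitiveRoot (resMap M ζ) m := by
    refine IsPrimitiveRoot.mk_of_lt _ hmpos ?_ ?_
    · rw [← resMap_pow hζR, hζ.pow_eq_one, resMap_one]
    · intro j hj0 hjm hj1
      rw [← resMap_pow hζR, ← resMap_one (M := M)] at hj1
      have hmem : MemLocalIdeal M (ζ ^ j - 1) :=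
        memLocalIdeal_sub_of_resMap_eq (Helper77.memLocalRing_pow M hζR j) h1R hj1
      have hne : ζ ^ j ≠ 1 := hζ.pow_ne_one_of_pos_of_lt hj0.ne' hjm
      have hpow : (ζ ^ j) ^ m = 1 := by rw [← pow_mul, mul_comm, pow_mul, hζ.pow_eq_one, one_pow]
      exact not_memLocalIdeal_sub_one_of_pow_eq_one hM hmpos hpm hpow hne hmem
  obtain ⟨i, him, hi⟩ := hζbar.eq_pow_of_pow_eq_one hxm
  -- the lift on the cyclic group
  set ζu : ℂˣ := Units.mk0 ζ (hζ.ne_zero hmpos.ne') with hζu
  have hζum : ζu ^ m = 1 := by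
    apply Units.ext
    rw [Units.val_pow_eq_pow_val, hζu, Units.val_mk0, hζ.pow_eq_one]
    rfl
  have hord : orderOf (ζu ^ i) ∣ orderOf ξ := by
    apply orderOf_dvd_of_pow_eq_one
    rw [← hm, ← pow_mul, mul_comm, pow_mul, hζum, one_pow]
  set τ : ν.range →* ℂˣ := monoidHomOfForallMemZpowers hξ hord with hτ
  have hτξ : τ ξ = ζu ^ i := monoidHomOfForallMemZpowers_apply_gen hξ hord
  refine ⟨τ.comp ν.rangeRestrict, ?_, ?_⟩
  · intro h hh
    have : ν.rangeRestrict h = 1 := Subtype.ext hh
    rw [MonoidHom.comp_apply, this, map_one]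
  · intro h
    obtain ⟨e, he⟩ := (Submonoid.mem_powers_iff _ _).mp
      ((mem_powers_iff_mem_zpowers).mpr (hξ (ν.rangeRestrict h)))
    have hval : (((τ.comp ν.rangeRestrict) h : ℂˣ) : ℂ) = (ζ ^ i) ^ e := by
      rw [MonoidHom.comp_apply, ← he, map_pow, hτξ, Units.val_pow_eq_pow_val,
        Units.val_pow_eq_pow_val, hζu, Units.val_mk0]
    have hζiR : MemLocalRing M (ζ ^ i) := Helper77.memLocalRing_pow M hζR i
    rw [hval]
    refine ⟨Helper77.memLocalRing_pow M hζiR e, ?_⟩
    rw [resMap_pow hζiR, resMap_pow hζR, hi, hxpow, he]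
    rfl

end Cfsg.Agent.Helper67.Teich
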