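import Mathlib
import Cfsg.Agent.Helper67.Lift
import Cfsg.Agent.S0200

set_option autoImplicit false

namespace Cfsg.Agent.Helper67

/-- If a Sylow `2`-subgroup of a finite group is not normal, then some non-identity element of odd
order is inverted by some element (a consequence of the Baer–Suzuki theorem). -/
theorem exists_inverted_odd_of_sylow_two_not_normal {G : Type*} [Group G] [Finite G]
    (P : Sylow 2 G) (hP : ¬ (P : Subgroup G).Normal) :
    ∃ y w : G, y ≠ 1 ∧ Odd (orderOf y) ∧ w * y * w⁻¹ = y⁻¹ := by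
  have h2 : Fact (Nat.Prime 2) := ⟨Nat.prime_two⟩
  obtain ⟨T, hTn, hTP, hTmax⟩ : ∃ T : Subgroup G, T.Normal ∧ T ≤ (P : Subgroup G) ∧
      ∀ M : Subgroup G, M.Normal → IsPGroup 2 M → M ≤ T := by
    refine ⟨(P : Subgroup G).normalCore, inferInstance, Subgroup.normalCore_le _, ?_⟩
    intro M hM hM2
    rw [Subgroup.normal_le_normalCore]
    exact hM2.le_sylow_of_normal P
  have hT2 : IsPGroup 2 T := P.isPGroup'.to_le hTP
  -- there is an element of P outside T
  have hne : ¬ (P : Subgroup G) ≤ T := by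
    intro hle
    apply hP
    have : (P : Subgroup G) = T := le_antisymm hle hTP
    rw [this]; exact hTn
  obtain ⟨v, hvP, hvT⟩ := SetLike.not_le_iff_exists.1 hne
  -- 2 divides the order of the quotient
  have heven : 2 ∣ Nat.card (G ⧸ T) := by
    have hv1 : (v : G ⧸ T) ≠ 1 := fun h => hvT ((QuotientGroup.eq_one_iff v).1 h)
    obtain ⟨k, hk⟩ := IsPGroup.iff_orderOf.1 P.isPGroup' ⟨v, hvP⟩
    have hk' : orderOf v = 2 ^ k := by
      rw [← hk]; exact Subgroup.orderOf_coe (⟨v, hvP⟩ : (P : Subgroup G))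
    have h1 : orderOf (v : G ⧸ T) ∣ 2 ^ k := hk' ▸ orderOf_map_dvd (QuotientGroup.mk' T) v
    obtain ⟨j, -, hj⟩ := (Nat.dvd_prime_pow Nat.prime_two).1 h1
    have hj0 : j ≠ 0 := by
      rintro rfl
      rw [pow_zero, orderOf_eq_one_iff] at hj
      exact hv1 hj
    exact (dvd_pow_self 2 hj0).trans (hj ▸ orderOf_dvd_natCard (v : G ⧸ T))
  obtain ⟨ubar, hubar⟩ := exists_prime_orderOf_dvd_card' (G := G ⧸ T) 2 heven
  -- ubar lies in no normal 2-subgroup of the quotient
  have hO : ∀ Nb : Subgroup (G ⧸ T), Nb.Normal → IsPGroup 2 Nb → ubar ∉ Nb := by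
    intro Nb hNb hNb2 hu
    have hcomap2 : IsPGroup 2 (Nb.comap (QuotientGroup.mk' T)) := by
      apply hNb2.comap_of_ker_isPGroup
      rw [QuotientGroup.ker_mk']
      exact hT2
    have hle : Nb.comap (QuotientGroup.mk' T) ≤ T := hTmax _ (hNb.comap _) hcomap2
    have hbot : Nb = ⊥ := by
      rw [eq_bot_iff]
      intro z hz
      obtain ⟨g, rfl⟩ := QuotientGroup.mk_surjective z
      have : g ∈ T := hle hz
      rw [Subgroup.mem_bot]
      exact (QuotientGroup.eq_one_iff g).2 this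
    rw [hbot, Subgroup.mem_bot] at hu
    rw [hu, orderOf_one] at hubar
    omega
  obtain ⟨hbar, hbar1, hbarodd, hbarinv⟩ := Cfsg.Agent.S0200.result ubar hubar hO
  -- reduce to prime order
  have hordne : orderOf hbar ≠ 1 := fun h => hbar1 (orderOf_eq_one_iff.1 h)
  obtain ⟨r, hr, hrdvd⟩ := Nat.exists_prime_and_dvd hordne
  have hr2 : r ≠ 2 := by
    rintro rfl
    exact (Nat.not_even_iff_odd.2 hbarodd) (even_iff_two_dvd.2 hrdvd)
  set h' := hbar ^ (orderOf hbar / r) with hh'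
  have hh'ord : orderOf h' = r := orderOf_pow_orderOf_div (orderOf_pos hbar).ne' hrdvd
  have hh'inv : ubar * h' * ubar⁻¹ = h'⁻¹ := by
    rw [hh', ← inv_pow, ← hbarinv]
    exact (conj_pow (a := ubar) (b := hbar) (i := orderOf hbar / r)).symm
  have : Fact r.Prime := ⟨hr⟩
  -- lift
  obtain ⟨y, hy, a, hya⟩ := exists_lift_pow_prime T hr h' (by rw [hh'ord, pow_one])
  obtain ⟨u, hu⟩ := QuotientGroup.mk_surjective ubar
  have hrT : ¬ r ∣ Nat.card T := by
    intro hd
    obtain ⟨k, hk⟩ := IsPGroup.iff_card.1 hT2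
    rw [hk] at hd
    exact hr2 ((Nat.prime_dvd_prime_iff_eq hr Nat.prime_two).1 (hr.dvd_of_dvd_pow hd))
  have hh : (u : G ⧸ T) * (y : G ⧸ T) * (u : G ⧸ T)⁻¹ ∈ Subgroup.zpowers (y : G ⧸ T) := by
    rw [hu, hy, hh'inv]
    exact Subgroup.inv_mem _ (Subgroup.mem_zpowers h')
  obtain ⟨w, hwn, i, hwi⟩ := exists_normalizing_lift T hrT y u hya hh
  obtain ⟨j, hj⟩ := Subgroup.mem_zpowers_iff.1 (mem_normalizer_zpowers_iff.1 hwn)
  -- the image of w inverts the image of y
  have hwbar : (w : G ⧸ T) * (y : G ⧸ T) * (w : G ⧸ T)⁻¹ = (y : G ⧸ T)⁻¹ := by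
    rw [hwi, hu, hy]
    have hc : Commute (h' ^ i) h'⁻¹ := ((Commute.refl h').zpow_left i).inv_right
    calc h' ^ i * ubar * h' * (h' ^ i * ubar)⁻¹
        = h' ^ i * (ubar * h' * ubar⁻¹) * (h' ^ i)⁻¹ := by group
      _ = h' ^ i * h'⁻¹ * (h' ^ i)⁻¹ := by rw [hh'inv]
      _ = h'⁻¹ := by rw [hc.eq, mul_assoc, mul_inv_cancel, mul_one]
  -- so y^j * y ∈ T, hence trivial
  have hmem : y * y ^ j ∈ T := by
    have h1 : ((y ^ j : G) : G ⧸ T) = ((y⁻¹ : G) : G ⧸ T) := by
      rw [hj]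
      simpa using hwbar
    have h2 := QuotientGroup.eq.1 h1.symm
    simpa using h2
  have hyj : y * y ^ j = 1 := by
    have e : y * y ^ j = y ^ (j + 1) := by rw [zpow_add_one, (Commute.refl y).zpow_right j |>.eq]
    have h1 : (y ^ (j + 1)) ^ (r ^ a) = 1 := by
      rw [← zpow_natCast, ← zpow_mul, mul_comm, zpow_mul, zpow_natCast, hya, one_zpow]
    obtain ⟨k, hk⟩ := hT2 ⟨y * y ^ j, hmem⟩
    have hk' : (y ^ (j + 1)) ^ (2 ^ k) = 1 := by
      have := congrArg Subtype.val hk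
      rw [← e]
      simpa using this
    have hcop : Nat.Coprime (r ^ a) (2 ^ k) :=
      Nat.Coprime.pow a k ((Nat.coprime_primes hr Nat.prime_two).2 hr2)
    have := Nat.eq_one_of_dvd_coprimes hcop (orderOf_dvd_of_pow_eq_one h1)
      (orderOf_dvd_of_pow_eq_one hk')
    rw [e]
    exact orderOf_eq_one_iff.1 this
  refine ⟨y, w, ?_, ?_, ?_⟩
  · rintro rfl
    have : h' = 1 := by rw [← hy]; rfl
    rw [this, orderOf_one] at hh'ord
    exact hr.one_lt.ne hh'ord
  · have h1 : orderOf y ∣ r ^ a := orderOf_dvd_of_pow_eq_one hya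
    have hrodd : Odd r := hr.odd_of_ne_two hr2
    exact Odd.of_dvd_nat (hrodd.pow) h1
  · rw [← hj]
    exact eq_inv_of_mul_eq_one_right hyj

end Cfsg.Agent.Helper67
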