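import Mathlib
import Cfsg.Agent.Helper94.Uh.Conc

/-!
helper67, for helper94 (S5953), piece (ELT3): diagonal unitary matrices of determinant one with
`u` (even) pairwise distinct nontrivial eigenvalues of multiplicity one, `r ∣ q + 1`.
-/

set_option autoImplicit false
set_option linter.unusedSectionVars false
set_option linter.unusedVariables false

namespace Cfsg.Agent.Helper67.UhELT3

open Module Polynomial
open Cfsg.Agent.Helper59.InvChain Cfsg.Agent.Helper59.Elusive Cfsg.Agent.Helper94.Uh

universe u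

section diag

variable {F : Type u} [Field F] {n : ℕ}

/-- kernel dimension of a diagonal matrix -/
theorem finrank_ker_diagonal (w : Fin n → F) :
    finrank F ↥(LinearMap.ker (Matrix.toLin' (Matrix.diagonal w))) =
      Nat.card {j : Fin n // w j = 0} := by
  classical
  rw [Nat.card_eq_fintype_card]
  have h1 := LinearMap.finrank_range_add_finrank_ker (Matrix.toLin' (Matrix.diagonal w))
  have h2 : finrank F ↥(LinearMap.range (Matrix.toLin' (Matrix.diagonal w))) =
      Fintype.card {j : Fin n // w j ≠ 0} := by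
    rw [← Matrix.rank_diagonal w]
    rfl
  rw [Module.finrank_fintype_fun_eq_card, Fintype.card_fin] at h1
  have h3 := Fintype.card_subtype_compl (fun j : Fin n => w j = 0)
  rw [Fintype.card_fin] at h3
  have h4 := Fintype.card_subtype_le (fun j : Fin n => w j = 0)
  rw [Fintype.card_fin] at h4
  have h5 : Fintype.card {j : Fin n // w j ≠ 0} = Fintype.card {j : Fin n // ¬ w j = 0} := rfl
  omega

theorem aeval_toLin_diagonal (d : Fin n → F) (lam : F) :
    aeval (Matrix.toLin' (Matrix.diagonal d)) (X - C lam : F[X]) =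
      Matrix.toLin' (Matrix.diagonal (fun j => d j - lam)) := by
  rw [map_sub, aeval_X, aeval_C]
  apply LinearMap.ext
  intro v
  funext j
  simp [Matrix.toLin'_apply, Matrix.mulVec_diagonal, Algebra.algebraMap_eq_smul_one, sub_mul]

theorem ker_aeval_le_of_dvd (f : Module.End F (Fin n → F)) {P Q : F[X]} (h : P ∣ Q) :
    LinearMap.ker (aeval f P) ≤ LinearMap.ker (aeval f Q) := by
  obtain ⟨R, rfl⟩ := h
  intro v hv
  rw [LinearMap.mem_ker] at hv ⊢
  rw [mul_comm, map_mul, Module.End.mul_apply, hv, map_zero]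

end diag

/-- the exponents `1, r - 1, 2, r - 2, …` -/
def sExp (r j : ℕ) : ℕ := if j % 2 = 0 then j / 2 + 1 else r - (j / 2 + 1)

theorem prod_pairs {F : Type u} [Field F] (ζ : F) (r : ℕ) (hζ : ζ ^ r = 1) (m : ℕ) (hm : m ≤ r) :
    ∏ j ∈ Finset.range (2 * m), ζ ^ sExp r j = 1 := by
  induction m with
  | zero => simp
  | succ m ih =>
    rw [show 2 * (m + 1) = 2 * m + 1 + 1 by ring, Finset.prod_range_succ, Finset.prod_range_succ,
      ih (by omega), one_mul, ← pow_add]
    have h1 : sExp r (2 * m) = m + 1 := by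
      unfold sExp
      rw [if_pos (by omega)]
      omega
    have h2 : sExp r (2 * m + 1) = r - (m + 1) := by
      unfold sExp
      rw [if_neg (by omega)]
      congr 2
      omega
    rw [h1, h2, show m + 1 + (r - (m + 1)) = r by omega, hζ]

variable {F : Type u} [Field F] [Fintype F] {q n : ℕ} {p : ℕ} [Fact p.Prime] [CharP F p]

theorem exists_umat_aniso_two (hF : Fintype.card F = q ^ 2) (r : ℕ) [Fact r.Prime] (hrp : r ≠ p)
    (hr2 : r ≠ 2) (hrq : r ∣ q + 1) (u : ℕ) (hu : 0 < u) (hev : Even u) (hut : u ≤ r - 1)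
    (hun : u ≤ n) :
    ∃ A : Matrix (Fin n) (Fin n) F, IsUM n q A ∧ A ^ r = 1 ∧ A.det = 1 ∧
      (∀ z : F, A ≠ z • (1 : Matrix (Fin n) (Fin n) F)) ∧
      finrank F ↥(fixSp (Matrix.toLin' A)) = n - u ∧
      ∀ P : F[X], Irreducible P → P ∣ cyclotomic r F →
        finrank F ↥(LinearMap.ker (aeval (Matrix.toLin' A) P)) ≤ 1 := by
  classical
  have hr : r.Prime := Fact.out
  have hr3 : 3 ≤ r := by
    have := hr.two_le
    omega
  -- an element of order `r`
  have hq1 : 1 ≤ q := by
    rcases Nat.eq_zero_or_pos q with h0 | h0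
    · exfalso
      rw [h0] at hF
      have := Fintype.card_pos (α := F)
      simp at hF
    · exact h0
  have hdvd : r ∣ Fintype.card Fˣ := by
    rw [Fintype.card_units, hF]
    obtain ⟨q', rfl⟩ : ∃ q', q = q' + 1 := ⟨q - 1, by omega⟩
    have : (q' + 1) ^ 2 - 1 = (q' + 1 + 1) * q' := by
      apply Nat.sub_eq_of_eq_add
      ring
    rw [this]
    exact hrq.mul_right _
  obtain ⟨x, hx⟩ := exists_prime_orderOf_dvd_card r hdvd
  set ζ : F := (x : F) with hζdef
  have hζord : orderOf ζ = r := by rw [hζdef, orderOf_units, hx]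
  have hζr : ζ ^ r = 1 := by rw [← hζord]; exact pow_orderOf_eq_one ζ
  have hζq : ζ ^ (q + 1) = 1 := by
    obtain ⟨c, hc⟩ := hrq
    rw [hc, pow_mul, hζr, one_pow]
  obtain ⟨m, hm⟩ := hev
  have hm2 : u = 2 * m := by omega
  -- the diagonal entries
  set d : Fin n → F := fun j => if (j : ℕ) < u then ζ ^ sExp r j else 1 with hd
  have hs_range : ∀ j : ℕ, j < u → 0 < sExp r j ∧ sExp r j < r := by
    intro j hj
    unfold sExp
    split_ifs with hpar <;> constructor <;> omega
  have hs_inj : ∀ j j' : ℕ, j < u → j' < u → sExp r j = sExp r j' → j = j' := by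
    intro j j' hj hj'
    unfold sExp
    split_ifs with h1 h2 h2 <;> intro h <;> omega
  have hd_lt : ∀ j : Fin n, (j : ℕ) < u → d j = ζ ^ sExp r j := fun j hj => by
    rw [hd]; exact if_pos hj
  have hd_ge : ∀ j : Fin n, ¬ (j : ℕ) < u → d j = 1 := fun j hj => by
    rw [hd]; exact if_neg hj
  have hd_ne_one : ∀ j : Fin n, (j : ℕ) < u → d j ≠ 1 := by
    intro j hj
    rw [hd_lt j hj]
    obtain ⟨h1, h2⟩ := hs_range j hj
    apply pow_ne_one_of_lt_orderOf h1.ne'
    rw [hζord]; exact h2
  have hd_inj : ∀ j j' : Fin n, (j : ℕ) < u → (j' : ℕ) < u → d j = d j' → j = j' := by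
    intro j j' hj hj' h
    rw [hd_lt j hj, hd_lt j' hj'] at h
    have h1 := (hs_range j hj).2
    have h2 := (hs_range j' hj').2
    have := pow_injOn_Iio_orderOf (x := ζ) (by rw [Set.mem_Iio, hζord]; exact h1)
      (by rw [Set.mem_Iio, hζord]; exact h2) h
    exact Fin.ext (hs_inj j j' hj hj' this)
  have hd_r : ∀ j, d j ^ r = 1 := by
    intro j
    by_cases hj : (j : ℕ) < u
    · rw [hd_lt j hj, ← pow_mul, mul_comm, pow_mul, hζr, one_pow]
    · rw [hd_ge j hj, one_pow]
  have hd_q : ∀ j, d j ^ (q + 1) = 1 := by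
    intro j
    by_cases hj : (j : ℕ) < u
    · rw [hd_lt j hj, ← pow_mul, mul_comm, pow_mul, hζq, one_pow]
    · rw [hd_ge j hj, one_pow]
  have hd_prod : ∏ j, d j = 1 := by
    have h1 : ∏ j : Fin n, d j = ∏ j ∈ Finset.range n, (if j < u then ζ ^ sExp r j else 1) :=
      Fin.prod_univ_eq_prod_range (fun j => if j < u then ζ ^ sExp r j else 1) n
    rw [h1]
    obtain ⟨k, rfl⟩ : ∃ k, n = u + k := ⟨n - u, by omega⟩
    rw [Finset.prod_range_add]
    have h2 : ∏ x ∈ Finset.range u, (if x < u then ζ ^ sExp r x else 1) =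
        ∏ x ∈ Finset.range u, ζ ^ sExp r x := by
      apply Finset.prod_congr rfl
      intro x hx
      rw [if_pos (Finset.mem_range.mp hx)]
    have h3 : ∏ x ∈ Finset.range k, (if u + x < u then ζ ^ sExp r (u + x) else 1) = 1 := by
      apply Finset.prod_eq_one
      intro x _
      rw [if_neg (by omega)]
    rw [h2, h3, mul_one, hm2]
    exact prod_pairs ζ r hζr m (by omega)
  refine ⟨Matrix.diagonal d, ?_, ?_, ?_, ?_, ?_, ?_⟩
  · -- unitary
    intro a b
    unfold Cfsg.hermForm
    apply Finset.sum_congr rfl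
    intro j _
    rw [Matrix.mulVec_diagonal, Matrix.mulVec_diagonal, mul_pow]
    have : d j * a j * (d j ^ q * b j ^ q) = d j ^ (q + 1) * (a j * b j ^ q) := by ring
    rw [this, hd_q, one_mul]
  · rw [Matrix.diagonal_pow, ← Matrix.diagonal_one]
    congr 1
    funext j
    exact hd_r j
  · rw [Matrix.det_diagonal, hd_prod]
  · intro z hz
    have hn2 : 2 ≤ n := by omega
    have h0 := congrFun (congrFun hz ⟨0, by omega⟩) ⟨0, by omega⟩
    have h1 := congrFun (congrFun hz ⟨1, by omega⟩) ⟨1, by omega⟩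
    rw [Matrix.diagonal_apply_eq, Matrix.smul_apply, Matrix.one_apply_eq, smul_eq_mul,
      mul_one] at h0 h1
    have := hd_inj ⟨0, by omega⟩ ⟨1, by omega⟩ (by simp; omega) (by simp; omega)
      (by rw [h0, h1])
    simp at this
  · -- the fixed space
    have h1 : fixSp (Matrix.toLin' (Matrix.diagonal d)) =
        LinearMap.ker (Matrix.toLin' (Matrix.diagonal (fun j => d j - 1))) := by
      unfold fixSp
      rw [← aeval_toLin_diagonal, map_one]
    rw [h1, finrank_ker_diagonal, Nat.card_eq_fintype_card]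
    have h2 : Fintype.card {j : Fin n // d j - 1 = 0} =
        Fintype.card {j : Fin n // ¬ (j : ℕ) < u} := by
      apply Fintype.card_congr
      apply Equiv.subtypeEquivRight
      intro j
      constructor
      · intro h hj
        exact hd_ne_one j hj (sub_eq_zero.mp h)
      · intro hj
        rw [hd_ge j hj, sub_self]
    rw [h2, Fintype.card_subtype_compl, Fintype.card_fin, Fintype.card_subtype,
      Fin.card_filter_val_lt, min_eq_right hun]
  · -- eigenspaces
    intro P hPi hPd
    have hprim : IsPrimitiveRoot ζ r := by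
      rw [← hζord]; exact IsPrimitiveRoot.orderOf ζ
    have hX : (X ^ r - 1 : F[X]) = ∏ μ ∈ nthRootsFinset r (1 : F), (X - C μ) :=
      X_pow_sub_one_eq_prod hr.pos hprim
    have hPX : P ∣ (X ^ r - 1 : F[X]) := hPd.trans (cyclotomic.dvd_X_pow_sub_one r F)
    rw [hX] at hPX
    obtain ⟨μ, _, hμ⟩ := (Prime.dvd_finsetProd_iff hPi.prime _).mp hPX
    refine (Submodule.finrank_mono (ker_aeval_le_of_dvd _ hμ)).trans ?_
    rw [aeval_toLin_diagonal, finrank_ker_diagonal, Nat.card_eq_fintype_card,
      Fintype.card_le_one_iff_subsingleton]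
    -- `μ ≠ 1`
    have hμ1 : μ ≠ 1 := by
      rintro rfl
      have hrF : (r : F) ≠ 0 := by
        intro h0
        have := (CharP.cast_eq_zero_iff F p r).mp h0
        exact hrp ((Nat.prime_dvd_prime_iff_eq Fact.out hr).mp this).symm
      have h1 : (X - C (1 : F)) ∣ cyclotomic r F :=
        (hPi.dvd_symm (irreducible_X_sub_C (1 : F)) hμ).trans hPd
      have h2 := (dvd_iff_isRoot.mp h1)
      rw [IsRoot.def, eval_one_cyclotomic_prime] at h2
      exact hrF h2
    constructor
    rintro ⟨j, hj⟩ ⟨j', hj'⟩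
    have e1 : d j = μ := sub_eq_zero.mp hj
    have e2 : d j' = μ := sub_eq_zero.mp hj'
    have hju : (j : ℕ) < u := by
      by_contra h
      rw [hd_ge j h] at e1
      exact hμ1 e1.symm
    have hju' : (j' : ℕ) < u := by
      by_contra h
      rw [hd_ge j' h] at e2
      exact hμ1 e2.symm
    exact Subtype.ext (hd_inj j j' hju hju' (e1.trans e2.symm))

end Cfsg.Agent.Helper67.UhELT3
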