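import Mathlib
import Cfsg.Agent.Helper38.VL.Defs

set_option autoImplicit false

namespace Cfsg.Agent.Helper67.VL

open Subgroup
open scoped commutatorElement Pointwise

universe u

section PL

variable {G : Type*} [Group G]

/-- ordered products `⁅u₁,x₁⁆ * ⋯ * ⁅u_d,x_d⁆` with `u_i ∈ P`, `[x₁, …, x_d] = l`. -/
def plT (P : Subgroup G) : List G → Set G
  | [] => {1}
  | x :: l => {y | ∃ u ∈ P, ∃ t ∈ plT P l, y = ⁅u, x⁆ * t}

theorem plT_nil (P : Subgroup G) : plT P [] = {1} := rfl

theorem mem_plT_cons {P : Subgroup G} {x : G} {l : List G} {y : G} :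
    y ∈ plT P (x :: l) ↔ ∃ u ∈ P, ∃ t ∈ plT P l, y = ⁅u, x⁆ * t := Iff.rfl

theorem one_mem_plT (P : Subgroup G) (l : List G) : (1 : G) ∈ plT P l := by
  induction l with
  | nil => rfl
  | cons x l ih => exact ⟨1, P.one_mem, 1, ih, by simp⟩

theorem commutator_mem_plT {P : Subgroup G} {l : List G} {x : G} (hx : x ∈ l) {a : G}
    (ha : a ∈ P) : ⁅a, x⁆ ∈ plT P l := by
  induction l with
  | nil => simp at hx
  | cons z l ih =>
    rcases List.mem_cons.mp hx with rfl | hx'
    · exact ⟨a, ha, 1, one_mem_plT P l, by simp⟩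
    · exact ⟨1, P.one_mem, _, ih hx', by simp⟩

theorem plT_map {H : Type*} [Group H] (f : G →* H) (P : Subgroup G) (l : List G) :
    plT (P.map f) (l.map f) = f '' (plT P l) := by
  induction l with
  | nil => simp [plT]
  | cons x l ih =>
    ext y
    simp only [List.map_cons, mem_plT_cons, Set.mem_image, ih]
    constructor
    · rintro ⟨u', ⟨u, hu, rfl⟩, t', ⟨t, ht, rfl⟩, rfl⟩
      exact ⟨⁅u, x⁆ * t, ⟨u, hu, t, ht, rfl⟩, by simp [map_commutatorElement]⟩
    · rintro ⟨_, ⟨u, hu, t, ht, rfl⟩, rfl⟩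
      exact ⟨f u, ⟨u, hu, rfl⟩, f t, ⟨t, ht, rfl⟩, by simp [map_commutatorElement]⟩

theorem commutator_mul_left_of_central {u v x : G} (hz : ⁅v, x⁆ ∈ center G) :
    ⁅u * v, x⁆ = ⁅u, x⁆ * ⁅v, x⁆ := by
  have h : ⁅u * v, x⁆ = u * ⁅v, x⁆ * u⁻¹ * ⁅u, x⁆ := by
    simp only [commutatorElement_def]; group
  rw [h, Subgroup.mem_center_iff.mp hz u, mul_inv_cancel_right,
    Subgroup.mem_center_iff.mp hz ⁅u, x⁆]

theorem commutator_mul_right_of_central {a g h : G} (hz : ⁅a, h⁆ ∈ center G) :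
    ⁅a, g * h⁆ = ⁅a, g⁆ * ⁅a, h⁆ := by
  have h' : ⁅a, g * h⁆ = ⁅a, g⁆ * (g * ⁅a, h⁆ * g⁻¹) := by
    simp only [commutatorElement_def]; group
  rw [h', Subgroup.mem_center_iff.mp hz g, mul_inv_cancel_right]

theorem commutator_inv_left_of_central {u x : G} (hz : ⁅u⁻¹, x⁆ ∈ center G) :
    ⁅u⁻¹, x⁆ = ⁅u, x⁆⁻¹ := by
  have h := commutator_mul_left_of_central (u := u) hz
  rw [mul_inv_cancel, commutatorElement_one_left] at h
  exact eq_inv_of_mul_eq_one_right h.symm

theorem commutator_inv_right_of_central {a g : G} (hz : ⁅a, g⁻¹⁆ ∈ center G) :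
    ⁅a, g⁻¹⁆ = ⁅a, g⁆⁻¹ := by
  have h := commutator_mul_right_of_central (g := g) hz
  rw [mul_inv_cancel, commutatorElement_one_right] at h
  exact eq_inv_of_mul_eq_one_right h.symm

theorem mul_mem_plT {P A : Subgroup G} (hAP : A ≤ P)
    (hc : ∀ a ∈ A, ∀ g : G, ⁅a, g⁆ ∈ center G) (l : List G) :
    ∀ t ∈ plT P l, ∀ w ∈ plT A l, t * w ∈ plT P l := by
  induction l with
  | nil =>
    intro t ht w hw
    rw [plT_nil, Set.mem_singleton_iff] at ht hw ⊢
    simp [ht, hw]
  | cons x l ih =>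
    rintro _ ⟨u, hu, t, ht, rfl⟩ _ ⟨v, hv, w, hw, rfl⟩
    refine ⟨u * v, P.mul_mem hu (hAP hv), t * w, ih t ht w hw, ?_⟩
    have hz := hc v hv x
    rw [commutator_mul_left_of_central hz, mul_assoc ⁅u, x⁆ t, ← mul_assoc t,
      Subgroup.mem_center_iff.mp hz t]
    simp only [mul_assoc]

theorem inv_mem_plT {A : Subgroup G}
    (hc : ∀ a ∈ A, ∀ g : G, ⁅a, g⁆ ∈ center G) (l : List G) :
    ∀ t ∈ plT A l, t⁻¹ ∈ plT A l := by
  induction l with
  | nil =>
    intro t ht
    rw [plT_nil, Set.mem_singleton_iff] at ht ⊢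
    simp [ht]
  | cons x l ih =>
    rintro _ ⟨u, hu, t, ht, rfl⟩
    refine ⟨u⁻¹, A.inv_mem hu, t⁻¹, ih t ht, ?_⟩
    have hz := hc u hu x
    rw [commutator_inv_left_of_central (hc u⁻¹ (A.inv_mem hu) x), mul_inv_rev,
      ← Subgroup.mem_center_iff.mp (Subgroup.inv_mem _ hz) t⁻¹]

/-- when `⁅A, G⁆` is central, the ordered products form a subgroup. -/
def plSub (A : Subgroup G) (hc : ∀ a ∈ A, ∀ g : G, ⁅a, g⁆ ∈ center G) (l : List G) :
    Subgroup G where
  carrier := plT A l
  mul_mem' := fun {a b} ha hb => mul_mem_plT le_rfl hc l a ha b hb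
  one_mem' := one_mem_plT A l
  inv_mem' := fun {a} ha => inv_mem_plT hc l a ha

theorem commutator_le_plT {A : Subgroup G} (hc : ∀ a ∈ A, ∀ g : G, ⁅a, g⁆ ∈ center G)
    {l : List G} (hl : closure {x | x ∈ l} = ⊤) :
    ∀ w ∈ ⁅A, (⊤ : Subgroup G)⁆, w ∈ plT A l := by
  have key : ⁅A, (⊤ : Subgroup G)⁆ ≤ plSub A hc l := by
    rw [Subgroup.commutator_le]
    intro a ha
    have hall : ∀ g : G, ⁅a, g⁆ ∈ plSub A hc l := by
      intro g
      have hg : g ∈ closure {x | x ∈ l} := hl ▸ mem_top g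
      induction hg using Subgroup.closure_induction with
      | mem x hx => exact commutator_mem_plT hx ha
      | one => rw [commutatorElement_one_right]; exact one_mem _
      | mul g h _ _ ihg ihh =>
        rw [commutator_mul_right_of_central (hc a ha h)]; exact mul_mem ihg ihh
      | inv g _ ih =>
        rw [commutator_inv_right_of_central (hc a ha g⁻¹)]; exact inv_mem ih
    exact fun g _ => hall g
  exact fun w hw => key hw

/-- the series `P, ⁅P,G⁆, ⁅⁅P,G⁆,G⁆, …` -/
def plSer (P : Subgroup G) : ℕ → Subgroup G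
  | 0 => P
  | k + 1 => ⁅plSer P k, (⊤ : Subgroup G)⁆

theorem plSer_normal (P : Subgroup G) [hP : P.Normal] : ∀ k, (plSer P k).Normal
  | 0 => hP
  | k + 1 => by
    have := plSer_normal P k
    exact Subgroup.commutator_normal _ _

theorem plSer_succ_le (P : Subgroup G) [P.Normal] (k : ℕ) : plSer P (k + 1) ≤ plSer P k := by
  have := plSer_normal P k
  exact Subgroup.commutator_le_left _ _

theorem plSer_le (P : Subgroup G) [P.Normal] : ∀ k, plSer P k ≤ P
  | 0 => le_rfl
  | k + 1 => (plSer_succ_le P k).trans (plSer_le P k)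

theorem plSer_le_lcs (P : Subgroup G) : ∀ k, plSer P k ≤ Subgroup.lowerCentralSeries (⊤ : Subgroup G) k
  | 0 => le_top
  | k + 1 => Subgroup.commutator_mono (plSer_le_lcs P k) le_rfl

theorem exists_central_step (hnil : Group.IsNilpotent G) (P : Subgroup G) [P.Normal]
    (hP : ⁅P, (⊤ : Subgroup G)⁆ ≠ ⊥) :
    ∃ A : Subgroup G, A.Normal ∧ A ≤ P ∧ ⁅A, (⊤ : Subgroup G)⁆ ≠ ⊥ ∧
      ⁅⁅A, (⊤ : Subgroup G)⁆, (⊤ : Subgroup G)⁆ = ⊥ := by
  classical
  obtain ⟨n, hn⟩ := Subgroup.nilpotent_iff_lowerCentralSeries.mp hnil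
  have hex : ∃ n, plSer P n = ⊥ := ⟨n, le_bot_iff.mp (hn ▸ plSer_le_lcs P n)⟩
  have hm0 : plSer P (Nat.find hex) = ⊥ := Nat.find_spec hex
  have h1 : plSer P 1 ≠ ⊥ := hP
  have h0 : plSer P 0 ≠ ⊥ := by
    intro h
    apply hP
    have hP0 : P = ⊥ := h
    rw [hP0]
    exact Subgroup.commutator_bot_left _
  have hm2 : 2 ≤ Nat.find hex := by
    by_contra hlt
    have hlt' : Nat.find hex < 2 := not_le.mp hlt
    have : Nat.find hex = 0 ∨ Nat.find hex = 1 := by omega
    rcases this with h | h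
    · rw [h] at hm0; exact h0 hm0
    · rw [h] at hm0; exact h1 hm0
  obtain ⟨k, hk⟩ := Nat.exists_eq_add_of_le hm2
  refine ⟨plSer P k, plSer_normal P k, plSer_le P k, ?_, ?_⟩
  · exact Nat.find_min hex (by omega : k + 1 < Nat.find hex)
  · have : plSer P (k + 2) = ⊥ := by
      rw [show k + 2 = Nat.find hex by omega]; exact hm0
    exact this

end PL

/-- every element of `⁅P, G⁆` is an ordered product of commutators `⁅u_i, x_i⁆`, `u_i ∈ P`. -/
theorem commutator_subset_plT_aux (n : ℕ) : ∀ (G : Type u) [Group G] [Finite G],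
    Nat.card G ≤ n → Group.IsNilpotent G → ∀ (P : Subgroup G) [P.Normal] (l : List G),
    closure {x | x ∈ l} = ⊤ → ∀ y ∈ ⁅P, (⊤ : Subgroup G)⁆, y ∈ plT P l := by
  induction n with
  | zero =>
    intro G _ _ hcard
    exact absurd hcard (by have := Nat.card_pos (α := G); omega)
  | succ n ih =>
    intro G _ _ hcard hnil P _ l hl y hy
    by_cases hP : ⁅P, (⊤ : Subgroup G)⁆ = ⊥
    · rw [hP, Subgroup.mem_bot] at hy
      rw [hy]; exact one_mem_plT P l
    obtain ⟨A, hAn, hAP, hA1, hA2⟩ := exists_central_step hnil P hP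
    have := hAn
    have := hnil
    set Z : Subgroup G := ⁅A, (⊤ : Subgroup G)⁆ with hZ
    have hc : ∀ a ∈ A, ∀ g : G, ⁅a, g⁆ ∈ center G := by
      intro a ha g
      rw [Subgroup.mem_center_iff]
      intro h
      have h1 : ⁅⁅a, g⁆, h⁆ ∈ ⁅Z, (⊤ : Subgroup G)⁆ :=
        Subgroup.commutator_mem_commutator
          (Subgroup.commutator_mem_commutator ha (mem_top g)) (mem_top h)
      rw [hA2, Subgroup.mem_bot, commutatorElement_eq_one_iff_commute] at h1
      exact h1.eq.symm
    have hlt : Nat.card (G ⧸ Z) < Nat.card G := by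
      have h1 := Subgroup.card_eq_card_quotient_mul_card_subgroup Z
      have h2 : 1 < Nat.card Z := (Subgroup.one_lt_card_iff_ne_bot Z).mpr hA1
      have h3 : 0 < Nat.card (G ⧸ Z) := Nat.card_pos
      rw [h1]
      exact lt_mul_of_one_lt_right h3 h2
    have hsurj : Function.Surjective (QuotientGroup.mk' Z) := QuotientGroup.mk'_surjective Z
    have : (P.map (QuotientGroup.mk' Z)).Normal := Subgroup.Normal.map ‹P.Normal› _ hsurj
    have hl' : closure {x | x ∈ l.map (QuotientGroup.mk' Z)} = ⊤ := by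
      have : {x | x ∈ l.map (QuotientGroup.mk' Z)} = (QuotientGroup.mk' Z) '' {x | x ∈ l} := by
        ext q; simp [List.mem_map]
      rw [this, ← MonoidHom.map_closure, hl, Subgroup.map_top_of_surjective _ hsurj]
    have hy' : (QuotientGroup.mk' Z) y ∈
        ⁅P.map (QuotientGroup.mk' Z), (⊤ : Subgroup (G ⧸ Z))⁆ := by
      rw [← Subgroup.map_top_of_surjective _ hsurj, ← Subgroup.map_commutator]
      exact Subgroup.mem_map_of_mem _ hy
    have h := ih (G ⧸ Z) (by omega) inferInstance (P.map (QuotientGroup.mk' Z))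
      (l.map (QuotientGroup.mk' Z)) hl' _ hy'
    rw [plT_map] at h
    obtain ⟨t, ht, hty⟩ := h
    have hw : t⁻¹ * y ∈ Z := by
      have := QuotientGroup.eq.mp hty
      exact this
    have hw' : t⁻¹ * y ∈ plT A l := commutator_le_plT hc hl _ hw
    have := mul_mem_plT hAP hc l t ht _ hw'
    rwa [mul_inv_cancel_left] at this

section Card

variable {G : Type*} [Group G]

theorem natCard_range_commutator_le [Finite G] (P : Subgroup G) (x : G) :
    Nat.card (Set.range fun u : P => ⁅(u : G), x⁆) ≤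
      (centralizer ({x} : Set G)).relIndex P := by
  let f : P ⧸ (centralizer ({x} : Set G)).subgroupOf P → G :=
    Quotient.lift (fun u : P => ⁅(u : G), x⁆) (by
      intro u v huv
      have h := QuotientGroup.leftRel_apply.mp huv
      rw [Subgroup.mem_subgroupOf, Subgroup.mem_centralizer_iff] at h
      have hx := h x (Set.mem_singleton x)
      simp only [Subgroup.coe_mul, Subgroup.coe_inv] at hx
      have hv : (v : G) = u * ((u : G)⁻¹ * v) := by group
      have hcx : ((u : G)⁻¹ * v) * x * ((u : G)⁻¹ * v)⁻¹ = x := by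
        rw [← hx, mul_inv_cancel_right]
      show ⁅(u : G), x⁆ = ⁅(v : G), x⁆
      rw [hv]
      generalize ((u : G)⁻¹ * v) = c at hcx
      have : ⁅(u : G) * c, x⁆ = u * (c * x * c⁻¹) * (u : G)⁻¹ * x⁻¹ := by
        simp only [commutatorElement_def]; group
      rw [this, hcx, commutatorElement_def])
  have hsub : (Set.range fun u : P => ⁅(u : G), x⁆) ⊆ Set.range f := by
    rintro _ ⟨u, rfl⟩
    exact ⟨QuotientGroup.mk u, rfl⟩
  calc Nat.card (Set.range fun u : P => ⁅(u : G), x⁆) ≤ Nat.card (Set.range f) :=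
        Nat.card_mono (Set.toFinite _) hsub
    _ ≤ Nat.card (P ⧸ (centralizer ({x} : Set G)).subgroupOf P) := Finite.card_range_le f
    _ = (centralizer ({x} : Set G)).relIndex P := rfl

theorem natCard_plT_le [Finite G] (P : Subgroup G) (l : List G) :
    Nat.card (plT P l) ≤ (l.map fun x => (centralizer ({x} : Set G)).relIndex P).prod := by
  induction l with
  | nil => simp [plT]
  | cons x l ih =>
    have hsub : plT P (x :: l) ⊆ (Set.range fun u : P => ⁅(u : G), x⁆) * plT P l := by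
      rintro _ ⟨u, hu, t, ht, rfl⟩
      exact Set.mul_mem_mul ⟨⟨u, hu⟩, rfl⟩ ht
    calc Nat.card (plT P (x :: l))
        ≤ Nat.card ((Set.range fun u : P => ⁅(u : G), x⁆) * plT P l : Set G) :=
          Nat.card_mono (Set.toFinite _) hsub
      _ ≤ Nat.card (Set.range fun u : P => ⁅(u : G), x⁆) * Nat.card (plT P l) :=
          Set.natCard_mul_le
      _ ≤ (centralizer ({x} : Set G)).relIndex P *
            (l.map fun x => (centralizer ({x} : Set G)).relIndex P).prod :=
          Nat.mul_le_mul (natCard_range_commutator_le P x) ih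
      _ = ((x :: l).map fun x => (centralizer ({x} : Set G)).relIndex P).prod := by
          rw [List.map_cons, List.prod_cons]

end Card

/-- (S4) product lemma: `|[P,G]| ≤ ∏ |P : C_P(x_i)|` for nilpotent `G = ⟨x_1..x_d⟩`, `P ⊴ G`. -/
theorem card_commutator_normal_le {G : Type*} [Group G] [Finite G] (hnil : Group.IsNilpotent G)
    (P : Subgroup G) [P.Normal] {d : ℕ} (x : Fin d → G)
    (hgen : Subgroup.closure (Set.range x) = ⊤) :
    Nat.card (⁅P, (⊤ : Subgroup G)⁆ : Subgroup G) ≤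
      ∏ i, (Subgroup.centralizer ({x i} : Set G)).relIndex P := by
  have hl : closure {y | y ∈ List.ofFn x} = ⊤ := by
    rw [← hgen]
    congr 1
    ext y
    simp [List.mem_ofFn]
  have hsub : ((⁅P, (⊤ : Subgroup G)⁆ : Subgroup G) : Set G) ⊆ plT P (List.ofFn x) :=
    fun y hy => commutator_subset_plT_aux _ G le_rfl hnil P _ hl y hy
  calc Nat.card (⁅P, (⊤ : Subgroup G)⁆ : Subgroup G)
      ≤ Nat.card (plT P (List.ofFn x)) := Nat.card_mono (Set.toFinite _) hsub
    _ ≤ ((List.ofFn x).map fun x => (centralizer ({x} : Set G)).relIndex P).prod :=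
        natCard_plT_le P _
    _ = ∏ i, (Subgroup.centralizer ({x i} : Set G)).relIndex P := by
        rw [List.map_ofFn, List.prod_ofFn]
        rfl

end Cfsg.Agent.Helper67.VL
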