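import Cfsg.Prelude.Def_Solvable
import Cfsg.Agent.Helper1.CoprimeSylow
import Cfsg.Agent.Helper9.ComplementSystem

/-!
Consequences of the `Z*`-theorem for an involution `d` all of whose products of two conjugates
are `p`-elements (`p` odd): given an odd normal subgroup `N` containing all commutators `[d,g]`
(the conclusion of `Z*`), all products of two conjugates of `d` lie in `O_p(G)`.
No solvability of `N` is used.
-/

set_option autoImplicit false

namespace Cfsg.Agent.Helper67.ZStarCons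

open Subgroup

variable {G : Type*} [Group G]

theorem mem_conj_iff {a b : G} : b ∈ conjugatesOf a ↔ ∃ c : G, c * a * c⁻¹ = b := isConj_iff

/-- If `d² = 1` and `d` inverts `y` of odd order then `y * d` is conjugate to `d` by a power
of `y`. -/
theorem exists_conj_of_inverted {d y : G} (hd : d * d = 1) (hinv : d * y * d⁻¹ = y⁻¹)
    (hodd : Odd (orderOf y)) : ∃ z ∈ Subgroup.zpowers y, z * d * z⁻¹ = y * d := by
  obtain ⟨k, hk⟩ := hodd
  refine ⟨y ^ (k + 1), Subgroup.pow_mem _ (Subgroup.mem_zpowers y) _, ?_⟩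
  have hzz : y ^ (k + 1) * y ^ (k + 1) = y := by
    rw [← pow_add]
    have : k + 1 + (k + 1) = orderOf y + 1 := by omega
    rw [this, pow_succ, pow_orderOf_eq_one, one_mul]
  have hdz : d * y ^ (k + 1) * d⁻¹ = (y ^ (k + 1))⁻¹ := by
    have h1 : d * y ^ (k + 1) * d⁻¹ = (d * y * d⁻¹) ^ (k + 1) := by
      rw [conj_pow]
    rw [h1, hinv, inv_pow]
  have hdz' : d * (y ^ (k + 1))⁻¹ * d⁻¹ = y ^ (k + 1) := by
    have h2 : d * (y ^ (k + 1))⁻¹ * d⁻¹ = (d * y ^ (k + 1) * d⁻¹)⁻¹ := by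
      simp [mul_assoc]
    rw [h2, hdz, inv_inv]
  have hdinv : d⁻¹ = d := inv_eq_of_mul_eq_one_left hd
  calc y ^ (k + 1) * d * (y ^ (k + 1))⁻¹
      = y ^ (k + 1) * (d * (y ^ (k + 1))⁻¹ * d⁻¹) * d := by
        rw [hdinv]; simp only [mul_assoc]; rw [hd, mul_one]
    _ = y ^ (k + 1) * y ^ (k + 1) * d := by rw [hdz']
    _ = y * d := by rw [hzz]

/-- Main consequence: `Z*` conclusion + `p`-power products ⇒ products lie in `O_p(G)`. -/
theorem mul_mem_pCore_of_odd_normal [Finite G] {p : ℕ} (hp : p.Prime)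
    (d : G) (hd : orderOf d = 2)
    (hprod : ∀ a ∈ conjugatesOf d, ∀ b ∈ conjugatesOf d, ∃ k : ℕ, orderOf (a * b) = p ^ k)
    (N : Subgroup G) (hN : N.Normal) (hNodd : Odd (Nat.card N))
    (hdN : ∀ g : G, d * g * d⁻¹ * g⁻¹ ∈ N) :
    ∀ a ∈ conjugatesOf d, ∀ b ∈ conjugatesOf d, a * b ∈ Cfsg.pCore p G := by
  classical
  have : Fact p.Prime := ⟨hp⟩
  have hdd : d * d = 1 := by rw [← pow_two, ← hd, pow_orderOf_eq_one]
  have hdinv : d⁻¹ = d := inv_eq_of_mul_eq_one_left hdd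
  have hself : d ∈ conjugatesOf d := mem_conjugatesOf_self
  -- conjugates are involutions
  have hsq : ∀ b ∈ conjugatesOf d, b * b = 1 := by
    intro b hb
    obtain ⟨c, rfl⟩ := mem_conj_iff.mp hb
    calc c * d * c⁻¹ * (c * d * c⁻¹) = c * (d * d) * c⁻¹ := by group
      _ = 1 := by rw [hdd]; group
  -- (1) inverted elements of N are p-elements
  have hinvP : ∀ y ∈ N, d * y * d⁻¹ = y⁻¹ → ∃ k, orderOf y = p ^ k := by
    intro y hy hinv
    have hodd : Odd (orderOf y) :=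
      Odd.of_dvd_nat hNodd (Subgroup.orderOf_dvd_natCard N hy)
    obtain ⟨z, -, hz⟩ := exists_conj_of_inverted hdd hinv hodd
    have h1 : y * d ∈ conjugatesOf d := by
      rw [← hz]; exact mem_conj_iff.mpr ⟨z, rfl⟩
    obtain ⟨k, hk⟩ := hprod _ h1 d hself
    exact ⟨k, by rwa [mul_assoc, hdd, mul_one] at hk⟩
  -- (2) b ∈ D ⇒ b * d ∈ N and inverted
  have hbN : ∀ b ∈ conjugatesOf d, b * d ∈ N ∧ d * (b * d) * d⁻¹ = (b * d)⁻¹ := by
    intro b hb
    have hbb := hsq b hb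
    have hbinv : b⁻¹ = b := inv_eq_of_mul_eq_one_left hbb
    obtain ⟨c, rfl⟩ := mem_conj_iff.mp hb
    refine ⟨?_, ?_⟩
    · have h1 := N.inv_mem (hdN c)
      have h2 : (d * c * d⁻¹ * c⁻¹)⁻¹ = c * d * c⁻¹ * d := by
        rw [hdinv]; simp only [mul_inv_rev, inv_inv, mul_assoc, hdinv]
      rwa [h2] at h1
    · rw [mul_inv_rev, hdinv, hbinv]
      simp only [mul_assoc]; rw [hdd, mul_one]
  -- (3) the acting group
  set A : Subgroup G := Subgroup.zpowers d with hA
  have hAcard : Nat.card A = 2 := by rw [hA, Nat.card_zpowers, hd]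
  have hAN : A ≤ Subgroup.normalizer (N : Set G) := by
    rw [Subgroup.normalizer_eq_top]; exact le_top
  have hcop : (Nat.card A).Coprime (Nat.card N) := by
    rw [hAcard]; exact Nat.coprime_two_left.mpr hNodd
  have hdA : d ∈ A := Subgroup.mem_zpowers d
  have hAsolv : Group.IsSolvable A ∨ Group.IsSolvable N := by
    left
    have : IsMulCommutative A := by rw [hA]; infer_instance
    infer_instance
  -- d-invariant Sylow subgroups
  have hinvSyl : ∀ (q : ℕ) [Fact q.Prime], ∃ Q : Sylow q N,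
      ∀ x ∈ (Q : Subgroup N).map N.subtype, d * x * d⁻¹ ∈ (Q : Subgroup N).map N.subtype := by
    intro q _
    obtain ⟨Q, hQ⟩ := Cfsg.Agent.Helper1.exists_invariant_sylow A N hAN hcop hAsolv q
    refine ⟨Q, fun x hx => ?_⟩
    exact (Subgroup.mem_normalizer_iff.mp (hQ hdA) x).mp hx
  -- centralizer of d inside N
  set Z : Subgroup G := Subgroup.centralizer ({d} : Set G) with hZ
  set Cn : Subgroup N := Z.subgroupOf N with hCn
  -- (5) for q ≠ p the invariant Sylow q-subgroup is centralized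
  have hcent : ∀ (q : ℕ) [Fact q.Prime], q ≠ p → ∃ Q : Sylow q N, (Q : Subgroup N) ≤ Cn := by
    intro q hq hqp
    obtain ⟨Q, hQ⟩ := hinvSyl q
    refine ⟨Q, fun x hx => ?_⟩
    rw [hCn, Subgroup.mem_subgroupOf, hZ, Subgroup.mem_centralizer_iff]
    intro h hh
    rw [Set.mem_singleton_iff] at hh
    rw [hh]
    -- y = x⁻¹ * (d x d⁻¹)
    have hxQ' : (x : G) ∈ (Q : Subgroup N).map N.subtype := ⟨x, hx, rfl⟩
    have hdx : d * (x : G) * d⁻¹ ∈ (Q : Subgroup N).map N.subtype := hQ _ hxQ'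
    set y : G := (x : G)⁻¹ * (d * (x : G) * d⁻¹) with hy
    have hyQ' : y ∈ (Q : Subgroup N).map N.subtype :=
      Subgroup.mul_mem _ (Subgroup.inv_mem _ hxQ') hdx
    have hyN : y ∈ N := by
      obtain ⟨w, -, hw⟩ := hyQ'
      rw [← hw]; exact w.2
    have hyinv : d * y * d⁻¹ = y⁻¹ := by
      rw [hy, hdinv]
      simp only [mul_inv_rev, inv_inv, mul_assoc, hdinv]
      rw [hdd, mul_one]
    obtain ⟨k, hk⟩ := hinvP y hyN hyinv
    -- y is a q-element
    have hQpg : IsPGroup q ((Q : Subgroup N).map N.subtype) := Q.isPGroup'.map N.subtype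
    obtain ⟨j, hj⟩ := hQpg ⟨y, hyQ'⟩
    have hj' : y ^ q ^ j = 1 := by
      have := congrArg Subtype.val hj
      simpa using this
    have hdvd : p ^ k ∣ q ^ j := by rw [← hk]; exact orderOf_dvd_of_pow_eq_one hj'
    have hk0 : k = 0 := by
      by_contra hk0
      have h1 : p ∣ q ^ j := (dvd_pow_self p hk0).trans hdvd
      have h2 : p ∣ q := hp.dvd_of_dvd_pow h1
      exact hqp ((Nat.prime_dvd_prime_iff_eq hp hq.out).mp h2).symm
    rw [hk0, pow_zero, orderOf_eq_one_iff] at hk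
    -- so d x d⁻¹ = x
    have h3 : d * (x : G) * d⁻¹ = (x : G) := by
      have : (x : G) * y = (x : G) * 1 := by rw [hk]
      rw [hy, mul_one, ← mul_assoc, mul_inv_cancel, one_mul] at this
      exact this
    calc d * (x : G) = d * (x : G) * d⁻¹ * d := by group
      _ = (x : G) * d := by rw [h3]
  -- (6) index of Cn is a p-power
  have hCnidx : ∃ a : ℕ, Cn.index = p ^ a := by
    refine ⟨_, Nat.eq_prime_pow_of_unique_prime_dvd Subgroup.index_ne_zero_of_finite ?_⟩
    intro q hq hqd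
    by_contra hqp
    have : Fact q.Prime := ⟨hq⟩
    obtain ⟨Q, hQ⟩ := hcent q hqp
    exact Q.not_dvd_index (hqd.trans (Subgroup.index_dvd_of_le hQ))
  obtain ⟨a, ha⟩ := hCnidx
  -- (7) invariant Sylow p-subgroup
  obtain ⟨P, hPinv⟩ := hinvSyl p
  have hcopidx : Nat.Coprime (P : Subgroup N).index Cn.index := by
    rw [ha]
    exact Nat.Coprime.pow_right a ((Nat.Prime.coprime_iff_not_dvd hp).mpr P.not_dvd_index).symm
  set P' : Subgroup G := (P : Subgroup N).map N.subtype with hP'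
  have hP'pg : IsPGroup p P' := P.isPGroup'.map N.subtype
  -- (8) d * b ∈ P' for b ∈ D
  have hdb : ∀ b ∈ conjugatesOf d, d * b ∈ P' := by
    intro b hb
    obtain ⟨hbdN, hbdinv⟩ := hbN b hb
    have hodd : Odd (orderOf (b * d)) :=
      Odd.of_dvd_nat hNodd (Subgroup.orderOf_dvd_natCard N hbdN)
    obtain ⟨z, hz, hzb⟩ := exists_conj_of_inverted hdd hbdinv hodd
    have hzN : z ∈ N := (Subgroup.zpowers_le.mpr hbdN) hz
    replace hzb : z * d * z⁻¹ = b := by rw [hzb, mul_assoc, hdd, mul_one]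
    obtain ⟨x, hx, c, hc, hxc⟩ :=
      Cfsg.Agent.Helper9.exists_mul_of_coprime_index (P : Subgroup N) Cn hcopidx ⟨z, hzN⟩
    have hzxc : z = (x : G) * (c : G) := by
      have := congrArg Subtype.val hxc
      simpa using this
    have hcd : d * (c : G) = (c : G) * d := by
      rw [hCn, Subgroup.mem_subgroupOf, hZ, Subgroup.mem_centralizer_iff] at hc
      exact hc d rfl
    have hb' : b = (x : G) * d * (x : G)⁻¹ := by
      rw [← hzb, hzxc]
      calc (x : G) * (c : G) * d * ((x : G) * (c : G))⁻¹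
          = (x : G) * ((c : G) * d) * (c : G)⁻¹ * (x : G)⁻¹ := by group
        _ = (x : G) * (d * (c : G)) * (c : G)⁻¹ * (x : G)⁻¹ := by rw [hcd]
        _ = (x : G) * d * (x : G)⁻¹ := by group
    have hxP' : (x : G) ∈ P' := ⟨x, hx, rfl⟩
    have h1 : d * (x : G) * d⁻¹ ∈ P' := hPinv _ hxP'
    have h2 : d * b = d * (x : G) * d⁻¹ * (x : G)⁻¹ := by
      rw [hb', hdinv]; group
    rw [h2]
    exact Subgroup.mul_mem _ h1 (Subgroup.inv_mem _ hxP')
  -- (9) the set of products and its normal closure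
  set S : Set G := {g | ∃ a ∈ conjugatesOf d, ∃ b ∈ conjugatesOf d, g = a * b} with hS
  have hSP' : ∀ g ∈ S, g ∈ P' := by
    rintro g ⟨a', ha', b, hb, rfl⟩
    have hainv : a'⁻¹ = a' := inv_eq_of_mul_eq_one_left (hsq a' ha')
    have h1 : a' * b = (d * a')⁻¹ * (d * b) := by
      rw [mul_inv_rev, hainv]; group
    rw [h1]
    exact Subgroup.mul_mem _ (Subgroup.inv_mem _ (hdb a' ha')) (hdb b hb)
  have hSconj : ∀ g ∈ Group.conjugatesOfSet S, g ∈ S := by
    intro g hg
    obtain ⟨s, ⟨a', ha', b, hb, rfl⟩, hconj⟩ := Group.mem_conjugatesOfSet_iff.mp hg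
    obtain ⟨c, rfl⟩ := isConj_iff.mp hconj
    refine ⟨c * a' * c⁻¹, ?_, c * b * c⁻¹, ?_, by group⟩
    · exact IsConj.trans ha' (isConj_iff.mpr ⟨c, rfl⟩)
    · exact IsConj.trans hb (isConj_iff.mpr ⟨c, rfl⟩)
  set M : Subgroup G := Subgroup.normalClosure S with hM
  have hMP' : M ≤ P' := by
    rw [hM, Subgroup.normalClosure, Subgroup.closure_le]
    intro g hg
    exact hSP' g (hSconj g hg)
  have hMn : M.Normal := Subgroup.normalClosure_normal
  have hMpg : IsPGroup p M := hP'pg.to_le hMP'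
  have hMcore : M ≤ Cfsg.pCore p G := le_sSup ⟨hMn, hMpg⟩
  intro a' ha' b hb
  exact hMcore (Subgroup.subset_normalClosure ⟨a', ha', b, hb, rfl⟩)

/-- An involution all of whose products with conjugates are `p`-elements (`p` odd) is
isolated in any Sylow 2-subgroup containing it. -/
theorem isolated_of_prod [Finite G] {p : ℕ} (hp : p.Prime) (hp2 : p ≠ 2)
    (d : G) (hd : orderOf d = 2)
    (hprod : ∀ a ∈ conjugatesOf d, ∀ b ∈ conjugatesOf d, ∃ k : ℕ, orderOf (a * b) = p ^ k)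
    (P : Sylow 2 G) (hdP : d ∈ P) (g : G) (hg : g * d * g⁻¹ ∈ P) : g * d * g⁻¹ = d := by
  have hdd : d * d = 1 := by rw [← pow_two, ← hd, pow_orderOf_eq_one]
  have hdinv : d⁻¹ = d := inv_eq_of_mul_eq_one_left hdd
  have h1 : g * d * g⁻¹ ∈ conjugatesOf d := mem_conj_iff.mpr ⟨g, rfl⟩
  obtain ⟨k, hk⟩ := hprod _ h1 d mem_conjugatesOf_self
  have hmem : g * d * g⁻¹ * d ∈ (P : Subgroup G) := Subgroup.mul_mem _ hg hdP
  obtain ⟨j, hj⟩ := P.isPGroup' ⟨_, hmem⟩
  have hj' : (g * d * g⁻¹ * d) ^ 2 ^ j = 1 := by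
    have := congrArg Subtype.val hj
    simpa using this
  have hdvd : p ^ k ∣ 2 ^ j := by rw [← hk]; exact orderOf_dvd_of_pow_eq_one hj'
  have hk0 : k = 0 := by
    by_contra hk0
    have h1 : p ∣ 2 ^ j := (dvd_pow_self p hk0).trans hdvd
    have h2 : p ∣ 2 := hp.dvd_of_dvd_pow h1
    exact hp2 ((Nat.prime_dvd_prime_iff_eq hp Nat.prime_two).mp h2)
  rw [hk0, pow_zero, orderOf_eq_one_iff] at hk
  calc g * d * g⁻¹ = g * d * g⁻¹ * d * d⁻¹ := by group
    _ = d := by rw [hk, one_mul, hdinv]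

/-- Exists a Sylow 2-subgroup containing a given involution. -/
theorem exists_sylow_two_mem [Finite G] (d : G) (hd : orderOf d = 2) :
    ∃ P : Sylow 2 G, d ∈ P := by
  have : Fact (Nat.Prime 2) := ⟨Nat.prime_two⟩
  have hpg : IsPGroup 2 (Subgroup.zpowers d) := by
    apply IsPGroup.of_card (n := 1)
    rw [Nat.card_zpowers, hd, pow_one]
  obtain ⟨P, hP⟩ := hpg.exists_le_sylow
  exact ⟨P, hP (Subgroup.mem_zpowers d)⟩

end Cfsg.Agent.Helper67.ZStarCons
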